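import Groth.Agent.FormalA.ExtendHom
import Groth.Prelude.Def_Coh

/-!
# Extending a homomorphism of coherent modules from an open (Stacks 0FD0)
-/

set_option autoImplicit false
universe u

namespace Groth.Agent.FormalA.ExtendHomMain

open CategoryTheory CategoryTheory.Limits AlgebraicGeometry
open Groth.Agent.Ega1.SubSheaf Groth.Agent.Ega1.LocMod Groth.Agent.Ega1.QCohOfLoc
open Groth.Agent.Ega1.QCohFinite Groth.Agent.Ega1.SubExt Groth.Agent.Ega1.SubOfMono
open Groth.Agent.FormalA.ExtendHom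

variable {X : Scheme.{u}}

lemma comp_app' {M N P : X.Modules} (a : M ⟶ N) (b : N ⟶ P) (U : X.Opens) (s : Γ(M, U)) :
    (a ≫ b).app U s = b.app U (a.app U s) := rfl

lemma add_app' {M N : X.Modules} (a b : M ⟶ N) (U : X.Opens) (s : Γ(M, U)) :
    (a + b).app U s = a.app U s + b.app U s := rfl

lemma id_app' (M : X.Modules) (U : X.Opens) (s : Γ(M, U)) : (𝟙 M : M ⟶ M).app U s = s := rfl

/-- Sections of a biproduct. -/
lemma biprod_sec (F G : X.Modules) (U : X.Opens) (s : Γ(F ⊞ G, U)) :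
    (biprod.inl : F ⟶ F ⊞ G).app U ((biprod.fst : F ⊞ G ⟶ F).app U s) +
      (biprod.inr : G ⟶ F ⊞ G).app U ((biprod.snd : F ⊞ G ⟶ G).app U s) = s := by
  have h := congr(($(biprod.total (X := F) (Y := G))).app U s)
  rw [add_app', comp_app', comp_app', id_app'] at h
  exact h

lemma biprod_ext' (F G : X.Modules) (U : X.Opens) (s t : Γ(F ⊞ G, U))
    (h1 : (biprod.fst : F ⊞ G ⟶ F).app U s = (biprod.fst : F ⊞ G ⟶ F).app U t)
    (h2 : (biprod.snd : F ⊞ G ⟶ G).app U s = (biprod.snd : F ⊞ G ⟶ G).app U t) : s = t := by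
  rw [← biprod_sec F G U s, ← biprod_sec F G U t, h1, h2]

lemma loc_biprod {F G : X.Modules} {W : X.Opens} (hF : Loc F W) (hG : Loc G W) :
    Loc (F ⊞ G) W := by
  refine ⟨fun f s ↦ ?_, fun f t ht ↦ ?_⟩
  · obtain ⟨n, a, ha⟩ := hF.surj f ((biprod.fst : F ⊞ G ⟶ F).app _ s)
    obtain ⟨m, b, hb⟩ := hG.surj f ((biprod.snd : F ⊞ G ⟶ G).app _ s)
    refine ⟨m + n, (biprod.inl : F ⟶ F ⊞ G).app _ (f ^ m • a) +
      (biprod.inr : G ⟶ F ⊞ G).app _ (f ^ n • b), ?_⟩
    rw [map_add, ← app_res, ← app_res, res_pow_smul, res_pow_smul, ha, hb, smul_smul, smul_smul,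
      ← pow_add, ← pow_add, add_comm n m, app_smul', app_smul', ← smul_add, biprod_sec]
  · obtain ⟨n, hn⟩ := hF.inj f ((biprod.fst : F ⊞ G ⟶ F).app _ t) (by
      rw [← app_res, ht, map_zero])
    obtain ⟨m, hm⟩ := hG.inj f ((biprod.snd : F ⊞ G ⟶ G).app _ t) (by
      rw [← app_res, ht, map_zero])
    refine ⟨m + n, ?_⟩
    apply biprod_ext'
    · rw [app_smul', pow_add, mul_smul, hn, smul_zero, map_zero]
    · rw [app_smul', add_comm, pow_add, mul_smul, hm, smul_zero, map_zero]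

lemma isQCoh_biprod {F G : X.Modules} (hF : Coh.IsQCoh F) (hG : Coh.IsQCoh G) :
    Coh.IsQCoh (F ⊞ G) := by
  have : F.IsQuasicoherent := hF
  have : G.IsQuasicoherent := hG
  refine isQuasicoherent_of_loc _ fun x ↦ ?_
  obtain ⟨_, ⟨W, hW, rfl⟩, hxW, -⟩ :=
    X.isBasis_affineOpens.exists_subset_of_mem_open (Set.mem_univ x) isOpen_univ
  exact ⟨W, hxW, hW, loc_biprod (loc_of_isQuasicoherent F hW) (loc_of_isQuasicoherent G hW)⟩

lemma app_toRes {Y : Scheme.{u}} (j : Y ⟶ X) [IsOpenImmersion j] {F G : X.Modules} (p : F ⟶ G)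
    {V : X.Opens} {V' : Y.Opens} (h : j ''ᵁ V' ≤ V) (s : Γ(F, V)) :
    ((Scheme.Modules.restrictFunctor j).map p).app V' (toRes j F h s) =
      toRes j G h (p.app V s) := by
  rw [toRes, toRes, ← app_res]
  rfl

/-- Stacks Tag 0FD0. Let X be locally Noetherian, F and G coherent O_X-modules, U ⊆ X open and φ : F|_U → G|_U a map of O_U-modules. Then there are a coherent submodule F' ⊆ F whose inclusion is an isomorphism over U and a map φ' : F' → G whose restriction to U is φ (composed with that isomorphism). -/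
theorem extend_hom (X : Scheme.{u}) [IsLocallyNoetherian X] (F G : X.Modules)
    (hF : Coh.IsCoh F) (hG : Coh.IsCoh G) (U : X.Opens)
    (φ : (Scheme.Modules.restrictFunctor U.ι).obj F ⟶ (Scheme.Modules.restrictFunctor U.ι).obj G) :
    ∃ (F' : X.Modules) (ι : F' ⟶ F) (φ' : F' ⟶ G), Mono ι ∧ Coh.IsCoh F' ∧
      IsIso ((Scheme.Modules.restrictFunctor U.ι).map ι) ∧
      (Scheme.Modules.restrictFunctor U.ι).map φ' =
        (Scheme.Modules.restrictFunctor U.ι).map ι ≫ φ := by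
  have hFq : F.IsQuasicoherent := hF.1
  have hGq : G.IsQuasicoherent := hG.1
  have hHq : (F ⊞ G).IsQuasicoherent := isQCoh_biprod hF.1 hG.1
  have hFU := Groth.Agent.CohqB.LocalQC.isCoh_restrict U.ι hF
  have hFUq : (F.restrict U.ι).IsQuasicoherent := hFU.1
  let R := Scheme.Modules.restrictFunctor U.ι
  let i : F.restrict U.ι ⟶ (F ⊞ G).restrict U.ι :=
    R.map (biprod.inl : F ⟶ F ⊞ G) + φ ≫ R.map (biprod.inr : G ⟶ F ⊞ G)
  have hi1 : i ≫ R.map (biprod.fst : F ⊞ G ⟶ F) = 𝟙 _ := by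
    simp only [i, Preadditive.add_comp, Category.assoc]
    rw [← R.map_comp, ← R.map_comp, biprod.inl_fst, biprod.inr_fst, R.map_id, R.map_zero,
      comp_zero, add_zero]
  have hi2 : i ≫ R.map (biprod.snd : F ⊞ G ⟶ G) = φ := by
    simp only [i, Preadditive.add_comp, Category.assoc]
    rw [← R.map_comp, ← R.map_comp, biprod.inl_snd, biprod.inr_snd, R.map_id, R.map_zero,
      zero_add]
    exact Category.comp_id φ
  have hmono : Mono i := by
    have : Mono (i ≫ R.map (biprod.fst : F ⊞ G ⟶ F)) := by rw [hi1]; infer_instance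
    exact mono_of_mono i (R.map (biprod.fst : F ⊞ G ⟶ F))
  have hgood : ∀ x ∈ U.ι.opensRange, GoodAt (ofMono i) x := fun x hx ↦
    goodAt_ofMono hFU.2 i hx
  have hinj : Inj (biprod.fst : F ⊞ G ⟶ F) (ofMono i) U.ι.opensRange := by
    intro O hO s hs hps
    obtain ⟨t, ht⟩ := (mem_ofMono i).mp hs
    have h1 : t = 0 := by
      have h2 : (i ≫ R.map (biprod.fst : F ⊞ G ⟶ F)).app _ t = 0 := by
        rw [comp_app', ht]
        have h3 := app_toRes U.ι (biprod.fst : F ⊞ G ⟶ F) (U.ι.image_preimage_le O) s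
        rw [hps, toRes_zero] at h3
        exact h3
      rw [hi1] at h2
      exact h2
    rw [h1, map_zero] at ht
    have hle : O ≤ U.ι ''ᵁ (U.ι ⁻¹ᵁ O) := by
      rw [Scheme.Hom.image_preimage_eq_opensRange_inf]
      exact le_inf hO le_rfl
    have h4 : toRes U.ι (F ⊞ G) (le_refl (U.ι ''ᵁ (U.ι ⁻¹ᵁ O)))
        (res (F ⊞ G) (U.ι.image_preimage_le O) s) = 
        toRes U.ι (F ⊞ G) (le_refl (U.ι ''ᵁ (U.ι ⁻¹ᵁ O))) 0 := by
      rw [toRes_res, toRes_zero]
      exact ht.symm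
    have h5 := congr(res (F ⊞ G) hle $(toRes_injective h4))
    rwa [res_res, res_self, map_zero] at h5
  obtain ⟨N, hag, hN, hNinj⟩ := exists_extension hgood hinj
  obtain ⟨hq, hft⟩ := Groth.Agent.Ega1.SubExtMain.isQuasicoherent_of_good hN
  obtain ⟨e, he⟩ := exists_of_agree i N hag
  have h1 : R.map (N.ι ≫ (biprod.fst : F ⊞ G ⟶ F)) = e.hom := by
    rw [R.map_comp]
    change (Scheme.Modules.restrictFunctor U.ι).map N.ι ≫ _ = _
    rw [← he, Category.assoc, hi1]
    exact Category.comp_id e.hom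
  refine ⟨N.toModules, N.ι ≫ biprod.fst, N.ι ≫ biprod.snd, ?_, ⟨hq, hft⟩, ?_, ?_⟩
  · rw [Groth.Agent.Ega1.SubSheaf.mono_iff_injective]
    intro O
    rw [injective_iff_map_eq_zero]
    intro s hs
    rw [comp_app'] at hs
    have := hNinj O le_top _ (N.ι_app_mem s) hs
    apply N.ι_app_injective
    rw [this, map_zero]
  · change IsIso (R.map (N.ι ≫ (biprod.fst : F ⊞ G ⟶ F)))
    rw [h1]
    infer_instance
  · change R.map (N.ι ≫ (biprod.snd : F ⊞ G ⟶ G)) = R.map (N.ι ≫ (biprod.fst : F ⊞ G ⟶ F)) ≫ φ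
    rw [h1, R.map_comp]
    change (Scheme.Modules.restrictFunctor U.ι).map N.ι ≫ _ = _
    rw [← he, Category.assoc, hi2]

end Groth.Agent.FormalA.ExtendHomMain
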