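import Mathlib
import Groth.Prelude.Def_CAlg
import Groth.Agent.Ega4B.DepthBasic

/-!
# Modules vanishing at a prime, depth at a prime (helpers for `FormalA.AlgCore`)

* `Van p W`: every element of the `A`-module `W` is killed by an element outside `p`;
* `dep p M`: the depth of `M_p` over `A_p`;
* `dep_congr_van`: the depth at `p` does not change modulo a submodule vanishing at `p`;
* `dep_le_quotSMulTop`: it drops by at most one modulo an element `x` regular on `M_p`;
* `exists_regular_or_assoc`: prime avoidance;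
* `one_le_dep`.
-/

set_option autoImplicit false
universe u v w w'
open CategoryTheory Pointwise

namespace Groth.Agent.FormalA.AlgCore

section Van

variable {A : Type u} [CommRing A]

/-- `W` vanishes at `p`: every element is killed by an element outside `p` -/
def Van (p : Ideal A) (W : Type w) [AddCommGroup W] [Module A W] : Prop :=
  ∀ x : W, ∃ f : A, f ∉ p ∧ f • x = 0

theorem Van.mono {p q : Ideal A} (h : q ≤ p) {W : Type w} [AddCommGroup W] [Module A W]
    (hW : Van p W) : Van q W := fun x => by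
  obtain ⟨f, hf, h0⟩ := hW x
  exact ⟨f, fun hq => hf (h hq), h0⟩

theorem Van.of_injective {p : Ideal A} {W : Type w} [AddCommGroup W] [Module A W]
    {W' : Type w'} [AddCommGroup W'] [Module A W'] (f : W →ₗ[A] W') (hf : Function.Injective f)
    (h : Van p W') : Van p W := fun x => by
  obtain ⟨g, hg, h0⟩ := h (f x)
  exact ⟨g, hg, hf (by rw [map_smul, h0, map_zero])⟩

theorem Van.of_surjective {p : Ideal A} {W : Type w} [AddCommGroup W] [Module A W]
    {W' : Type w'} [AddCommGroup W'] [Module A W'] (f : W →ₗ[A] W') (hf : Function.Surjective f)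
    (h : Van p W) : Van p W' := fun x => by
  obtain ⟨y, rfl⟩ := hf x
  obtain ⟨g, hg, h0⟩ := h y
  exact ⟨g, hg, by rw [← map_smul, h0, map_zero]⟩

theorem Van.congr {p : Ideal A} {W : Type w} [AddCommGroup W] [Module A W]
    {W' : Type w'} [AddCommGroup W'] [Module A W'] (e : W ≃ₗ[A] W') : Van p W ↔ Van p W' :=
  ⟨fun h => h.of_surjective e.toLinearMap e.surjective,
    fun h => h.of_injective e.toLinearMap e.injective⟩

theorem Van.of_exact {p : Ideal A} [p.IsPrime] {W₁ W₂ W₃ : Type*} [AddCommGroup W₁] [Module A W₁]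
    [AddCommGroup W₂] [Module A W₂] [AddCommGroup W₃] [Module A W₃]
    (f : W₁ →ₗ[A] W₂) (g : W₂ →ₗ[A] W₃) (h : ∀ x, g x = 0 → ∃ y, f y = x)
    (h₁ : Van p W₁) (h₃ : Van p W₃) : Van p W₂ := fun x => by
  obtain ⟨a, ha, h0⟩ := h₃ (g x)
  obtain ⟨y, hy⟩ := h (a • x) (by rw [map_smul, h0])
  obtain ⟨b, hb, h0'⟩ := h₁ y
  refine ⟨b * a, fun hab => (Ideal.IsPrime.mem_or_mem ‹_› hab).elim hb ha, ?_⟩
  rw [mul_smul, ← hy, ← map_smul, h0', map_zero]

theorem van_of_subsingleton {p : Ideal A} [p.IsPrime] {W : Type w} [AddCommGroup W] [Module A W]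
    [Subsingleton W] : Van p W := fun _ =>
  ⟨1, (Ideal.ne_top_iff_one p).mp (Ideal.IsPrime.ne_top ‹_›), Subsingleton.elim _ _⟩

theorem van_of_smul {p : Ideal A} {W : Type w} [AddCommGroup W] [Module A W] {f : A} (hf : f ∉ p)
    (h : ∀ x : W, f • x = 0) : Van p W := fun x => ⟨f, hf, h x⟩

theorem Van.exists_smul {p : Ideal A} [p.IsPrime] {W : Type w} [AddCommGroup W] [Module A W]
    [Module.Finite A W] (h : Van p W) : ∃ f : A, f ∉ p ∧ ∀ x : W, f • x = 0 := by
  classical
  obtain ⟨s, hs⟩ := (Module.finite_def (R := A) (M := W)).mp ‹_›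
  choose g hg h0 using h
  refine ⟨∏ x ∈ s, g x, ?_, ?_⟩
  · intro hmem
    obtain ⟨x, _, hx⟩ := (Ideal.IsPrime.prod_mem_iff (p := p)).mp hmem
    exact hg x hx
  · intro x
    have hx : x ∈ Submodule.span A (s : Set W) := by rw [hs]; trivial
    induction hx using Submodule.span_induction with
    | mem x hx =>
      obtain ⟨c, hc⟩ := Finset.dvd_prod_of_mem g hx
      rw [hc, mul_comm, mul_smul, h0, smul_zero]
    | zero => simp
    | add x y _ _ hx hy => rw [smul_add, hx, hy, add_zero]
    | smul a x _ hx => rw [smul_comm, hx, smul_zero]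

theorem van_iff_subsingleton {p : Ideal A} [p.IsPrime] {W : Type w} [AddCommGroup W]
    [Module A W] : Van p W ↔ Subsingleton (LocalizedModule p.primeCompl W) := by
  rw [LocalizedModule.subsingleton_iff]
  exact ⟨fun h m => h m, fun h m => h m⟩

end Van

section Depth

variable {A : Type u} [CommRing A]

/-- the depth of `M_p` -/
noncomputable abbrev dep (p : Ideal A) [p.IsPrime] (M : Type v) [AddCommGroup M] [Module A M] : ℕ∞ :=
  LocCoh.depth (Localization.AtPrime p) (LocalizedModule p.primeCompl M)

theorem dep_eq_top {p : Ideal A} [p.IsPrime] {M : Type v} [AddCommGroup M] [Module A M]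
    (h : Van p M) : dep p M = ⊤ := by
  have := van_iff_subsingleton.mp h
  exact Ega4B.DepthBasic.depth_eq_top_of_subsingleton

/-- the depth at `p` does not change along a surjection whose kernel vanishes at `p` -/
theorem dep_congr_van {p : Ideal A} [p.IsPrime] {M M' : Type*} [AddCommGroup M] [Module A M]
    [AddCommGroup M'] [Module A M'] (g : M →ₗ[A] M') (hg : Function.Surjective g)
    (hk : ∀ m, g m = 0 → ∃ f : A, f ∉ p ∧ f • m = 0) : dep p M = dep p M' := by
  refine Ega4B.DepthBasic.depth_congr (LinearEquiv.ofBijective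
    (LocalizedModule.map p.primeCompl g) ⟨?_, ?_⟩)
  · rw [injective_iff_map_eq_zero]
    intro x hx
    induction x using LocalizedModule.induction_on with
    | h m s =>
      rw [LocalizedModule.map_mk, ← LocalizedModule.zero_mk (s : p.primeCompl),
        LocalizedModule.mk_eq] at hx
      obtain ⟨c, hc⟩ := hx
      simp only [smul_zero] at hc
      have h1 : g ((c : A) • (s : A) • m) = 0 := by
        rw [map_smul, map_smul]; exact hc
      obtain ⟨f, hf, h0⟩ := hk _ h1
      rw [← LocalizedModule.zero_mk (s : p.primeCompl), LocalizedModule.mk_eq]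
      refine ⟨(⟨f, hf⟩ : p.primeCompl) * c, ?_⟩
      simp only [smul_zero]
      rw [mul_smul]
      exact h0
  · intro y
    induction y using LocalizedModule.induction_on with
    | h m s =>
      obtain ⟨m, rfl⟩ := hg m
      exact ⟨LocalizedModule.mk m s, by rw [LocalizedModule.map_mk]⟩

theorem isSMulRegular_localized {p : Ideal A} [p.IsPrime] {M : Type v} [AddCommGroup M]
    [Module A M] {x : A} (hx : ∀ m : M, x • m = 0 → ∃ f : A, f ∉ p ∧ f • m = 0) :
    IsSMulRegular (LocalizedModule p.primeCompl M)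
      (algebraMap A (Localization.AtPrime p) x) := by
  rw [isSMulRegular_iff_right_eq_zero_of_smul]
  intro y hy
  induction y using LocalizedModule.induction_on with
  | h m s =>
    rw [algebraMap_smul, LocalizedModule.smul'_mk, ← LocalizedModule.zero_mk (s : p.primeCompl),
      LocalizedModule.mk_eq] at hy
    obtain ⟨c, hc⟩ := hy
    simp only [smul_zero] at hc
    have h1 : x • ((c : A) • (s : A) • m) = 0 := by
      rw [smul_comm x (c : A), smul_comm x (s : A)]; exact hc
    obtain ⟨f, hf, h0⟩ := hx _ h1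
    rw [← LocalizedModule.zero_mk (s : p.primeCompl), LocalizedModule.mk_eq]
    refine ⟨(⟨f, hf⟩ : p.primeCompl) * c, ?_⟩
    simp only [smul_zero]
    rw [mul_smul]
    exact h0

theorem exists_of_isSMulRegular_localized {p : Ideal A} [p.IsPrime] {M : Type v} [AddCommGroup M]
    [Module A M] {x : A} (h : IsSMulRegular (LocalizedModule p.primeCompl M)
      (algebraMap A (Localization.AtPrime p) x)) (m : M) (hm : x • m = 0) :
    ∃ f : A, f ∉ p ∧ f • m = 0 := by
  rw [isSMulRegular_iff_right_eq_zero_of_smul] at h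
  have h1 := h (LocalizedModule.mk m 1) (by
    rw [algebraMap_smul, LocalizedModule.smul'_mk, hm, LocalizedModule.zero_mk])
  rw [← LocalizedModule.zero_mk (1 : p.primeCompl), LocalizedModule.mk_eq] at h1
  obtain ⟨c, hc⟩ := h1
  simp only [smul_zero, one_smul] at hc
  exact ⟨c, c.2, hc⟩

/-- the depth at `p` drops by at most one modulo an element regular on `M_p` -/
theorem dep_le_quotSMulTop [IsNoetherianRing A] {p : Ideal A} [p.IsPrime] {M : Type u}
    [AddCommGroup M] [Module A M] [Module.Finite A M] {x : A}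
    (hx : ∀ m : M, x • m = 0 → ∃ f : A, f ∉ p ∧ f • m = 0) :
    dep p M ≤ dep p (QuotSMulTop x M) + 1 := by
  by_cases hxp : x ∈ p
  · have h2 := Ega4B.DepthBasic.depth_quotSMulTop_add_one (R := Localization.AtPrime p)
      (LocalizedModule p.primeCompl M) (algebraMap A (Localization.AtPrime p) x)
      ((IsLocalization.AtPrime.to_map_mem_maximal_iff _ p x).mpr hxp) (isSMulRegular_localized hx)
    rw [Ega4B.DepthBasic.depth_congr
      (Ega4B.DepthBasic.localizedQuotSMulTopEquiv p.primeCompl x M)] at h2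
    exact h2.symm.le
  · have h1 : dep p (QuotSMulTop x M) = ⊤ := by
      have := Ega4B.DepthBasic.subsingleton_localizedModule_quotSMulTop (M := M) p hxp
      exact Ega4B.DepthBasic.depth_eq_top_of_subsingleton
    rw [h1]; exact le_top

theorem dep_quotSMulTop_natCast [IsNoetherianRing A] {p : Ideal A} [p.IsPrime] {M : Type u}
    [AddCommGroup M] [Module A M] [Module.Finite A M] {x : A}
    (hx : ∀ m : M, x • m = 0 → ∃ f : A, f ∉ p ∧ f • m = 0) (n : ℕ)
    (h : ((n + 1 : ℕ) : ℕ∞) ≤ dep p M) : (n : ℕ∞) ≤ dep p (QuotSMulTop x M) := by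
  have h1 := h.trans (dep_le_quotSMulTop hx)
  rw [Nat.cast_add, Nat.cast_one] at h1
  exact (ENat.add_le_add_iff_right ENat.one_ne_top).mp h1

/-- a module of depth `≥ 1` at `p` has an element of `p` regular at `p` -/
theorem exists_regular_of_one_le_dep {p : Ideal A} [p.IsPrime] {M : Type v} [AddCommGroup M]
    [Module A M] [Module.Finite A M] (h : 1 ≤ dep p M) :
    ∃ x ∈ p, ∀ m : M, x • m = 0 → ∃ f : A, f ∉ p ∧ f • m = 0 := by
  by_cases hv : Van p M
  · exact ⟨0, p.zero_mem, fun m _ => hv m⟩
  have hnt : Nontrivial (LocalizedModule p.primeCompl M) := by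
    rw [← not_subsingleton_iff_nontrivial, ← van_iff_subsingleton]; exact hv
  have h1 : ((1 : ℕ) : ℕ∞) ≤ LocCoh.idealDepth (IsLocalRing.maximalIdeal (Localization.AtPrime p))
    (LocalizedModule p.primeCompl M) := by rw [Nat.cast_one]; exact h
  rw [Ega4B.DepthBasic.natCast_le_idealDepth_iff
    (Ega4B.DepthBasic.smul_top_ne_top_of_nontrivial)] at h1
  obtain ⟨rs, hlen, hI, hreg⟩ := h1
  obtain ⟨r, rfl⟩ := List.length_eq_one_iff.mp hlen
  have hr : IsSMulRegular (LocalizedModule p.primeCompl M) r :=
    ((RingTheory.Sequence.isWeaklyRegular_cons_iff _ _ _).mp hreg).1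
  have hrm : r ∈ IsLocalRing.maximalIdeal (Localization.AtPrime p) := hI r (by simp)
  obtain ⟨x, s, rfl⟩ := IsLocalization.exists_mk'_eq p.primeCompl r
  have hxp : x ∈ p := (IsLocalization.AtPrime.mk'_mem_maximal_iff _ p x s).mp hrm
  refine ⟨x, hxp, exists_of_isSMulRegular_localized ?_⟩
  have h3 : algebraMap A (Localization.AtPrime p) x =
      IsLocalization.mk' (Localization.AtPrime p) x s *
        algebraMap A (Localization.AtPrime p) s := (IsLocalization.mk'_spec _ x s).symm
  rw [h3]
  exact hr.mul ((IsLocalization.map_units (Localization.AtPrime p) s).isSMulRegular _)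

/-- prime avoidance: if `p` is not associated to `M`, some element of `p` is regular at `p` -/
theorem exists_regular_of_not_assoc [IsNoetherianRing A] {p : Ideal A} [p.IsPrime] {M : Type v}
    [AddCommGroup M] [Module A M] [Module.Finite A M] (h : p ∉ associatedPrimes A M) :
    ∃ x ∈ p, ∀ m : M, x • m = 0 → ∃ f : A, f ∉ p ∧ f • m = 0 := by
  classical
  have hfin : (associatedPrimes A M).Finite := associatedPrimes.finite A M
  let s : Finset (Ideal A) := hfin.toFinset.filter (fun q => q ≤ p)
  have hs : ∀ q ∈ s, q.IsPrime ∧ q ∈ associatedPrimes A M ∧ q ≤ p := by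
    intro q hq
    simp only [s, Finset.mem_filter, Set.Finite.mem_toFinset] at hq
    exact ⟨IsAssociatedPrime.isPrime hq.1, hq.1, hq.2⟩
  have h1 : ¬ ((p : Set A) ⊆ ⋃ q ∈ (↑s : Set (Ideal A)), (q : Set A)) := by
    rw [Ideal.subset_union_prime (f := fun q => q) ⊥ ⊥ (fun q hq _ _ => (hs q hq).1)]
    rintro ⟨q, hq, hpq⟩
    exact h (le_antisymm hpq (hs q hq).2.2 ▸ (hs q hq).2.1)
  obtain ⟨x, hxp, hx⟩ := Set.not_subset.mp h1
  refine ⟨x, hxp, fun m hm => ?_⟩
  by_contra hcon
  push Not at hcon
  -- the annihilator of `m` is contained in `p`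
  have hle : (A ∙ m).annihilator ≤ p := by
    intro a ha
    by_contra hap
    exact hcon a hap ((Submodule.mem_annihilator_span_singleton m a).mp ha)
  obtain ⟨q, hq, hqp⟩ := Ideal.exists_minimalPrimes_le hle
  have hq2 : q ∈ associatedPrimes A (A ∙ m) :=
    Module.associatedPrimes.minimalPrimes_annihilator_subset_associatedPrimes A (A ∙ m) hq
  have hq3 : q ∈ associatedPrimes A M :=
    associatedPrimes.subset_of_injective (Submodule.injective_subtype _) hq2
  apply hx
  simp only [Set.mem_iUnion, Finset.mem_coe, exists_prop]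
  refine ⟨q, ?_, hq.1.2 ((Submodule.mem_annihilator_span_singleton m x).mpr hm)⟩
  simp only [s, Finset.mem_filter, Set.Finite.mem_toFinset]
  exact ⟨hq3, hqp⟩

end Depth

end Groth.Agent.FormalA.AlgCore
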