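import Mathlib
import Groth.Agent.FormalA.VanDepth
import Groth.Agent.Localalg.Depth

/-!
# The algebraic core of the comparison of local cohomology with formal local cohomology

`CohF A`: a sequence of `A`-linear functors on `A`-modules with long exact sequences attached to
short exact sequences of finite modules; `CohHom H K`: a morphism of such.

* `CohF.van_of_dc` (Q(t)): if `K^0` vanishes at `p` and at every prime `p' ≤ p` the module `M`
  satisfies the depth condition `DC t p' M`, then `K^i(M)` vanishes at `p` for `i ≤ t`;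
* `CohHom.bijective_of_dc` (S(t)): comparison of `H` (torsion for a specialization closed set `T`)
  with `K`.
-/

set_option autoImplicit false
universe u w
open CategoryTheory Pointwise

namespace Groth.Agent.FormalA.AlgCore

/-- a cohomological functor on finite modules (defined on all modules) -/
structure CohF (A : Type u) [CommRing A] where
  /-- the functors -/
  F : ℕ → ModuleCat.{u} A ⥤ ModuleCat.{w} A
  map_smul_id : ∀ (i : ℕ) (M : ModuleCat.{u} A) (a : A) (x : (F i).obj M),
    ((F i).map (a • 𝟙 M)).hom x = a • x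
  /-- the connecting maps -/
  δ : ∀ {S : ShortComplex (ModuleCat.{u} A)} (_ : S.ShortExact) (_ : Module.Finite A S.X₂) (i : ℕ),
    (F i).obj S.X₃ →ₗ[A] (F (i + 1)).obj S.X₁
  ex₂ : ∀ {S : ShortComplex (ModuleCat.{u} A)} (_ : S.ShortExact) (_ : Module.Finite A S.X₂)
    (i : ℕ) (x : (F i).obj S.X₂), ((F i).map S.g).hom x = 0 → ∃ y, ((F i).map S.f).hom y = x
  ex₃ : ∀ {S : ShortComplex (ModuleCat.{u} A)} (hS : S.ShortExact) (hf : Module.Finite A S.X₂)
    (i : ℕ) (x : (F i).obj S.X₃), δ hS hf i x = 0 → ∃ y, ((F i).map S.g).hom y = x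
  ex₁ : ∀ {S : ShortComplex (ModuleCat.{u} A)} (hS : S.ShortExact) (hf : Module.Finite A S.X₂)
    (i : ℕ) (x : (F (i + 1)).obj S.X₁), ((F (i + 1)).map S.f).hom x = 0 → ∃ y, δ hS hf i y = x
  δ_g : ∀ {S : ShortComplex (ModuleCat.{u} A)} (hS : S.ShortExact) (hf : Module.Finite A S.X₂)
    (i : ℕ) (x : (F i).obj S.X₂), δ hS hf i (((F i).map S.g).hom x) = 0
  f_δ : ∀ {S : ShortComplex (ModuleCat.{u} A)} (hS : S.ShortExact) (hf : Module.Finite A S.X₂)
    (i : ℕ) (x : (F i).obj S.X₃), ((F (i + 1)).map S.f).hom (δ hS hf i x) = 0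

namespace CohF

variable {A : Type u} [CommRing A] (K : CohF.{u, w} A)

/-- the value on an unbundled module -/
abbrev obj (i : ℕ) (M : Type u) [AddCommGroup M] [Module A M] : ModuleCat.{w} A :=
  (K.F i).obj (ModuleCat.of A M)

/-- the value on an unbundled linear map -/
def map (i : ℕ) {M N : Type u} [AddCommGroup M] [Module A M] [AddCommGroup N] [Module A N]
    (f : M →ₗ[A] N) : K.obj i M →ₗ[A] K.obj i N :=
  ((K.F i).map (ModuleCat.ofHom f)).hom

section

variable {M N P : Type u} [AddCommGroup M] [Module A M] [AddCommGroup N] [Module A N]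
  [AddCommGroup P] [Module A P]

theorem map_id (i : ℕ) (x : K.obj i M) : K.map i (LinearMap.id : M →ₗ[A] M) x = x := by
  have : (ModuleCat.ofHom (LinearMap.id : M →ₗ[A] M)) = 𝟙 (ModuleCat.of A M) := rfl
  simp only [map, this, CategoryTheory.Functor.map_id]
  rfl

theorem map_comp (i : ℕ) (f : M →ₗ[A] N) (g : N →ₗ[A] P) (x : K.obj i M) :
    K.map i (g ∘ₗ f) x = K.map i g (K.map i f x) := by
  simp only [map, ModuleCat.ofHom_comp, Functor.map_comp]
  rfl

theorem map_smul_self (i : ℕ) (a : A) (x : K.obj i M) :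
    K.map i (LinearMap.lsmul A M a) x = a • x := by
  have : (ModuleCat.ofHom (LinearMap.lsmul A M a)) = a • 𝟙 (ModuleCat.of A M) := by
    ext x; simp
  simp only [map, this]
  exact K.map_smul_id i (ModuleCat.of A M) a x

/-- an element of the annihilator of `M` kills `K^i(M)` -/
theorem smul_eq_zero (i : ℕ) (a : A) (ha : ∀ m : M, a • m = 0) (x : K.obj i M) : a • x = 0 := by
  have h0 : (LinearMap.lsmul A M a : M →ₗ[A] M) = LinearMap.lsmul A M 0 := by
    ext m; simp [ha m]
  rw [← K.map_smul_self i a x, h0, K.map_smul_self, zero_smul]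

theorem map_zero' (i : ℕ) (x : K.obj i M) : K.map i (0 : M →ₗ[A] N) x = 0 := by
  have h0 : (0 : M →ₗ[A] N) = 0 ∘ₗ LinearMap.lsmul A M 0 := by ext; simp
  rw [h0, K.map_comp, K.map_smul_self, zero_smul, map_zero]

theorem bijective_map_equiv (i : ℕ) (e : M ≃ₗ[A] N) :
    Function.Bijective (K.map i e.toLinearMap) := by
  refine Function.bijective_iff_has_inverse.mpr ⟨K.map i e.symm.toLinearMap, fun x => ?_, fun x => ?_⟩
  · rw [← K.map_comp]
    have : e.symm.toLinearMap ∘ₗ e.toLinearMap = LinearMap.id := by ext; simp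
    rw [this, K.map_id]
  · rw [← K.map_comp]
    have : e.toLinearMap ∘ₗ e.symm.toLinearMap = LinearMap.id := by ext; simp
    rw [this, K.map_id]

theorem van_of_van {p : Ideal A} [p.IsPrime] [Module.Finite A M] (h : Van p M) (i : ℕ) :
    Van p (K.obj i M) := by
  obtain ⟨f, hf, h0⟩ := h.exists_smul
  exact van_of_smul hf (K.smul_eq_zero i f h0)

end

/-- `K^i(A/p)` vanishes at `p` for `i ≤ k` -/
def Good (p : Ideal A) (k : ℕ) : Prop := ∀ i ≤ k, Van p (K.obj i (A ⧸ p))

/-- the depth condition at one prime -/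
def DC (t : ℕ) (p : Ideal A) [p.IsPrime] (M : Type u) [AddCommGroup M] [Module A M] : Prop :=
  (t : ℕ∞) ≤ dep p M ∨ ∃ j k : ℕ, (j : ℕ∞) ≤ dep p M ∧ t ≤ j + k ∧ K.Good p k

variable {K}

theorem DC.mono {t t' : ℕ} (h : t' ≤ t) {p : Ideal A} [p.IsPrime] {M : Type u} [AddCommGroup M]
    [Module A M] (hM : K.DC t p M) : K.DC t' p M := by
  rcases hM with h1 | ⟨j, k, hj, hk, hg⟩
  · exact Or.inl (le_trans (by exact_mod_cast h) h1)
  · exact Or.inr ⟨j, k, hj, h.trans hk, hg⟩

theorem DC.congr_van {t : ℕ} {p : Ideal A} [p.IsPrime] {M M' : Type u} [AddCommGroup M]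
    [Module A M] [AddCommGroup M'] [Module A M'] (g : M →ₗ[A] M') (hg : Function.Surjective g)
    (hk : ∀ m, g m = 0 → ∃ f : A, f ∉ p ∧ f • m = 0) (hM : K.DC t p M) : K.DC t p M' := by
  unfold DC at hM ⊢
  rwa [dep_congr_van g hg hk] at hM

theorem DC.quotSMulTop [IsNoetherianRing A] {t : ℕ} {p : Ideal A} [p.IsPrime] {M : Type u}
    [AddCommGroup M] [Module A M] [Module.Finite A M] {x : A}
    (hx : ∀ m : M, x • m = 0 → ∃ f : A, f ∉ p ∧ f • m = 0) (hM : K.DC (t + 1) p M) :
    K.DC t p (QuotSMulTop x M) := by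
  rcases hM with h1 | ⟨j, k, hj, hk, hg⟩
  · exact Or.inl (dep_quotSMulTop_natCast hx t h1)
  · rcases j with _ | j
    · exact Or.inr ⟨0, k, by simp, by omega, hg⟩
    · exact Or.inr ⟨j, k, dep_quotSMulTop_natCast hx j hj, by omega, hg⟩

variable (K)

section LES

variable {N M P : Type u} [AddCommGroup M] [Module A M] [AddCommGroup N] [Module A N]
  [AddCommGroup P] [Module A P] [Module.Finite A M]

/-- exactness at the middle term, unbundled -/
theorem ex₂' (f : N →ₗ[A] M) (g : M →ₗ[A] P) (hf : Function.Injective f)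
    (hg : Function.Surjective g) (hfg : Function.Exact f g) (i : ℕ) (x : K.obj i M)
    (hx : K.map i g x = 0) : ∃ y, K.map i f y = x :=
  K.ex₂ (Localalg.Depth.shortExact_of_exact f g hf hg hfg) ‹Module.Finite A M› i x hx

/-- the connecting map, unbundled -/
def conn (f : N →ₗ[A] M) (g : M →ₗ[A] P) (hf : Function.Injective f)
    (hg : Function.Surjective g) (hfg : Function.Exact f g) (i : ℕ) :
    K.obj i P →ₗ[A] K.obj (i + 1) N :=
  K.δ (Localalg.Depth.shortExact_of_exact f g hf hg hfg) ‹Module.Finite A M› i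

theorem ex₃' (f : N →ₗ[A] M) (g : M →ₗ[A] P) (hf : Function.Injective f)
    (hg : Function.Surjective g) (hfg : Function.Exact f g) (i : ℕ) (x : K.obj i P)
    (hx : K.conn f g hf hg hfg i x = 0) : ∃ y, K.map i g y = x :=
  K.ex₃ (Localalg.Depth.shortExact_of_exact f g hf hg hfg) ‹Module.Finite A M› i x hx

theorem ex₁' (f : N →ₗ[A] M) (g : M →ₗ[A] P) (hf : Function.Injective f)
    (hg : Function.Surjective g) (hfg : Function.Exact f g) (i : ℕ) (x : K.obj (i + 1) N)
    (hx : K.map (i + 1) f x = 0) : ∃ y, K.conn f g hf hg hfg i y = x :=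
  K.ex₁ (Localalg.Depth.shortExact_of_exact f g hf hg hfg) ‹Module.Finite A M› i x hx

theorem conn_map (f : N →ₗ[A] M) (g : M →ₗ[A] P) (hf : Function.Injective f)
    (hg : Function.Surjective g) (hfg : Function.Exact f g) (i : ℕ) (x : K.obj i M) :
    K.conn f g hf hg hfg i (K.map i g x) = 0 :=
  K.δ_g (Localalg.Depth.shortExact_of_exact f g hf hg hfg) ‹Module.Finite A M› i x

theorem map_conn (f : N →ₗ[A] M) (g : M →ₗ[A] P) (hf : Function.Injective f)
    (hg : Function.Surjective g) (hfg : Function.Exact f g) (i : ℕ) (x : K.obj i P) :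
    K.map (i + 1) f (K.conn f g hf hg hfg i x) = 0 :=
  K.f_δ (Localalg.Depth.shortExact_of_exact f g hf hg hfg) ‹Module.Finite A M› i x

theorem van_mid {p : Ideal A} [p.IsPrime] (f : N →ₗ[A] M) (g : M →ₗ[A] P)
    (hf : Function.Injective f) (hg : Function.Surjective g) (hfg : Function.Exact f g) (i : ℕ)
    (h₁ : Van p (K.obj i N)) (h₃ : Van p (K.obj i P)) : Van p (K.obj i M) :=
  Van.of_exact (K.map i f) (K.map i g) (fun x hx => K.ex₂' f g hf hg hfg i x hx) h₁ h₃

end LES

/-- the basic step: multiplication by an element `x` regular at `p` is injective at `p` on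
`K^{s+1}(M)` as soon as `K^s(M/xM)` vanishes at `p` -/
theorem exists_smul_of_smul [IsNoetherianRing A] {p : Ideal A} [p.IsPrime] {M : Type u}
    [AddCommGroup M] [Module A M] [Module.Finite A M] {x : A}
    (hx : ∀ m : M, x • m = 0 → ∃ f : A, f ∉ p ∧ f • m = 0) (s : ℕ)
    (hv : Van p (K.obj s (QuotSMulTop x M))) (y : K.obj (s + 1) M) (hy : x • y = 0) :
    ∃ f : A, f ∉ p ∧ f • y = 0 := by
  -- the image of multiplication by `x`
  let R : Submodule A M := x • (⊤ : Submodule A M)
  have hR : ∀ m : M, x • m ∈ R := fun m =>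
    (Submodule.mem_smul_pointwise_iff_exists _ _ _).mpr ⟨m, trivial, rfl⟩
  let e : M →ₗ[A] R := (LinearMap.lsmul A M x).codRestrict R hR
  have he : Function.Surjective e := by
    rintro ⟨m, hm⟩
    obtain ⟨n, _, rfl⟩ := (Submodule.mem_smul_pointwise_iff_exists _ _ _).mp hm
    exact ⟨n, rfl⟩
  have hker : Van p (LinearMap.ker e) := by
    rintro ⟨m, hm⟩
    obtain ⟨f, hf, h0⟩ := hx m (congrArg Subtype.val (LinearMap.mem_ker.mp hm))
    exact ⟨f, hf, Subtype.ext h0⟩
  have hex1 : Function.Exact (LinearMap.ker e).subtype e := LinearMap.exact_subtype_ker_map e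
  have hex2 : Function.Exact R.subtype R.mkQ := LinearMap.exact_subtype_mkQ R
  -- `e_* y` dies in `K^{s+1}(M)`
  have h1 : K.map (s + 1) R.subtype (K.map (s + 1) e y) = 0 := by
    rw [← K.map_comp]
    have : R.subtype ∘ₗ e = LinearMap.lsmul A M x := rfl
    rw [this, K.map_smul_self, hy]
  obtain ⟨z, hz⟩ := K.ex₁' R.subtype R.mkQ (Submodule.injective_subtype R)
    (Submodule.mkQ_surjective R) hex2 s _ h1
  obtain ⟨f, hf, h0⟩ := hv z
  have h2 : K.map (s + 1) e (f • y) = 0 := by
    rw [map_smul, ← hz, ← map_smul]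
    erw [h0]
    rw [map_zero]
  obtain ⟨w, hw⟩ := K.ex₂' (LinearMap.ker e).subtype e (Submodule.injective_subtype _) he hex1
    (s + 1) _ h2
  obtain ⟨g, hg, h0'⟩ := K.van_of_van hker (s + 1) w
  refine ⟨g * f, fun hgf => (Ideal.IsPrime.mem_or_mem ‹_› hgf).elim hg hf, ?_⟩
  rw [mul_smul, ← hw, ← map_smul, h0', map_zero]

/-- an element of a module vanishing at all the primes strictly smaller than `p` is killed by
some `f x^k`, `f ∉ p`, for every `x ∈ p` -/
theorem exists_smul_pow_smul {p : Ideal A} [p.IsPrime] {W : Type w} [AddCommGroup W] [Module A W]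
    (h : ∀ (q : Ideal A) [q.IsPrime], q < p → Van q W) {x : A} (hx : x ∈ p) (y : W) :
    ∃ f : A, f ∉ p ∧ ∃ k : ℕ, f • x ^ k • y = 0 := by
  let S : Submonoid A := p.primeCompl ⊔ Submonoid.powers x
  have hS : ∀ a ∈ S, ∃ f : A, f ∉ p ∧ ∃ k : ℕ, a = f * x ^ k := by
    intro a ha
    obtain ⟨f, hf, b, ⟨k, rfl⟩, rfl⟩ := Submonoid.mem_sup.mp ha
    exact ⟨f, hf, k, rfl⟩
  by_contra hcon
  push Not at hcon
  have hd : Disjoint ((A ∙ y).annihilator : Set A) S := by
    rw [Set.disjoint_left]
    intro a ha haS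
    obtain ⟨f, hf, k, rfl⟩ := hS a haS
    refine hcon f hf k ?_
    rw [← mul_smul]
    exact (Submodule.mem_annihilator_span_singleton y _).mp ha
  obtain ⟨q, hq, hle, hdq⟩ := Ideal.exists_le_prime_disjoint _ S hd
  have hqp : q ≤ p := by
    intro a ha
    by_contra hap
    exact Set.disjoint_left.mp hdq ha ((le_sup_left : p.primeCompl ≤ S) hap)
  have hxq : x ∉ q := fun hxq => Set.disjoint_left.mp hdq hxq
    ((le_sup_right : Submonoid.powers x ≤ S) (Submonoid.mem_powers x))
  have hlt : q < p := lt_of_le_of_ne hqp (fun h => hxq (h ▸ hx))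
  obtain ⟨f, hf, h0⟩ := h q hlt y
  exact hf (hle ((Submodule.mem_annihilator_span_singleton y f).mpr h0))

/-- step A of `Q(t)` -/
theorem van_stepA [IsNoetherianRing A] {p : Ideal A} [p.IsPrime] {M : Type u}
    [AddCommGroup M] [Module A M] [Module.Finite A M] {x : A} (hxp : x ∈ p)
    (hx : ∀ m : M, x • m = 0 → ∃ f : A, f ∉ p ∧ f • m = 0) (s : ℕ)
    (hv : Van p (K.obj s (QuotSMulTop x M)))
    (hlt : ∀ (q : Ideal A) [q.IsPrime], q < p → Van q (K.obj (s + 1) M)) :
    Van p (K.obj (s + 1) M) := by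
  have key : ∀ (k : ℕ) (y : K.obj (s + 1) M), (∃ f : A, f ∉ p ∧ f • x ^ k • y = 0) →
      ∃ f : A, f ∉ p ∧ f • y = 0 := by
    intro k
    induction k with
    | zero => rintro y ⟨f, hf, h⟩; exact ⟨f, hf, by simpa using h⟩
    | succ k ih =>
      rintro y ⟨f, hf, h⟩
      obtain ⟨g, hg, h0⟩ := K.exists_smul_of_smul hx s hv (f • x ^ k • y) (by
        rw [smul_comm x f, ← mul_smul x, ← pow_succ', h])
      refine ih y ⟨g * f, fun hgf => (Ideal.IsPrime.mem_or_mem ‹_› hgf).elim hg hf, ?_⟩
      rw [mul_smul, h0]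
  intro y
  obtain ⟨f, hf, k, h⟩ := exists_smul_pow_smul hlt hxp y
  exact key k y ⟨f, hf, h⟩

/-- devissage: a module vanishing at all primes `q < p` -/
theorem van_devissage [IsNoetherianRing A] {p : Ideal A} [p.IsPrime] {t : ℕ} (hg : K.Good p t)
    {N : Type u} [AddCommGroup N] [Module A N] [Module.Finite A N]
    (hN : ∀ (q : Ideal A) [q.IsPrime], q < p → Van q N) : ∀ i ≤ t, Van p (K.obj i N) := by
  revert hN
  refine IsNoetherianRing.induction_on_isQuotientEquivQuotientPrime A (M := N) inferInstance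
    (motive := fun N _ _ _ => (∀ (q : Ideal A) [q.IsPrime], q < p → Van q N) →
      ∀ i ≤ t, Van p (K.obj i N)) ?_ ?_ ?_
  · intro N _ _ _ _ _ i _
    exact K.van_of_van van_of_subsingleton i
  · intro N _ _ _ q e hN i hi
    have hq := q.2
    by_cases hqp : q.1 ≤ p
    · rcases hqp.eq_or_lt with heq | hlt
      · have hvan := hg i hi
        rw [← heq]
        rw [← heq] at hvan
        exact hvan.of_surjective (K.map i e.symm.toLinearMap) (K.bijective_map_equiv i e.symm).2
      · exfalso
        obtain ⟨f, hf, h0⟩ := hN q.1 hlt (e.symm (Ideal.Quotient.mk _ 1))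
        rw [← map_smul, EmbeddingLike.map_eq_zero_iff] at h0
        apply hf
        rw [← Ideal.Quotient.eq_zero_iff_mem]
        rw [← h0, Algebra.smul_def, map_one, mul_one]
        rfl
    · obtain ⟨f, hfq, hfp⟩ := SetLike.not_le_iff_exists.mp hqp
      refine van_of_smul hfp (K.smul_eq_zero i f fun m => ?_)
      apply e.injective
      rw [map_smul, map_zero]
      obtain ⟨a, ha⟩ := Ideal.Quotient.mk_surjective (e m)
      rw [← ha, Algebra.smul_def]
      change Ideal.Quotient.mk q.1 f * _ = 0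
      rw [Ideal.Quotient.eq_zero_iff_mem.mpr hfq, zero_mul]
  · intro N₁ _ _ _ N₂ _ _ _ N₃ _ _ _ f g hf hg' hfg h₁ h₃ hN i hi
    refine K.van_mid f g hf hg' hfg i (h₁ (fun q _ hq => (hN q hq).of_injective f hf) i hi)
      (h₃ (fun q _ hq => (hN q hq).of_surjective g hg') i hi)

/-- **Q(t)** -/
theorem van_of_dc [IsNoetherianRing A] (t : ℕ) : ∀ (p : Ideal A) [p.IsPrime]
    (_ : ∀ (M : Type u) [AddCommGroup M] [Module A M] [Module.Finite A M], Van p (K.obj 0 M))
    (M : Type u) [AddCommGroup M] [Module A M] [Module.Finite A M]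
    (_ : ∀ (q : Ideal A) [q.IsPrime], q ≤ p → K.DC t q M), ∀ i ≤ t, Van p (K.obj i M) := by
  induction t with
  | zero =>
    intro p _ h0 M _ _ _ _ i hi
    obtain rfl : i = 0 := by omega
    exact h0 M
  | succ t ih =>
    -- well-founded induction on the height of `p`
    suffices H : ∀ (n : ℕ) (p : Ideal A) [p.IsPrime], p.height = n →
        (∀ (M : Type u) [AddCommGroup M] [Module A M] [Module.Finite A M], Van p (K.obj 0 M)) →
        ∀ (M : Type u) [AddCommGroup M] [Module A M] [Module.Finite A M]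
        (_ : ∀ (q : Ideal A) [q.IsPrime], q ≤ p → K.DC (t + 1) q M),
        ∀ i ≤ t + 1, Van p (K.obj i M) by
      intro p _ h0 M _ _ _ hM
      obtain ⟨n, hn⟩ := ENat.ne_top_iff_exists.mp (Ideal.height_ne_top_of_isPrime (I := p))
      exact H n p hn.symm h0 M hM
    intro n
    induction n using Nat.strong_induction_on with
    | h n ihn =>
    intro p _ hpn h0 M _ _ _ hM i hi
    rcases Nat.lt_or_ge i (t + 1) with hi' | hi'
    · exact ih p h0 M (fun q _ hq => (hM q hq).mono (by omega)) i (by omega)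
    obtain rfl : i = t + 1 := by omega
    have hlt' : ∀ (M : Type u) [AddCommGroup M] [Module A M] [Module.Finite A M]
        (_ : ∀ (q : Ideal A) [q.IsPrime], q ≤ p → K.DC (t + 1) q M),
        ∀ (q : Ideal A) [q.IsPrime], q < p → Van q (K.obj (t + 1) M) := by
      intro M _ _ _ hM q _ hq
      have hlt := Ideal.height_strict_mono_of_isPrime hq
      rw [hpn] at hlt
      obtain ⟨m, hm⟩ := ENat.ne_top_iff_exists.mp (Ideal.height_ne_top_of_isPrime (I := q))
      rw [← hm] at hlt
      refine ihn m (by exact_mod_cast hlt) q hm.symm (fun M _ _ _ => (h0 M).mono hq.le) M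
        (fun q' _ hq' => hM q' (hq'.trans hq.le)) (t + 1) le_rfl
    -- the case where some element of `p` is regular at `p`
    have caseA : ∀ (M : Type u) [AddCommGroup M] [Module A M] [Module.Finite A M]
        (_ : ∀ (q : Ideal A) [q.IsPrime], q ≤ p → K.DC (t + 1) q M)
        (_ : ∃ x ∈ p, ∀ m : M, x • m = 0 → ∃ f : A, f ∉ p ∧ f • m = 0),
        Van p (K.obj (t + 1) M) := by
      rintro M _ _ _ hM ⟨x, hxp, hx⟩
      refine K.van_stepA hxp hx t ?_ (hlt' M hM)
      refine ih p h0 (QuotSMulTop x M) (fun q _ hq => ?_) t le_rfl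
      refine (hM q hq).quotSMulTop (fun m hm => ?_)
      obtain ⟨f, hf, h⟩ := hx m hm
      exact ⟨f, fun hfq => hf (hq hfq), h⟩
    by_cases hreg : ∃ x ∈ p, ∀ m : M, x • m = 0 → ∃ f : A, f ∉ p ∧ f • m = 0
    · exact caseA M hM hreg
    -- no regular element: the depth at `p` is zero and `p` is good
    have hdep : dep p M = 0 := by
      by_contra hne
      exact hreg (exists_regular_of_one_le_dep (Order.one_le_iff_ne_zero.mpr hne))
    have hgood : K.Good p (t + 1) := by
      rcases hM p le_rfl with h1 | ⟨j, k, hj, hk, hg⟩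
      · rw [hdep] at h1
        simp at h1
      · rw [hdep] at hj
        obtain rfl : j = 0 := by simpa using hj
        exact fun i hi => hg i (by omega)
    -- a maximal submodule vanishing at the primes strictly below `p`
    obtain ⟨N, hN, hmax⟩ := WellFounded.has_min
      (wellFounded_gt : WellFounded ((· > ·) : Submodule A M → Submodule A M → Prop))
      {N : Submodule A M | ∀ (q : Ideal A) [q.IsPrime], q < p → Van q N}
      ⟨⊥, fun q _ _ => van_of_subsingleton⟩
    have hvanN : Van p (K.obj (t + 1) N) := K.van_devissage hgood (fun q _ hq => hN q hq) _ le_rfl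
    refine K.van_mid N.subtype N.mkQ (Submodule.injective_subtype N) (Submodule.mkQ_surjective N)
      (LinearMap.exact_subtype_mkQ N) (t + 1) hvanN ?_
    refine caseA (M ⧸ N) (fun q _ hq => ?_) ?_
    · rcases hq.eq_or_lt with rfl | hlt
      · exact Or.inr ⟨0, t + 1, by simp, by omega, hgood⟩
      · refine (hM q hq).congr_van N.mkQ (Submodule.mkQ_surjective N) (fun m hm => ?_)
        obtain ⟨f, hf, h⟩ := hN q hlt ⟨m, by simpa using hm⟩
        exact ⟨f, hf, congrArg Subtype.val h⟩
    · refine exists_regular_of_not_assoc fun hass => ?_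
      obtain ⟨y, hy⟩ := ((isAssociatedPrime_iff).mp hass).2
      obtain ⟨m, rfl⟩ := Submodule.mkQ_surjective N y
      have hann : ∀ a : A, a ∈ p ↔ a • m ∈ N := by
        intro a
        rw [hy]
        simp [← Submodule.Quotient.mk_smul]
      have hmN : m ∉ N := by
        intro hmN
        exact (Ideal.ne_top_iff_one p).mp (Ideal.IsPrime.ne_top ‹_›)
          ((hann 1).mpr (by simpa using hmN))
      refine hmax (N ⊔ (A ∙ m)) ?_ ?_
      · rintro q _ hq ⟨z, hz⟩
        obtain ⟨n', hn', z', hz', rfl⟩ := Submodule.mem_sup.mp hz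
        obtain ⟨a, rfl⟩ := Submodule.mem_span_singleton.mp hz'
        obtain ⟨g, hgp, hgq⟩ := SetLike.exists_of_lt hq
        have hmem : g • (n' + a • m) ∈ N := by
          rw [smul_add, smul_comm g a]
          exact N.add_mem (N.smul_mem _ hn') (N.smul_mem _ ((hann g).mp hgp))
        obtain ⟨f, hf, h⟩ := hN q hq ⟨_, hmem⟩
        refine ⟨f * g, fun hfg => (Ideal.IsPrime.mem_or_mem ‹_› hfg).elim hf hgq, ?_⟩
        apply Subtype.ext
        have h' := congrArg Subtype.val h
        simp only [mul_smul]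
        exact h'
      · refine lt_of_le_of_ne le_sup_left fun heq => hmN ?_
        rw [heq]
        exact (le_sup_right : (A ∙ m) ≤ N ⊔ (A ∙ m)) (Submodule.mem_span_singleton_self m)

end CohF

/-- a morphism of cohomological functors -/
structure CohHom {A : Type u} [CommRing A] (H K : CohF.{u, w} A) where
  /-- the components -/
  θ : ∀ i, H.F i ⟶ K.F i
  comm : ∀ {S : ShortComplex (ModuleCat.{u} A)} (hS : S.ShortExact) (hf : Module.Finite A S.X₂)
    (i : ℕ) (x : (H.F i).obj S.X₃), ((θ (i + 1)).app S.X₁).hom (H.δ hS hf i x) =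
      K.δ hS hf i (((θ i).app S.X₃).hom x)

namespace CohHom

variable {A : Type u} [CommRing A] {H K : CohF.{u, w} A} (Θ : CohHom H K)

/-- the component on an unbundled module -/
def app (i : ℕ) (M : Type u) [AddCommGroup M] [Module A M] : H.obj i M →ₗ[A] K.obj i M :=
  ((Θ.θ i).app (ModuleCat.of A M)).hom

section

variable {M N P : Type u} [AddCommGroup M] [Module A M] [AddCommGroup N] [Module A N]
  [AddCommGroup P] [Module A P]

theorem app_map (i : ℕ) (f : M →ₗ[A] N) (x : H.obj i M) :
    Θ.app i N (H.map i f x) = K.map i f (Θ.app i M x) := by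
  have := (Θ.θ i).naturality (ModuleCat.ofHom f)
  exact congrArg (fun g => g.hom x) this

theorem app_conn [Module.Finite A M] (f : N →ₗ[A] M) (g : M →ₗ[A] P) (hf : Function.Injective f)
    (hg : Function.Surjective g) (hfg : Function.Exact f g) (i : ℕ) (x : H.obj i P) :
    Θ.app (i + 1) N (H.conn f g hf hg hfg i x) = K.conn f g hf hg hfg i (Θ.app i P x) :=
  Θ.comm (Localalg.Depth.shortExact_of_exact f g hf hg hfg) ‹Module.Finite A M› i x

variable [Module.Finite A M] (f : N →ₗ[A] M) (g : M →ₗ[A] P) (hf : Function.Injective f)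
    (hg : Function.Surjective g) (hfg : Function.Exact f g)
include hf hg hfg

/-- five lemma, injectivity -/
theorem injective_succ_of_exact (i : ℕ) (hN : Function.Injective (Θ.app (i + 1) N))
    (hP : Function.Injective (Θ.app (i + 1) P)) (hP' : Function.Surjective (Θ.app i P)) :
    Function.Injective (Θ.app (i + 1) M) := by
  rw [injective_iff_map_eq_zero]
  intro w hw
  have h1 : H.map (i + 1) g w = 0 := by
    apply hP
    rw [Θ.app_map, hw, map_zero, map_zero]
  obtain ⟨n, rfl⟩ := H.ex₂' f g hf hg hfg _ w h1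
  rw [Θ.app_map] at hw
  obtain ⟨k, hk⟩ := K.ex₁' f g hf hg hfg i _ hw
  obtain ⟨h, rfl⟩ := hP' k
  rw [← Θ.app_conn] at hk
  rw [← hN hk, H.map_conn]

/-- five lemma, surjectivity -/
theorem surjective_of_exact (i : ℕ) (hN : Function.Surjective (Θ.app i N))
    (hN' : Function.Injective (Θ.app (i + 1) N)) (hP : Function.Surjective (Θ.app i P)) :
    Function.Surjective (Θ.app i M) := by
  intro y
  obtain ⟨h', hh'⟩ := hP (K.map i g y)
  have h1 : H.conn f g hf hg hfg i h' = 0 := by
    apply hN'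
    rw [Θ.app_conn, hh', K.conn_map, map_zero]
  obtain ⟨h, rfl⟩ := H.ex₃' f g hf hg hfg i _ h1
  rw [Θ.app_map] at hh'
  obtain ⟨k, hk⟩ := K.ex₂' f g hf hg hfg i (y - Θ.app i M h) (by rw [map_sub, hh', sub_self])
  obtain ⟨n, rfl⟩ := hN k
  refine ⟨h + H.map i f n, ?_⟩
  rw [map_add, Θ.app_map, hk]
  abel

end

/-- the submodule of elements vanishing at all primes outside `T` -/
def tors (T : Ideal A → Prop) (M : Type u) [AddCommGroup M] [Module A M] : Submodule A M where
  carrier := {m | ∀ (p : Ideal A) [p.IsPrime], ¬ T p → ∃ f : A, f ∉ p ∧ f • m = 0}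
  add_mem' := by
    intro a b ha hb p _ hp
    obtain ⟨f, hf, h0⟩ := ha p hp
    obtain ⟨g, hg, h1⟩ := hb p hp
    refine ⟨f * g, fun hfg => (Ideal.IsPrime.mem_or_mem ‹_› hfg).elim hf hg, ?_⟩
    rw [smul_add, mul_smul, mul_smul, h1, smul_zero, add_zero, smul_comm, h0, smul_zero]
  zero_mem' := fun p _ _ => ⟨1, (Ideal.ne_top_iff_one p).mp (Ideal.IsPrime.ne_top ‹_›), by simp⟩
  smul_mem' := by
    intro c x hx p _ hp
    obtain ⟨f, hf, h0⟩ := hx p hp
    exact ⟨f, hf, by rw [smul_comm, h0, smul_zero]⟩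

variable {T : Ideal A → Prop}

theorem van_tors (M : Type u) [AddCommGroup M] [Module A M] (p : Ideal A) [p.IsPrime]
    (hp : ¬ T p) : Van p (tors T M) := by
  rintro ⟨m, hm⟩
  obtain ⟨f, hf, h0⟩ := hm p hp
  exact ⟨f, hf, Subtype.ext h0⟩

theorem eq_zero_of_mem_tors_quot (M : Type u) [AddCommGroup M] [Module A M]
    (y : M ⧸ tors T M) (hy : y ∈ tors T (M ⧸ tors T M)) : y = 0 := by
  obtain ⟨m, rfl⟩ := Submodule.mkQ_surjective _ y
  rw [Submodule.mkQ_apply, Submodule.Quotient.mk_eq_zero]
  intro p _ hp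
  obtain ⟨f, hf, h0⟩ := hy p hp
  rw [Submodule.mkQ_apply, ← Submodule.Quotient.mk_smul, Submodule.Quotient.mk_eq_zero] at h0
  obtain ⟨g, hg, h1⟩ := h0 p hp
  exact ⟨g * f, fun hfg => (Ideal.IsPrime.mem_or_mem ‹_› hfg).elim hg hf, by rw [mul_smul, h1]⟩

/-- prime avoidance for a module without `T`-torsion -/
theorem exists_regular [IsNoetherianRing A] (hT : ∀ p q : Ideal A, p ≤ q → T p → T q)
    (M : Type u) [AddCommGroup M] [Module A M] [Module.Finite A M]
    (hM : ∀ y ∈ tors T M, y = 0) {W : Type w} [AddCommGroup W] [Module A W] (y : W)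
    (hy : ∀ (p : Ideal A) [p.IsPrime], ¬ T p → ∃ f : A, f ∉ p ∧ f • y = 0) :
    ∃ x : A, x • y = 0 ∧ ∀ m : M, x • m = 0 → m = 0 := by
  classical
  have hfin : (associatedPrimes A M).Finite := associatedPrimes.finite A M
  have h1 : ¬ (((A ∙ y).annihilator : Set A) ⊆
      ⋃ q ∈ (↑hfin.toFinset : Set (Ideal A)), (q : Set A)) := by
    rw [Ideal.subset_union_prime (f := fun q => q) ⊥ ⊥ (fun q hq _ _ =>
      IsAssociatedPrime.isPrime (hfin.mem_toFinset.mp hq))]
    rintro ⟨q, hq, hyq⟩
    rw [hfin.mem_toFinset] at hq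
    have hqp := IsAssociatedPrime.isPrime hq
    have hTq : T q := by
      by_contra hTq
      obtain ⟨f, hf, h0⟩ := hy q hTq
      exact hf (hyq ((Submodule.mem_annihilator_span_singleton y f).mpr h0))
    obtain ⟨m, hm⟩ := ((isAssociatedPrime_iff).mp hq).2
    have hann : ∀ a : A, a ∈ q ↔ a • m = 0 := by
      intro a
      rw [hm]
      simp
    have hm0 : m = 0 := by
      apply hM
      intro p _ hp
      have hqp' : ¬ q ≤ p := fun h => hp (hT q p h hTq)
      obtain ⟨f, hfq, hfp⟩ := SetLike.not_le_iff_exists.mp hqp'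
      exact ⟨f, hfp, (hann f).mp hfq⟩
    exact (Ideal.ne_top_iff_one q).mp hqp.ne_top ((hann 1).mpr (by rw [hm0, smul_zero]))
  obtain ⟨x, hxy, hx⟩ := Set.not_subset.mp h1
  refine ⟨x, (Submodule.mem_annihilator_span_singleton y x).mp hxy, fun m hm => ?_⟩
  by_contra hne
  apply hx
  have h2 : x ∈ ⋃ p ∈ associatedPrimes A M, (p : Set A) := by
    rw [biUnion_associatedPrimes_eq_zero_divisors]
    exact ⟨m, hne, hm⟩
  simpa using h2

variable (T) in
/-- **S(t)** -/
theorem main [IsNoetherianRing A] (hT : ∀ p q : Ideal A, p ≤ q → T p → T q)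
    (hH : ∀ (M : Type u) [AddCommGroup M] [Module A M] [Module.Finite A M] (i : ℕ)
      (p : Ideal A) [p.IsPrime], ¬ T p → Van p (H.obj i M))
    (h0 : ∀ (M : Type u) [AddCommGroup M] [Module A M] [Module.Finite A M],
      Function.Bijective (Θ.app 0 M))
    (htor : ∀ (M : Type u) [AddCommGroup M] [Module A M] [Module.Finite A M],
      (∀ (p : Ideal A) [p.IsPrime], ¬ T p → Van p M) → ∀ i, Function.Bijective (Θ.app i M))
    (t : ℕ) :
    (∀ (M : Type u) [AddCommGroup M] [Module A M] [Module.Finite A M],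
      (∀ (p : Ideal A) [p.IsPrime], ¬ T p → K.DC (t - 1) p M) → Function.Injective (Θ.app t M)) ∧
    (∀ (M : Type u) [AddCommGroup M] [Module A M] [Module.Finite A M],
      (∀ (p : Ideal A) [p.IsPrime], ¬ T p → K.DC t p M) → Function.Bijective (Θ.app t M)) := by
  induction t with
  | zero => exact ⟨fun M _ _ _ _ => (h0 M).1, fun M _ _ _ _ => h0 M⟩
  | succ t ih =>
    obtain ⟨ih1, ih2⟩ := ih
    -- reduction of the hypotheses to the torsion free quotient
    have hquot : ∀ (n : ℕ) (M : Type u) [AddCommGroup M] [Module A M] [Module.Finite A M],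
        (∀ (p : Ideal A) [p.IsPrime], ¬ T p → K.DC n p M) →
        (∀ (p : Ideal A) [p.IsPrime], ¬ T p → K.DC n p (M ⧸ tors T M)) := by
      intro n M _ _ _ hM p _ hp
      refine (hM p hp).congr_van (tors T M).mkQ (Submodule.mkQ_surjective _) (fun m hm => ?_)
      obtain ⟨f, hf, h⟩ := van_tors M p hp ⟨m, by simpa using hm⟩
      exact ⟨f, hf, congrArg Subtype.val h⟩
    have htorN : ∀ (M : Type u) [AddCommGroup M] [Module A M] [Module.Finite A M],
        ∀ i, Function.Bijective (Θ.app i (tors T M)) := by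
      intro M _ _ _ i
      exact htor _ (fun p _ hp => van_tors M p hp) i
    -- injectivity
    have inj : ∀ (M : Type u) [AddCommGroup M] [Module A M] [Module.Finite A M],
        (∀ (p : Ideal A) [p.IsPrime], ¬ T p → K.DC t p M) →
        Function.Injective (Θ.app (t + 1) M) := by
      -- torsion free case
      have key : ∀ (M : Type u) [AddCommGroup M] [Module A M] [Module.Finite A M],
          (∀ y ∈ tors T M, y = 0) →
          (∀ (p : Ideal A) [p.IsPrime], ¬ T p → K.DC t p M) →
          Function.Injective (Θ.app (t + 1) M) := by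
        intro M _ _ _ htf hM
        rw [injective_iff_map_eq_zero]
        intro w hw
        obtain ⟨x, hxw, hx⟩ := exists_regular hT M htf w (fun p _ hp => hH M (t + 1) p hp w)
        have hxi : Function.Injective (LinearMap.lsmul A M x) := by
          rw [injective_iff_map_eq_zero]; exact hx
        have hex : Function.Exact (LinearMap.lsmul A M x) (x • (⊤ : Submodule A M)).mkQ := by
          intro m
          rw [Submodule.mkQ_apply, Submodule.Quotient.mk_eq_zero]
          rw [Submodule.mem_smul_pointwise_iff_exists]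
          simp
        obtain ⟨v, hv⟩ := H.ex₁' (LinearMap.lsmul A M x) (x • (⊤ : Submodule A M)).mkQ hxi
          (Submodule.mkQ_surjective _) hex t w (by rw [H.map_smul_self, hxw])
        have h2 : K.conn (LinearMap.lsmul A M x) (x • (⊤ : Submodule A M)).mkQ hxi
          (Submodule.mkQ_surjective _) hex t (Θ.app t _ v) = 0 := by
          rw [← Θ.app_conn, hv, hw]
        obtain ⟨u, hu⟩ := K.ex₃' _ _ hxi (Submodule.mkQ_surjective _) hex t _ h2
        obtain ⟨u', rfl⟩ := (ih2 M hM).2 u
        rw [← Θ.app_map] at hu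
        have hinj : Function.Injective (Θ.app t (QuotSMulTop x M)) := by
          refine ih1 _ (fun p _ hp => ?_)
          rcases t with _ | t
          · exact Or.inl (by simp)
          · exact (hM p hp).quotSMulTop (fun m hm => ⟨1, (Ideal.ne_top_iff_one p).mp
              (Ideal.IsPrime.ne_top ‹_›), by rw [hx m hm, smul_zero]⟩)
        have hv' := hinj hu
        rw [← hv, ← hv', H.conn_map]
      intro M _ _ _ hM
      refine Θ.injective_succ_of_exact (tors T M).subtype (tors T M).mkQ
        (Submodule.injective_subtype _) (Submodule.mkQ_surjective _)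
        (LinearMap.exact_subtype_mkQ _) t (htorN M _).1
        (key _ (eq_zero_of_mem_tors_quot M) (hquot t M hM)) (ih2 _ (hquot t M hM)).2
    refine ⟨by simpa using inj, fun M _ _ _ hM => ⟨inj M (fun p _ hp => (hM p hp).mono (by omega)),
      ?_⟩⟩
    -- surjectivity
    have key : ∀ (M : Type u) [AddCommGroup M] [Module A M] [Module.Finite A M],
        (∀ y ∈ tors T M, y = 0) →
        (∀ (p : Ideal A) [p.IsPrime], ¬ T p → K.DC (t + 1) p M) →
        Function.Surjective (Θ.app (t + 1) M) := by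
      intro M _ _ _ htf hM y
      have hy : ∀ (p : Ideal A) [p.IsPrime], ¬ T p → ∃ f : A, f ∉ p ∧ f • y = 0 := by
        intro p _ hp
        refine K.van_of_dc (t + 1) p (fun M _ _ _ => ?_) M
          (fun q _ hq => hM q (fun hTq => hp (hT q p hq hTq))) (t + 1) le_rfl y
        exact (hH M 0 p hp).of_surjective (Θ.app 0 M) (h0 M).2
      obtain ⟨x, hxw, hx⟩ := exists_regular hT M htf y hy
      have hxi : Function.Injective (LinearMap.lsmul A M x) := by
        rw [injective_iff_map_eq_zero]; exact hx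
      have hex : Function.Exact (LinearMap.lsmul A M x) (x • (⊤ : Submodule A M)).mkQ := by
        intro m
        rw [Submodule.mkQ_apply, Submodule.Quotient.mk_eq_zero]
        rw [Submodule.mem_smul_pointwise_iff_exists]
        simp
      obtain ⟨z, hz⟩ := K.ex₁' (LinearMap.lsmul A M x) (x • (⊤ : Submodule A M)).mkQ hxi
        (Submodule.mkQ_surjective _) hex t y (by rw [K.map_smul_self, hxw])
      have hsurj : Function.Surjective (Θ.app t (QuotSMulTop x M)) :=
        (ih2 _ (fun p _ hp => (hM p hp).quotSMulTop (fun m hm =>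
          ⟨1, (Ideal.ne_top_iff_one p).mp (Ideal.IsPrime.ne_top ‹_›),
            by rw [hx m hm, smul_zero]⟩))).2
      obtain ⟨z', rfl⟩ := hsurj z
      exact ⟨H.conn _ _ hxi (Submodule.mkQ_surjective _) hex t z', by rw [Θ.app_conn, ← hz]⟩
    exact Θ.surjective_of_exact (tors T M).subtype (tors T M).mkQ
        (Submodule.injective_subtype _) (Submodule.mkQ_surjective _)
        (LinearMap.exact_subtype_mkQ _) (t + 1) (htorN M _).2 (htorN M _).1
        (key _ (eq_zero_of_mem_tors_quot M) (hquot (t + 1) M hM))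

/-- **S(t)**, final form: `θ^i` is bijective for `i ≤ t` and injective for `i ≤ t + 1`. -/
theorem bijective_of_dc [IsNoetherianRing A] (T : Ideal A → Prop)
    (hT : ∀ p q : Ideal A, p ≤ q → T p → T q)
    (hH : ∀ (M : Type u) [AddCommGroup M] [Module A M] [Module.Finite A M] (i : ℕ)
      (p : Ideal A) [p.IsPrime], ¬ T p → Van p (H.obj i M))
    (h0 : ∀ (M : Type u) [AddCommGroup M] [Module A M] [Module.Finite A M],
      Function.Bijective (Θ.app 0 M))
    (htor : ∀ (M : Type u) [AddCommGroup M] [Module A M] [Module.Finite A M],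
      (∀ (p : Ideal A) [p.IsPrime], ¬ T p → Van p M) → ∀ i, Function.Bijective (Θ.app i M))
    (t : ℕ) (M : Type u) [AddCommGroup M] [Module A M] [Module.Finite A M]
    (hM : ∀ (p : Ideal A) [p.IsPrime], ¬ T p → K.DC t p M) :
    (∀ i ≤ t, Function.Bijective (Θ.app i M)) ∧ Function.Injective (Θ.app (t + 1) M) :=
  ⟨fun i hi => (Θ.main T hT hH h0 htor i).2 M (fun p _ hp => (hM p hp).mono hi),
    (Θ.main T hT hH h0 htor (t + 1)).1 M (by simpa using hM)⟩

end CohHom

end Groth.Agent.FormalA.AlgCore
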