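import Mathlib
import Groth.Agent.FormalA.AlgCore

/-!
# The comparison theorem for a fixed support

Variant of `CohHom.bijective_of_dc` of `FormalA.AlgCore`: the source `H` is torsion for a
specialization closed set `V` contained in `T` (e.g. local cohomology with support in one ideal
`J` with `V(J) ⊆ T`), and the depth of `M` at the points of `T` outside `V` is at least `t + 1`.
-/

set_option autoImplicit false
universe u w
open CategoryTheory Pointwise

namespace Groth.Agent.FormalA.AlgCore

namespace CohHom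

variable {A : Type u} [CommRing A] {H K : CohF.{u, w} A} (Θ : CohHom H K)

/-- if `M` has no `V`-torsion and positive depth on `T` minus `V`, it has no `T`-torsion -/
theorem eq_zero_of_mem_tors [IsNoetherianRing A] {T V : Ideal A → Prop}
    (hV : ∀ p q : Ideal A, p ≤ q → V p → V q)
    (M : Type u) [AddCommGroup M] [Module A M] [Module.Finite A M]
    (hM : ∀ y ∈ tors V M, y = 0)
    (hd : ∀ (p : Ideal A) [p.IsPrime], T p → ¬ V p → 1 ≤ dep p M) :
    ∀ y ∈ tors T M, y = 0 := by
  intro y hy
  by_contra hne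
  have hnt : Nontrivial (A ∙ y) := by
    refine ⟨⟨⟨y, Submodule.mem_span_singleton_self y⟩, 0, fun h => hne (congrArg Subtype.val h)⟩⟩
  obtain ⟨q, hq⟩ := associatedPrimes.nonempty A (A ∙ y)
  have hqp := IsAssociatedPrime.isPrime hq
  obtain ⟨⟨z, hz⟩, hzq⟩ := ((isAssociatedPrime_iff).mp hq).2
  have hann : ∀ a : A, a ∈ q ↔ a • z = 0 := by
    intro a
    rw [hzq]
    simp [Subtype.ext_iff]
  have hz1 : ∀ f : A, f ∉ q → f • z ≠ 0 := fun f hf h => hf ((hann f).mpr h)
  have hzT : z ∈ tors T M := by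
    obtain ⟨a, rfl⟩ := Submodule.mem_span_singleton.mp hz
    exact (tors T M).smul_mem a hy
  have hTq : T q := by
    by_contra hTq
    obtain ⟨f, hf, h0⟩ := hzT q hTq
    exact hz1 f hf h0
  by_cases hVq : V q
  · have hz0 : z = 0 := by
      apply hM
      intro p _ hp
      have hqp' : ¬ q ≤ p := fun h => hp (hV q p h hVq)
      obtain ⟨f, hfq, hfp⟩ := SetLike.not_le_iff_exists.mp hqp'
      exact ⟨f, hfp, (hann f).mp hfq⟩
    exact hz1 1 ((Ideal.ne_top_iff_one q).mp hqp.ne_top) (by rw [hz0, smul_zero])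
  · obtain ⟨x, hxq, hx⟩ := exists_regular_of_one_le_dep (hd q hTq hVq)
    obtain ⟨f, hf, h0⟩ := hx z ((hann x).mp hxq)
    exact hz1 f hf h0

variable (T V : Ideal A → Prop)

/-- **S(t)** for a fixed support -/
theorem mainJ [IsNoetherianRing A] (hT : ∀ p q : Ideal A, p ≤ q → T p → T q)
    (hV : ∀ p q : Ideal A, p ≤ q → V p → V q)
    (hVT : ∀ (p : Ideal A) [p.IsPrime], V p → T p)
    (hH : ∀ (M : Type u) [AddCommGroup M] [Module A M] [Module.Finite A M] (i : ℕ)
      (p : Ideal A) [p.IsPrime], ¬ V p → Van p (H.obj i M))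
    (hK : ∀ (M : Type u) [AddCommGroup M] [Module A M] [Module.Finite A M]
      (p : Ideal A) [p.IsPrime], ¬ T p → Van p (K.obj 0 M))
    (h0i : ∀ (M : Type u) [AddCommGroup M] [Module A M] [Module.Finite A M],
      Function.Injective (Θ.app 0 M))
    (h0 : ∀ (M : Type u) [AddCommGroup M] [Module A M] [Module.Finite A M],
      (∀ (p : Ideal A) [p.IsPrime], T p → ¬ V p → 1 ≤ dep p M) →
      Function.Bijective (Θ.app 0 M))
    (htor : ∀ (M : Type u) [AddCommGroup M] [Module A M] [Module.Finite A M],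
      (∀ (p : Ideal A) [p.IsPrime], ¬ V p → Van p M) → ∀ i, Function.Bijective (Θ.app i M))
    (t : ℕ) :
    (∀ (M : Type u) [AddCommGroup M] [Module A M] [Module.Finite A M],
      (∀ (p : Ideal A) [p.IsPrime], ¬ T p → K.DC (t - 1) p M) →
      (∀ (p : Ideal A) [p.IsPrime], T p → ¬ V p → (t : ℕ∞) ≤ dep p M) →
      Function.Injective (Θ.app t M)) ∧
    (∀ (M : Type u) [AddCommGroup M] [Module A M] [Module.Finite A M],
      (∀ (p : Ideal A) [p.IsPrime], ¬ T p → K.DC t p M) →
      (∀ (p : Ideal A) [p.IsPrime], T p → ¬ V p → ((t + 1 : ℕ) : ℕ∞) ≤ dep p M) →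
      Function.Bijective (Θ.app t M)) := by
  induction t with
  | zero =>
    refine ⟨fun M _ _ _ _ _ => h0i M, fun M _ _ _ _ hd => h0 M fun p _ h1 h2 => ?_⟩
    simpa using hd p h1 h2
  | succ t ih =>
    obtain ⟨ih1, ih2⟩ := ih
    -- reduction of the hypotheses to the torsion free quotient
    have hquot : ∀ (n : ℕ) (M : Type u) [AddCommGroup M] [Module A M] [Module.Finite A M],
        (∀ (p : Ideal A) [p.IsPrime], ¬ T p → K.DC n p M) →
        (∀ (p : Ideal A) [p.IsPrime], ¬ T p → K.DC n p (M ⧸ tors V M)) := by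
      intro n M _ _ _ hM p _ hp
      refine (hM p hp).congr_van (tors V M).mkQ (Submodule.mkQ_surjective _) (fun m hm => ?_)
      obtain ⟨f, hf, h⟩ := van_tors M p (fun h => hp (hVT p h)) ⟨m, by simpa using hm⟩
      exact ⟨f, hf, congrArg Subtype.val h⟩
    have hquot' : ∀ (n : ℕ) (M : Type u) [AddCommGroup M] [Module A M] [Module.Finite A M],
        (∀ (p : Ideal A) [p.IsPrime], T p → ¬ V p → (n : ℕ∞) ≤ dep p M) →
        (∀ (p : Ideal A) [p.IsPrime], T p → ¬ V p → (n : ℕ∞) ≤ dep p (M ⧸ tors V M)) := by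
      intro n M _ _ _ hM p _ hp1 hp2
      rw [← dep_congr_van (tors V M).mkQ (Submodule.mkQ_surjective _) (fun m hm => ?_)]
      · exact hM p hp1 hp2
      · obtain ⟨f, hf, h⟩ := van_tors M p hp2 ⟨m, by simpa using hm⟩
        exact ⟨f, hf, congrArg Subtype.val h⟩
    have htorN : ∀ (M : Type u) [AddCommGroup M] [Module A M] [Module.Finite A M],
        ∀ i, Function.Bijective (Θ.app i (tors V M)) := by
      intro M _ _ _ i
      exact htor _ (fun p _ hp => van_tors M p hp) i
    -- injectivity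
    have inj : ∀ (M : Type u) [AddCommGroup M] [Module A M] [Module.Finite A M],
        (∀ (p : Ideal A) [p.IsPrime], ¬ T p → K.DC t p M) →
        (∀ (p : Ideal A) [p.IsPrime], T p → ¬ V p → ((t + 1 : ℕ) : ℕ∞) ≤ dep p M) →
        Function.Injective (Θ.app (t + 1) M) := by
      -- torsion free case
      have key : ∀ (M : Type u) [AddCommGroup M] [Module A M] [Module.Finite A M],
          (∀ y ∈ tors V M, y = 0) →
          (∀ (p : Ideal A) [p.IsPrime], ¬ T p → K.DC t p M) →
          (∀ (p : Ideal A) [p.IsPrime], T p → ¬ V p → ((t + 1 : ℕ) : ℕ∞) ≤ dep p M) →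
          Function.Injective (Θ.app (t + 1) M) := by
        intro M _ _ _ htf hM hMd
        rw [injective_iff_map_eq_zero]
        intro w hw
        obtain ⟨x, hxw, hx⟩ := exists_regular hV M htf w (fun p _ hp => hH M (t + 1) p hp w)
        have hx' : ∀ (p : Ideal A) [p.IsPrime], ∀ m : M, x • m = 0 → ∃ f : A, f ∉ p ∧ f • m = 0 :=
          fun p _ m hm => ⟨1, (Ideal.ne_top_iff_one p).mp
            (Ideal.IsPrime.ne_top ‹_›), by rw [hx m hm, smul_zero]⟩
        have hxi : Function.Injective (LinearMap.lsmul A M x) := by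
          rw [injective_iff_map_eq_zero]; exact hx
        have hex : Function.Exact (LinearMap.lsmul A M x) (x • (⊤ : Submodule A M)).mkQ := by
          intro m
          rw [Submodule.mkQ_apply, Submodule.Quotient.mk_eq_zero]
          rw [Submodule.mem_smul_pointwise_iff_exists]
          simp
        obtain ⟨v, hv⟩ := H.ex₁' (LinearMap.lsmul A M x) (x • (⊤ : Submodule A M)).mkQ hxi
          (Submodule.mkQ_surjective _) hex t w (by rw [H.map_smul_self, hxw])
        have h2 : K.conn (LinearMap.lsmul A M x) (x • (⊤ : Submodule A M)).mkQ hxi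
          (Submodule.mkQ_surjective _) hex t (Θ.app t _ v) = 0 := by
          rw [← Θ.app_conn, hv, hw]
        obtain ⟨u, hu⟩ := K.ex₃' _ _ hxi (Submodule.mkQ_surjective _) hex t _ h2
        obtain ⟨u', rfl⟩ := (ih2 M hM hMd).2 u
        rw [← Θ.app_map] at hu
        have hinj : Function.Injective (Θ.app t (QuotSMulTop x M)) := by
          refine ih1 _ (fun p _ hp => ?_) (fun p _ hp1 hp2 => ?_)
          · rcases t with _ | t
            · exact Or.inl (by simp)
            · exact (hM p hp).quotSMulTop (hx' p)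
          · exact dep_quotSMulTop_natCast (hx' p) t (hMd p hp1 hp2)
        have hv' := hinj hu
        rw [← hv, ← hv', H.conn_map]
      intro M _ _ _ hM hMd
      refine Θ.injective_succ_of_exact (tors V M).subtype (tors V M).mkQ
        (Submodule.injective_subtype _) (Submodule.mkQ_surjective _)
        (LinearMap.exact_subtype_mkQ _) t (htorN M _).1
        (key _ (eq_zero_of_mem_tors_quot M) (hquot t M hM) (hquot' _ M hMd))
        (ih2 _ (hquot t M hM) (hquot' _ M hMd)).2
    refine ⟨by simpa using inj, fun M _ _ _ hM hMd => ⟨inj M (fun p _ hp => (hM p hp).mono (by omega))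
      (fun p _ hp1 hp2 => le_trans (by exact_mod_cast Nat.le_succ _) (hMd p hp1 hp2)), ?_⟩⟩
    -- surjectivity
    have key : ∀ (M : Type u) [AddCommGroup M] [Module A M] [Module.Finite A M],
        (∀ y ∈ tors V M, y = 0) →
        (∀ (p : Ideal A) [p.IsPrime], ¬ T p → K.DC (t + 1) p M) →
        (∀ (p : Ideal A) [p.IsPrime], T p → ¬ V p → ((t + 1 + 1 : ℕ) : ℕ∞) ≤ dep p M) →
        Function.Surjective (Θ.app (t + 1) M) := by
      intro M _ _ _ htf hM hMd y
      have htfT : ∀ y ∈ tors T M, y = 0 := eq_zero_of_mem_tors hV M htf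
        (fun p _ hp1 hp2 => le_trans (by exact_mod_cast Nat.succ_le_succ (Nat.zero_le _))
          (hMd p hp1 hp2))
      have hy : ∀ (p : Ideal A) [p.IsPrime], ¬ T p → ∃ f : A, f ∉ p ∧ f • y = 0 := by
        intro p _ hp
        exact K.van_of_dc (t + 1) p (fun M _ _ _ => hK M p hp) M
          (fun q _ hq => hM q (fun hTq => hp (hT q p hq hTq))) (t + 1) le_rfl y
      obtain ⟨x, hxw, hx⟩ := exists_regular hT M htfT y hy
      have hx' : ∀ (p : Ideal A) [p.IsPrime], ∀ m : M, x • m = 0 → ∃ f : A, f ∉ p ∧ f • m = 0 :=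
        fun p _ m hm => ⟨1, (Ideal.ne_top_iff_one p).mp
          (Ideal.IsPrime.ne_top ‹_›), by rw [hx m hm, smul_zero]⟩
      have hxi : Function.Injective (LinearMap.lsmul A M x) := by
        rw [injective_iff_map_eq_zero]; exact hx
      have hex : Function.Exact (LinearMap.lsmul A M x) (x • (⊤ : Submodule A M)).mkQ := by
        intro m
        rw [Submodule.mkQ_apply, Submodule.Quotient.mk_eq_zero]
        rw [Submodule.mem_smul_pointwise_iff_exists]
        simp
      obtain ⟨z, hz⟩ := K.ex₁' (LinearMap.lsmul A M x) (x • (⊤ : Submodule A M)).mkQ hxi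
        (Submodule.mkQ_surjective _) hex t y (by rw [K.map_smul_self, hxw])
      have hsurj : Function.Surjective (Θ.app t (QuotSMulTop x M)) :=
        (ih2 _ (fun p _ hp => (hM p hp).quotSMulTop (hx' p))
          (fun p _ hp1 hp2 => dep_quotSMulTop_natCast (hx' p) (t + 1) (hMd p hp1 hp2))).2
      obtain ⟨z', rfl⟩ := hsurj z
      exact ⟨H.conn _ _ hxi (Submodule.mkQ_surjective _) hex t z', by rw [Θ.app_conn, ← hz]⟩
    exact Θ.surjective_of_exact (tors V M).subtype (tors V M).mkQ
        (Submodule.injective_subtype _) (Submodule.mkQ_surjective _)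
        (LinearMap.exact_subtype_mkQ _) (t + 1) (htorN M _).2 (htorN M _).1
        (key _ (eq_zero_of_mem_tors_quot M) (hquot (t + 1) M hM) (hquot' _ M hMd))

/-- **S(t)** for a fixed support, final form: if `DC t` holds outside `T` and the depth of `M` is
at least `t + 1` on `T` minus `V`, then `θ^i` is bijective for `i ≤ t` and injective for
`i ≤ t + 1`. -/
theorem bijective_of_dcJ [IsNoetherianRing A] (hT : ∀ p q : Ideal A, p ≤ q → T p → T q)
    (hV : ∀ p q : Ideal A, p ≤ q → V p → V q)
    (hVT : ∀ (p : Ideal A) [p.IsPrime], V p → T p)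
    (hH : ∀ (M : Type u) [AddCommGroup M] [Module A M] [Module.Finite A M] (i : ℕ)
      (p : Ideal A) [p.IsPrime], ¬ V p → Van p (H.obj i M))
    (hK : ∀ (M : Type u) [AddCommGroup M] [Module A M] [Module.Finite A M]
      (p : Ideal A) [p.IsPrime], ¬ T p → Van p (K.obj 0 M))
    (h0i : ∀ (M : Type u) [AddCommGroup M] [Module A M] [Module.Finite A M],
      Function.Injective (Θ.app 0 M))
    (h0 : ∀ (M : Type u) [AddCommGroup M] [Module A M] [Module.Finite A M],
      (∀ (p : Ideal A) [p.IsPrime], T p → ¬ V p → 1 ≤ dep p M) →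
      Function.Bijective (Θ.app 0 M))
    (htor : ∀ (M : Type u) [AddCommGroup M] [Module A M] [Module.Finite A M],
      (∀ (p : Ideal A) [p.IsPrime], ¬ V p → Van p M) → ∀ i, Function.Bijective (Θ.app i M))
    (t : ℕ) (M : Type u) [AddCommGroup M] [Module A M] [Module.Finite A M]
    (hM : ∀ (p : Ideal A) [p.IsPrime], ¬ T p → K.DC t p M)
    (hMd : ∀ (p : Ideal A) [p.IsPrime], T p → ¬ V p → ((t + 1 : ℕ) : ℕ∞) ≤ dep p M) :
    (∀ i ≤ t, Function.Bijective (Θ.app i M)) ∧ Function.Injective (Θ.app (t + 1) M) :=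
  ⟨fun i hi => (Θ.mainJ T V hT hV hVT hH hK h0i h0 htor i).2 M (fun p _ hp => (hM p hp).mono hi)
      (fun p _ h1 h2 => le_trans (by exact_mod_cast Nat.succ_le_succ hi) (hMd p h1 h2)),
    (Θ.mainJ T V hT hV hVT hH hK h0i h0 htor (t + 1)).1 M (by simpa using hM) hMd⟩

end CohHom

end Groth.Agent.FormalA.AlgCore
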