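import Mathlib.RingTheory.Support
import Mathlib.RingTheory.Noetherian.Basic
import Mathlib.RingTheory.Regular.IsSMulRegular

set_option autoImplicit false

/-!
# A lift of a rank one module is free of rank one near the closed subset `V(f)`
-/

namespace Groth.Agent.FormalA.AlgFree

variable {A : Type*} [CommRing A]

/-- Nakayama. -/
theorem exists_annihilator {Q : Type*} [AddCommGroup Q] [Module A Q] [Module.Finite A Q]
    (p : Ideal A) [p.IsPrime] {f : A} (hf : f ∈ p)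
    (h : ∀ q : Q, ∃ s : A, s ∉ p ∧ ∃ z, s • q = f • z) : ∃ s : A, s ∉ p ∧ ∀ q : Q, s • q = 0 := by
  let P : PrimeSpectrum A := ⟨p, inferInstance⟩
  by_contra hcon
  have h1 : P ∈ Module.support A Q := by
    rw [Module.mem_support_iff_of_finite]
    intro s hs
    by_contra hsp
    exact hcon ⟨s, hsp, fun q => Module.mem_annihilator.1 hs q⟩
  have h2 : P ∈ Module.support A (Q ⧸ (Ideal.span {f} • ⊤ : Submodule A Q)) := by
    rw [Module.support_quotient]
    refine ⟨h1, ?_⟩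
    rw [PrimeSpectrum.zeroLocus_span, PrimeSpectrum.mem_zeroLocus, Set.singleton_subset_iff]
    exact hf
  revert h2
  rw [imp_false, Module.notMem_support_iff']
  intro q
  obtain ⟨q, rfl⟩ := Submodule.Quotient.mk_surjective _ q
  obtain ⟨s, hs, z, hz⟩ := h q
  refine ⟨s, hs, ?_⟩
  rw [← Submodule.Quotient.mk_smul, Submodule.Quotient.mk_eq_zero, hz]
  exact Submodule.smul_mem_smul (Ideal.mem_span_singleton_self f) trivial

variable [IsNoetherianRing A] {f : A}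
variable {M N P : Type*} [AddCommGroup M] [Module A M] [AddCommGroup N] [Module A N]
  [AddCommGroup P] [Module A P]

theorem exists_free [Module.Finite A M] (hreg : IsSMulRegular M f) (φ : M →ₗ[A] P) (ε : N →ₗ[A] P)
    (p : Ideal A) [p.IsPrime] (hf : f ∈ p) {g : A} (hg : g ∉ p) (n : N)
    (h1 : ∀ x : N, ∃ k : ℕ, ∃ a : A, g ^ k • x = a • n)
    (h2 : ∀ a : A, a • n = 0 → ∃ k : ℕ, ∃ b, g ^ k * a = f * b)
    (hφ1 : ∀ x, φ x = 0 → ∃ y, x = f • y) (hφ2 : ∃ l : ℕ, ∀ y, ∃ x, φ x = g ^ l • y)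
    (hε1 : ∀ x, ε x = 0 → ∃ l : ℕ, g ^ l • x = 0) (hε2 : ∃ l : ℕ, ∀ y, ∃ x, ε x = g ^ l • y) :
    ∃ s : A, s ∉ p ∧ ∃ x : M, (∀ y, ∃ a : A, s • y = a • x) ∧ ∀ a : A, a • x = 0 → s * a = 0 := by
  obtain ⟨l, hφ2⟩ := hφ2
  obtain ⟨l', hε2⟩ := hε2
  obtain ⟨x₀, hx₀⟩ := hφ2 (ε n)
  have hgp : ∀ k : ℕ, g ^ k ∉ p := fun k hk => hg (Ideal.IsPrime.mem_of_pow_mem inferInstance k hk)
  -- surjectivity
  have hs1 : ∃ s : A, s ∉ p ∧ ∀ q : M ⧸ Submodule.span A {x₀}, s • q = 0 := by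
    refine exists_annihilator p hf fun q => ?_
    obtain ⟨y, rfl⟩ := Submodule.Quotient.mk_surjective _ q
    obtain ⟨w, hw⟩ := hε2 (φ y)
    obtain ⟨k, a, ha⟩ := h1 w
    have h3 : φ (g ^ (l + k + l') • y - a • x₀) = 0 := by
      rw [map_sub, map_smul, map_smul, hx₀, pow_add, mul_smul, ← hw, pow_add, mul_smul,
        ← map_smul ε (g ^ k), ha, map_smul, smul_comm a, sub_self]
    obtain ⟨z, hz⟩ := hφ1 _ h3
    refine ⟨g ^ (l + k + l'), hgp _, Submodule.Quotient.mk z, ?_⟩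
    rw [← Submodule.Quotient.mk_smul, ← Submodule.Quotient.mk_smul, ← hz, Submodule.Quotient.eq]
    rw [sub_sub_cancel]
    exact Submodule.smul_mem _ _ (Submodule.mem_span_singleton_self x₀)
  -- injectivity
  let K : Ideal A := LinearMap.ker (LinearMap.toSpanSingleton A M x₀)
  have hs2 : ∃ s : A, s ∉ p ∧ ∀ q : K, s • q = 0 := by
    refine exists_annihilator p hf fun q => ?_
    obtain ⟨a, ha⟩ := q
    have ha' : a • x₀ = 0 := ha
    have h3 : ε (g ^ l • a • n) = 0 := by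
      have := congrArg φ ha'
      rw [map_smul, hx₀, map_zero] at this
      rw [map_smul, map_smul, smul_comm]
      exact this
    obtain ⟨k, hk⟩ := hε1 _ h3
    rw [smul_smul, smul_smul] at hk
    obtain ⟨k', b, hb⟩ := h2 _ hk
    have hbK : b ∈ K := by
      change b • x₀ = 0
      apply hreg.right_eq_zero_of_smul
      rw [smul_smul, ← hb, mul_smul, mul_smul, ha', smul_zero, smul_zero]
    refine ⟨g ^ (k' + (k + l)), hgp _, ⟨b, hbK⟩, Subtype.ext ?_⟩
    change g ^ (k' + (k + l)) * a = f * b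
    rw [← hb]
    ring
  obtain ⟨s₁, hs₁, h3⟩ := hs1
  obtain ⟨s₂, hs₂, h4⟩ := hs2
  refine ⟨s₁ * s₂, fun h => (Ideal.IsPrime.mem_or_mem inferInstance h).elim hs₁ hs₂, x₀,
    fun y => ?_, fun a ha => ?_⟩
  · have h5 := h3 (Submodule.Quotient.mk y)
    rw [← Submodule.Quotient.mk_smul, Submodule.Quotient.mk_eq_zero,
      Submodule.mem_span_singleton] at h5
    obtain ⟨a, ha⟩ := h5
    exact ⟨s₂ * a, by rw [mul_comm s₁, mul_smul, ← ha, smul_smul]⟩
  · have h5 := congrArg Subtype.val (h4 ⟨a, ha⟩)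
    change s₂ * a = 0 at h5
    rw [mul_assoc, h5, mul_zero]

end Groth.Agent.FormalA.AlgFree
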