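import Groth.Agent.FormalA.CechInj
import Groth.Agent.Localalg.LCAbs
import Groth.Agent.Localalg.OldExt

set_option autoImplicit false

/-!
# Low degree Čech cohomology and local cohomology

For `T : LC I` (an abstract realisation of local cohomology) over a Noetherian ring and a finite family
`g : ι → A` with `rad (g) = rad I`:
`ker d0 / im ε ≃ H^1_I`, `ker d1 / im d0 ≃ H^2_I`, `ker d2 / im d1 ≃ H^3_I`.
-/

universe u

open CategoryTheory Limits
open Groth.Agent.Localalg.DeltaFun Groth.Agent.Localalg.Gam Groth.Agent.Localalg.LCAbs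

namespace Groth.Agent.FormalA.CechLC

open CechSub LocSub CechInj

section Shift

variable {A : Type*} [CommRing A]
  {Na Nb Nc Ea Eb Ec Qa Qb : Type*}
  [AddCommGroup Na] [Module A Na] [AddCommGroup Nb] [Module A Nb] [AddCommGroup Nc] [Module A Nc]
  [AddCommGroup Ea] [Module A Ea] [AddCommGroup Eb] [Module A Eb] [AddCommGroup Ec] [Module A Ec]
  [AddCommGroup Qa] [Module A Qa] [AddCommGroup Qb] [Module A Qb]
  (φa : Na →ₗ[A] Ea) (φb : Nb →ₗ[A] Eb) (φc : Nc →ₗ[A] Ec)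
  (ψa : Ea →ₗ[A] Qa) (ψb : Eb →ₗ[A] Qb)
  (na : Na →ₗ[A] Nb) (nb : Nb →ₗ[A] Nc) (ea : Ea →ₗ[A] Eb) (eb : Eb →ₗ[A] Ec) (qa : Qa →ₗ[A] Qb)

/-- The connecting isomorphism, in elementary form. -/
theorem shift (hφb : Function.Injective φb) (hφc : Function.Injective φc)
    (hψa : Function.Surjective ψa) (hexa : ∀ x, ψa x = 0 → ∃ y, φa y = x)
    (hexa' : ∀ y, ψa (φa y) = 0)
    (hexb : ∀ x, ψb x = 0 → ∃ y, φb y = x) (hexb' : ∀ y, ψb (φb y) = 0)
    (c1 : ∀ x, φb (na x) = ea (φa x)) (c2 : ∀ x, φc (nb x) = eb (φb x))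
    (c3 : ∀ x, ψb (ea x) = qa (ψa x)) (hee : ∀ x, eb (ea x) = 0)
    (hE : ∀ x, eb x = 0 → ∃ y, ea y = x) :
    Nonempty ((↥(LinearMap.ker nb) ⧸ (LinearMap.range na).submoduleOf (LinearMap.ker nb)) ≃ₗ[A]
      (↥(LinearMap.ker qa) ⧸ ((LinearMap.ker ea).map ψa).submoduleOf (LinearMap.ker qa))) := by
  let W : Submodule A Ea := LinearMap.ker (qa ∘ₗ ψa)
  -- the map `W → ker nb`
  have hrange : ∀ x : W, ea x.1 ∈ LinearMap.range φb := by
    intro x
    obtain ⟨y, hy⟩ := hexb (ea x.1) (by rw [c3]; exact x.2)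
    exact ⟨y, hy⟩
  let e := LinearEquiv.ofInjective φb hφb
  let q₀ : W →ₗ[A] Nb := e.symm.toLinearMap ∘ₗ LinearMap.codRestrict (LinearMap.range φb)
    (ea ∘ₗ W.subtype) hrange
  have hq₀ : ∀ x : W, φb (q₀ x) = ea x.1 := by
    intro x
    have h := e.apply_symm_apply (LinearMap.codRestrict (LinearMap.range φb)
      (ea ∘ₗ W.subtype) hrange x)
    exact congrArg Subtype.val h
  have hq₁ : ∀ x : W, q₀ x ∈ LinearMap.ker nb := by
    intro x
    rw [LinearMap.mem_ker]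
    apply hφc
    rw [c2, hq₀, hee, map_zero]
  let q : W →ₗ[A] (↥(LinearMap.ker nb) ⧸ (LinearMap.range na).submoduleOf (LinearMap.ker nb)) :=
    Submodule.mkQ _ ∘ₗ LinearMap.codRestrict (LinearMap.ker nb) q₀ hq₁
  let p : W →ₗ[A] (↥(LinearMap.ker qa) ⧸
      ((LinearMap.ker ea).map ψa).submoduleOf (LinearMap.ker qa)) :=
    Submodule.mkQ _ ∘ₗ LinearMap.codRestrict (LinearMap.ker qa) (ψa ∘ₗ W.subtype) (fun x => x.2)
  have hp : Function.Surjective p := by
    intro y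
    obtain ⟨⟨y, hy⟩, rfl⟩ := Submodule.mkQ_surjective _ y
    obtain ⟨x, rfl⟩ := hψa y
    exact ⟨⟨x, hy⟩, rfl⟩
  have hq : Function.Surjective q := by
    intro z
    obtain ⟨⟨z, hz⟩, rfl⟩ := Submodule.mkQ_surjective _ z
    obtain ⟨x, hx⟩ := hE (φb z) (by rw [← c2, show nb z = 0 from hz, map_zero])
    have hxW : x ∈ W := by
      change qa (ψa x) = 0
      rw [← c3, hx, hexb']
    refine ⟨⟨x, hxW⟩, ?_⟩
    have : q₀ ⟨x, hxW⟩ = z := hφb (by rw [hq₀, hx])
    change Submodule.mkQ _ (⟨q₀ ⟨x, hxW⟩, _⟩ : LinearMap.ker nb) = _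
    congr 1
    exact Subtype.ext this
  refine ⟨Groth.Agent.Localalg.OldExt.equivOfSurj q p hq hp ?_⟩
  ext x
  rw [LinearMap.mem_ker, LinearMap.mem_ker]
  change Submodule.Quotient.mk _ = 0 ↔ Submodule.Quotient.mk _ = 0
  rw [Submodule.Quotient.mk_eq_zero, Submodule.Quotient.mk_eq_zero]
  change q₀ x ∈ LinearMap.range na ↔ ψa x.1 ∈ (LinearMap.ker ea).map ψa
  constructor
  · rintro ⟨y, hy⟩
    refine ⟨x.1 - φa y, ?_, ?_⟩
    · change ea (x.1 - φa y) = 0
      rw [map_sub, ← hq₀, ← hy, c1, sub_self]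
    · rw [map_sub, hexa', sub_zero]
  · rintro ⟨w, hw, hwx⟩
    obtain ⟨y, hy⟩ := hexa (x.1 - w) (by rw [map_sub, hwx, sub_self])
    refine ⟨y, hφb ?_⟩
    rw [c1, hq₀, hy, map_sub, show ea w = 0 from hw, sub_zero]

end Shift

section Cech

variable {A : Type*} [CommRing A] {ι : Type*} (S : ι → Submonoid A)
variable (N : Type*) [AddCommGroup N] [Module A N]

/-- `ker d0 / im ε`. -/
abbrev H0' := ↥(LinearMap.ker (d0 (N := N) S)) ⧸
  (LinearMap.range (ε (N := N) S)).submoduleOf (LinearMap.ker (d0 (N := N) S))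

/-- Čech `H^1`. -/
abbrev H1 := ↥(LinearMap.ker (d1 (N := N) S)) ⧸
  (LinearMap.range (d0 (N := N) S)).submoduleOf (LinearMap.ker (d1 (N := N) S))

/-- Čech `H^2`. -/
abbrev H2 := ↥(LinearMap.ker (d2 (N := N) S)) ⧸
  (LinearMap.range (d1 (N := N) S)).submoduleOf (LinearMap.ker (d2 (N := N) S))

variable {N} {E Q : Type*} [AddCommGroup E] [Module A E] [AddCommGroup Q] [Module A Q]
  (φ : N →ₗ[A] E) (ψ : E →ₗ[A] Q)

theorem shift0 (hφ : Function.Injective φ) (hψ : Function.Surjective ψ) (hex : Function.Exact φ ψ)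
    (hE : Good S E) :
    Nonempty (H0' S N ≃ₗ[A] (↥(LinearMap.ker (ε (N := Q) S)) ⧸
      ((LinearMap.ker (ε (N := E) S)).map ψ).submoduleOf (LinearMap.ker (ε (N := Q) S)))) :=
  shift φ (map0 S φ) (map1 S φ) ψ (map0 S ψ) (ε S) (d0 S) (ε S) (d0 S) (ε S)
    (map0_injective S φ hφ) (map1_injective S φ hφ) hψ (fun x hx => (hex x).1 hx)
    (fun y => (hex _).2 ⟨y, rfl⟩) (map0_exact S φ ψ hex)
    (map0_zero_comp S φ ψ (hex.linearMap_comp_eq_zero)) (map0_ε S φ) (map1_d0 S φ) (map0_ε S ψ)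
    (d0_ε S) hE.ex0

theorem shift1 (hφ : Function.Injective φ) (hψ : Function.Surjective ψ) (hex : Function.Exact φ ψ)
    (hE : Good S E) : Nonempty (H1 S N ≃ₗ[A] H0' S Q) := by
  obtain ⟨e⟩ := shift (map0 S φ) (map1 S φ) (map2 S φ) (map0 S ψ) (map1 S ψ) (d0 S) (d1 S) (d0 S)
    (d1 S) (d0 S) (map1_injective S φ hφ) (map2_injective S φ hφ) (map0_surjective S ψ hψ)
    (map0_exact S φ ψ hex) (map0_zero_comp S φ ψ (hex.linearMap_comp_eq_zero))
    (map1_exact S φ ψ hex) (map1_zero_comp S φ ψ (hex.linearMap_comp_eq_zero))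
    (map1_d0 S φ) (map2_d1 S φ) (map1_d0 S ψ) (d1_d0 S) hE.ex1
  have : (LinearMap.ker (d0 (N := E) S)).map (map0 S ψ) = LinearMap.range (ε (N := Q) S) := by
    apply le_antisymm
    · rintro _ ⟨x, hx, rfl⟩
      obtain ⟨n, rfl⟩ := hE.ex0 x hx
      exact ⟨ψ n, (map0_ε S ψ n).symm⟩
    · rintro _ ⟨n, rfl⟩
      obtain ⟨m, rfl⟩ := hψ n
      exact ⟨ε S m, d0_ε S m, map0_ε S ψ m⟩
  exact ⟨e ≪≫ₗ Submodule.quotEquivOfEq _ _ (by rw [this])⟩

theorem shift2 (hφ : Function.Injective φ) (hψ : Function.Surjective ψ) (hex : Function.Exact φ ψ)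
    (hE : Good S E) : Nonempty (H2 S N ≃ₗ[A] H1 S Q) := by
  obtain ⟨e⟩ := shift (map1 S φ) (map2 S φ) (map3 S φ) (map1 S ψ) (map2 S ψ) (d1 S) (d2 S) (d1 S)
    (d2 S) (d1 S) (map2_injective S φ hφ) (map3_injective S φ hφ) (map1_surjective S ψ hψ)
    (map1_exact S φ ψ hex) (map1_zero_comp S φ ψ (hex.linearMap_comp_eq_zero))
    (map2_exact S φ ψ hex) (map2_zero_comp S φ ψ (hex.linearMap_comp_eq_zero))
    (map2_d1 S φ) (map3_d2 S φ) (map2_d1 S ψ) (d2_d1 S) hE.ex2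
  have : (LinearMap.ker (d1 (N := E) S)).map (map1 S ψ) = LinearMap.range (d0 (N := Q) S) := by
    apply le_antisymm
    · rintro _ ⟨x, hx, rfl⟩
      obtain ⟨n, rfl⟩ := hE.ex1 x hx
      exact ⟨map0 S ψ n, (map1_d0 S ψ n).symm⟩
    · rintro _ ⟨n, rfl⟩
      obtain ⟨m, rfl⟩ := map0_surjective S ψ hψ n
      exact ⟨d0 S m, d1_d0 S m, map1_d0 S ψ m⟩
  exact ⟨e ≪≫ₗ Submodule.quotEquivOfEq _ _ (by rw [this])⟩

end Cech

section LC

variable {A : Type u} [CommRing A] [IsNoetherianRing A] {ι : Type*} [Finite ι] (g : ι → A)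

/-- The submonoids of powers. -/
abbrev PS (g : ι → A) : ι → Submonoid A := fun i => Submonoid.powers (g i)

theorem ker_ε {I : Ideal A} (hI : I.radical = (Ideal.span (Set.range g)).radical)
    (N : Type u) [AddCommGroup N] [Module A N] :
    LinearMap.ker (ε (N := N) (PS g)) = gam I N := by
  rw [gam_congr_radical hI]
  ext n
  rw [LinearMap.mem_ker]
  constructor
  · intro h
    have h1 : ∀ i, ∃ k : ℕ, g i ^ k • n = 0 := by
      intro i
      have := congr_fun h i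
      rw [ε_apply] at this
      obtain ⟨u, ⟨k, rfl⟩, hk⟩ := (mkLinearMap_eq_zero_iff (S := PS g i) n).1 this
      exact ⟨k, hk⟩
    choose k hk using h1
    have hle : Ideal.span (Set.range g) ≤ (Ideal.span (Set.range fun i => g i ^ k i)).radical := by
      rw [Ideal.span_le]
      rintro _ ⟨i, rfl⟩
      exact ⟨k i, Ideal.subset_span ⟨i, rfl⟩⟩
    obtain ⟨m, hm⟩ := Ideal.exists_pow_le_of_le_radical_of_fg hle (IsNoetherian.noetherian _)
    refine ⟨m, fun a ha => ?_⟩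
    have : Ideal.span (Set.range fun i => g i ^ k i) ≤ LinearMap.ker (LinearMap.toSpanSingleton A N n) := by
      rw [Ideal.span_le]
      rintro _ ⟨i, rfl⟩
      exact hk i
    exact this (hm ha)
  · rintro ⟨m, hm⟩
    funext i
    rw [ε_apply]
    refine (mkLinearMap_eq_zero_iff (S := PS g i) n).2 ⟨g i ^ m, ⟨m, rfl⟩, hm _ ?_⟩
    exact Ideal.pow_mem_pow (Ideal.subset_span (Set.mem_range_self i)) m

omit [IsNoetherianRing A] in
theorem exact_of_shortExact {S : ShortComplex (ModuleCat.{u} A)} (hS : S.ShortExact) :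
    Function.Exact S.f.hom S.g.hom :=
  (ShortComplex.ShortExact.moduleCat_exact_iff_function_exact S).1 hS.exact

variable {I : Ideal A} (T : LC I) (hI : I.radical = (Ideal.span (Set.range g)).radical)

include hI in
theorem H0'_equiv (N : ModuleCat.{u} A) : Nonempty (H0' (PS g) N ≃ₗ[A] T.obj 1 N) := by
  have hS := injSES_shortExact N
  have hE : Injective (injSES N).X₂ := inferInstanceAs (Injective (Injective.under N))
  have hgood := good_of_injective g (injSES N).X₂ (moduleInjective (injSES N).X₂)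
  obtain ⟨e⟩ := shift0 (PS g) (injSES N).f.hom (injSES N).g.hom
    ((ModuleCat.mono_iff_injective _).1 hS.mono_f) ((ModuleCat.epi_iff_surjective _).1 hS.epi_g)
    (exact_of_shortExact hS) hgood
  let e2 := (T.oneIso hS (T.eff _ 0)).toLinearEquiv
  let e3 := (ModuleCat.cokernelIsoRangeQuotient ((gamFunctor I).map (injSES N).g)).toLinearEquiv
  have hk1 := ker_ε g hI (injSES N).X₃
  have hk2 := ker_ε g hI (injSES N).X₂
  -- identify the two quotients
  let e4 : (↥(LinearMap.ker (ε (N := (injSES N).X₃) (PS g))) ⧸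
      ((LinearMap.ker (ε (N := (injSES N).X₂) (PS g))).map (injSES N).g.hom).submoduleOf
        (LinearMap.ker (ε (N := (injSES N).X₃) (PS g)))) ≃ₗ[A]
      (↥(gam I (injSES N).X₃) ⧸ LinearMap.range (gamMap I (injSES N).g.hom)) :=
    Submodule.Quotient.equiv _ _ (LinearEquiv.ofEq _ _ hk1) (by
      ext x
      constructor
      · rintro ⟨y, hy, rfl⟩
        obtain ⟨z, hz, hzy⟩ := hy
        refine ⟨⟨z, hk2 ▸ hz⟩, Subtype.ext ?_⟩
        exact hzy
      · rintro ⟨z, rfl⟩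
        refine ⟨⟨(injSES N).g.hom z.1, ?_⟩, ?_, ?_⟩
        · rw [hk1]; exact (gamMap I (injSES N).g.hom z).2
        · exact ⟨z.1, by rw [hk2]; exact z.2, rfl⟩
        · rfl)
  exact ⟨e ≪≫ₗ e4 ≪≫ₗ e3.symm ≪≫ₗ e2⟩

include hI in
theorem H1_equiv (N : ModuleCat.{u} A) : Nonempty (H1 (PS g) N ≃ₗ[A] T.obj 2 N) := by
  have hS := injSES_shortExact N
  have hE : Injective (injSES N).X₂ := inferInstanceAs (Injective (Injective.under N))
  have hgood := good_of_injective g (injSES N).X₂ (moduleInjective (injSES N).X₂)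
  obtain ⟨e⟩ := shift1 (PS g) (injSES N).f.hom (injSES N).g.hom
    ((ModuleCat.mono_iff_injective _).1 hS.mono_f) ((ModuleCat.epi_iff_surjective _).1 hS.epi_g)
    (exact_of_shortExact hS) hgood
  obtain ⟨e'⟩ := H0'_equiv g T hI (injSES N).X₃
  exact ⟨e ≪≫ₗ e' ≪≫ₗ (T.shiftIso hS 1 (T.eff _ 0) (T.eff _ 1)).toLinearEquiv⟩

include hI in
theorem H2_equiv (N : ModuleCat.{u} A) : Nonempty (H2 (PS g) N ≃ₗ[A] T.obj 3 N) := by
  have hS := injSES_shortExact N
  have hE : Injective (injSES N).X₂ := inferInstanceAs (Injective (Injective.under N))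
  have hgood := good_of_injective g (injSES N).X₂ (moduleInjective (injSES N).X₂)
  obtain ⟨e⟩ := shift2 (PS g) (injSES N).f.hom (injSES N).g.hom
    ((ModuleCat.mono_iff_injective _).1 hS.mono_f) ((ModuleCat.epi_iff_surjective _).1 hS.epi_g)
    (exact_of_shortExact hS) hgood
  obtain ⟨e'⟩ := H1_equiv g T hI (injSES N).X₃
  exact ⟨e ≪≫ₗ e' ≪≫ₗ (T.shiftIso hS 2 (T.eff _ 1) (T.eff _ 2)).toLinearEquiv⟩

end LC

end Groth.Agent.FormalA.CechLC
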