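import Groth.Agent.FormalA.TwistCx
import Groth.Agent.FormalA.CechLC
import Groth.Agent.Localalg.FaltLC
import Mathlib.Algebra.Module.FinitePresentation
import Mathlib.RingTheory.Noetherian.Basic

set_option autoImplicit false
universe u

/-!
# Lifting a rank one module over `A/f` on the punctured spectrum (algebraic form)
-/

open CategoryTheory
open Groth.Agent.Localalg.DeltaFun Groth.Agent.Localalg.Gam Groth.Agent.Localalg.LCAbs
open Groth.Agent.Localalg

namespace Groth.Agent.FormalA.AlgLift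

open CompleteCx LocSub CechSub CechLC

section QuasiInverse

variable {A : Type*} [CommRing A] {M N : Type*} [AddCommGroup M] [Module A M] [AddCommGroup N]
  [Module A N]

/-- A map with `S`-torsion kernel and cokernel has a quasi-inverse. -/
theorem exists_quasi_inverse (S : Submonoid A) (α : M →ₗ[A] N) [Module.FinitePresentation A N]
    (hk : ∀ x, α x = 0 → ∃ s ∈ S, s • x = 0) (hc : ∀ y, ∃ s ∈ S, ∃ x, s • y = α x) :
    ∃ (β : N →ₗ[A] M) (s : A), s ∈ S ∧ ∀ y, α (β y) = s • y := by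
  have hbij : Function.Bijective (lmap S α) := by
    constructor
    · rw [injective_iff_map_eq_zero]
      intro x hx
      obtain ⟨m, s, rfl⟩ := exists_eq_mk x
      rw [lmap_mk, mk_eq_zero_iff] at hx
      obtain ⟨u, hu, hx⟩ := hx
      rw [← map_smul] at hx
      obtain ⟨t, ht, h⟩ := hk _ hx
      rw [mk_eq_zero_iff]
      exact ⟨t * u, mul_mem ht hu, by rw [mul_smul, h]⟩
    · intro y
      obtain ⟨n, s, rfl⟩ := exists_eq_mk y
      obtain ⟨t, ht, x, hx⟩ := hc n
      refine ⟨LocalizedModule.mk x (⟨t, ht⟩ * s), ?_⟩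
      rw [lmap_mk, ← hx]
      exact LocalizedModule.mk_cancel_common_left ⟨t, ht⟩ s n
  let e := LinearEquiv.ofBijective _ hbij
  obtain ⟨β, s₀, H⟩ := Module.FinitePresentation.exists_lift_of_isLocalizedModule S
    (LocalizedModule.mkLinearMap S M) (e.symm.toLinearMap.comp (LocalizedModule.mkLinearMap S N))
  have H₁ : LocalizedModule.mkLinearMap S N ∘ₗ (α ∘ₗ β) =
      LocalizedModule.mkLinearMap S N ∘ₗ ((s₀ : A) • LinearMap.id) := by
    ext y
    have h1 : LocalizedModule.mkLinearMap S M (β y) =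
        s₀ • e.symm (LocalizedModule.mkLinearMap S N y) := congr($H y)
    have h2 := congrArg e h1
    change LocalizedModule.mkLinearMap S N (α (β y)) = LocalizedModule.mkLinearMap S N ((s₀ : A) • y)
    rw [← lmap_mkLinearMap, map_smul]
    refine h2.trans ?_
    rw [Submonoid.smul_def, map_smul, LinearEquiv.apply_symm_apply]
  obtain ⟨s₁, hs₁⟩ := Module.Finite.exists_smul_of_comp_eq_of_isLocalizedModule S
    (LocalizedModule.mkLinearMap S N) _ _ H₁
  refine ⟨(s₁ : A) • β, s₁ * s₀, mul_mem s₁.2 s₀.2, fun y => ?_⟩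
  have h3 : (s₁ : A) • α (β y) = (s₁ : A) • ((s₀ : A) • y) := congr($hs₁ y)
  rw [LinearMap.smul_apply, map_smul, h3, mul_smul]

end QuasiInverse

variable {A : Type u} [CommRing A] [IsNoetherianRing A] {m : Ideal A}

omit [IsNoetherianRing A] in
theorem map_smulT (T : LC m) (j : ℕ) {M N : ModuleCat.{u} A} (α : M ⟶ N) (β : N ⟶ M) (a : A)
    (h : β ≫ α = a • 𝟙 N) (x : T.obj j N) :
    ((T.D.T j).map α).hom (((T.D.T j).map β).hom x) = a • x := by
  have h1 : (T.D.T j).map β ≫ (T.D.T j).map α = a • 𝟙 _ := by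
    rw [← Functor.map_comp, h, FaltLC.smul_id]
  exact congr(($h1).hom x)

/-- Finiteness of `H^0, H^1, H^2` passes from `A/f` to modules that are locally isomorphic to it. -/
theorem finite_lc (T : LC m) {f : A}
    (h₁ : Module.Finite A (T.obj 1 (ModuleCat.of A (A ⧸ Ideal.span {f}))))
    (h₂ : Module.Finite A (T.obj 2 (ModuleCat.of A (A ⧸ Ideal.span {f}))))
    {ι : Type*} [Finite ι] (g : ι → A) (hI : m.radical = (Ideal.span (Set.range g)).radical)
    (N : Type u) [AddCommGroup N] [Module A N] [Module.Finite A N]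
    (hN : ∀ x : N, f • x = 0) (n : ι → N)
    (h1 : ∀ i (x : N), ∃ k : ℕ, ∃ a : A, g i ^ k • x = a • n i)
    (h2 : ∀ i (a : A), a • n i = 0 → ∃ k : ℕ, ∃ b, g i ^ k * a = f * b) :
    ∀ j : ℕ, j ≤ 2 → Module.Finite A (T.obj j (ModuleCat.of A N)) := by
  -- the quasi-inverses
  have hq : ∀ i, ∃ (k : ℕ) (α : (A ⧸ Ideal.span {f}) →ₗ[A] N) (β : N →ₗ[A] (A ⧸ Ideal.span {f})),
      ∀ y, α (β y) = g i ^ k • y := by
    intro i
    let α : (A ⧸ Ideal.span {f}) →ₗ[A] N := Submodule.liftQ _ (LinearMap.toSpanSingleton A N (n i)) (by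
      rw [Ideal.span, Submodule.span_le]
      rintro _ rfl
      exact hN _)
    have : Module.FinitePresentation A N := Module.finitePresentation_of_finite A N
    obtain ⟨β, _, ⟨k, rfl⟩, h⟩ := exists_quasi_inverse (Submonoid.powers (g i)) α (by
      intro x hx
      obtain ⟨a, rfl⟩ := Ideal.Quotient.mk_surjective x
      obtain ⟨k, b, hb⟩ := h2 i a hx
      refine ⟨g i ^ k, ⟨k, rfl⟩, ?_⟩
      rw [Algebra.smul_def, Ideal.Quotient.algebraMap_eq, ← map_mul, hb,
        Ideal.Quotient.eq_zero_iff_mem]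
      exact Ideal.mul_mem_right _ _ (Ideal.mem_span_singleton_self f)) (by
      intro y
      obtain ⟨k, a, ha⟩ := h1 i y
      exact ⟨g i ^ k, ⟨k, rfl⟩, Ideal.Quotient.mk _ a, ha⟩)
    exact ⟨k, α, β, h⟩
  choose k α β hαβ using hq
  -- annihilator for `A/f`
  have h0 : Module.Finite A (T.obj 0 (ModuleCat.of A (A ⧸ Ideal.span {f}))) := by
    have e := (T.zero.app (ModuleCat.of A (A ⧸ Ideal.span {f}))).toLinearEquiv
    have : Module.Finite A ((gamFunctor m).obj (ModuleCat.of A (A ⧸ Ideal.span {f}))) :=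
      inferInstanceAs (Module.Finite A (gam m (A ⧸ Ideal.span {f})))
    exact Module.Finite.equiv e.symm
  obtain ⟨J, hJ, hJk⟩ := (FaltLC.finite_iff_annihilated T (ModuleCat.of A (A ⧸ Ideal.span {f})) 2).1 (by
    intro j hj
    interval_cases j
    · exact h0
    · exact h₁
    · exact h₂)
  have : Module.Finite A (ModuleCat.of A N) := inferInstanceAs (Module.Finite A N)
  refine (FaltLC.finite_iff_annihilated T (ModuleCat.of A N) 2).2
    ⟨Ideal.span (Set.range fun i => g i ^ k i) * J, ?_, fun j hj a ha x => ?_⟩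
  · rw [Ideal.radical_mul, le_inf_iff]
    refine ⟨?_, hJ⟩
    have hle : Ideal.span (Set.range g) ≤ (Ideal.span (Set.range fun i => g i ^ k i)).radical := by
      rw [Ideal.span_le]
      rintro _ ⟨i, rfl⟩
      exact ⟨k i, Ideal.subset_span ⟨i, rfl⟩⟩
    exact Ideal.le_radical.trans (hI.le.trans (Ideal.radical_le_radical_iff.2 hle))
  · -- the annihilator of `x` as an ideal
    let K : Ideal A := LinearMap.ker (LinearMap.toSpanSingleton A (T.obj j (ModuleCat.of A N)) x)
    suffices h : Ideal.span (Set.range fun i => g i ^ k i) * J ≤ K from h ha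
    rw [Ideal.mul_le]
    intro r hr s hs
    have hs' : ∀ i, (g i ^ k i * s) • x = 0 := by
      intro i
      have h3 := map_smulT T j (ModuleCat.ofHom (α i)) (ModuleCat.ofHom (β i)) (g i ^ k i) (by
        ext y
        exact hαβ i y) (s • x)
      rw [mul_smul, ← h3, map_smul, hJk j hj s hs, map_zero]
    change (r * s) • x = 0
    have : Ideal.span (Set.range fun i => g i ^ k i) ≤
        LinearMap.ker (LinearMap.toSpanSingleton A (T.obj j (ModuleCat.of A N)) (s • x)) := by
      rw [Ideal.span_le]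
      rintro _ ⟨i, rfl⟩
      change (g i ^ k i) • (s • x) = 0
      rw [← mul_smul, hs']
    rw [mul_smul]
    exact this hr

section

variable {R : Type*} [CommRing R] {M N P : Type*} [AddCommGroup M] [Module R M] [AddCommGroup N]
  [Module R N] [AddCommGroup P] [Module R P]

/-- If `K/im φ` and the source of `φ` are finite then so is `K`. -/
theorem fg_of_quotient [Module.Finite R N] (φ : N →ₗ[R] M) (K : Submodule R M)
    (hφ : LinearMap.range φ ≤ K)
    [Module.Finite R (↥K ⧸ (LinearMap.range φ).submoduleOf K)] : K.FG := by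
  have h1 : (LinearMap.range φ).submoduleOf K =
      LinearMap.range (φ.codRestrict K fun x => hφ ⟨x, rfl⟩) := by
    ext x
    constructor
    · rintro ⟨y, hy⟩
      exact ⟨y, Subtype.ext hy⟩
    · rintro ⟨y, rfl⟩
      exact ⟨y, rfl⟩
  have h2 : Module.Finite R ↥((LinearMap.range φ).submoduleOf K) := by
    rw [h1]; infer_instance
  rw [← Module.Finite.iff_fg]
  exact Module.Finite.of_submodule_quotient ((LinearMap.range φ).submoduleOf K)

theorem fg_map_mkQ (φ : N →ₗ[R] M) (K : Submodule R M)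
    [Module.Finite R (↥K ⧸ (LinearMap.range φ).submoduleOf K)] :
    (K.map (LinearMap.range φ).mkQ).FG := by
  let ψ : (↥K ⧸ (LinearMap.range φ).submoduleOf K) →ₗ[R] (M ⧸ LinearMap.range φ) :=
    Submodule.liftQ _ ((LinearMap.range φ).mkQ ∘ₗ K.subtype) (by
      intro x hx
      rw [LinearMap.mem_ker, LinearMap.comp_apply, Submodule.mkQ_apply,
        Submodule.Quotient.mk_eq_zero]
      exact hx)
  have h : K.map (LinearMap.range φ).mkQ = LinearMap.range ψ := by
    ext x
    constructor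
    · rintro ⟨y, hy, rfl⟩
      exact ⟨Submodule.Quotient.mk ⟨y, hy⟩, rfl⟩
    · rintro ⟨y, rfl⟩
      obtain ⟨z, rfl⟩ := Submodule.Quotient.mk_surjective _ y
      exact ⟨z.1, z.2, rfl⟩
  rw [h, ← Module.Finite.iff_fg]
  infer_instance

end

/-- The algebraic form of the lifting theorem. -/
theorem exists_lift (T : LC m) {f : A} [IsAdicComplete (Ideal.span {f}) A]
    (hreg : IsSMulRegular A f)
    (h₁ : Module.Finite A (T.obj 1 (ModuleCat.of A (A ⧸ Ideal.span {f}))))
    (h₂ : Module.Finite A (T.obj 2 (ModuleCat.of A (A ⧸ Ideal.span {f}))))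
    (h₃ : Subsingleton (T.obj 3 (ModuleCat.of A (A ⧸ Ideal.span {f}))))
    {ι : Type} [Finite ι] (g : ι → A) (hI : m.radical = (Ideal.span (Set.range g)).radical)
    (N : Type u) [AddCommGroup N] [Module A N] [Module.Finite A N]
    (hN : ∀ x : N, f • x = 0) (n : ι → N)
    (h1 : ∀ i (x : N), ∃ k : ℕ, ∃ a : A, g i ^ k • x = a • n i)
    (h2 : ∀ i (a : A), a • n i = 0 → ∃ k : ℕ, ∃ b, g i ^ k * a = f * b) :
    ∃ (M : Type u) (_ : AddCommGroup M) (_ : Module A M) (P : Type u) (_ : AddCommGroup P)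
      (_ : Module A P) (φ : M →ₗ[A] P) (ε : N →ₗ[A] P),
      Module.Finite A M ∧ IsSMulRegular M f ∧ (∀ y : P, f • y = 0) ∧
      (∀ x, φ x = 0 → ∃ y, x = f • y) ∧ (∀ i, ∃ l : ℕ, ∀ y, ∃ x, φ x = g i ^ l • y) ∧
      (∀ x, ε x = 0 → ∀ i, ∃ l : ℕ, g i ^ l • x = 0) ∧
      (∀ i, ∃ l : ℕ, ∀ y, ∃ x, ε x = g i ^ l • y) := by
  have hfin := finite_lc T h₁ h₂ g hI N hN n h1 h2
  have hNfin : Module.Finite A (ModuleCat.of A N) := inferInstanceAs (Module.Finite A N)
  obtain ⟨J, hJ, hJk⟩ := (FaltLC.finite_iff_annihilated T (ModuleCat.of A N) 2).1 hfin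
  have hgJ : ∀ i, ∃ l : ℕ, g i ^ l ∈ J := by
    intro i
    have h3 : g i ∈ m.radical := by
      rw [hI]
      exact Ideal.le_radical (Ideal.subset_span ⟨i, rfl⟩)
    exact (Ideal.radical_le_radical_iff.2 hJ) h3
  obtain ⟨e0⟩ := H0'_equiv g T hI (ModuleCat.of A N)
  obtain ⟨e1⟩ := H1_equiv g T hI (ModuleCat.of A N)
  obtain ⟨e2⟩ := H2_equiv g T hI (ModuleCat.of A (A ⧸ Ideal.span {f}))
  have hf0 : Module.Finite A (H0' (PS g) N) := by
    have := hfin 1 (by norm_num)
    exact Module.Finite.equiv e0.symm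
  have hf1 : Module.Finite A (H1 (PS g) N) := by
    have := hfin 2 (by norm_num)
    exact Module.Finite.equiv e1.symm
  have hfg0 : (LinearMap.ker (d0 (PS g) (N := N))).FG := by
    refine fg_of_quotient (ε (PS g)) _ ?_
    rintro _ ⟨x, rfl⟩
    exact d0_ε (PS g) x
  have hfg1 : ((LinearMap.ker (d1 (PS g) (N := N))).map
      (LinearMap.range (d0 (PS g) (N := N))).mkQ).FG := fg_map_mkQ (d0 (PS g)) _
  have hH2 : ∀ x : C2 (PS g) (A ⧸ Ideal.span {f}), d2 (PS g) x = 0 → ∃ y, d1 (PS g) y = x := by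
    intro x hx
    have : Subsingleton (H2 (PS g) (A ⧸ Ideal.span {f})) := e2.toEquiv.subsingleton
    have h4 : (Submodule.Quotient.mk ⟨x, hx⟩ : H2 (PS g) (A ⧸ Ideal.span {f})) = 0 :=
      Subsingleton.elim _ _
    rw [Submodule.Quotient.mk_eq_zero] at h4
    exact h4
  have hpow : ∀ i, ∃ k : ℕ, ∀ z : C1 (PS g) N, d1 (PS g) z = 0 →
      g i ^ k • z ∈ LinearMap.range (d0 (PS g) (N := N)) := by
    intro i
    obtain ⟨l, hl⟩ := hgJ i
    refine ⟨l, fun z hz => ?_⟩
    have h4 : (g i ^ l) • (Submodule.Quotient.mk ⟨z, hz⟩ : H1 (PS g) N) = 0 := by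
      apply e1.injective
      rw [map_smul, map_zero]
      exact hJk 2 le_rfl _ hl _
    rw [← Submodule.Quotient.mk_smul, Submodule.Quotient.mk_eq_zero] at h4
    exact h4
  obtain ⟨M, φ, hM, hMreg, hφ1, hφ2⟩ := TwistCx.exists_module (S := PS g) hN
    (FC.of_isAdicComplete) hreg g (fun i => rfl) n h1 h2 hH2 hfg0 hfg1 hpow
  refine ⟨M, inferInstance, inferInstance, LinearMap.ker (d0 (PS g) (N := N)), inferInstance,
    inferInstance, φ, (ε (PS g)).codRestrict _ fun x => d0_ε (PS g) x, ?_, hMreg, ?_, hφ1, hφ2,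
    ?_, ?_⟩
  · exact Module.Finite.iff_fg.2 hM
  · intro y
    apply Subtype.ext
    funext i
    exact CompLoc.f_smul_loc f hN _
  · intro x hx i
    have h4 : ε (PS g) x = 0 := congrArg Subtype.val hx
    obtain ⟨_, ⟨k, rfl⟩, hk⟩ := (mkLinearMap_eq_zero_iff (S := PS g i) x).1 (congr_fun h4 i)
    exact ⟨k, hk⟩
  · intro i
    obtain ⟨l, hl⟩ := hgJ i
    refine ⟨l, fun y => ?_⟩
    have h4 : (g i ^ l) • (Submodule.Quotient.mk y : H0' (PS g) N) = 0 := by
      apply e0.injective
      rw [map_smul, map_zero]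
      exact hJk 1 (by norm_num) _ hl _
    rw [← Submodule.Quotient.mk_smul, Submodule.Quotient.mk_eq_zero] at h4
    obtain ⟨x, hx⟩ := h4
    exact ⟨x, Subtype.ext hx⟩

end Groth.Agent.FormalA.AlgLift
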