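import Groth.Agent.VarietyB.ProjForm
import Groth.Agent.Sga67.TensorOps
import Groth.Agent.CohqB.TwistMono

/-!
# Lifting global sections of an invertible module from a closed subscheme

* `qmap i : O_X ⟶ i_* O_Z`;
* `surjective_unit_of_H1`: if `0 → K → O_X → i_* O_Z → 0` is exact, `N` is invertible and
  `H¹(X, N ⊗ K) = 0` then `Γ(X, N) → Γ(Z, i^* N)` is surjective.
-/

set_option autoImplicit false
universe u

open CategoryTheory CategoryTheory.Limits AlgebraicGeometry Opposite TopologicalSpace

namespace Groth.Agent.FormalA.ThickSurj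

open Groth.Agent.Ega2.Tens

variable {X Z : Scheme.{u}}

/-- The map `O_X ⟶ i_* O_Z`, as a morphism of modules. -/
noncomputable def qmap (i : Z ⟶ X) :
    Coh.structureModule X ⟶ (Scheme.Modules.pushforward i).obj (Coh.structureModule Z) :=
  mkHom (M := Coh.structureModule X)
    (N := (Scheme.Modules.pushforward i).obj (Coh.structureModule Z))
    (fun U =>
      { toFun := fun r => (show Γ((Scheme.Modules.pushforward i).obj (Coh.structureModule Z), U) from
          sm (i.app U r))
        map_add' := fun a b => congrArg sm (map_add (i.app U).hom a b)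
        map_smul' := fun a b => congrArg sm (map_mul (i.app U).hom a b) })
    (fun _ _ j m => congrArg sm (congr($(i.naturality j.op) m)).symm)

theorem qmap_app (i : Z ⟶ X) (U : X.Opens) (r : Γ(X, U)) :
    (qmap i).app U (sm r) = (show Γ((Scheme.Modules.pushforward i).obj (Coh.structureModule Z), U)
      from sm (i.app U r)) := rfl

theorem isFinLocFree_of_isInvertible {L : X.Modules} (hL : PicF.IsInvertible L) :
    FlatMod.IsFinLocFree L := by
  intro x
  obtain ⟨U, hU, ⟨e⟩⟩ := hL x
  refine ⟨U, 1, hU, ⟨e ≪≫ ?_⟩⟩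
  exact (Limits.coproductUniqueIso (fun _ : Fin 1 => Coh.structureModule (↑U : Scheme.{u}))).symm

theorem tmap_qmap (i : Z ⟶ X) (N : X.Modules) (hN : VarietyB.TensCoh.HasBases N) :
    Sga67.ExtSheaf.tmap N (qmap i) ≫ (VarietyB.ProjForm.projIsoUnit i hN).hom =
      (runit N).hom ≫ (Scheme.Modules.pullbackPushforwardAdjunction i).unit.app N := by
  refine hom_ext _ _ fun U m (r : Γ(X, U)) => ?_
  change (Sga67.ExtSheaf.tmap N (qmap i) ≫ (VarietyB.ProjForm.projIsoUnit i hN).hom).app U
    (tmul m (sm r)) = ((runit N).hom ≫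
      (Scheme.Modules.pullbackPushforwardAdjunction i).unit.app N).app U (tmul m (sm r))
  have h1 : (Sga67.ExtSheaf.tmap N (qmap i)).app U (tmul m (sm r)) =
      tmul m ((qmap i).app U (sm r)) := VarietyB.TensLoc.tensorBi_map_app_tmul N (qmap i) m (sm r)
  have h2 := VarietyB.ProjForm.projMor_tmul i N (Coh.structureModule Z) m
    (sm (i.app U r) : Γ(Coh.structureModule Z, i ⁻¹ᵁ U))
  have h3 : (runit ((Scheme.Modules.pullback i).obj N)).hom.app (i ⁻¹ᵁ U)
      (tmul (Fdesc.LocGen.pullSec i m) (sm (i.app U r))) = i.app U r • Fdesc.LocGen.pullSec i m :=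
    runit_hom_tmul _ _
  have h4 : (runit N).hom.app U (tmul m (sm r)) = r • m := runit_hom_tmul _ _
  have h5 := Fdesc.LocGen.pullSec_smul i r m
  have h6 : (Sga67.ExtSheaf.tmap N (qmap i) ≫ (VarietyB.ProjForm.projIsoUnit i hN).hom).app U
      (tmul m (sm r)) = (runit ((Scheme.Modules.pullback i).obj N)).hom.app (i ⁻¹ᵁ U)
        ((VarietyB.ProjForm.projMor i N (Coh.structureModule Z)).app U
          ((Sga67.ExtSheaf.tmap N (qmap i)).app U (tmul m (sm r)))) := rfl
  rw [h6, h1]
  refine (congrArg _ h2).trans (h3.trans (h5.symm.trans ?_))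
  exact (congrArg (((Scheme.Modules.pullbackPushforwardAdjunction i).unit.app N).app U) h4).symm

theorem surjective_unit_of_H1 (i : Z ⟶ X) (N : X.Modules) (hN : PicF.IsInvertible N)
    {K : X.Modules} (κ : K ⟶ Coh.structureModule X) (w : κ ≫ qmap i = 0)
    (hS : (ShortComplex.mk κ (qmap i) w).ShortExact)
    (h : Subsingleton (Coh.HH X (CohB1.tensorMod N K) 1)) :
    Function.Surjective
      (((Scheme.Modules.pullbackPushforwardAdjunction i).unit.app N).app ⊤) := by
  have hN' := VarietyB.TensCoh.HasBases.of_isFinLocFree (isFinLocFree_of_isInvertible hN)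
  have h1 := CohqB.TwistMono.surjective_of_H1
    (Sga67.TensorOps.tensor_shortExact (isFinLocFree_of_isInvertible hN) hS) h
  have h2 := tmap_qmap i N hN'
  intro y
  obtain ⟨z, hz⟩ := h1 ((VarietyB.ProjForm.projIsoUnit i hN').inv.app ⊤ y)
  refine ⟨(runit N).hom.app ⊤ z, ?_⟩
  have h3 : (VarietyB.ProjForm.projIsoUnit i hN').hom.app ⊤
      ((Sga67.ExtSheaf.tmap N (qmap i)).app ⊤ z) =
      ((Scheme.Modules.pullbackPushforwardAdjunction i).unit.app N).app ⊤
        ((runit N).hom.app ⊤ z) := congr(($h2).app ⊤ z)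
  rw [← h3]
  refine (congrArg _ hz).trans ?_
  exact congr(($((VarietyB.ProjForm.projIsoUnit i hN').inv_hom_id)).app ⊤ y)

end Groth.Agent.FormalA.ThickSurj
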