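import Groth.Agent.S1765
import Groth.Prelude.Def_Formal2
import Mathlib.RingTheory.Spectrum.Prime.Topology
import Mathlib.Order.KrullDimension

/-!
# Annihilators of local cohomology of `A / p` (input for `S0804`)
-/

set_option autoImplicit false
universe u
open CategoryTheory
attribute [local instance] HasDerivedCategory.standard

namespace Groth.Agent.FormalA.AnnDom

/-- The Krull dimension of `A_q / p A_q` is at most that of the interval `[p, q]` of primes. -/
theorem dimBetween_le {A : Type u} [CommRing A] (p q : PrimeSpectrum A) :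
    Formal2.dimBetween A p.asIdeal q.asIdeal ≤ Order.krullDim (Set.Icc p q) := by
  let π := Ideal.Quotient.mk (p.asIdeal.map (algebraMap A (Localization.AtPrime q.asIdeal)))
  have hinj : Function.Injective (PrimeSpectrum.comap (π.comp (algebraMap A (Localization.AtPrime q.asIdeal)))) := by
    rw [PrimeSpectrum.comap_comp]
    exact (PrimeSpectrum.localization_comap_injective _ q.asIdeal.primeCompl).comp
      (PrimeSpectrum.comap_injective_of_surjective π Ideal.Quotient.mk_surjective)
  have hmem : ∀ P : PrimeSpectrum (Localization.AtPrime q.asIdeal ⧸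
      p.asIdeal.map (algebraMap A (Localization.AtPrime q.asIdeal))),
      PrimeSpectrum.comap (π.comp (algebraMap A (Localization.AtPrime q.asIdeal))) P ∈ Set.Icc p q := by
    intro P
    constructor
    · change p.asIdeal ≤ Ideal.comap _ P.asIdeal
      intro x hx
      rw [Ideal.mem_comap, RingHom.comp_apply]
      have : π (algebraMap A (Localization.AtPrime q.asIdeal) x) = 0 :=
        Ideal.Quotient.eq_zero_iff_mem.mpr (Ideal.mem_map_of_mem _ hx)
      rw [this]
      exact zero_mem _
    · change Ideal.comap _ P.asIdeal ≤ q.asIdeal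
      intro x hx
      by_contra hxq
      have hu : IsUnit (algebraMap A (Localization.AtPrime q.asIdeal) x) :=
        IsLocalization.map_units (Localization.AtPrime q.asIdeal) (⟨x, hxq⟩ : q.asIdeal.primeCompl)
      rw [Ideal.mem_comap, RingHom.comp_apply] at hx
      exact P.isPrime.ne_top (Ideal.eq_top_of_isUnit_mem _ hx (hu.map π))
  let f : PrimeSpectrum (Localization.AtPrime q.asIdeal ⧸
      p.asIdeal.map (algebraMap A (Localization.AtPrime q.asIdeal))) → Set.Icc p q :=
    fun P => ⟨_, hmem P⟩
  refine Order.krullDim_le_of_strictMono f ?_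
  refine Monotone.strictMono_of_injective ?_ ?_
  · intro P Q hPQ
    exact Ideal.comap_mono hPQ
  · intro P Q h
    exact hinj (congrArg Subtype.val h)

theorem depth_eq_top_of_subsingleton {R : Type u} [CommRing R] [IsLocalRing R] (M : Type u) [AddCommGroup M]
    [Module R M] [Subsingleton M] : LocCoh.depth R M = ⊤ := by
  rw [LocCoh.depth, LocCoh.idealDepth, if_pos]
  exact Subsingleton.elim _ _

/-- The annihilator input for `S0804`. -/
theorem exists_annihilator (A : Type u) [CommRing A] [IsNoetherianRing A]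
    (hA : ∃ ω : Dual.D A, Dual.IsDualizing A ω) (𝔞 p : Ideal A) [p.IsPrime] (hp : ¬ 𝔞 ≤ p) (d : ℕ)
    (h : ∀ (q : Ideal A) [q.IsPrime], p ≤ q → 𝔞 ≤ q → ((d + 1 : ℕ) : WithBot ℕ∞) < Formal2.dimBetween A p q) :
    ∃ f : A, f ∉ p ∧ ∀ l : ℕ, l ≤ d + 1 → ∀ x : LocCoh.H 𝔞 l (A ⧸ p), f • x = 0 := by
  refine Groth.Agent.S1765.result A hA 𝔞 (A ⧸ p) ⟨p, inferInstance⟩ hp (d + 1) ?_
  intro p' q hp' hq hpq
  by_cases hpp : p' = ⟨p, inferInstance⟩
  · subst hpp
    have h1 := h q.asIdeal hpq hq
    have h2 := dimBetween_le (⟨p, inferInstance⟩ : PrimeSpectrum A) q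
    have h3 : (0 : WithBot ℕ∞) ≤ ((LocCoh.depth (Localization.AtPrime p)
      (LocalizedModule p.primeCompl (A ⧸ p)) : ℕ∞) : WithBot ℕ∞) := by
      exact_mod_cast (zero_le : (0 : ℕ∞) ≤ _)
    refine (h1.trans_le h2).trans_le ?_
    exact le_add_of_nonneg_left h3
  · have hlt : ∃ a ∈ p, a ∉ p'.asIdeal := by
      by_contra hcon
      push Not at hcon
      exact hpp (le_antisymm hp' hcon)
    obtain ⟨a, hap, hap'⟩ := hlt
    have hsub : Subsingleton (LocalizedModule p'.asIdeal.primeCompl (A ⧸ p)) := by
      rw [LocalizedModule.subsingleton_iff]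
      intro m
      obtain ⟨b, rfl⟩ := Ideal.Quotient.mk_surjective m
      refine ⟨a, hap', ?_⟩
      have h5 : a • (Ideal.Quotient.mk p) b = Ideal.Quotient.mk p (a * b) := rfl
      rw [h5]
      exact Ideal.Quotient.eq_zero_iff_mem.mpr (p.mul_mem_right b hap)
    rw [depth_eq_top_of_subsingleton]
    have h4 : (0 : WithBot ℕ∞) ≤ Order.krullDim (Set.Icc p' q) := by
      have : Nonempty (Set.Icc p' q) := ⟨⟨p', le_rfl, hpq⟩⟩
      exact Order.krullDim_nonneg
    refine lt_of_lt_of_le ?_ (le_add_of_nonneg_right h4)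
    exact_mod_cast (ENat.natCast_lt_top (d + 1))

end Groth.Agent.FormalA.AnnDom
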