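import Mathlib.RingTheory.Ideal.AssociatedPrime.Finiteness
import Mathlib.LinearAlgebra.LinearIndependent.Lemmas
import Mathlib.Algebra.Module.Torsion.Basic
import Mathlib.RingTheory.Finiteness.Cardinality

/-!
# Filtrations by associated primes

For a class `P` of finite modules over a Noetherian ring which is stable under submodules and
extensions, `P M` holds as soon as `P (A ⧸ p)` holds for every ASSOCIATED prime `p` of `M`.
-/

set_option autoImplicit false
universe u

open Submodule

namespace Groth.Agent.FormalA.AssFil

/-- A finite torsion-free module over a domain embeds in a finite free module. -/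
theorem exists_embedding {D M : Type*} [CommRing D] [IsDomain D] [AddCommGroup M] [Module D M]
    [Module.Finite D M] (htf : ∀ (d : D) (m : M), d • m = 0 → d = 0 ∨ m = 0) :
    ∃ (n : ℕ) (f : M →ₗ[D] (Fin n → D)), Function.Injective f := by
  classical
  obtain ⟨n, v, hv⟩ := Module.Finite.exists_fin (R := D) (M := M)
  obtain ⟨I, hI, hmax⟩ := exists_maximal_linearIndepOn D v
  have h2 : ∀ i, ∃ a : D, a ≠ 0 ∧ a • v i ∈ span D (v '' I) := by
    intro i
    by_cases hi : i ∈ I
    · exact ⟨1, one_ne_zero, by rw [one_smul]; exact subset_span ⟨i, hi, rfl⟩⟩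
    · exact hmax i hi
  choose a ha ha' using h2
  have hd : (∏ i, a i) ≠ 0 := Finset.prod_ne_zero_iff.mpr fun i _ => ha i
  have hd' : ∀ m : M, (∏ i, a i) • m ∈ span D (v '' I) := by
    intro m
    have hm : m ∈ span D (Set.range v) := hv ▸ mem_top
    induction hm using span_induction with
    | mem x hx =>
      obtain ⟨i, rfl⟩ := hx
      rw [← Finset.prod_erase_mul _ _ (Finset.mem_univ i), mul_smul]
      exact Submodule.smul_mem _ _ (ha' i)
    | zero => simp
    | add x y _ _ hx hy => rw [smul_add]; exact add_mem hx hy
    | smul c x _ hx => rw [smul_comm]; exact Submodule.smul_mem _ _ hx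
  have hI' : LinearIndependent D (fun i : I => v i) := hI
  have hrange : Set.range (fun i : I => v i) = v '' I := by
    ext x; simp
  have hmem : ∀ m : M, (∏ i, a i) • m ∈ span D (Set.range (fun i : I => v i)) := by
    intro m; rw [hrange]; exact hd' m
  let φ : M →ₗ[D] span D (Set.range (fun i : I => v i)) :=
    LinearMap.codRestrict _ ((∏ i, a i) • LinearMap.id) hmem
  have hφ : Function.Injective φ := by
    rw [injective_iff_map_eq_zero]
    intro m hm
    have : (∏ i, a i) • m = 0 := congrArg Subtype.val hm
    exact (htf _ _ this).resolve_left hd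
  let ψ : (I →₀ D) →ₗ[D] (Fin n →₀ D) := Finsupp.lmapDomain D D Subtype.val
  have hψ : Function.Injective ψ := Finsupp.mapDomain_injective Subtype.val_injective
  refine ⟨n, (Finsupp.linearEquivFunOnFinite D D (Fin n)).toLinearMap ∘ₗ ψ ∘ₗ
    hI'.repr ∘ₗ φ, ?_⟩
  simp only [LinearMap.coe_comp, LinearEquiv.coe_coe]
  exact (LinearEquiv.injective _).comp
    (hψ.comp ((LinearMap.ker_eq_bot.mp hI'.repr_ker).comp hφ))

section
variable {A : Type u} [CommRing A] [IsNoetherianRing A]
  (P : (M : Type u) → [AddCommGroup M] → [Module A M] → Prop)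
  (hsub : ∀ (M N : Type u) [AddCommGroup M] [Module A M] [AddCommGroup N] [Module A N]
    [Module.Finite A N] (φ : M →ₗ[A] N), Function.Injective φ → P N → P M)
  (hext : ∀ (M₁ M M₂ : Type u) [AddCommGroup M₁] [Module A M₁] [AddCommGroup M] [Module A M]
    [AddCommGroup M₂] [Module A M₂] [Module.Finite A M₁] [Module.Finite A M] [Module.Finite A M₂]
    (f : M₁ →ₗ[A] M) (g : M →ₗ[A] M₂), Function.Injective f → Function.Exact f g →
    Function.Surjective g → P M₁ → P M₂ → P M)
  (hzero : ∀ (M : Type u) [AddCommGroup M] [Module A M] [Subsingleton M], P M)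

include hext in
theorem prod (M₁ M₂ : Type u) [AddCommGroup M₁] [Module A M₁] [AddCommGroup M₂] [Module A M₂]
    [Module.Finite A M₁] [Module.Finite A M₂] (h₁ : P M₁) (h₂ : P M₂) : P (M₁ × M₂) :=
  hext M₁ (M₁ × M₂) M₂ (LinearMap.inl A M₁ M₂) (LinearMap.snd A M₁ M₂) LinearMap.inl_injective
    .inl_snd Prod.snd_surjective h₁ h₂

include hsub hext hzero in
theorem pi (M : Type u) [AddCommGroup M] [Module A M] [Module.Finite A M] (h : P M) (n : ℕ) :
    P (Fin n → M) := by
  induction n with
  | zero => exact hzero _
  | succ n ih =>
    refine hsub _ (M × (Fin n → M))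
      ((LinearMap.proj 0).prod (LinearMap.funLeft A M Fin.succ)) ?_ (prod P hext _ _ h ih)
    intro f g hfg
    funext i
    refine Fin.cases ?_ (fun j => ?_) i
    · exact congrArg Prod.fst hfg
    · exact congrFun (congrArg Prod.snd hfg) j

include hsub hext hzero in
/-- The coprimary case. -/
theorem coprimary (p : Ideal A) [p.IsPrime] (hp : P (A ⧸ p)) (k : ℕ) :
    ∀ (N : Type u) [AddCommGroup N] [Module A N] [Module.Finite A N],
      (∀ a ∈ p ^ k, ∀ n : N, a • n = 0) → (∀ a ∉ p, ∀ n : N, a • n = 0 → n = 0) → P N := by
  induction k with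
  | zero =>
    intro N _ _ _ h0 _
    have : Subsingleton N := subsingleton_of_forall_eq 0 fun n => by
      simpa using h0 1 (by simp) n
    exact hzero _
  | succ k ih =>
    intro N _ _ _ h0 h1
    have hN : IsNoetherian A N := isNoetherian_of_isNoetherianRing_of_finite A N
    -- the `p`-torsion
    set N₁ : Submodule A N := torsionBySet A N p with hN₁
    have hmem : ∀ n : N, n ∈ N₁ ↔ ∀ a ∈ p, a • n = 0 := fun n => by
      rw [hN₁, mem_torsionBySet_iff]
      exact ⟨fun h a ha => h ⟨a, ha⟩, fun h a => h a.1 a.2⟩
    have hP₁ : P N₁ := by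
      have : Module.Finite (A ⧸ p) N₁ := Module.Finite.of_restrictScalars_finite A (A ⧸ p) N₁
      obtain ⟨n, f, hf⟩ := exists_embedding (D := A ⧸ p) (M := N₁) (by
        intro d m hdm
        obtain ⟨a, rfl⟩ := Ideal.Quotient.mk_surjective d
        by_cases ha : a ∈ p
        · exact Or.inl (Ideal.Quotient.eq_zero_iff_mem.mpr ha)
        · right
          have h2 : a • m = 0 := by
            rw [← hdm]; rfl
          have h3 : a • (m : N) = 0 := by
            rw [← Submodule.coe_smul, h2]; rfl
          exact Subtype.ext (h1 a ha _ h3))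
      exact hsub _ (Fin n → A ⧸ p) (f.restrictScalars A) hf (pi P hsub hext hzero _ hp n)
    obtain ⟨t, s, hs⟩ := Submodule.fg_iff_exists_fin_generating_family.mp
      (IsNoetherian.noetherian p)
    set N' : Submodule A N := p • (⊤ : Submodule A N) with hN'
    have hsmem : ∀ i, s i ∈ p := fun i => hs ▸ subset_span ⟨i, rfl⟩
    let g : N →ₗ[A] (Fin t → N') := LinearMap.pi fun i =>
      LinearMap.codRestrict N' (LinearMap.lsmul A N (s i)) fun n => by
        simpa using Submodule.smul_mem_smul (hsmem i) (mem_top (x := n))
    have hg : ∀ n : N, g n = 0 ↔ n ∈ N₁ := by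
      intro n
      rw [hmem]
      constructor
      · intro h a ha
        have h2 : ∀ i, s i • n = 0 := fun i => congrArg Subtype.val (congrFun h i)
        rw [← hs] at ha
        induction ha using span_induction with
        | mem x hx => obtain ⟨i, rfl⟩ := hx; exact h2 i
        | zero => simp
        | add x y _ _ hx hy => rw [add_smul, hx, hy, add_zero]
        | smul c x _ hx => rw [smul_eq_mul, mul_smul, hx, smul_zero]
      · intro h
        funext i
        exact Subtype.ext (h _ (hsmem i))
    have hPN' : P N' := by
      refine ih N' ?_ ?_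
      · intro a ha n
        apply Subtype.ext
        rw [Submodule.coe_smul, Submodule.coe_zero]
        have hn : (n : N) ∈ p • (⊤ : Submodule A N) := n.2
        refine Submodule.smul_induction_on hn (fun b hb m _ => ?_) (fun x y hx hy => ?_)
        · rw [← mul_smul]
          refine h0 _ ?_ m
          rw [pow_succ]
          exact Ideal.mul_mem_mul ha hb
        · rw [smul_add, hx, hy, add_zero]
      · intro a ha n hn
        apply Subtype.ext
        refine h1 a ha _ ?_
        rw [← Submodule.coe_smul, hn, Submodule.coe_zero]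
    have hPr : P (LinearMap.range g) :=
      hsub _ (Fin t → N') (LinearMap.range g).subtype (Submodule.injective_subtype _)
        (pi P hsub hext hzero _ hPN' t)
    refine hext N₁ N (LinearMap.range g) N₁.subtype g.rangeRestrict
      (Submodule.injective_subtype _) ?_ g.surjective_rangeRestrict hP₁ hPr
    intro n
    rw [← LinearMap.mem_ker, LinearMap.ker_rangeRestrict, LinearMap.mem_ker, hg n]
    simp

include hsub hext hzero in
/-- **Dévissage along associated primes.**  Let `P` be a property of modules over a Noetherian ring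
`A` which passes to submodules of finite modules and is stable under extensions of finite modules.
If `P (A ⧸ p)` for every associated prime `p` of the finite module `M`, then `P M`. -/
theorem assFiltration (M : Type u) [AddCommGroup M] [Module A M] [Module.Finite A M]
    (hass : ∀ p ∈ associatedPrimes A M, P (A ⧸ p)) : P M := by
  classical
  suffices H : ∀ (r : ℕ) (M : Type u) [AddCommGroup M] [Module A M] [Module.Finite A M],
      (associatedPrimes A M).ncard ≤ r → (∀ p ∈ associatedPrimes A M, P (A ⧸ p)) → P M from
    H _ M le_rfl hass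
  intro r
  induction r with
  | zero =>
    intro M _ _ _ hr _
    have h0 : associatedPrimes A M = ∅ :=
      (Set.ncard_eq_zero (associatedPrimes.finite A M)).mp (Nat.le_zero.mp hr)
    have : Subsingleton M := by
      by_contra hM
      rw [not_subsingleton_iff_nontrivial] at hM
      obtain ⟨x, hx⟩ := exists_ne (0 : M)
      obtain ⟨q, hq, -⟩ := exists_le_isAssociatedPrime_of_isNoetherianRing A x hx
      have : q ∈ associatedPrimes A M := hq
      rw [h0] at this
      exact this
    exact hzero _
  | succ r ih =>
    intro M _ _ _ hr hass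
    by_cases hne : (associatedPrimes A M).Nonempty
    swap
    · have : Subsingleton M := by
        by_contra hM
        rw [not_subsingleton_iff_nontrivial] at hM
        obtain ⟨x, hx⟩ := exists_ne (0 : M)
        obtain ⟨q, hq, -⟩ := exists_le_isAssociatedPrime_of_isNoetherianRing A x hx
        exact hne ⟨q, hq⟩
      exact hzero _
    obtain ⟨p, hpm⟩ := (associatedPrimes.finite A M).exists_maximal hne
    have hpA : p ∈ associatedPrimes A M := hpm.prop
    have hpp : p.IsPrime := hpA.1
    have hMN : IsNoetherian A M := isNoetherian_of_isNoetherianRing_of_finite A M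
    -- the `p`-power torsion
    let T : ℕ →o Submodule A M :=
      { toFun := fun k => torsionBySet A M ((p ^ k : Ideal A) : Set A)
        monotone' := fun i j hij => torsionBySet_le_torsionBySet_of_subset
          (Ideal.pow_le_pow_right hij) }
    obtain ⟨k, hk⟩ := monotone_stabilizes_iff_noetherian.mpr hMN T
    have hT : ∀ (j : ℕ) (x : M), x ∈ T j ↔ ∀ a ∈ p ^ j, a • x = 0 := fun j x => by
      change x ∈ torsionBySet A M ((p ^ j : Ideal A) : Set A) ↔ _
      rw [mem_torsionBySet_iff]
      exact ⟨fun h a ha => h ⟨a, ha⟩, fun h a => h a.1 a.2⟩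
    set N : Submodule A M := T k with hN
    have hPN : P N := by
      refine coprimary P hsub hext hzero p (hass p hpA) k N ?_ ?_
      · intro a ha n
        exact Subtype.ext ((hT k n.1).mp n.2 a ha)
      · intro a ha n hn
        by_contra hn0
        have hn0' : (n : M) ≠ 0 := fun h => hn0 (Subtype.ext h)
        obtain ⟨q, hq, hle⟩ := exists_le_isAssociatedPrime_of_isNoetherianRing A (n : M) hn0'
        have hqp : q.IsPrime := hq.1
        have hpk : p ^ k ≤ q := fun b hb => hle (by
          rw [mem_colon_singleton, mem_bot]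
          exact (hT k n.1).mp n.2 b hb)
        have hpq : p ≤ q := Ideal.IsPrime.le_of_pow_le hpk
        have hqp' : q ≤ p := hpm.le_of_ge hq hpq
        exact ha (hqp' (hle (by
          rw [mem_colon_singleton, mem_bot, ← Submodule.coe_smul, hn, Submodule.coe_zero])))
    have hsubset : associatedPrimes A (M ⧸ N) ⊆ associatedPrimes A M \ {p} := by
      intro q hq
      obtain ⟨hqp, x', hx'⟩ := isAssociatedPrime_iff.mp hq
      obtain ⟨x, rfl⟩ := N.mkQ_surjective x'
      have hmem : ∀ a : A, a ∈ q ↔ a • x ∈ N := fun a => by
        rw [hx', mem_colon_singleton, mem_bot, ← map_smul, Submodule.mkQ_apply,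
          Submodule.Quotient.mk_eq_zero]
      have hnot : ¬ p ≤ q := by
        intro hpq
        have hx : x ∈ T (k + 1) := by
          rw [hT, pow_succ]
          intro a ha
          refine Submodule.mul_induction_on ha (fun b hb c hc => ?_) (fun y z hy hz => ?_)
          · rw [mul_smul]
            exact (hT k _).mp ((hmem c).mp (hpq hc)) b hb
          · rw [add_smul, hy, hz, add_zero]
        have hx2 : x ∈ N := by
          rw [hk (k + 1) (Nat.le_succ k)]; exact hx
        exact hqp.ne_top ((Ideal.eq_top_iff_one q).mpr ((hmem 1).mpr (by rwa [one_smul])))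
      obtain ⟨a, hap, haq⟩ := SetLike.not_le_iff_exists.mp hnot
      have hak : a ^ k ∈ p ^ k := Ideal.pow_mem_pow hap k
      refine ⟨isAssociatedPrime_iff.mpr ⟨hqp, a ^ k • x, ?_⟩, fun h => hnot (h ▸ le_rfl)⟩
      ext c
      rw [mem_colon_singleton, mem_bot]
      constructor
      · intro hc
        rw [smul_comm]
        exact (hT k _).mp ((hmem c).mp hc) _ hak
      · intro hc
        have h2 : c * a ^ k ∈ q := by
          rw [hmem, mul_smul, hc]; exact zero_mem _
        rcases hqp.mem_or_mem h2 with h | h
        · exact h
        · exact absurd (hqp.mem_of_pow_mem _ h) haq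
    have hcard : (associatedPrimes A (M ⧸ N)).ncard ≤ r := by
      have hfin := associatedPrimes.finite A M
      have h1 : (associatedPrimes A (M ⧸ N)).ncard ≤ (associatedPrimes A M \ {p}).ncard :=
        Set.ncard_le_ncard hsubset hfin.sdiff
      have h2 := Set.ncard_sdiff_singleton_add_one hpA hfin
      omega
    have hPQ : P (M ⧸ N) := ih _ hcard fun q hq => hass q (hsubset hq).1
    exact hext N M (M ⧸ N) N.subtype N.mkQ (Submodule.injective_subtype _)
      (LinearMap.exact_subtype_mkQ N) N.mkQ_surjective hPN hPQ

end

end Groth.Agent.FormalA.AssFil
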