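import Groth.Agent.FormalA.PicPunct
import Groth.Agent.Ega4B.DepthTransfer
import Groth.Agent.Ega4B.DepthBasic
import Groth.Prelude.Def_Formal2

/-!
# The graded data of an invertible module on a punctured spectrum
-/

set_option autoImplicit false
set_option linter.unusedSectionVars false

universe u

open CategoryTheory CategoryTheory.Limits AlgebraicGeometry Opposite TopologicalSpace Formal2

namespace Groth.Agent.FormalA.PicPunct

open Groth.Agent.Fdesc.LocGen PicGeom PicCech PicCore

variable {A : Type u} [CommRing A] [IsLocalRing A]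

lemma isLocalRing_quot {f : A} (hf : f ∈ IsLocalRing.maximalIdeal A) :
    IsLocalRing (A ⧸ Ideal.span {f}) := by
  have : Nontrivial (A ⧸ Ideal.span {f}) := Ideal.Quotient.nontrivial_iff.mpr (by
    intro h
    have h1 : Ideal.span {f} ≤ IsLocalRing.maximalIdeal A := by
      rw [Ideal.span_le]; simpa using hf
    rw [h, top_le_iff] at h1
    exact (IsLocalRing.maximalIdeal.isMaximal A).ne_top h1)
  exact IsLocalRing.of_surjective' (Ideal.Quotient.mk _) Ideal.Quotient.mk_surjective

lemma two_le_depth_quot [IsNoetherianRing A] {f : A} (hf : f ∈ IsLocalRing.maximalIdeal A)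
    (hreg : ∀ a : A, f * a = 0 → a = 0) [IsLocalRing (A ⧸ Ideal.span {f})]
    (hdepth : (3 : ℕ∞) ≤ LocCoh.depth A A) :
    (2 : ℕ∞) ≤ LocCoh.depth (A ⧸ Ideal.span {f}) (A ⧸ Ideal.span {f}) := by
  have h1 : LocCoh.depth (A ⧸ Ideal.span {f}) (A ⧸ Ideal.span {f}) =
      LocCoh.depth A (A ⧸ Ideal.span {f}) :=
    Groth.Agent.Ega4B.DepthTransfer.depth_eq (Ideal.Quotient.mk (Ideal.span {f})) (AddEquiv.refl _)
      (fun _ _ => rfl) Ideal.Quotient.mk_surjective
  have h2 : IsSMulRegular A f := by
    rw [isSMulRegular_iff_right_eq_zero_of_smul]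
    exact fun a ha => hreg a ha
  have h3 := Groth.Agent.Ega4B.DepthBasic.depth_quotSMulTop_add_one A f hf h2
  have e : QuotSMulTop f A ≃ₗ[A] (A ⧸ Ideal.span {f}) :=
    Submodule.quotEquivOfEq _ _ (by
      ext x
      rw [Submodule.mem_smul_pointwise_iff_exists, Ideal.mem_span_singleton']
      constructor
      · rintro ⟨y, _, hy⟩
        exact ⟨y, by rw [← hy, smul_eq_mul, mul_comm]⟩
      · rintro ⟨y, hy⟩
        exact ⟨y, trivial, by rw [← hy, smul_eq_mul, mul_comm]⟩)
  have h4 := Groth.Agent.Ega4B.DepthBasic.depth_congr e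
  rw [h1, ← h4]
  rw [← h3] at hdepth
  have h5 : (2 : ℕ∞) + 1 ≤ LocCoh.depth A (QuotSMulTop f A) + 1 := by
    refine le_trans (le_of_eq ?_) hdepth
    norm_num
  exact (ENat.add_le_add_iff_right (by simp)).mp h5

lemma preimage_puncturedSpec {f : A} [IsLocalRing (A ⧸ Ideal.span {f})] :
    (Formal2.specQuotMap A f) ⁻¹ᵁ (FEt.puncturedSpec A) = FEt.puncturedSpec (A ⧸ Ideal.span {f}) := by
  ext x
  change (¬ _) ↔ (¬ _)
  rw [not_iff_not]
  have hloc : IsLocalHom (Ideal.Quotient.mk (Ideal.span {f})) :=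
    IsLocalHom.of_surjective _ Ideal.Quotient.mk_surjective
  constructor
  · intro h
    have h1 : Ideal.comap (Ideal.Quotient.mk (Ideal.span {f})) x.asIdeal =
        IsLocalRing.maximalIdeal A := congrArg PrimeSpectrum.asIdeal h
    have h2 : x.asIdeal = IsLocalRing.maximalIdeal (A ⧸ Ideal.span {f}) := by
      refine le_antisymm (IsLocalRing.le_maximalIdeal x.isPrime.ne_top) ?_
      intro y hy
      obtain ⟨a, rfl⟩ := Ideal.Quotient.mk_surjective y
      have h3 : a ∈ IsLocalRing.maximalIdeal A := by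
        rw [IsLocalRing.mem_maximalIdeal, mem_nonunits_iff] at hy ⊢
        exact fun hu => hy (hu.map _)
      rw [← h1] at h3
      exact h3
    exact PrimeSpectrum.ext h2
  · intro h
    have h0 : x = IsLocalRing.closedPoint (A ⧸ Ideal.span {f}) := h
    subst h0
    exact IsLocalRing.comap_closedPoint (Ideal.Quotient.mk (Ideal.span {f}))

/-- The graded data of an invertible module on the punctured spectrum which is trivial modulo `f`. -/
theorem exists_gdata [IsNoetherianRing A] {f : A} (hf : f ∈ IsLocalRing.maximalIdeal A)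
    (hreg : ∀ a : A, f * a = 0 → a = 0) (hdepth : (3 : ℕ∞) ≤ LocCoh.depth A A)
    {L : (↑(FEt.puncturedSpec A) : Scheme.{u}).Modules} (hL : PicF.IsInvertible L)
    (h₀ : Nonempty ((Scheme.Modules.pullback (Formal2.specQuotMap A f ∣_ FEt.puncturedSpec A)).obj L ≅
      Coh.structureModule _)) :
    ∃ (ρ : A ≃+* Γ((↑(FEt.puncturedSpec A) : Scheme.{u}), ⊤)) (C : Cov ρ L),
      Nonempty (GData A f C.B C.M) := by
  have := isLocalRing_quot hf
  have hA : (2 : ℕ∞) ≤ LocCoh.depth A A := le_trans (by norm_num) hdepth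
  have hA₀ := two_le_depth_quot hf hreg hdepth
  let U := FEt.puncturedSpec A
  let ρ := rho hA U rfl
  let U₀ := (Formal2.specQuotMap A f) ⁻¹ᵁ U
  let ρ₀ := rho hA₀ U₀ preimage_puncturedSpec
  obtain ⟨C, hC⟩ := exists_cov U ρ rfl hL
  obtain ⟨ψ⟩ := h₀
  have hgen : IsGen (sec ψ.inv ⊤) := (isIso_iff_isGen ψ.inv).mp inferInstance
  let R : C.Red (Formal2.specQuotMap A f ∣_ U) ρ₀ (Ideal.Quotient.mk (Ideal.span {f})) :=
    { compat := fun a => compat (Ideal.Quotient.mk (Ideal.span {f})) U a
      e₀ := sec ψ.inv ⊤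
      gen₀ := hgen }
  refine ⟨ρ, C, ⟨?_⟩⟩
  exact
    { fmem := hf
      inj := C.injective_algebraMap
      freg := fun x hx => C.smul_eq_zero hreg x hx
      mul_mem := fun hx hy => C.mul_mem hx hy
      mem_zero := C.mem_zero
      loc := fun p hp hpm => by
        obtain ⟨j, hj⟩ := hC ⟨p, hp⟩ (fun h => hpm (congrArg PrimeSpectrum.asIdeal h))
        exact C.exists_loc hp j hj
      φ := fun i =>
        { toFun := R.φf i
          map_add' := R.φf_add i
          map_smul' := fun a x => by
            rw [R.φf_smul]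
            rfl }
      φmul := fun i j k hk x y z h => R.φf_mul i j k hk x y z h
      φzero := fun a x h => R.φf_zero a x h
      φker := fun i x hx => R.φf_ker hreg (fun a ha => by
        rw [Ideal.Quotient.eq_zero_iff_mem, Ideal.mem_span_singleton] at ha
        exact ha) i x hx }

end Groth.Agent.FormalA.PicPunct
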