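import Groth.Agent.FormalA.PicFib
import Mathlib.RingTheory.Flat.EquationalCriterion
import Mathlib.RingTheory.RingHom.Flat

/-!
# Descent of triviality of line bundles along flat maps
-/

set_option autoImplicit false
set_option linter.unusedSectionVars false

universe u

open CategoryTheory CategoryTheory.Limits AlgebraicGeometry Opposite TopologicalSpace

namespace Groth.Agent.FormalA.PicCech

open Groth.Agent.Fdesc.LocGen PicGeom

variable {A : Type u} [CommRing A] {Y Y₀ : Scheme.{u}}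

namespace Cov

variable {ρ : A ≃+* Γ(Y, ⊤)} {L : Y.Modules} (C : Cov ρ L)
variable [CompactSpace Y] [QuasiSeparatedSpace Y]
variable {A₀ : Type u} [CommRing A₀] [CompactSpace Y₀] [QuasiSeparatedSpace Y₀]

namespace Red

variable {C} {g : Y₀ ⟶ Y} {ρ₀ : A₀ ≃+* Γ(Y₀, ⊤)} {π : A →+* A₀} (R : C.Red g ρ₀ π)

/-- The linear system with coefficients in `A` satisfied by the numerators of the comparison units. -/
lemma exists_numerators : ∃ (N : ℕ) (m : ℕ) (c' : C.J → C.J → A) (â : C.J → A₀),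
    (∀ j k, al (ρ : A →+* Γ(Y, ⊤)) (C.W j ⊓ C.W k) (c' j k) =
      al (ρ : A →+* Γ(Y, ⊤)) (C.W j ⊓ C.W k) (C.h j * C.h k) ^ N * C.c j k) ∧
    (∀ j, al (ρ₀ : A₀ →+* Γ(Y₀, ⊤)) (g ⁻¹ᵁ C.W j) (â j) =
      al (ρ₀ : A₀ →+* Γ(Y₀, ⊤)) (g ⁻¹ᵁ C.W j) (π (C.h j)) ^ N * R.γ j) ∧
    (∀ j k, π ((C.h j * C.h k) ^ m * ((C.h j * C.h k) ^ N * C.h k ^ N)) * â j =
      π ((C.h j * C.h k) ^ m * (C.h j ^ N * c' j k)) * â k) := by
  classical
  have h1 : ∀ jk : C.J × C.J, ∃ (n : ℕ) (a : A), al (ρ : A →+* Γ(Y, ⊤)) (C.W jk.1 ⊓ C.W jk.2) a =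
      al (ρ : A →+* Γ(Y, ⊤)) (C.W jk.1 ⊓ C.W jk.2) (C.h jk.1 * C.h jk.2) ^ n * C.c jk.1 jk.2 := by
    intro jk
    have hD : C.W jk.1 ⊓ C.W jk.2 = D (ρ : A →+* Γ(Y, ⊤)) (C.h jk.1 * C.h jk.2) := (D_mul _ _ _).symm
    obtain ⟨n, a, ha⟩ := exists_al_eq ρ (C.h jk.1 * C.h jk.2) (ores hD.ge (C.c jk.1 jk.2 : Γ(Y, _)))
    refine ⟨n, a, ?_⟩
    have := congrArg (ores hD.le) ha
    rw [ores_al, map_mul, map_pow, ores_al, ores_ores, ores_refl] at this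
    exact this
  have h2 : ∀ j : C.J, ∃ (n : ℕ) (a : A₀), al (ρ₀ : A₀ →+* Γ(Y₀, ⊤)) (g ⁻¹ᵁ C.W j) a =
      al (ρ₀ : A₀ →+* Γ(Y₀, ⊤)) (g ⁻¹ᵁ C.W j) (π (C.h j)) ^ n * R.γ j := by
    intro j
    obtain ⟨n, a, ha⟩ := exists_al_eq ρ₀ (π (C.h j)) (ores (R.preimage_W j).ge (R.γ j : Γ(Y₀, _)))
    refine ⟨n, a, ?_⟩
    have := congrArg (ores (R.preimage_W j).le) ha
    rw [ores_al, map_mul, map_pow, ores_al, ores_ores, ores_refl] at this
    exact this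
  choose n a hna using h1
  choose n' a' hna' using h2
  obtain ⟨N₁, hN₁⟩ := (Set.finite_range n).bddAbove
  obtain ⟨N₂, hN₂⟩ := (Set.finite_range n').bddAbove
  obtain ⟨N, hN, hN'⟩ : ∃ N, (∀ jk, n jk ≤ N) ∧ ∀ j, n' j ≤ N :=
    ⟨max N₁ N₂, fun jk => (hN₁ ⟨jk, rfl⟩).trans (le_max_left _ _),
      fun j => (hN₂ ⟨j, rfl⟩).trans (le_max_right _ _)⟩
  obtain ⟨c', hc'⟩ : ∃ c' : C.J → C.J → A, ∀ j k, al (ρ : A →+* Γ(Y, ⊤)) (C.W j ⊓ C.W k) (c' j k) =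
      al (ρ : A →+* Γ(Y, ⊤)) (C.W j ⊓ C.W k) (C.h j * C.h k) ^ N * C.c j k := by
    refine ⟨fun j k => (C.h j * C.h k) ^ (N - n (j, k)) * a (j, k), fun j k => ?_⟩
    rw [map_mul, hna (j, k), map_pow, ← mul_assoc, ← pow_add, Nat.sub_add_cancel (hN (j, k))]
  obtain ⟨â, hâ⟩ : ∃ â : C.J → A₀, ∀ j, al (ρ₀ : A₀ →+* Γ(Y₀, ⊤)) (g ⁻¹ᵁ C.W j) (â j) =
      al (ρ₀ : A₀ →+* Γ(Y₀, ⊤)) (g ⁻¹ᵁ C.W j) (π (C.h j)) ^ N * R.γ j := by
    refine ⟨fun j => π (C.h j) ^ (N - n' j) * a' j, fun j => ?_⟩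
    rw [map_mul, hna' j, map_pow, ← mul_assoc, ← pow_add, Nat.sub_add_cancel (hN' j)]
  have h3 : ∀ jk : C.J × C.J, ∃ m : ℕ, π (C.h jk.1 * C.h jk.2) ^ m *
      (π ((C.h jk.1 * C.h jk.2) ^ N * C.h jk.2 ^ N) * â jk.1 -
        π (C.h jk.1 ^ N * c' jk.1 jk.2) * â jk.2) = 0 := by
    rintro ⟨j, k⟩
    have hD : g ⁻¹ᵁ (C.W j ⊓ C.W k) = D (ρ₀ : A₀ →+* Γ(Y₀, ⊤)) (π (C.h j * C.h k)) := by
      rw [map_mul, D_mul, ← R.preimage_W, ← R.preimage_W]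
      rfl
    apply exists_pow_mul_eq_zero_A ρ₀
    have key : al (ρ₀ : A₀ →+* Γ(Y₀, ⊤)) (g ⁻¹ᵁ (C.W j ⊓ C.W k))
        (π ((C.h j * C.h k) ^ N * C.h k ^ N) * â j - π (C.h j ^ N * c' j k) * â k) = 0 := by
      have e1 := congrArg (ores (g.preimage_mono (inf_le_left : C.W j ⊓ C.W k ≤ C.W j))) (hâ j)
      have e2 := congrArg (ores (g.preimage_mono (inf_le_right : C.W j ⊓ C.W k ≤ C.W k))) (hâ k)
      have e3 := congrArg (gs g _) (hc' j k)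
      have e4 := congrArg (fun z : (Γ(Y₀, g ⁻¹ᵁ (C.W j ⊓ C.W k)))ˣ => (z : Γ(Y₀, g ⁻¹ᵁ (C.W j ⊓ C.W k))))
        (R.γ_rel j k)
      simp only [Units.val_mul, coe_ur, coe_ug] at e4
      rw [ores_al, map_mul, map_pow, ores_al] at e1 e2
      rw [R.gs_al, map_mul, map_pow, R.gs_al] at e3
      simp only [map_sub, map_mul, map_pow] at e1 e2 e3 ⊢
      rw [e1, e2, e3, e4]
      ring
    have := congrArg (ores hD.ge) key
    rwa [ores_al, map_zero] at this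
  choose m hm using h3
  obtain ⟨Q, hQ⟩ := (Set.finite_range m).bddAbove
  refine ⟨N, Q, c', â, hc', hâ, fun j k => ?_⟩
  have h4 : π (C.h j * C.h k) ^ Q *
      (π ((C.h j * C.h k) ^ N * C.h k ^ N) * â j - π (C.h j ^ N * c' j k) * â k) = 0 := by
    rw [← Nat.sub_add_cancel (hQ ⟨(j, k), rfl⟩), pow_add, mul_assoc, hm (j, k), mul_zero]
  rw [mul_sub, sub_eq_zero] at h4
  rw [map_mul, map_pow, mul_assoc, h4, ← mul_assoc, ← map_pow, ← map_mul]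

/-- The comparison units are combinations of twisted sections over the base. -/
lemma exists_combination (hflat : π.Flat) : ∃ (n : ℕ) (x : Fin n → C.M 1) (y : Fin n → A₀),
    ∀ j, (R.γ j : Γ(Y₀, g ⁻¹ᵁ C.W j)) =
      ∑ i, al (ρ₀ : A₀ →+* Γ(Y₀, ⊤)) (g ⁻¹ᵁ C.W j) (y i) * gs g _ ((x i : C.B) j) := by
  classical
  obtain ⟨N, m, c', â, hc', hâ, hrel⟩ := R.exists_numerators
  let _ := π.toAlgebra
  have : Module.Flat A A₀ := hflat
  have : Fintype C.J := Fintype.ofFinite _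
  have hu₀ : ∀ j k, IsUnit (al (ρ : A →+* Γ(Y, ⊤)) (C.W j ⊓ C.W k) (C.h j)) :=
    fun j k => isUnit_al _ inf_le_left
  have hu₁ : ∀ j k, IsUnit (al (ρ : A →+* Γ(Y, ⊤)) (C.W j ⊓ C.W k) (C.h k)) :=
    fun j k => isUnit_al _ inf_le_right
  have hu : ∀ j, IsUnit (al (ρ : A →+* Γ(Y, ⊤)) (C.W j) (C.h j)) := fun j => isUnit_al _ le_rfl
  let X : (C.J → A) →ₗ[A] A₀ := Fintype.linearCombination A â
  let P : C.J × C.J → A := fun jk => (C.h jk.1 * C.h jk.2) ^ m *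
    ((C.h jk.1 * C.h jk.2) ^ N * C.h jk.2 ^ N)
  let Q : C.J × C.J → A := fun jk => (C.h jk.1 * C.h jk.2) ^ m * (C.h jk.1 ^ N * c' jk.1 jk.2)
  let F : (C.J × C.J → A) →ₗ[A] (C.J → A) := Fintype.linearCombination A
    (fun jk => P jk • Pi.single jk.1 1 - Q jk • Pi.single jk.2 1)
  have hX : ∀ j, X (Pi.single j 1) = â j := fun j => by
    simp [X]
  have hXF : X ∘ₗ F = 0 := by
    refine LinearMap.pi_ext' (fun jk => LinearMap.ext_ring ?_)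
    change X (F (Pi.single jk 1)) = 0
    have : F (Pi.single jk 1) = P jk • Pi.single jk.1 1 - Q jk • Pi.single jk.2 1 := by
      simp [F]
    rw [this, map_sub, map_smul, map_smul, hX, hX, sub_eq_zero]
    exact hrel jk.1 jk.2
  obtain ⟨n, a, y, hxy, haf⟩ := Module.Flat.exists_factorization_of_comp_eq_zero_of_free hXF
  have hay : ∀ j, â j = ∑ i, π (a (Pi.single j 1) i) * y (Finsupp.single i 1) := by
    intro j
    rw [← hX j, hxy]
    change y (a (Pi.single j 1)) = _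
    conv_lhs => rw [← Finsupp.sum_single (a (Pi.single j 1))]
    rw [Finsupp.sum_fintype _ _ (by simp), map_sum]
    refine Finset.sum_congr rfl fun i _ => ?_
    rw [← mul_one (a (Pi.single j 1) i), ← smul_eq_mul, ← Finsupp.smul_single, map_smul, smul_eq_mul,
      mul_one]
    rfl
  have hrel' : ∀ i j k, (C.h j * C.h k) ^ m * ((C.h j * C.h k) ^ N * C.h k ^ N) * a (Pi.single j 1) i =
      (C.h j * C.h k) ^ m * (C.h j ^ N * c' j k) * a (Pi.single k 1) i := by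
    intro i j k
    have h1 := congrArg (fun z : (C.J × C.J → A) →ₗ[A] (Fin n →₀ A) => z (Pi.single (j, k) 1) i) haf
    have h2 : F (Pi.single (j, k) 1) = P (j, k) • Pi.single j 1 - Q (j, k) • Pi.single k 1 := by
      simp [F]
    simp only [LinearMap.comp_apply, h2, map_sub, map_smul, LinearMap.zero_apply, Finsupp.coe_zero,
      Pi.zero_apply, Finsupp.coe_sub, Pi.sub_apply, Finsupp.coe_smul, Pi.smul_apply, smul_eq_mul,
      sub_eq_zero] at h1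
    exact h1
  obtain ⟨x, hx0⟩ : ∃ x : Fin n → C.B, ∀ i j, al (ρ : A →+* Γ(Y, ⊤)) (C.W j) (C.h j) ^ N * x i j =
      al (ρ : A →+* Γ(Y, ⊤)) (C.W j) (a (Pi.single j 1) i) := by
    refine ⟨fun i j => (((hu j).pow N).unit⁻¹ : (Γ(Y, C.W j))ˣ) *
      al (ρ : A →+* Γ(Y, ⊤)) (C.W j) (a (Pi.single j 1) i), fun i j => ?_⟩
    rw [← mul_assoc, IsUnit.mul_val_inv, one_mul]
  have hx : ∀ i, x i ∈ C.M 1 := by
    intro i j k
    rw [zpow_one]
    have h1 := congrArg (al (ρ : A →+* Γ(Y, ⊤)) (C.W j ⊓ C.W k)) (hrel' i j k)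
    have e1 := congrArg (ores (inf_le_left : C.W j ⊓ C.W k ≤ C.W j)) (hx0 i j)
    have e2 := congrArg (ores (inf_le_right : C.W j ⊓ C.W k ≤ C.W k)) (hx0 i k)
    rw [ores_al, map_mul, map_pow, ores_al] at e1 e2
    have e3 := hc' j k
    simp only [map_mul, map_pow] at h1 e3
    rw [← e1, ← e2, e3] at h1
    have hU : IsUnit ((al (ρ : A →+* Γ(Y, ⊤)) (C.W j ⊓ C.W k) (C.h j) *
        al (ρ : A →+* Γ(Y, ⊤)) (C.W j ⊓ C.W k) (C.h k)) ^ m *
        ((al (ρ : A →+* Γ(Y, ⊤)) (C.W j ⊓ C.W k) (C.h j) *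
          al (ρ : A →+* Γ(Y, ⊤)) (C.W j ⊓ C.W k) (C.h k)) ^ N *
          (al (ρ : A →+* Γ(Y, ⊤)) (C.W j ⊓ C.W k) (C.h k) ^ N *
            al (ρ : A →+* Γ(Y, ⊤)) (C.W j ⊓ C.W k) (C.h j) ^ N))) :=
      (((hu₀ j k).mul (hu₁ j k)).pow m).mul ((((hu₀ j k).mul (hu₁ j k)).pow N).mul
        (((hu₁ j k).pow N).mul ((hu₀ j k).pow N)))
    refine hU.mul_left_cancel ?_
    linear_combination h1
  refine ⟨n, fun i => ⟨x i, hx i⟩, fun i => y (Finsupp.single i 1), fun j => ?_⟩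
  have hU : IsUnit (al (ρ₀ : A₀ →+* Γ(Y₀, ⊤)) (g ⁻¹ᵁ C.W j) (π (C.h j)) ^ N) := by
    rw [← R.gs_al]
    exact ((hu j).map (gs g (C.W j))).pow N
  refine hU.mul_left_cancel ?_
  rw [← hâ j, hay j, map_sum, Finset.mul_sum]
  refine Finset.sum_congr rfl fun i _ => ?_
  have e1 := congrArg (gs g (C.W j)) (hx0 i j)
  rw [map_mul, map_pow, R.gs_al, R.gs_al] at e1
  rw [map_mul, ← e1]
  ring

include R in
/-- Triviality of a line bundle descends along a flat surjective morphism (with local global functions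
upstairs). -/
theorem exists_mul_eq_one [IsLocalRing A₀] (hflat : π.Flat) (hg : Function.Surjective g) :
    ∃ s ∈ C.M 1, ∃ t : C.B, s * t = 1 := by
  classical
  obtain ⟨n, x, y, hxy⟩ := R.exists_combination hflat
  have h1 : ∑ i, y i * R.φf 1 (x i) = 1 := by
    refine R.al_ext fun j => ?_
    rw [map_sum, map_one]
    have : ∀ i, al (ρ₀ : A₀ →+* Γ(Y₀, ⊤)) (g ⁻¹ᵁ C.W j) (y i * R.φf 1 (x i)) =
        al (ρ₀ : A₀ →+* Γ(Y₀, ⊤)) (g ⁻¹ᵁ C.W j) (y i) * gs g _ ((x i : C.B) j) *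
          ((R.γ j)⁻¹ : (Γ(Y₀, g ⁻¹ᵁ C.W j))ˣ) := by
      intro i
      rw [map_mul, R.al_φf, loc, mul_assoc, zpow_neg, zpow_one]
    rw [Finset.sum_congr rfl (fun i _ => this i), ← Finset.sum_mul, ← hxy j, Units.mul_inv]
  obtain ⟨i, hi⟩ : ∃ i, IsUnit (y i * R.φf 1 (x i)) := by
    by_contra hcon
    push Not at hcon
    have h2 : (1 : A₀) ∈ IsLocalRing.maximalIdeal A₀ := by
      rw [← h1]
      exact Ideal.sum_mem _ fun i _ => (IsLocalRing.mem_maximalIdeal _).mpr (hcon i)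
    exact (Ideal.ne_top_iff_one _).mp (IsLocalRing.maximalIdeal.isMaximal A₀).ne_top h2
  have h3 : IsUnit (R.φf 1 (x i)) := isUnit_of_mul_isUnit_right hi
  have h4 : ∀ j, IsUnit (gs g (C.W j) ((x i : C.B) j)) := by
    intro j
    have h5 := R.al_φf 1 (x i) j
    have h6 : IsUnit (R.loc 1 (x i) j) := by
      rw [← h5]; exact h3.map _
    exact isUnit_of_mul_isUnit_left h6
  have h5 : ∀ j, IsUnit ((x i : C.B) j) := by
    intro j
    have h6 : Y₀.basicOpen (gs g (C.W j) ((x i : C.B) j)) = g ⁻¹ᵁ (C.W j) :=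
      Y₀.basicOpen_of_isUnit (h4 j)
    have h7 : g ⁻¹ᵁ (Y.basicOpen ((x i : C.B) j)) = g ⁻¹ᵁ (C.W j) := by
      rw [Scheme.preimage_basicOpen]
      exact h6
    have h8 : Y.basicOpen ((x i : C.B) j) = C.W j := by
      apply le_antisymm (Y.basicOpen_le _)
      intro z hz
      obtain ⟨w, rfl⟩ := hg z
      have : w ∈ g ⁻¹ᵁ (C.W j) := hz
      rw [← h7] at this
      exact this
    have h9 : IsUnit (ores (Y.basicOpen_le ((x i : C.B) j)) ((x i : C.B) j)) :=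
      Y.toRingedSpace.isUnit_res_basicOpen _
    have h10 := h9.map (ores h8.ge)
    rwa [ores_ores, ores_refl] at h10
  refine ⟨x i, (x i).2, fun j => ((h5 j).unit⁻¹ : (Γ(Y, C.W j))ˣ), ?_⟩
  funext j
  exact (h5 j).mul_val_inv

end Red

end Cov

end Groth.Agent.FormalA.PicCech
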