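import Groth.Agent.Pi1A.LefExt
import Groth.Agent.VarietyB.UfdPic
import Groth.Agent.Localalg.DepthLC
import Groth.Agent.Fdesc.LocGenPullback
import Groth.Agent.Fga.UnitRestrict
import Groth.Agent.Ega4B.DepthTransfer
import Groth.Agent.Ega4B.DepthBasic
import Groth.Agent.Ega4A.Depth
import Groth.Prelude.Def_Formal2
import Mathlib.RingTheory.AdicCompletion.LocalRing
import Mathlib.RingTheory.Ideal.KrullsHeightTheorem

/-!
# Ingredients for the Picard group of the punctured spectrum of a complete intersection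

* `picTrivial_of_isIso`: invariance of `Formal2.PicTrivial` under isomorphisms of schemes.
* `preimage_puncturedSpec`: the preimage of the punctured spectrum under `A → B` with
  `𝔪_A B = 𝔪_B` is the punctured spectrum.
* `ringKrullDim_eq_one_of_maximal`: a prime maximal among those not containing `f ∈ 𝔪`
  has `dim A/q = 1`.
* depth bookkeeping.
-/

set_option autoImplicit false
universe u

open CategoryTheory CategoryTheory.Limits AlgebraicGeometry TopologicalSpace IsLocalRing

namespace Groth.Agent.FormalA.CIPicAlg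

/-- Invariance of `PicTrivial`. -/
theorem picTrivial_of_isIso {X Y : Scheme.{u}} (g : X ⟶ Y) [IsIso g]
    (h : Formal2.PicTrivial X) : Formal2.PicTrivial Y := by
  intro L hL
  obtain ⟨e⟩ := h _ (Groth.Agent.Fdesc.LocGen.isInvertible_pullback g hL)
  have e1 : (Scheme.Modules.pullback (inv g)).obj ((Scheme.Modules.pullback g).obj L) ≅ L :=
    (Scheme.Modules.pullbackComp (inv g) g).app L ≪≫
      (Scheme.Modules.pullbackCongr (IsIso.inv_hom_id g)).app L ≪≫
        (Scheme.Modules.pullbackId Y).app L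
  exact ⟨e1.symm ≪≫ (Scheme.Modules.pullback (inv g)).mapIso e ≪≫
    Groth.Agent.Fga.UnitRestrict.pullbackUnitIso (inv g)⟩

/-- Preimage of the punctured spectrum. -/
theorem preimage_puncturedSpec {A B : Type u} [CommRing A] [CommRing B] [IsLocalRing A]
    [IsLocalRing B] (φ : A →+* B) [IsLocalHom φ]
    (h : maximalIdeal B ≤ (maximalIdeal A).map φ) :
    (Spec.map (CommRingCat.ofHom φ)) ⁻¹ᵁ (FEt.puncturedSpec A) = FEt.puncturedSpec B := by
  ext x
  change (¬ _) ↔ (¬ _)
  rw [not_iff_not]
  constructor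
  · intro hx
    have h1 : Ideal.comap φ x.asIdeal = maximalIdeal A := congrArg PrimeSpectrum.asIdeal hx
    have h2 : x.asIdeal = maximalIdeal B := by
      refine le_antisymm (le_maximalIdeal x.isPrime.ne_top) (h.trans ?_)
      rw [Ideal.map_le_iff_le_comap, h1]
    exact PrimeSpectrum.ext h2
  · intro hx
    have h0 : x = closedPoint B := hx
    subst h0
    exact comap_closedPoint φ

theorem le_map_of_surjective {A B : Type u} [CommRing A] [CommRing B] [IsLocalRing A]
    [IsLocalRing B] (φ : A →+* B) (hφ : Function.Surjective φ) :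
    maximalIdeal B ≤ (maximalIdeal A).map φ :=
  (map_maximalIdeal_of_surjective φ hφ).ge

/-- Transport of triviality of the Picard group of the punctured spectrum along an isomorphism. -/
theorem picTrivial_puncturedSpec_of_ringEquiv {A B : Type u} [CommRing A] [CommRing B]
    [IsLocalRing A] [IsLocalRing B] (e : A ≃+* B)
    (h : Formal2.PicTrivial (FEt.puncturedSpec A : Scheme.{u})) :
    Formal2.PicTrivial (FEt.puncturedSpec B : Scheme.{u}) := by
  let φ : A →+* B := e.toRingHom
  have hφ : Function.Surjective φ := e.surjective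
  have hloc : IsLocalHom φ := IsLocalHom.of_surjective φ hφ
  have hpre := preimage_puncturedSpec φ (le_map_of_surjective φ hφ)
  let g : Spec (CommRingCat.of B) ⟶ Spec (CommRingCat.of A) := Spec.map (CommRingCat.ofHom φ)
  have hφiso : IsIso (CommRingCat.ofHom φ) := by
    have : CommRingCat.ofHom φ = e.toCommRingCatIso.hom := rfl
    rw [this]; infer_instance
  have hg : IsIso g := inferInstance
  have h1 : IsIso (g ∣_ FEt.puncturedSpec A) := inferInstance
  have h2 := picTrivial_of_isIso (inv (g ∣_ FEt.puncturedSpec A)) h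
  have h3 : ∀ (U V : (Spec (CommRingCat.of B)).Opens), U = V →
      Formal2.PicTrivial (U : Scheme.{u}) → Formal2.PicTrivial (V : Scheme.{u}) := by
    rintro U V rfl h; exact h
  exact h3 _ _ hpre h2

/-- `dim A/q = 1` if `𝔪` is minimal over `q + (f)`, `f ∉ q`. -/
theorem ringKrullDim_eq_one_of_minimal {A : Type*} [CommRing A] [IsNoetherianRing A]
    [IsLocalRing A] (f : A) (hf : f ∈ maximalIdeal A) (q : Ideal A) [hq : q.IsPrime]
    (hfq : f ∉ q) (hmem : maximalIdeal A ∈ (q ⊔ Ideal.span {f}).minimalPrimes) :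
    ringKrullDim (A ⧸ q) = 1 := by
  have hqm : q ≤ maximalIdeal A := le_maximalIdeal hq.ne_top
  have hnt : Nontrivial (A ⧸ q) := Ideal.Quotient.nontrivial_iff.mpr hq.ne_top
  have hloc : IsLocalRing (A ⧸ q) :=
    IsLocalRing.of_surjective' (Ideal.Quotient.mk q) Ideal.Quotient.mk_surjective
  apply le_antisymm
  · have h1 := Ideal.map_height_le_one_of_mem_minimalPrimes hmem
    have h2 : (maximalIdeal A).map (Ideal.Quotient.mk q) = maximalIdeal (A ⧸ q) :=
      IsLocalRing.map_maximalIdeal_of_surjective _ Ideal.Quotient.mk_surjective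
    rw [h2] at h1
    rw [← IsLocalRing.maximalIdeal_height_eq_ringKrullDim]
    exact_mod_cast h1
  · have hlt : q < maximalIdeal A := lt_of_le_of_ne hqm (by
      rintro rfl
      exact hfq hf)
    have h1 := Groth.Agent.Ega4A.Depth.ringKrullDim_quotient_add_one_le_of_lt hlt
    have h2 : (0 : WithBot ℕ∞) ≤ ringKrullDim (A ⧸ maximalIdeal A) := by
      have : Nontrivial (A ⧸ maximalIdeal A) :=
        Ideal.Quotient.nontrivial_iff.mpr (maximalIdeal.isMaximal A).ne_top
      exact ringKrullDim_nonneg_of_nontrivial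
    calc (1 : WithBot ℕ∞) = 0 + 1 := by simp
      _ ≤ ringKrullDim (A ⧸ maximalIdeal A) + 1 := by gcongr
      _ ≤ _ := h1

/-- A prime which is maximal among the primes not containing `f ∈ 𝔪` has `dim A/q = 1`. -/
theorem ringKrullDim_eq_one_of_maximal {A : Type*} [CommRing A] [IsNoetherianRing A]
    [IsLocalRing A] (f : A) (hf : f ∈ maximalIdeal A) (q : Ideal A) [hq : q.IsPrime]
    (hfq : f ∉ q)
    (hmax : ∀ q' : Ideal A, q'.IsPrime → q ≤ q' → f ∉ q' → q' = q) :
    ringKrullDim (A ⧸ q) = 1 := by
  classical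
  have hqm : q ≤ maximalIdeal A := le_maximalIdeal hq.ne_top
  set J := q ⊔ Ideal.span {f} with hJ
  have hJm : J ≤ maximalIdeal A := sup_le hqm ((Ideal.span_singleton_le_iff_mem _).2 hf)
  have hfin : J.minimalPrimes.Finite := Ideal.finite_minimalPrimes_of_isNoetherianRing A J
  have hmem : maximalIdeal A ∈ J.minimalPrimes := by
    by_contra hcon
    have hnot : ¬ ((maximalIdeal A : Set A) ⊆
        ⋃ i ∈ (hfin.toFinset : Set (Ideal A)), ((i : Ideal A) : Set A)) := by
      intro hsub
      rw [Ideal.subset_union_prime (I := maximalIdeal A) (f := fun i : Ideal A => i)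
        (maximalIdeal A) (maximalIdeal A) (fun i hi _ _ =>
          ((hfin.mem_toFinset).1 hi).1.1)] at hsub
      obtain ⟨i, hi, hle⟩ := hsub
      have hi' := (hfin.mem_toFinset).1 hi
      have : i = maximalIdeal A :=
        ((maximalIdeal.isMaximal A).eq_of_le hi'.1.1.ne_top hle).symm
      rw [this] at hi'
      exact hcon hi'
    obtain ⟨h, hhm, hh⟩ := Set.not_subset.1 hnot
    have hh' : ∀ i ∈ J.minimalPrimes, h ∉ i := by
      intro i hi hhi
      apply hh
      simp only [Set.mem_iUnion]
      exact ⟨i, Finset.mem_coe.2 ((hfin.mem_toFinset).2 hi), hhi⟩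
    obtain ⟨P, hP, hPm⟩ := Ideal.exists_minimalPrimes_le
      (show q ⊔ Ideal.span {h} ≤ maximalIdeal A from
        sup_le hqm ((Ideal.span_singleton_le_iff_mem _).2 hhm))
    have hPprime : P.IsPrime := hP.1.1
    have hqP : q ≤ P := le_sup_left.trans hP.1.2
    have hhP : h ∈ P := hP.1.2 (Ideal.mem_sup_right (Ideal.mem_span_singleton_self h))
    have hfP : f ∈ P := by
      by_contra hfP
      have hPq := hmax P hPprime hqP hfP
      obtain ⟨i, hi, -⟩ := Ideal.exists_minimalPrimes_le hJm
      exact hh' i hi (hi.1.2 (Ideal.mem_sup_left (hPq ▸ hhP)))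
    have hJP : J ≤ P := sup_le hqP ((Ideal.span_singleton_le_iff_mem _).2 hfP)
    obtain ⟨Q, hQ, hQP⟩ := Ideal.exists_minimalPrimes_le hJP
    have hQprime : Q.IsPrime := hQ.1.1
    have hfQ : f ∈ Q := hQ.1.2 (Ideal.mem_sup_right (Ideal.mem_span_singleton_self f))
    have hqQ : q ≤ Q := le_sup_left.trans hQ.1.2
    have hne : Q < P := by
      refine lt_of_le_of_ne hQP ?_
      rintro rfl
      exact hh' _ hQ hhP
    -- heights in `A ⧸ q`
    have h1 := Ideal.map_height_le_one_of_mem_minimalPrimes hP
    have hker : RingHom.ker (Ideal.Quotient.mk q) = q := Ideal.mk_ker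
    have hP' : (P.map (Ideal.Quotient.mk q)).IsPrime :=
      Ideal.map_isPrime_of_surjective Ideal.Quotient.mk_surjective (by rw [hker]; exact hqP)
    have hQ' : (Q.map (Ideal.Quotient.mk q)).IsPrime :=
      Ideal.map_isPrime_of_surjective Ideal.Quotient.mk_surjective (by rw [hker]; exact hqQ)
    have hcomap : ∀ I : Ideal A, q ≤ I →
        (I.map (Ideal.Quotient.mk q)).comap (Ideal.Quotient.mk q) = I := by
      intro I hI
      rw [Ideal.comap_map_of_surjective _ Ideal.Quotient.mk_surjective,
        ← RingHom.ker_eq_comap_bot, hker, sup_eq_left.mpr hI]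
    have hlt : Q.map (Ideal.Quotient.mk q) < P.map (Ideal.Quotient.mk q) := by
      refine lt_of_le_of_ne (Ideal.map_mono hQP) ?_
      intro heq
      apply hne.ne
      rw [← hcomap Q hqQ, heq, hcomap P hqP]
    have h2 := Ideal.height_add_one_le_of_lt_of_isPrime hlt
    have h3 : (Q.map (Ideal.Quotient.mk q)).height = 0 := by
      have h4 := h2.trans h1
      by_contra hne0
      have h5 : 1 ≤ (Q.map (Ideal.Quotient.mk q)).height := Order.one_le_iff_ne_zero.mpr hne0
      have h6 : (1 : ℕ∞) + 1 ≤ 1 := (by gcongr : (1 : ℕ∞) + 1 ≤ _ + 1).trans h4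
      exact absurd h6 (by decide)
    rw [Ideal.height_eq_zero_iff_eq_bot] at h3
    have h4 := hcomap Q hqQ
    rw [h3, ← RingHom.ker_eq_comap_bot, hker] at h4
    exact hfq (h4 ▸ hfQ)
  exact ringKrullDim_eq_one_of_minimal f hf q hfq hmem

variable {A : Type u} [CommRing A] [IsLocalRing A]

lemma isLocalRing_quot {f : A} (hf : f ∈ maximalIdeal A) :
    IsLocalRing (A ⧸ Ideal.span {f}) := by
  have : Nontrivial (A ⧸ Ideal.span {f}) := Ideal.Quotient.nontrivial_iff.mpr (by
    intro h
    have h1 : Ideal.span {f} ≤ maximalIdeal A := by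
      rw [Ideal.span_le]; simpa using hf
    rw [h, top_le_iff] at h1
    exact (maximalIdeal.isMaximal A).ne_top h1)
  exact IsLocalRing.of_surjective' (Ideal.Quotient.mk _) Ideal.Quotient.mk_surjective

/-- Depth of `A/f` as an `A`-module. -/
lemma depth_quot_add_one [IsNoetherianRing A] {f : A} (hf : f ∈ maximalIdeal A)
    (hreg : IsSMulRegular A f) :
    LocCoh.depth A (A ⧸ Ideal.span {f}) + 1 = LocCoh.depth A A := by
  have h3 := Groth.Agent.Ega4B.DepthBasic.depth_quotSMulTop_add_one A f hf hreg
  have e : QuotSMulTop f A ≃ₗ[A] (A ⧸ Ideal.span {f}) :=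
    Submodule.quotEquivOfEq _ _ (by
      ext x
      rw [Submodule.mem_smul_pointwise_iff_exists, Ideal.mem_span_singleton']
      constructor
      · rintro ⟨y, _, hy⟩
        exact ⟨y, by rw [← hy, smul_eq_mul, mul_comm]⟩
      · rintro ⟨y, hy⟩
        exact ⟨y, trivial, by rw [← hy, smul_eq_mul, mul_comm]⟩)
  rw [← Groth.Agent.Ega4B.DepthBasic.depth_congr e, h3]

/-- Vanishing of the local cohomology of `A/f`. -/
lemma subsingleton_H_quot [IsNoetherianRing A] {f : A} (hf : f ∈ maximalIdeal A)
    (hreg : IsSMulRegular A f) {n : ℕ} (hn : ((n + 1 : ℕ) : ℕ∞) ≤ LocCoh.depth A A) (i : ℕ)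
    (hi : i < n) : Subsingleton (LocCoh.H (maximalIdeal A) i (A ⧸ Ideal.span {f})) := by
  apply Groth.Agent.Localalg.DepthLC.subsingleton_H_of_lt_idealDepth
  change (i : ℕ∞) < LocCoh.depth A (A ⧸ Ideal.span {f})
  rw [← depth_quot_add_one hf hreg] at hn
  have h1 : (n : ℕ∞) ≤ LocCoh.depth A (A ⧸ Ideal.span {f}) := by
    push_cast at hn
    exact (ENat.add_le_add_iff_right (by simp)).mp hn
  exact lt_of_lt_of_le (by exact_mod_cast hi) h1

/-- `depth A_p ≥ n` if `depth A ≥ n + 1` and `dim A/p = 1`. -/
lemma le_depth_localization [IsNoetherianRing A] {n : ℕ}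
    (hn : ((n + 1 : ℕ) : ℕ∞) ≤ LocCoh.depth A A) (p : Ideal A) [p.IsPrime]
    (hp : ringKrullDim (A ⧸ p) = 1) :
    (n : ℕ∞) ≤ LocCoh.depth (Localization.AtPrime p) (Localization.AtPrime p) := by
  have e : LocalizedModule p.primeCompl A ≃ₗ[Localization.AtPrime p] Localization.AtPrime p :=
    (IsLocalizedModule.linearEquiv p.primeCompl (LocalizedModule.mkLinearMap p.primeCompl A)
    (Algebra.linearMap A (Localization.AtPrime p))).extendScalarsOfIsLocalization p.primeCompl
      (Localization.AtPrime p)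
  have hnt : Nontrivial (LocalizedModule p.primeCompl A) := e.toEquiv.nontrivial
  have h1 := Groth.Agent.Ega4A.Depth.depth_le_depth_localizedModule_add (M := A) p
  rw [hp, Groth.Agent.Ega4B.DepthBasic.depth_congr e] at h1
  have h2 : ((n + 1 : ℕ) : ℕ∞) ≤
      LocCoh.depth (Localization.AtPrime p) (Localization.AtPrime p) + 1 := by
    refine hn.trans ?_
    exact_mod_cast h1
  push_cast at h2
  exact (ENat.add_le_add_iff_right (by simp)).mp h2

/-- The punctured spectrum of a regular local ring has trivial Picard group. -/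
theorem picTrivial_of_ufd (A : Type u) [CommRing A] [IsDomain A] [UniqueFactorizationMonoid A]
    [IsNoetherianRing A] [IsLocalRing A] :
    Formal2.PicTrivial (FEt.puncturedSpec A : Scheme.{u}) := by
  have h1 : NoetherianSpace (Spec (CommRingCat.of A)) :=
    inferInstanceAs (NoetherianSpace (PrimeSpectrum A))
  have h2 : NoetherianSpace (FEt.puncturedSpec A : Scheme.{u}) :=
    ((FEt.puncturedSpec A).ι.isOpenEmbedding.isInducing).noetherianSpace
  exact Groth.Agent.VarietyB.UfdOpens.picTrivial (FEt.puncturedSpec A).ι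

end Groth.Agent.FormalA.CIPicAlg
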