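import Groth.Agent.FormalA.TildeOpen

/-!
# Pullback of `tilde M` to `V(I)`, over an open
-/

set_option autoImplicit false
universe u

open AlgebraicGeometry CategoryTheory CategoryTheory.Limits Opposite TopologicalSpace

namespace Groth.Agent.FormalA.TildeQuot

open Groth.Agent Groth.Agent.Fdesc.LocGen TildeOpen

variable {A B : Type u} [CommRing A] [CommRing B] (q : A →+* B) (hq : Function.Surjective q)

open scoped ChangeOfRings TensorProduct

section

variable (M : ModuleCat.{u} A) (P : ModuleCat.{u} B)
  (ψ : M ⟶ (ModuleCat.restrictScalars q).obj P)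

/-- the map `B ⊗ M → P` attached to `ψ : M → P` -/
noncomputable def ext : (ModuleCat.extendScalars q).obj M ⟶ P :=
  ((ModuleCat.extendRestrictScalarsAdj q).homEquiv M P).symm ψ

/-- `1 ⊗ x` -/
noncomputable def one (x : M) : (ModuleCat.extendScalars q).obj M :=
  ((ModuleCat.extendRestrictScalarsAdj q).unit.app M) x

theorem ext_one (x : M) : ext q M P ψ (one q M x) = ψ x := by
  have h : (ModuleCat.extendRestrictScalarsAdj q).homEquiv M P (ext q M P ψ) = ψ :=
    Equiv.apply_symm_apply _ _
  exact congr(($h) x)

theorem one_smul' (a : A) (x : M) : one q M (a • x) = q a • one q M x := by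
  exact (((ModuleCat.extendRestrictScalarsAdj q).unit.app M).hom.map_smul a x)

theorem one_add (x y : M) : one q M (x + y) = one q M x + one q M y := by
  exact (((ModuleCat.extendRestrictScalarsAdj q).unit.app M).hom.map_add x y)

include hq in
theorem exists_one (z : (ModuleCat.extendScalars q).obj M) : ∃ x : M, z = one q M x := by
  let m1 : Module A B := Module.compHom B q
  have key : ∀ z : ((ModuleCat.restrictScalars q).obj (ModuleCat.of B B)) ⊗[A] M,
      ∃ x : M, z = (show (ModuleCat.extendScalars q).obj M from one q M x) := by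
    intro z
    induction z using TensorProduct.induction_on with
    | zero => exact ⟨0, ((((ModuleCat.extendRestrictScalarsAdj q).unit.app M).hom.map_zero)).symm⟩
    | tmul b m =>
      obtain ⟨a, rfl⟩ := hq b
      refine ⟨a • m, ?_⟩
      rw [one_smul']
      change _ = q a • (show (ModuleCat.extendScalars q).obj M from (1 : B) ⊗ₜ[A,q] m)
      refine Eq.symm ((ModuleCat.ExtendScalars.smul_tmul q (q a) 1 m).trans ?_)
      rw [mul_one]
      rfl
    | add z w hz hw =>
      obtain ⟨x, rfl⟩ := hz
      obtain ⟨y, rfl⟩ := hw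
      exact ⟨x + y, (one_add q M x y).symm⟩
  exact key z

include hq in
/-- If `M → P` has kernel `(ker q) M` and `g i`-torsion cokernel, then the pullback of `M~` agrees with
`P~` over `⋃ D(g i)`. -/
theorem nonempty_iso {ι : Type*} (g : ι → B) (V : (Spec (CommRingCat.of B)).Opens)
    (hV : V ≤ ⨆ i, PrimeSpectrum.basicOpen (g i))
    (hk : ∀ x : M, ψ x = 0 → x ∈ (RingHom.ker q • ⊤ : Submodule A M))
    (h : ∀ (i : ι) (y : P), ∃ (k : ℕ) (x : M), g i ^ k • y = ψ x) :
    Nonempty ((Scheme.Modules.restrictFunctor V.ι).obj ((Scheme.Modules.pullback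
      (Spec.map (CommRingCat.ofHom q))).obj (tilde (R := CommRingCat.of A) M)) ≅
        (Scheme.Modules.restrictFunctor V.ι).obj (tilde (R := CommRingCat.of B) P)) := by
  have h1 : ∀ x : M, x ∈ (RingHom.ker q • ⊤ : Submodule A M) → one q M x = 0 := by
    intro x hx
    induction hx using Submodule.smul_induction_on' with
    | smul a ha n hn =>
      rw [one_smul', show q a = 0 from ha, zero_smul]
    | add x hx y hy h1 h2 => rw [one_add, h1, h2, add_zero]
  let θ : (ModuleCat.extendScalars q).obj M ⟶ P := ext q M P ψ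
  have h2 : IsIso ((Scheme.Modules.restrictFunctor V.ι).map
      (tilde.map (R := CommRingCat.of B) θ)) := by
    refine isIso_restrict_map' (R := CommRingCat.of B) θ g V hV (fun i z hz => ⟨0, ?_⟩) fun i y => ?_
    · obtain ⟨x, rfl⟩ := exists_one q hq M z
      rw [h1 x (hk x ((ext_one q M P ψ x).symm.trans hz)), smul_zero]
    · obtain ⟨k, x, hx⟩ := h i y
      exact ⟨k, one q M x, hx.trans (ext_one q M P ψ x).symm⟩
  exact ⟨(Scheme.Modules.restrictFunctor V.ι).mapIso
    ((Smoothlim.TildePull.pullTildeIso (CommRingCat.ofHom q)).app M) ≪≫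
      @asIso _ _ _ _ _ h2⟩

end

end Groth.Agent.FormalA.TildeQuot
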