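import Groth.Agent.FormalA.AlgLift
import Groth.Agent.FormalA.AlgFree
import Groth.Agent.FormalA.TildeQuot
import Groth.Agent.Localalg.LCInst
import Groth.Prelude.Def_Formal2

/-!
# Lifting invertible modules from `U ∩ V(f)` to a neighbourhood in the punctured spectrum
-/

set_option autoImplicit false
universe u

open AlgebraicGeometry CategoryTheory CategoryTheory.Limits Opposite TopologicalSpace

namespace Groth.Agent.FormalA.PicLift

open Groth.Agent Groth.Agent.Fdesc.LocGen TildeOpen TildeQuot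

section basics

variable {A : Type u} [CommRing A]

/-- The basic open of an element. -/
abbrev D (s : A) : (Spec (CommRingCat.of A)).Opens := PrimeSpectrum.basicOpen s

/-- The open where a module is free of rank one, generated by an element. -/
noncomputable def freeOpen (m : Ideal A) (M : Type u) [AddCommGroup M] [Module A M] :
    (Spec (CommRingCat.of A)).Opens :=
  ⨆ s : {s : A // s ∈ m ∧ ∃ x : M, (∀ y, ∃ a : A, s • y = a • x) ∧ ∀ a : A, a • x = 0 → s * a = 0},
    D s.1

theorem mem_freeOpen {m : Ideal A} {M : Type u} [AddCommGroup M] [Module A M]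
    {y : Spec (CommRingCat.of A)} : y ∈ freeOpen m M ↔ ∃ s : A, s ∈ m ∧
      (∃ x : M, (∀ y, ∃ a : A, s • y = a • x) ∧ ∀ a : A, a • x = 0 → s * a = 0) ∧
      y ∈ D s := by
  rw [freeOpen, Opens.mem_iSup]
  constructor
  · rintro ⟨⟨s, hs, hx⟩, hy⟩
    exact ⟨s, hs, hx, hy⟩
  · rintro ⟨s, hs, hx, hy⟩
    exact ⟨⟨s, hs, hx⟩, hy⟩

theorem isInvertible_freeOpen (m : Ideal A) (M : Type u) [AddCommGroup M] [Module A M] :
    PicF.IsInvertible ((tilde (R := CommRingCat.of A) (ModuleCat.of A M)).restrict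
      (freeOpen m M).ι) := by
  rw [isInvertible_iff]
  intro y
  obtain ⟨s, hs, ⟨x, h1, h2⟩, hy⟩ := mem_freeOpen.1 y.2
  have hle : D s ≤ freeOpen m M := by
    intro z hz
    exact mem_freeOpen.2 ⟨s, hs, ⟨x, h1, h2⟩, hz⟩
  have hgen := Ega4dA.SpecGen.isGen_sec (R := CommRingCat.of A) (M := ModuleCat.of A M) (f := s)
    (m := x) (fun r hr => ⟨1, by rw [pow_one]; exact h2 r hr⟩)
    (fun m' => by
      obtain ⟨a, ha⟩ := h1 m'
      exact ⟨1, a, by rw [pow_one]; exact ha⟩)
  have himg : (freeOpen m M).ι ''ᵁ ((freeOpen m M).ι ⁻¹ᵁ (D s)) = D s := by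
    rw [Scheme.Hom.image_preimage_eq_opensRange_inf, Scheme.Opens.opensRange_ι]
    exact inf_eq_right.2 hle
  refine ⟨(freeOpen m M).ι ⁻¹ᵁ (D s), toRestrict (freeOpen m M).ι
    (res _ himg.le (Ega4dA.SpecGen.sec (R := CommRingCat.of A) (M := ModuleCat.of A M)
      (D s) x)), hy, ?_⟩
  rw [isGen_toRestrict_iff, isGen_congr himg]
  exact hgen

end basics

/-- A finite set of elements whose basic opens cover. -/
theorem exists_finite_family {A : Type u} [CommRing A] [IsNoetherianRing A] (m : Ideal A) [m.IsPrime]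
    (G : Set A) (hGm : G ⊆ m) (hG : ∀ p : Ideal A, p.IsPrime → G ⊆ p → m ≤ p) :
    ∃ (n : ℕ) (g : Fin n → A), (∀ i, g i ∈ G) ∧ m.radical = (Ideal.span (Set.range g)).radical := by
  obtain ⟨t, htG, ht⟩ := (Submodule.fg_span_iff_fg_span_finset_subset G).1
    (IsNoetherian.noetherian (Ideal.span G))
  refine ⟨t.card, fun i => (t.equivFin.symm i : A), fun i => htG (t.equivFin.symm i).2, ?_⟩
  have hr : Set.range (fun i => (t.equivFin.symm i : A)) = t := by
    ext x
    constructor
    · rintro ⟨i, rfl⟩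
      exact (t.equivFin.symm i).2
    · intro hx
      exact ⟨t.equivFin ⟨x, hx⟩, by simp⟩
  rw [hr]
  have ht' : Ideal.span (t : Set A) = Ideal.span G := ht.symm
  rw [ht']
  apply le_antisymm
  · rw [Ideal.radical_le_radical_iff, Ideal.radical_eq_sInf (Ideal.span G)]
    refine le_sInf fun p hp => hG p hp.2 (Ideal.subset_span.trans hp.1)
  · exact Ideal.radical_mono (Ideal.span_le.2 hGm)

end Groth.Agent.FormalA.PicLift
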