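import Groth.Agent.FormalA.CIPicAlg
import Groth.Agent.Ega4dA.ParaExt
import Groth.Agent.S0811

/-!
# Surjectivity of restriction of invertible modules to `V(f)` on punctured spectra (Stacks 0F2F)
-/

set_option autoImplicit false
set_option linter.unusedSectionVars false
universe u

open CategoryTheory CategoryTheory.Limits AlgebraicGeometry TopologicalSpace IsLocalRing
open Groth.Agent.FormalA.CIPicAlg

namespace Groth.Agent.FormalA.PicExtFin

section Alg

variable {A : Type u} [CommRing A] [IsNoetherianRing A] [IsLocalRing A] (f : A)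
  (hf : f ∈ maximalIdeal A) {Z : Set (PrimeSpectrum A)} (hZ : IsClosed Z)
  (h : ∀ p ∈ Z, f ∈ p.asIdeal → p = closedPoint A) {p : PrimeSpectrum A} (hp : p ∈ Z)
  (hpm : p ≠ closedPoint A)

include hf hZ h hp hpm

theorem notMem : f ∉ p.asIdeal := fun hfp => hpm (h p hp hfp)

theorem dim_eq_one : ringKrullDim (A ⧸ p.asIdeal) = 1 := by
  refine ringKrullDim_eq_one_of_minimal f hf p.asIdeal (notMem f hf hZ h hp hpm) ?_
  refine ⟨⟨inferInstance, sup_le (le_maximalIdeal p.isPrime.ne_top)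
    ((Ideal.span_singleton_le_iff_mem _).2 hf)⟩, ?_⟩
  rintro q ⟨hq, hle⟩ -
  have hmem : (⟨q, hq⟩ : PrimeSpectrum A) ∈ Z :=
    ((PrimeSpectrum.le_iff_specializes p ⟨q, hq⟩).1 (le_sup_left.trans hle)).mem_closed hZ hp
  have h1 := h _ hmem (hle (Ideal.mem_sup_right (Ideal.mem_span_singleton_self f)))
  have h2 : q = maximalIdeal A := congrArg PrimeSpectrum.asIdeal h1
  exact h2.ge

theorem eq_of_le (y : PrimeSpectrum A) (hpy : p.asIdeal ≤ y.asIdeal) (hy : y ≠ closedPoint A) :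
    y = p := by
  by_contra hne
  have hdim := dim_eq_one f hf hZ h hp hpm
  have h1 : p.asIdeal < y.asIdeal := lt_of_le_of_ne hpy fun h => hne (PrimeSpectrum.ext h.symm)
  have h2 : y.asIdeal < maximalIdeal A :=
    lt_of_le_of_ne (le_maximalIdeal y.isPrime.ne_top) fun h => hy (PrimeSpectrum.ext h)
  have h3 := Groth.Agent.Ega4A.Depth.ringKrullDim_quotient_add_one_le_of_lt h1
  have h4 := Groth.Agent.Ega4A.Depth.ringKrullDim_quotient_add_one_le_of_lt h2
  have h5 : (0 : WithBot ℕ∞) ≤ ringKrullDim (A ⧸ maximalIdeal A) := by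
    have : Nontrivial (A ⧸ maximalIdeal A) :=
      Ideal.Quotient.nontrivial_iff.mpr (maximalIdeal.isMaximal A).ne_top
    exact ringKrullDim_nonneg_of_nontrivial
  have h6 : (1 : WithBot ℕ∞) + 1 ≤ 1 := by
    calc (1 : WithBot ℕ∞) + 1 = 0 + 1 + 1 := by simp
      _ ≤ ringKrullDim (A ⧸ maximalIdeal A) + 1 + 1 := by gcongr
      _ ≤ ringKrullDim (A ⧸ y.asIdeal) + 1 := by gcongr
      _ ≤ ringKrullDim (A ⧸ p.asIdeal) := h3
      _ = 1 := hdim
  exact absurd h6 (by decide)

omit hp hpm in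
theorem finite_diff : {x : PrimeSpectrum A | x ∈ Z ∧ x ≠ closedPoint A}.Finite := by
  have h1 : (PrimeSpectrum.vanishingIdeal Z).minimalPrimes.Finite :=
    Ideal.finite_minimalPrimes_of_isNoetherianRing A _
  refine (h1.preimage (f := PrimeSpectrum.asIdeal)
    (fun a _ b _ hab => PrimeSpectrum.ext hab)).subset ?_
  rintro x ⟨hx, hxm⟩
  have h2 : PrimeSpectrum.vanishingIdeal Z ≤ x.asIdeal := by
    have h3 : x ∈ PrimeSpectrum.zeroLocus (PrimeSpectrum.vanishingIdeal Z : Set A) := by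
      rw [PrimeSpectrum.zeroLocus_vanishingIdeal_eq_closure]
      exact subset_closure hx
    exact h3
  obtain ⟨P, hP, hPx⟩ := Ideal.exists_minimalPrimes_le h2
  have hPprime : P.IsPrime := hP.1.1
  have hPZ : (⟨P, hPprime⟩ : PrimeSpectrum A) ∈ Z := by
    have h3 : (⟨P, hPprime⟩ : PrimeSpectrum A) ∈
        PrimeSpectrum.zeroLocus (PrimeSpectrum.vanishingIdeal Z : Set A) := hP.1.2
    rw [PrimeSpectrum.zeroLocus_vanishingIdeal_eq_closure, hZ.closure_eq] at h3
    exact h3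
  have hPm : (⟨P, hPprime⟩ : PrimeSpectrum A) ≠ closedPoint A := by
    intro heq
    apply hxm
    have h3 : P = maximalIdeal A := congrArg PrimeSpectrum.asIdeal heq
    refine PrimeSpectrum.ext (le_antisymm (le_maximalIdeal x.isPrime.ne_top) ?_)
    rw [h3] at hPx
    exact hPx
  have h4 := eq_of_le f hf hZ h hPZ hPm x hPx hxm
  change x.asIdeal ∈ (PrimeSpectrum.vanishingIdeal Z).minimalPrimes
  rw [h4]
  exact hP

end Alg

/-- Stacks 0F2F. -/
theorem picPullbackSurjective (A : Type u) [CommRing A] [IsNoetherianRing A] [IsLocalRing A]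
    (f : A) (hf : f ∈ IsLocalRing.maximalIdeal A) [IsAdicComplete (Ideal.span {f}) A]
    (hnzd : f ∈ nonZeroDivisors A)
    (h₁ : Module.Finite A (LocCoh.H (IsLocalRing.maximalIdeal A) 1 (A ⧸ Ideal.span {f})))
    (h₂ : Module.Finite A (LocCoh.H (IsLocalRing.maximalIdeal A) 2 (A ⧸ Ideal.span {f})))
    (h₃ : Subsingleton (LocCoh.H (IsLocalRing.maximalIdeal A) 3 (A ⧸ Ideal.span {f})))
    (h₅ : ∀ (q : Ideal A) [q.IsPrime], f ∉ q →
      (∀ (q' : Ideal A), q'.IsPrime → q ≤ q' → f ∉ q' → q' = q) →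
      Formal2.PicTrivial (↑(FEt.puncturedSpec (Localization.AtPrime q)) : Scheme.{u})) :
    Formal2.PicPullbackSurjective (Formal2.specQuotMap A f ∣_ FEt.puncturedSpec A) := by
  intro L₀ hL₀
  obtain ⟨U', hU', hpre, L, hL, ⟨e⟩⟩ := Groth.Agent.S0811.result A f hf hnzd h₁ h₂ h₃ L₀ hL₀
  let Z : Set (PrimeSpectrum A) := ((U' : Set (Spec (CommRingCat.of A))))ᶜ
  have hZ : IsClosed Z := U'.isOpen.isClosed_compl
  have hZf : ∀ p ∈ Z, f ∈ p.asIdeal → p = closedPoint A := by
    intro p hp hfp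
    by_contra hpm
    have h1 : p ∈ Set.range (PrimeSpectrum.comap (Ideal.Quotient.mk (Ideal.span {f}))) := by
      rw [range_comap_of_surjective _ _ Ideal.Quotient.mk_surjective, Ideal.mk_ker]
      exact (Ideal.span_singleton_le_iff_mem _).2 hfp
    obtain ⟨y, rfl⟩ := h1
    have h2 : (show Spec (CommRingCat.of (A ⧸ Ideal.span {f})) from y) ∈
        Formal2.specQuotMap A f ⁻¹ᵁ FEt.puncturedSpec A := hpm
    exact hp (hpre h2)
  obtain ⟨M, hM, ⟨e'⟩⟩ := Groth.Agent.Ega4dA.ParaExt.exists_extension_spec A (FEt.puncturedSpec A)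
    U' hU' (finite_diff f hf hZ hZf |>.subset fun x hx => ⟨hx.2, hx.1⟩)
    (fun x hxU hx y hyU hxy => eq_of_le f hf hZ hZf hx hxU y hxy hyU)
    (fun x hxU hx => h₅ x.asIdeal (notMem f hf hZ hZf hx hxU) (fun q' hq' hle hfq' => by
      have h1 := eq_of_le f hf hZ hZf hx hxU ⟨q', hq'⟩ hle (by
        intro heq
        have h2 : q' = maximalIdeal A := congrArg PrimeSpectrum.asIdeal heq
        rw [h2] at hfq'
        exact hfq' hf)
      exact congrArg PrimeSpectrum.asIdeal h1)) L hL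
  refine ⟨M, hM, ⟨?_⟩⟩
  have hcomp : Formal2.specQuotMap A f ∣_ FEt.puncturedSpec A =
      (Formal2.specQuotMap A f).resLE U' _ hpre ≫ (Spec (CommRingCat.of A)).homOfLE hU' := by
    rw [Scheme.Hom.resLE_map, Scheme.Hom.resLE_eq_morphismRestrict]
  exact (Scheme.Modules.pullbackCongr hcomp).app M ≪≫
    (Scheme.Modules.pullbackComp _ _).symm.app M ≪≫
      (Scheme.Modules.pullback _).mapIso
        ((Scheme.Modules.restrictFunctorIsoPullback
          ((Spec (CommRingCat.of A)).homOfLE hU')).symm.app M ≪≫ e') ≪≫ e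

end Groth.Agent.FormalA.PicExtFin
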