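import Groth.Agent.FormalA.CechSub
import Groth.Agent.Localalg.InjDecomp

set_option autoImplicit false

/-!
# Čech acyclicity of injective modules over a Noetherian ring

`good_of_injective`: for `g : ι → A` (`ι` finite) and `E` injective over Noetherian `A`, the Čech
complex of `E` for the submonoids `powers (g i)` is exact in degrees `0, 1, 2` (with augmentation `E`).
-/

universe u

namespace Groth.Agent.FormalA.CechInj

open CechSub LocSub

variable {A : Type u} [CommRing A]

/-- `g` acts bijectively or locally nilpotently on `N`. -/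
def Dec (g : A) (N : Type u) [AddCommGroup N] [Module A N] : Prop :=
  (Function.Bijective fun n : N => g • n) ∨ ∀ n : N, ∃ k : ℕ, g ^ k • n = 0

theorem bijective_pow {g : A} {N : Type u} [AddCommGroup N] [Module A N]
    (h : Function.Bijective fun n : N => g • n) (s : A) (hs : s ∈ Submonoid.powers g) :
    Function.Bijective fun n : N => s • n := by
  obtain ⟨k, rfl⟩ := hs
  induction k with
  | zero =>
    have : (fun n : N => g ^ 0 • n) = id := by funext n; simp
    change Function.Bijective (fun n : N => g ^ 0 • n)
    rw [this]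
    exact Function.bijective_id
  | succ k ih =>
    have : (fun n : N => g ^ (k + 1) • n) = (fun n : N => g ^ k • n) ∘ fun n : N => g • n := by
      funext n
      simp [pow_succ, mul_smul]
    change Function.Bijective (fun n : N => g ^ (k + 1) • n)
    rw [this]
    exact ih.comp h

theorem Dec.of_isCompl {g : A} {E : Type u} [AddCommGroup E] [Module A E] (h : Dec g E)
    {N N' : Submodule A E} (hN : IsCompl N N') : Dec g N := by
  rcases h with h | h
  · refine Or.inl ⟨fun x y hxy => Subtype.ext (h.1 (congrArg Subtype.val hxy)), fun y => ?_⟩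
    obtain ⟨x, hx⟩ := h.2 y.1
    obtain ⟨a, ha, b, hb, rfl⟩ := Submodule.mem_sup.1
      (show x ∈ N ⊔ N' from hN.sup_eq_top ▸ Submodule.mem_top)
    refine ⟨⟨a, ha⟩, Subtype.ext ?_⟩
    change g • a = y.1
    have h1 : g • b ∈ N ⊓ N' := by
      refine ⟨?_, N'.smul_mem _ hb⟩
      have : g • b = y.1 - g • a := by rw [← hx]; change g • b = g • (a + b) - g • a; rw [smul_add]; abel
      rw [this]
      exact N.sub_mem y.2 (N.smul_mem _ ha)
    rw [hN.inf_eq_bot, Submodule.mem_bot] at h1
    rw [← hx]
    change g • a = g • (a + b)
    rw [smul_add, h1, add_zero]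
  · refine Or.inr fun n => ?_
    obtain ⟨k, hk⟩ := h n.1
    exact ⟨k, Subtype.ext hk⟩

theorem mem_torsion_iff {g : A} {E : Type u} [AddCommGroup E] [Module A E] (x : E) :
    x ∈ (⨆ n : ℕ, Submodule.torsionBySet A E (((Ideal.span {g}) ^ n : Ideal A) : Set A)) ↔
      ∃ k : ℕ, g ^ k • x = 0 := by
  have hmono : Monotone fun n : ℕ =>
      Submodule.torsionBySet A E (((Ideal.span {g}) ^ n : Ideal A) : Set A) := by
    intro m n hmn
    exact Submodule.torsionBySet_le_torsionBySet_of_subset (Ideal.pow_le_pow_right hmn)
  rw [Submodule.mem_iSup_of_directed _ hmono.directed_le]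
  refine exists_congr fun k => ?_
  rw [Submodule.mem_torsionBySet_iff]
  constructor
  · intro h
    exact h ⟨g ^ k, Ideal.pow_mem_pow (Ideal.mem_span_singleton_self g) k⟩
  · rintro h ⟨a, ha⟩
    rw [Ideal.span_singleton_pow, SetLike.mem_coe, Ideal.mem_span_singleton] at ha
    obtain ⟨b, rfl⟩ := ha
    change (g ^ k * b) • x = 0
    rw [mul_comm, mul_smul, h, smul_zero]

theorem bijective_of_injective {g : A} {E : Type u} [AddCommGroup E] [Module A E]
    (hE : Module.Injective A E) (hg : Function.Injective fun n : E => g • n) :
    Function.Bijective fun n : E => g • n := by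
  refine ⟨hg, fun x => ?_⟩
  let φ : A →ₗ[A] A := LinearMap.mulLeft A g
  have hker : ∀ a : A, g * a = 0 → a • x = 0 := by
    intro a ha
    apply hg
    change g • a • x = g • (0 : E)
    rw [← mul_smul, ha, zero_smul, smul_zero]
  let ψ : (Ideal.span {g} : Ideal A) →ₗ[A] E :=
    { toFun := fun y => (Ideal.mem_span_singleton'.1 y.2).choose • x
      map_add' := by
        intro y z
        have hy := (Ideal.mem_span_singleton'.1 y.2).choose_spec
        have hz := (Ideal.mem_span_singleton'.1 z.2).choose_spec
        have hyz := (Ideal.mem_span_singleton'.1 (y + z).2).choose_spec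
        rw [← add_smul, ← sub_eq_zero, ← sub_smul]
        apply hker
        rw [mul_sub, mul_add, mul_comm g, hyz, mul_comm g, hy, mul_comm g, hz]
        simp
      map_smul' := by
        intro a y
        have hy := (Ideal.mem_span_singleton'.1 y.2).choose_spec
        have hay := (Ideal.mem_span_singleton'.1 (a • y).2).choose_spec
        rw [RingHom.id_apply, smul_smul, ← sub_eq_zero, ← sub_smul]
        apply hker
        rw [mul_sub, mul_comm g, hay, mul_left_comm, mul_comm g, hy]
        simp }
  obtain ⟨h, hh⟩ := Module.Baer.of_injective hE (Ideal.span {g}) ψ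
  refine ⟨h 1, ?_⟩
  have h1 := hh g (Ideal.mem_span_singleton_self g)
  change g • h 1 = x
  rw [← map_smul, smul_eq_mul, mul_one, h1]
  have hs := (Ideal.mem_span_singleton'.1 (Ideal.mem_span_singleton_self g)).choose_spec
  change (Ideal.mem_span_singleton'.1 (Ideal.mem_span_singleton_self g)).choose • x = x
  rw [← sub_eq_zero]
  nth_rewrite 2 [← one_smul A x]
  rw [← sub_smul]
  apply hker
  rw [mul_sub, mul_comm g, hs]
  simp

variable [IsNoetherianRing A] {ι : Type*} [Finite ι]

theorem good_of_injective_aux (g : ι → A) (T : Finset ι) :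
    ∀ (E : Type u) [AddCommGroup E] [Module A E], Module.Injective A E →
      (∀ i ∉ T, Dec (g i) E) → Good (fun i => Submonoid.powers (g i)) E := by
  classical
  induction T using Finset.induction_on with
  | empty =>
    intro E _ _ hE hdec
    by_cases h : ∃ i, Function.Bijective fun n : E => g i • n
    · obtain ⟨i, hi⟩ := h
      exact Good.of_bijective _ i fun s hs => bijective_pow hi s hs
    · push Not at h
      refine Good.of_torsion _ fun i n => ?_
      obtain ⟨k, hk⟩ := ((hdec i (by simp)).resolve_left (h i)) n
      exact ⟨g i ^ k, ⟨k, rfl⟩, hk⟩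
  | insert i T hi ih =>
    intro E _ _ hE hdec
    -- split off the `g i`-power torsion
    let Γ : Submodule A E :=
      ⨆ n : ℕ, Submodule.torsionBySet A E (((Ideal.span {g i}) ^ n : Ideal A) : Set A)
    have hΓ : Module.Injective A Γ :=
      Groth.Agent.Localalg.InjDecomp.injective_powerTorsion E hE (Ideal.span {g i})
    obtain ⟨r, hr⟩ := hΓ.out Γ.subtype Γ.injective_subtype LinearMap.id
    have hcompl : IsCompl Γ (LinearMap.ker r) :=
      LinearMap.isCompl_of_proj (f := r) hr
    have hE' : Module.Injective A (LinearMap.ker r) :=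
      Groth.Agent.Localalg.InjDecomp.injective_of_isCompl hE hcompl.symm
    have hmem : ∀ x : E, x ∈ Γ ↔ ∃ k : ℕ, g i ^ k • x = 0 := fun x => mem_torsion_iff x
    have h1 : Good (fun i => Submonoid.powers (g i)) Γ := by
      refine ih Γ hΓ fun j hj => ?_
      by_cases hji : j = i
      · subst hji
        refine Or.inr fun n => ?_
        obtain ⟨k, hk⟩ := (hmem n.1).1 n.2
        exact ⟨k, Subtype.ext hk⟩
      · exact (hdec j (by simp [hji, hj])).of_isCompl hcompl
    have h2 : Good (fun i => Submonoid.powers (g i)) (LinearMap.ker r) := by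
      refine ih (LinearMap.ker r) hE' fun j hj => ?_
      by_cases hji : j = i
      · subst hji
        refine Or.inl (bijective_of_injective hE' ?_)
        have : ∀ n : LinearMap.ker r, g j • n = 0 → n = 0 := by
          intro n hn
          have h3 : n.1 ∈ Γ := (hmem n.1).2 ⟨1, by rw [pow_one]; exact congrArg Subtype.val hn⟩
          have h4 : n.1 ∈ Γ ⊓ LinearMap.ker r := ⟨h3, n.2⟩
          rw [hcompl.inf_eq_bot, Submodule.mem_bot] at h4
          exact Subtype.ext h4
        intro a b hab
        rw [← sub_eq_zero]
        apply this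
        rw [smul_sub, sub_eq_zero]
        exact hab
      · exact (hdec j (by simp [hji, hj])).of_isCompl hcompl.symm
    have hker : ∀ x : E, (LinearMap.id - Γ.subtype ∘ₗ r : E →ₗ[A] E) x ∈ LinearMap.ker r := by
      intro x
      rw [LinearMap.mem_ker, LinearMap.sub_apply, map_sub, LinearMap.comp_apply, hr]
      simp
    refine Good.of_sum _ Γ.subtype r (LinearMap.ker r).subtype
      (LinearMap.codRestrict (LinearMap.ker r) (LinearMap.id - Γ.subtype ∘ₗ r : E →ₗ[A] E) hker)
      (fun x => ?_) h1 h2
    simp

/-- Injective modules over a Noetherian ring are Čech acyclic. -/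
theorem good_of_injective (g : ι → A) (E : Type u) [AddCommGroup E] [Module A E]
    (hE : Module.Injective A E) : Good (fun i => Submonoid.powers (g i)) E := by
  classical
  cases nonempty_fintype ι
  exact good_of_injective_aux g Finset.univ E hE fun i hi => absurd (Finset.mem_univ i) hi

end Groth.Agent.FormalA.CechInj
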