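import Groth.Agent.FormalA.LocSub
import Mathlib.LinearAlgebra.Pi
import Mathlib.Tactic.Abel
import Mathlib.Tactic.Ring

set_option autoImplicit false

/-!
# Low degree Čech complex of a module for a family of submonoids

For `S : ι → Submonoid A`: `C0 N = ∏ N_{S i}`, `C1 N = ∏ N_{S i ⊔ S j}`, `C2 N`, `C3 N` with the
differentials `d0, d1, d2`, functoriality `map0 … map3`, exactness, and `Good S N`: exactness of
`N → C0 → C1 → C2 → C3` at `C0`, `C1`, `C2`.
-/

namespace Groth.Agent.FormalA.CechSub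

open LocSub

variable {A : Type*} [CommRing A] {ι : Type*} (S : ι → Submonoid A)

section Defs

variable (N : Type*) [AddCommGroup N] [Module A N]

/-- Čech `0`-cochains. -/
abbrev C0 := ∀ i : ι, LocalizedModule (S i) N
/-- Čech `1`-cochains. -/
abbrev C1 := ∀ i j : ι, LocalizedModule (S i ⊔ S j) N
/-- Čech `2`-cochains. -/
abbrev C2 := ∀ i j k : ι, LocalizedModule (S i ⊔ S j ⊔ S k) N
/-- Čech `3`-cochains. -/
abbrev C3 := ∀ i j k l : ι, LocalizedModule (S i ⊔ S j ⊔ S k ⊔ S l) N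

end Defs

theorem le12 (i j : ι) : S i ≤ S i ⊔ S j := le_sup_left
theorem le22 (i j : ι) : S j ≤ S i ⊔ S j := le_sup_right
theorem le123 (i j k : ι) : S i ⊔ S j ≤ S i ⊔ S j ⊔ S k := le_sup_left
theorem le133 (i j k : ι) : S i ⊔ S k ≤ S i ⊔ S j ⊔ S k :=
  sup_le (le_sup_left.trans le_sup_left) le_sup_right
theorem le233 (i j k : ι) : S j ⊔ S k ≤ S i ⊔ S j ⊔ S k :=
  sup_le (le_sup_right.trans le_sup_left) le_sup_right
theorem le1234 (i j k l : ι) : S i ⊔ S j ⊔ S k ≤ S i ⊔ S j ⊔ S k ⊔ S l := le_sup_left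
theorem le1244 (i j k l : ι) : S i ⊔ S j ⊔ S l ≤ S i ⊔ S j ⊔ S k ⊔ S l :=
  sup_le (le_sup_left.trans le_sup_left) le_sup_right
theorem le1344 (i j k l : ι) : S i ⊔ S k ⊔ S l ≤ S i ⊔ S j ⊔ S k ⊔ S l :=
  sup_le ((le133 S i j k).trans le_sup_left) le_sup_right
theorem le2344 (i j k l : ι) : S j ⊔ S k ⊔ S l ≤ S i ⊔ S j ⊔ S k ⊔ S l :=
  sup_le ((le233 S i j k).trans le_sup_left) le_sup_right

section Diff

variable {N N' N'' : Type*} [AddCommGroup N] [Module A N] [AddCommGroup N'] [Module A N']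
  [AddCommGroup N''] [Module A N'']

/-- The augmentation. -/
noncomputable def ε : N →ₗ[A] C0 S N := LinearMap.pi fun i => LocalizedModule.mkLinearMap (S i) N

/-- The first differential. -/
noncomputable def d0 : C0 S N →ₗ[A] C1 S N :=
  LinearMap.pi fun i => LinearMap.pi fun j =>
    res (le22 S i j) ∘ₗ LinearMap.proj j - res (le12 S i j) ∘ₗ LinearMap.proj i

/-- The second differential. -/
noncomputable def d1 : C1 S N →ₗ[A] C2 S N :=
  LinearMap.pi fun i => LinearMap.pi fun j => LinearMap.pi fun k =>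
    res (le233 S i j k) ∘ₗ LinearMap.proj k ∘ₗ LinearMap.proj j -
      res (le133 S i j k) ∘ₗ LinearMap.proj k ∘ₗ LinearMap.proj i +
      res (le123 S i j k) ∘ₗ LinearMap.proj j ∘ₗ LinearMap.proj i

/-- The third differential. -/
noncomputable def d2 : C2 S N →ₗ[A] C3 S N :=
  LinearMap.pi fun i => LinearMap.pi fun j => LinearMap.pi fun k => LinearMap.pi fun l =>
    res (le2344 S i j k l) ∘ₗ LinearMap.proj l ∘ₗ LinearMap.proj k ∘ₗ LinearMap.proj j -
      res (le1344 S i j k l) ∘ₗ LinearMap.proj l ∘ₗ LinearMap.proj k ∘ₗ LinearMap.proj i +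
      res (le1244 S i j k l) ∘ₗ LinearMap.proj l ∘ₗ LinearMap.proj j ∘ₗ LinearMap.proj i -
      res (le1234 S i j k l) ∘ₗ LinearMap.proj k ∘ₗ LinearMap.proj j ∘ₗ LinearMap.proj i

theorem ε_apply (n : N) (i : ι) : ε S n i = LocalizedModule.mkLinearMap (S i) N n := rfl

theorem d0_apply (x : C0 S N) (i j : ι) :
    d0 S x i j = res (le22 S i j) (x j) - res (le12 S i j) (x i) := rfl

theorem d1_apply (x : C1 S N) (i j k : ι) :
    d1 S x i j k = res (le233 S i j k) (x j k) - res (le133 S i j k) (x i k) +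
      res (le123 S i j k) (x i j) := rfl

theorem d2_apply (x : C2 S N) (i j k l : ι) :
    d2 S x i j k l = res (le2344 S i j k l) (x j k l) - res (le1344 S i j k l) (x i k l) +
      res (le1244 S i j k l) (x i j l) - res (le1234 S i j k l) (x i j k) := rfl

theorem d0_ε (n : N) : d0 S (ε S n) = 0 := by
  funext i j
  rw [d0_apply, ε_apply, ε_apply, res_mkLinearMap, res_mkLinearMap, sub_self]
  rfl

theorem d1_d0 (x : C0 S N) : d1 S (d0 S x) = 0 := by
  funext i j k
  simp only [d1_apply, d0_apply, map_sub, res_res]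
  change _ = (0 : LocalizedModule _ N)
  abel

theorem d2_d1 (x : C1 S N) : d2 S (d1 S x) = 0 := by
  funext i j k l
  simp only [d2_apply, d1_apply, map_sub, map_add, res_res]
  change _ = (0 : LocalizedModule _ N)
  abel

/-- Functoriality in degree `0`. -/
noncomputable def map0 (φ : N →ₗ[A] N') : C0 S N →ₗ[A] C0 S N' :=
  LinearMap.pi fun i => lmap _ φ ∘ₗ LinearMap.proj i

/-- Functoriality in degree `1`. -/
noncomputable def map1 (φ : N →ₗ[A] N') : C1 S N →ₗ[A] C1 S N' :=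
  LinearMap.pi fun i => LinearMap.pi fun j => lmap _ φ ∘ₗ LinearMap.proj j ∘ₗ LinearMap.proj i

/-- Functoriality in degree `2`. -/
noncomputable def map2 (φ : N →ₗ[A] N') : C2 S N →ₗ[A] C2 S N' :=
  LinearMap.pi fun i => LinearMap.pi fun j => LinearMap.pi fun k =>
    lmap _ φ ∘ₗ LinearMap.proj k ∘ₗ LinearMap.proj j ∘ₗ LinearMap.proj i

/-- Functoriality in degree `3`. -/
noncomputable def map3 (φ : N →ₗ[A] N') : C3 S N →ₗ[A] C3 S N' :=
  LinearMap.pi fun i => LinearMap.pi fun j => LinearMap.pi fun k => LinearMap.pi fun l =>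
    lmap _ φ ∘ₗ LinearMap.proj l ∘ₗ LinearMap.proj k ∘ₗ LinearMap.proj j ∘ₗ LinearMap.proj i

theorem map0_apply (φ : N →ₗ[A] N') (x : C0 S N) (i : ι) : map0 S φ x i = lmap _ φ (x i) := rfl
theorem map1_apply (φ : N →ₗ[A] N') (x : C1 S N) (i j : ι) :
    map1 S φ x i j = lmap _ φ (x i j) := rfl
theorem map2_apply (φ : N →ₗ[A] N') (x : C2 S N) (i j k : ι) :
    map2 S φ x i j k = lmap _ φ (x i j k) := rfl
theorem map3_apply (φ : N →ₗ[A] N') (x : C3 S N) (i j k l : ι) :
    map3 S φ x i j k l = lmap _ φ (x i j k l) := rfl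

theorem map0_ε (φ : N →ₗ[A] N') (n : N) : map0 S φ (ε S n) = ε S (φ n) := by
  funext i
  rw [map0_apply, ε_apply, ε_apply, lmap_mkLinearMap]

theorem map1_d0 (φ : N →ₗ[A] N') (x : C0 S N) : map1 S φ (d0 S x) = d0 S (map0 S φ x) := by
  funext i j
  simp only [map1_apply, d0_apply, map0_apply, map_sub, res_lmap]

theorem map2_d1 (φ : N →ₗ[A] N') (x : C1 S N) : map2 S φ (d1 S x) = d1 S (map1 S φ x) := by
  funext i j k
  simp only [map2_apply, d1_apply, map1_apply, map_sub, map_add, res_lmap]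

theorem map3_d2 (φ : N →ₗ[A] N') (x : C2 S N) : map3 S φ (d2 S x) = d2 S (map2 S φ x) := by
  funext i j k l
  simp only [map3_apply, d2_apply, map2_apply, map_sub, map_add, res_lmap]

theorem map0_comp (φ : N →ₗ[A] N') (ψ : N' →ₗ[A] N'') (x : C0 S N) :
    map0 S ψ (map0 S φ x) = map0 S (ψ ∘ₗ φ) x := by
  funext i; simp only [map0_apply, lmap_comp]
theorem map1_comp (φ : N →ₗ[A] N') (ψ : N' →ₗ[A] N'') (x : C1 S N) :
    map1 S ψ (map1 S φ x) = map1 S (ψ ∘ₗ φ) x := by
  funext i j; simp only [map1_apply, lmap_comp]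
theorem map2_comp (φ : N →ₗ[A] N') (ψ : N' →ₗ[A] N'') (x : C2 S N) :
    map2 S ψ (map2 S φ x) = map2 S (ψ ∘ₗ φ) x := by
  funext i j k; simp only [map2_apply, lmap_comp]

theorem map0_injective (φ : N →ₗ[A] N') (h : Function.Injective φ) :
    Function.Injective (map0 S φ) := fun x y hxy => by
  funext i
  exact lmap_injective φ h (congr_fun hxy i)
theorem map1_injective (φ : N →ₗ[A] N') (h : Function.Injective φ) :
    Function.Injective (map1 S φ) := fun x y hxy => by
  funext i j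
  exact lmap_injective φ h (congr_fun (congr_fun hxy i) j)
theorem map2_injective (φ : N →ₗ[A] N') (h : Function.Injective φ) :
    Function.Injective (map2 S φ) := fun x y hxy => by
  funext i j k
  exact lmap_injective φ h (congr_fun (congr_fun (congr_fun hxy i) j) k)
theorem map3_injective (φ : N →ₗ[A] N') (h : Function.Injective φ) :
    Function.Injective (map3 S φ) := fun x y hxy => by
  funext i j k l
  exact lmap_injective φ h (congr_fun (congr_fun (congr_fun (congr_fun hxy i) j) k) l)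

theorem map0_surjective (φ : N →ₗ[A] N') (h : Function.Surjective φ) :
    Function.Surjective (map0 S φ) := fun y => by
  choose x hx using fun i => lmap_surjective φ h (y i)
  exact ⟨x, funext hx⟩
theorem map1_surjective (φ : N →ₗ[A] N') (h : Function.Surjective φ) :
    Function.Surjective (map1 S φ) := fun y => by
  choose x hx using fun i j => lmap_surjective φ h (y i j)
  exact ⟨x, funext fun i => funext fun j => hx i j⟩
theorem map2_surjective (φ : N →ₗ[A] N') (h : Function.Surjective φ) :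
    Function.Surjective (map2 S φ) := fun y => by
  choose x hx using fun i j k => lmap_surjective φ h (y i j k)
  exact ⟨x, funext fun i => funext fun j => funext fun k => hx i j k⟩

theorem map0_exact (φ : N →ₗ[A] N') (ψ : N' →ₗ[A] N'') (h : Function.Exact φ ψ) (y : C0 S N')
    (hy : map0 S ψ y = 0) : ∃ x, map0 S φ x = y := by
  choose x hx using fun i => (lmap_exact (S := S i) φ ψ h (y i)).1 (congr_fun hy i)
  exact ⟨x, funext hx⟩
theorem map1_exact (φ : N →ₗ[A] N') (ψ : N' →ₗ[A] N'') (h : Function.Exact φ ψ) (y : C1 S N')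
    (hy : map1 S ψ y = 0) : ∃ x, map1 S φ x = y := by
  choose x hx using fun i j => (lmap_exact (S := S i ⊔ S j) φ ψ h (y i j)).1
    (congr_fun (congr_fun hy i) j)
  exact ⟨x, funext fun i => funext fun j => hx i j⟩
theorem map2_exact (φ : N →ₗ[A] N') (ψ : N' →ₗ[A] N'') (h : Function.Exact φ ψ) (y : C2 S N')
    (hy : map2 S ψ y = 0) : ∃ x, map2 S φ x = y := by
  choose x hx using fun i j k => (lmap_exact (S := S i ⊔ S j ⊔ S k) φ ψ h (y i j k)).1
    (congr_fun (congr_fun (congr_fun hy i) j) k)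
  exact ⟨x, funext fun i => funext fun j => funext fun k => hx i j k⟩

theorem map0_zero_comp (φ : N →ₗ[A] N') (ψ : N' →ₗ[A] N'') (h : ψ ∘ₗ φ = 0) (x : C0 S N) :
    map0 S ψ (map0 S φ x) = 0 := by
  rw [map0_comp, h]; funext i; simp [map0_apply, lmap]
theorem map1_zero_comp (φ : N →ₗ[A] N') (ψ : N' →ₗ[A] N'') (h : ψ ∘ₗ φ = 0) (x : C1 S N) :
    map1 S ψ (map1 S φ x) = 0 := by
  rw [map1_comp, h]; funext i j; simp [map1_apply, lmap]
theorem map2_zero_comp (φ : N →ₗ[A] N') (ψ : N' →ₗ[A] N'') (h : ψ ∘ₗ φ = 0) (x : C2 S N) :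
    map2 S ψ (map2 S φ x) = 0 := by
  rw [map2_comp, h]; funext i j k; simp [map2_apply, lmap]

end Diff

/-- Exactness of `N → C0 → C1 → C2 → C3` at the terms `C0`, `C1`, `C2`. -/
structure Good (N : Type*) [AddCommGroup N] [Module A N] : Prop where
  ex0 : ∀ x : C0 S N, d0 S x = 0 → ∃ n : N, ε S n = x
  ex1 : ∀ x : C1 S N, d1 S x = 0 → ∃ y : C0 S N, d0 S y = x
  ex2 : ∀ x : C2 S N, d2 S x = 0 → ∃ y : C1 S N, d1 S y = x

section Good

variable {N N₁ N₂ : Type*} [AddCommGroup N] [Module A N] [AddCommGroup N₁] [Module A N₁]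
  [AddCommGroup N₂] [Module A N₂]

theorem Good.of_sum (i₁ : N₁ →ₗ[A] N) (p₁ : N →ₗ[A] N₁) (i₂ : N₂ →ₗ[A] N) (p₂ : N →ₗ[A] N₂)
    (h : ∀ n, i₁ (p₁ n) + i₂ (p₂ n) = n) (h₁ : Good S N₁) (h₂ : Good S N₂) : Good S N := by
  have hl : i₁ ∘ₗ p₁ + i₂ ∘ₗ p₂ = LinearMap.id := LinearMap.ext h
  have hsum : ∀ (T : Submonoid A) (x : LocalizedModule T N),
      lmap T i₁ (lmap T p₁ x) + lmap T i₂ (lmap T p₂ x) = x := by
    intro T x
    rw [lmap_comp, lmap_comp, ← lmap_add, hl, lmap_id]
  refine ⟨fun x hx => ?_, fun x hx => ?_, fun x hx => ?_⟩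
  · obtain ⟨y₁, hy₁⟩ := h₁.ex0 (map0 S p₁ x) (by rw [← map1_d0, hx, map_zero])
    obtain ⟨y₂, hy₂⟩ := h₂.ex0 (map0 S p₂ x) (by rw [← map1_d0, hx, map_zero])
    refine ⟨i₁ y₁ + i₂ y₂, ?_⟩
    rw [map_add, ← map0_ε, ← map0_ε, hy₁, hy₂]
    funext i
    exact hsum _ _
  · obtain ⟨y₁, hy₁⟩ := h₁.ex1 (map1 S p₁ x) (by rw [← map2_d1, hx, map_zero])
    obtain ⟨y₂, hy₂⟩ := h₂.ex1 (map1 S p₂ x) (by rw [← map2_d1, hx, map_zero])
    refine ⟨map0 S i₁ y₁ + map0 S i₂ y₂, ?_⟩
    rw [map_add, ← map1_d0, ← map1_d0, hy₁, hy₂]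
    funext i j
    exact hsum _ _
  · obtain ⟨y₁, hy₁⟩ := h₁.ex2 (map2 S p₁ x) (by rw [← map3_d2, hx, map_zero])
    obtain ⟨y₂, hy₂⟩ := h₂.ex2 (map2 S p₂ x) (by rw [← map3_d2, hx, map_zero])
    refine ⟨map1 S i₁ y₁ + map1 S i₂ y₂, ?_⟩
    rw [map_add, ← map2_d1, ← map2_d1, hy₁, hy₂]
    funext i j k
    exact hsum _ _

theorem subsingleton_of_torsion (T : Submonoid A) (h : ∀ n : N, ∃ s ∈ T, s • n = 0) :
    Subsingleton (LocalizedModule T N) := by
  refine subsingleton_of_forall_eq 0 fun x => ?_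
  obtain ⟨n, t, rfl⟩ := exists_eq_mk x
  exact (mk_eq_zero_iff n t).2 (h n)

theorem Good.of_torsion (h : ∀ (i : ι) (n : N), ∃ s ∈ S i, s • n = 0) : Good S N := by
  have h0 : ∀ i, Subsingleton (LocalizedModule (S i) N) := fun i =>
    subsingleton_of_torsion _ (h i)
  have h1 : ∀ i j, Subsingleton (LocalizedModule (S i ⊔ S j) N) := fun i j =>
    subsingleton_of_torsion _ fun n => by
      obtain ⟨s, hs, hn⟩ := h i n
      exact ⟨s, le12 S i j hs, hn⟩
  have h2 : ∀ i j k, Subsingleton (LocalizedModule (S i ⊔ S j ⊔ S k) N) := fun i j k =>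
    subsingleton_of_torsion _ fun n => by
      obtain ⟨s, hs, hn⟩ := h i n
      exact ⟨s, le123 S i j k (le12 S i j hs), hn⟩
  exact ⟨fun x _ => ⟨0, Subsingleton.elim _ _⟩, fun x _ => ⟨0, Subsingleton.elim _ _⟩,
    fun x _ => ⟨0, Subsingleton.elim _ _⟩⟩

theorem Good.of_bijective (i₀ : ι) (h : ∀ s ∈ S i₀, Function.Bijective fun n : N => s • n) :
    Good S N := by
  have hb : ∀ T : Submonoid A, Function.Bijective
      (res (le_sup_right : T ≤ S i₀ ⊔ T) : LocalizedModule T N →ₗ[A] _) :=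
    fun T => res_bijective_sup (S i₀) T h
  refine ⟨fun x hx => ?_, fun x hx => ?_, fun x hx => ?_⟩
  · -- `N → N_{S i₀}` is bijective
    obtain ⟨n, s, hns⟩ := exists_eq_mk (x i₀)
    obtain ⟨n', hn'⟩ := (h s s.2).2 n
    have hx0 : x i₀ = LocalizedModule.mkLinearMap (S i₀) N n' := by
      rw [hns, ← mk_smul_self n' s, LocalizedModule.smul'_mk]
      congr 1
      exact hn'.symm
    refine ⟨n', funext fun j => ?_⟩
    apply (hb (S j)).1
    have hxj := congr_fun (congr_fun hx i₀) j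
    rw [d0_apply, hx0, res_mkLinearMap] at hxj
    rw [ε_apply, res_mkLinearMap]
    exact (sub_eq_zero.1 hxj).symm
  · choose y hy using fun i => (hb (S i)).2 (x i₀ i)
    refine ⟨y, funext fun i => funext fun j => ?_⟩
    have hinj : Function.Injective (res (le233 S i₀ i j) : LocalizedModule (S i ⊔ S j) N →ₗ[A] _) := by
      have e : S i₀ ⊔ (S i ⊔ S j) = S i₀ ⊔ S i ⊔ S j := (sup_assoc _ _ _).symm
      have h1 := (hb (S i ⊔ S j)).1
      intro a b hab
      apply h1
      have := congrArg (res (e.ge : S i₀ ⊔ S i ⊔ S j ≤ S i₀ ⊔ (S i ⊔ S j))) hab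
      rwa [res_res, res_res] at this
    apply hinj
    rw [d0_apply, map_sub, res_res, res_res]
    have e1 : res (le133 S i₀ i j) (x i₀ j) = res ((le22 S i j).trans (le233 S i₀ i j)) (y j) := by
      rw [← hy j, res_res]
    have e2 : res (le123 S i₀ i j) (x i₀ i) = res ((le12 S i j).trans (le233 S i₀ i j)) (y i) := by
      rw [← hy i, res_res]
    rw [← e1, ← e2]
    have := congr_fun (congr_fun (congr_fun hx i₀) i) j
    rw [d1_apply] at this
    change _ = (0 : LocalizedModule _ N) at this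
    rw [sub_add_eq_add_sub, sub_eq_zero] at this
    rw [← this]
    abel
  · have hinj2 : ∀ i j, Function.Bijective
        (res (le233 S i₀ i j) : LocalizedModule (S i ⊔ S j) N →ₗ[A] _) := by
      intro i j
      have e : S i₀ ⊔ (S i ⊔ S j) = S i₀ ⊔ S i ⊔ S j := (sup_assoc _ _ _).symm
      constructor
      · have h1 := (hb (S i ⊔ S j)).1
        intro a b hab
        apply h1
        have := congrArg (res (e.ge : S i₀ ⊔ S i ⊔ S j ≤ S i₀ ⊔ (S i ⊔ S j))) hab
        rwa [res_res, res_res] at this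
      · intro b
        obtain ⟨a, ha⟩ := (hb (S i ⊔ S j)).2 (res e.ge b)
        refine ⟨a, ?_⟩
        have := congrArg (res e.le) ha
        rw [res_res, res_res, res_rfl] at this
        exact this
    choose y hy using fun i j => (hinj2 i j).2 (x i₀ i j)
    refine ⟨y, funext fun i => funext fun j => funext fun k => ?_⟩
    have hinj : Function.Injective
        (res (le2344 S i₀ i j k) : LocalizedModule (S i ⊔ S j ⊔ S k) N →ₗ[A] _) := by
      have e : S i₀ ⊔ (S i ⊔ S j ⊔ S k) = S i₀ ⊔ S i ⊔ S j ⊔ S k := by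
        rw [← sup_assoc, ← sup_assoc]
      have h1 := (hb (S i ⊔ S j ⊔ S k)).1
      intro a b hab
      apply h1
      have := congrArg (res (e.ge : S i₀ ⊔ S i ⊔ S j ⊔ S k ≤ S i₀ ⊔ (S i ⊔ S j ⊔ S k))) hab
      rwa [res_res, res_res] at this
    apply hinj
    rw [d1_apply, map_add, map_sub, res_res, res_res, res_res]
    have e1 : res (le1344 S i₀ i j k) (x i₀ j k) =
        res ((le233 S i j k).trans (le2344 S i₀ i j k)) (y j k) := by
      rw [← hy j k, res_res]
    have e2 : res (le1244 S i₀ i j k) (x i₀ i k) =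
        res ((le133 S i j k).trans (le2344 S i₀ i j k)) (y i k) := by
      rw [← hy i k, res_res]
    have e3 : res (le1234 S i₀ i j k) (x i₀ i j) =
        res ((le123 S i j k).trans (le2344 S i₀ i j k)) (y i j) := by
      rw [← hy i j, res_res]
    rw [← e1, ← e2, ← e3]
    have := congr_fun (congr_fun (congr_fun (congr_fun hx i₀) i) j) k
    rw [d2_apply] at this
    change _ = (0 : LocalizedModule _ N) at this
    have h5 : res (le2344 S i₀ i j k) (x i j k) = res (le1344 S i₀ i j k) (x i₀ j k) -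
        res (le1244 S i₀ i j k) (x i₀ i k) + res (le1234 S i₀ i j k) (x i₀ i j) := by
      rw [← sub_eq_zero, ← this]
      abel
    rw [h5]

end Good

end Groth.Agent.FormalA.CechSub
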