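import Groth.Agent.CohtopA.ColimCohomology
import Groth.Agent.CohtopA.OpenShriek
import Groth.Agent.CohtopA.OverCoh
import Groth.Agent.CohtopA.FreeAb

/-!
# Cohomology over qcqs opens commutes with filtered colimits of abelian sheaves

`U` open in an arbitrary space `X`, such that the subspace `U` is compact, prespectral and
quasi-separated. Then `H^q(U, -)` commutes with filtered colimits of abelian sheaves on `X`.
-/

set_option autoImplicit false
universe u v' u'

open CategoryTheory TopologicalSpace Opposite CategoryTheory.Limits CategoryTheory.Abelian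
open Groth.Agent.CohtopA

namespace Groth.Agent.FormalA.ColimOpen

theorem hasSheafify {X : TopCat.{u}} :
    HasSheafify (Opens.grothendieckTopology X) AddCommGrpCat.{u} := inferInstance
attribute [local instance 3000] hasSheafify
theorem hasExt {X : TopCat.{u}} : HasExt.{u} (CohTop.Ab X) := inferInstance
attribute [local instance 3000] hasExt

variable {X : TopCat.{u}} (U : Opens X)

/-- Restriction to an open is a left adjoint. -/
instance isLeftAdjoint_overPullback :
    ((Opens.grothendieckTopology X).overPullback AddCommGrpCat.{u} U).IsLeftAdjoint :=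
  ((Over.forget U).sheafAdjunctionCocontinuous AddCommGrpCat.{u}
    ((Opens.grothendieckTopology X).over U) (Opens.grothendieckTopology X)).isLeftAdjoint

instance isLeftAdjoint_restr : (CohTop.restrFunctor U).IsLeftAdjoint :=
  Functor.isLeftAdjoint_of_iso (U.overPullbackSheafEquivOver (A := AddCommGrpCat.{u}))

instance preservesFiniteLimits_restr : PreservesFiniteLimits (CohTop.restrFunctor U) := by
  obtain ⟨L, ⟨adj⟩, _⟩ := OpenShriek.exists_leftAdjoint U
  have := adj.rightAdjoint_preservesLimits
  exact inferInstance

instance preservesFiniteColimits_restr : PreservesFiniteColimits (CohTop.restrFunctor U) := by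
  exact inferInstance

theorem injective_restr (I : CohTop.Ab X) [Injective I] :
    Injective ((CohTop.restrFunctor U).obj I) := by
  obtain ⟨L, ⟨adj⟩, _⟩ := OpenShriek.exists_leftAdjoint U
  exact Injective.injective_of_adjoint adj I

/-- The image of `⊤` in `X`. -/
def img : Opens X := U.isOpenEmbedding.functor.obj (⊤ : Opens (TopCat.of U))

theorem img_eq : img U = U := by
  ext x
  constructor
  · rintro ⟨y, _, rfl⟩
    exact y.2
  · intro hx
    exact ⟨⟨x, hx⟩, trivial, rfl⟩

noncomputable def gen' : FreeAb.freeAb (Opens.grothendieckTopology (TopCat.of U)) (⊤ : Opens (TopCat.of U)) ⟶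
    (CohTop.restrFunctor U).obj (FreeAb.freeAb (Opens.grothendieckTopology X) (img U)) :=
  ((AddEquiv.ofBijective _ (FreeAb.homEv_bijective _ _)).symm
    (FreeAb.gen (Opens.grothendieckTopology X) (img U)))

theorem gen'_bijective (F : CohTop.Ab X) :
    Function.Bijective (fun (f : FreeAb.freeAb (Opens.grothendieckTopology X) (img U) ⟶ F) =>
      gen' U ≫ (CohTop.restrFunctor U).map f) := by
  have h1 : (FreeAb.homEv (⊤ : Opens (TopCat.of U)) ((CohTop.restrFunctor U).obj F)) ∘
      (fun (f : FreeAb.freeAb (Opens.grothendieckTopology X) (img U) ⟶ F) =>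
        gen' U ≫ (CohTop.restrFunctor U).map f) =
      FreeAb.homEv (img U) F := by
    funext f
    simp only [Function.comp]
    rw [FreeAb.homEv_comp]
    have : FreeAb.homEv _ _ (gen' U) = (FreeAb.gen (Opens.grothendieckTopology X) (img U)) :=
      (AddEquiv.ofBijective _ (FreeAb.homEv_bijective _ _)).apply_symm_apply _
    rw [this]
    rfl
  refine (Function.Bijective.of_comp_iff' (FreeAb.homEv_bijective (⊤ : Opens (TopCat.of U))
    ((CohTop.restrFunctor U).obj F)) _).1 ?_
  rw [h1]
  exact FreeAb.homEv_bijective _ _

/-- `H^q(U, F) ≃+ H^q(U, F|_U)` for the image of top. -/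
noncomputable def equivRestr (F : CohTop.Ab X) (q : ℕ) :
    Ext.{u} (FreeAb.freeAb (Opens.grothendieckTopology X) (img U)) F q ≃+
      Ext.{u} (FreeAb.freeAb (Opens.grothendieckTopology (TopCat.of U)) (⊤ : Opens (TopCat.of U)))
        ((CohTop.restrFunctor U).obj F) q :=
  ExtAdj.extOfHomEquiv (CohTop.restrFunctor U) (gen' U) (gen'_bijective U)
    (fun I _ n => by
      have : Injective ((CohTop.restrFunctor U).obj I) := injective_restr U I
      exact Ext.subsingleton_of_injective _ _ _) F q

theorem equivRestr_naturality {F G : CohTop.Ab X} (φ : F ⟶ G) (q : ℕ)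
    (x : Ext.{u} (FreeAb.freeAb (Opens.grothendieckTopology X) (img U)) F q) :
    equivRestr U G q (x.comp (Ext.mk₀ φ) (add_zero q)) =
      (equivRestr U F q x).comp (Ext.mk₀ ((CohTop.restrFunctor U).map φ)) (add_zero q) := by
  refine (ExtAdj.extOfHom_comp (CohTop.restrFunctor U) (gen' U) x (Ext.mk₀ φ)
    (add_zero q)).trans ?_
  rw [Ext.mapExactFunctor_mk₀]
  rfl

noncomputable def isoRestr (q : ℕ) :
    extFunctorObj.{u} (FreeAb.freeAb (Opens.grothendieckTopology X) (img U)) q ≅
      CohTop.restrFunctor U ⋙ extFunctorObj.{u}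
        (FreeAb.freeAb (Opens.grothendieckTopology (TopCat.of U)) (⊤ : Opens (TopCat.of U))) q :=
  NatIso.ofComponents (fun F => (equivRestr U F q).toAddCommGrpIso) (by
    intro F G φ
    ext x
    exact equivRestr_naturality U φ q x)

variable {J : Type u'} [Category.{v'} J] [IsFiltered J]
  [HasColimitsOfShape J AddCommGrpCat.{u}]
  [PreservesColimitsOfShape J (forget AddCommGrpCat.{u})]

theorem preservesColimitsOfShape_ext [PrespectralSpace U] [QuasiSeparatedSpace U]
    [HasExactColimitsOfShape J (CohTop.Ab (TopCat.of U))]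
    (hU : IsCompact (U : Set X)) (q : ℕ) :
    PreservesColimitsOfShape J
      (extFunctorObj.{u} (FreeAb.freeAb (Opens.grothendieckTopology X) U) q) := by
  have hc : CompactSpace U := isCompact_iff_compactSpace.1 hU
  have h1 : PreservesColimitsOfShape J (extFunctorObj.{u}
        (FreeAb.freeAb (Opens.grothendieckTopology (TopCat.of U)) (⊤ : Opens (TopCat.of U))) q) := by
    have : PrespectralSpace (TopCat.of U) := ‹PrespectralSpace U›
    have : QuasiSeparatedSpace (TopCat.of U) := ‹QuasiSeparatedSpace U›
    exact ColimCohomology.preservesColimitsOfShape_ext (isCompact_univ (X := U)) q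
  have h2 : PreservesColimitsOfShape J (extFunctorObj.{u}
      (FreeAb.freeAb (Opens.grothendieckTopology X) (img U)) q) :=
    preservesColimitsOfShape_of_natIso (isoRestr U q).symm
  rwa [img_eq] at h2

theorem preservesColimitsOfShape_cohomology [PrespectralSpace U] [QuasiSeparatedSpace U]
    [HasExactColimitsOfShape J (CohTop.Ab (TopCat.of U))]
    (hU : IsCompact (U : Set X)) (q : ℕ) :
    PreservesColimitsOfShape J
      ((Sheaf.cohomologyPresheafFunctor (Opens.grothendieckTopology X) q).flip.obj (op U) :
        CohTop.Ab X ⥤ AddCommGrpCat.{u}) :=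
  preservesColimitsOfShape_ext U (J := J) hU q

end Groth.Agent.FormalA.ColimOpen
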