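import Groth.Agent.FormalA.CompRing
import Groth.Agent.FormalA.CechSub

set_option autoImplicit false

/-!
# Completions of localizations

`B f T` is the `f`-adic completion of `Localization T`, with restriction maps `ρ : B f S → B f T`
(`S ≤ T`).  For an `A`-module `N` killed by `f` and `x : LocalizedModule T N`, `π x : B f T → N_T` is
`b ↦ b x`.
-/

namespace Groth.Agent.FormalA.CompLoc

open CompleteCx CompRing LocSub

variable {A : Type*} [CommRing A] (f : A)

/-- The `f`-adic completion of `A_T`. -/
abbrev B (T : Submonoid A) := Cp (algebraMap A (Localization T) f)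

section

variable {S T U : Submonoid A}

/-- restriction between localizations, as ring homomorphism -/
noncomputable def rr (h : S ≤ T) : Localization S →+* Localization T :=
  IsLocalization.map (Localization T) (RingHom.id A) h

@[simp]
theorem rr_algebraMap (h : S ≤ T) (a : A) :
    rr h (algebraMap A (Localization S) a) = algebraMap A (Localization T) a := by
  rw [rr, IsLocalization.map_eq]
  rfl

theorem rr_mk (h : S ≤ T) (a : A) (s : S) :
    rr h (Localization.mk a s) = Localization.mk a (⟨s.1, h s.2⟩ : T) := by
  rw [rr, Localization.mk_eq_mk', IsLocalization.map_mk', Localization.mk_eq_mk']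
  rfl

theorem rr_rr (h : S ≤ T) (h' : T ≤ U) (x : Localization S) : rr h' (rr h x) = rr (h.trans h') x := by
  induction x using Localization.induction_on with
  | _ p => rw [rr_mk, rr_mk, rr_mk]

/-- restriction between completed localizations -/
noncomputable def ρ (h : S ≤ T) : B f S →+* B f T := cpMap (rr h) (rr_algebraMap h f)

theorem algebraMap_tower (a : A) : algebraMap A (B f T) a =
    algebraMap (Localization T) (B f T) (algebraMap A (Localization T) a) := rfl

theorem fc_loc : FC (algebraMap A (B f T) f) (B f T) where
  sep x hx := (fc (algebraMap A (Localization T) f)).sep x fun n => by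
    obtain ⟨y, hy⟩ := hx n
    exact ⟨y, by rw [hy, smul_eq_mul, Algebra.smul_def, map_pow]; rfl⟩
  sum b := by
    obtain ⟨s, hs⟩ := (fc (algebraMap A (Localization T) f)).sum b
    refine ⟨s, fun n => ?_⟩
    obtain ⟨y, hy⟩ := hs n
    refine ⟨y, ?_⟩
    rw [hy]
    simp only [smul_eq_mul, Algebra.smul_def, map_pow]
    rfl

theorem smul_eq (a : A) (x : B f T) : a • x = algebraMap A (B f T) a * x := Algebra.smul_def a x

/-- `B f T` is `f`-adically complete as an `A`-module. -/
theorem fcA : FC f (B f T) where
  sep x hx := (fc_loc f).sep x fun n => by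
    obtain ⟨y, hy⟩ := hx n
    exact ⟨y, by rw [hy, smul_eq_mul, smul_eq, map_pow]⟩
  sum b := by
    obtain ⟨s, hs⟩ := (fc_loc f).sum b
    refine ⟨s, fun n => ?_⟩
    obtain ⟨y, hy⟩ := hs n
    refine ⟨y, ?_⟩
    rw [hy]
    simp only [smul_eq_mul, smul_eq, map_pow]

theorem ρ_algebraMap (h : S ≤ T) (r : Localization S) :
    ρ f h (algebraMap (Localization S) (B f S) r) = algebraMap (Localization T) (B f T) (rr h r) :=
  cpMap_algebraMap _ _ r

theorem ρ_algebraMapA (h : S ≤ T) (a : A) :
    ρ f h (algebraMap A (B f S) a) = algebraMap A (B f T) a := by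
  rw [algebraMap_tower, ρ_algebraMap, rr_algebraMap]
  rfl

theorem ρ_smul (h : S ≤ T) (a : A) (x : B f S) : ρ f h (a • x) = a • ρ f h x := by
  rw [smul_eq, map_mul, ρ_algebraMapA, smul_eq]

theorem ρ_ρ (h : S ≤ T) (h' : T ≤ U) (x : B f S) : ρ f h' (ρ f h x) = ρ f (h.trans h') x := by
  refine hom_ext (fc_loc (T := U) f) ((ρ f h').comp (ρ f h)) (ρ f (h.trans h')) ?_ ?_ x
  · change ρ f h' (ρ f h (algebraMap A (B f S) f)) = _
    rw [ρ_algebraMapA, ρ_algebraMapA]
  · intro r
    rw [RingHom.comp_apply, ρ_algebraMap, ρ_algebraMap, ρ_algebraMap, rr_rr]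

/-- restriction as a linear map -/
noncomputable def ρl (h : S ≤ T) : B f S →ₗ[A] B f T where
  toFun := ρ f h
  map_add' := map_add _
  map_smul' := ρ_smul f h

theorem ρl_apply (h : S ≤ T) (x : B f S) : ρl f h x = ρ f h x := rfl

theorem regular_loc (hf : IsSMulRegular A f) : IsSMulRegular (B f T) f := by
  have h1 : IsSMulRegular (Localization T) (algebraMap A (Localization T) f) := by
    intro x y hxy
    induction x using Localization.induction_on with
    | _ p =>
      induction y using Localization.induction_on with
      | _ q =>
        obtain ⟨a, s⟩ := p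
        obtain ⟨b, t⟩ := q
        change algebraMap A (Localization T) f * Localization.mk a s =
          algebraMap A (Localization T) f * Localization.mk b t at hxy
        rw [← Localization.mk_one_eq_algebraMap, Localization.mk_mul, Localization.mk_mul,
          Localization.mk_eq_mk_iff, Localization.r_iff_exists] at hxy
        obtain ⟨c, hc⟩ := hxy
        rw [Localization.mk_eq_mk_iff, Localization.r_iff_exists]
        refine ⟨c, hf ?_⟩
        change f * _ = f * _
        simp only [one_mul] at hc
        linear_combination hc
  have h2 := regular _ h1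
  intro x y hxy
  apply h2
  change algebraMap A (Localization T) f • x = algebraMap A (Localization T) f • y
  rw [algebraMap_smul, algebraMap_smul]
  exact hxy

theorem exists_approx' (x : B f T) :
    ∃ (r : Localization T) (y : B f T), x = algebraMap (Localization T) (B f T) r + f • y := by
  obtain ⟨r, y, h⟩ := exists_approx_one _ x
  exact ⟨r, y, by rw [h, algebraMap_smul]⟩

end

section Mod

variable {N : Type*} [AddCommGroup N] [Module A N] (hN : ∀ n : N, f • n = 0)
variable {S T U : Submonoid A}

include hN in
theorem f_smul_loc (x : LocalizedModule T N) : f • x = 0 := by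
  obtain ⟨n, t, rfl⟩ := exists_eq_mk x
  rw [LocalizedModule.smul'_mk, hN, LocalizedModule.zero_mk]

/-- the action of `A_T / f` on `x ∈ N_T` -/
noncomputable def act (x : LocalizedModule T N) :
    (Localization T ⧸ Ideal.span {algebraMap A (Localization T) f}) →ₗ[Localization T]
      LocalizedModule T N :=
  Submodule.liftQ _ (LinearMap.toSpanSingleton (Localization T) _ x) (by
    rw [Ideal.span, Submodule.span_le]
    rintro _ rfl
    change algebraMap A (Localization T) f • x = 0
    rw [algebraMap_smul]
    exact f_smul_loc f hN x)

/-- `π x b = b x` for `b : B f T`, `x : N_T` -/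
noncomputable def π (x : LocalizedModule T N) : B f T →ₗ[A] LocalizedModule T N where
  toFun b := act f hN x (ev _ b)
  map_add' b c := by rw [map_add, map_add]
  map_smul' a b := by
    rw [← algebraMap_smul (Localization T) a b, map_smul, map_smul, algebraMap_smul,
      RingHom.id_apply]

theorem π_algebraMap (x : LocalizedModule T N) (r : Localization T) :
    π f hN x (algebraMap _ _ r) = r • x := rfl

theorem π_f_smul (x : LocalizedModule T N) (b : B f T) : π f hN x (f • b) = 0 := by
  rw [map_smul]
  exact f_smul_loc f hN _

theorem π_one (x : LocalizedModule T N) : π f hN x 1 = x := by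
  rw [← map_one (algebraMap (Localization T) (B f T)), π_algebraMap, one_smul]

theorem π_mul (x : LocalizedModule T N) (b c : B f T) :
    π f hN x (b * c) = π f hN (π f hN x b) c := by
  obtain ⟨r, y, rfl⟩ := exists_approx' f b
  obtain ⟨r', y', rfl⟩ := exists_approx' f c
  have h1 : (algebraMap (Localization T) (B f T) r + f • y) *
      (algebraMap (Localization T) (B f T) r' + f • y') =
      algebraMap (Localization T) (B f T) (r' * r) +
        f • (algebraMap (Localization T) (B f T) r * y' + y *
          (algebraMap (Localization T) (B f T) r' + f • y')) := by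
    rw [map_mul]
    simp only [smul_eq]
    ring
  rw [h1, map_add, π_f_smul, add_zero, π_algebraMap, map_add, π_f_smul, add_zero, map_add,
    π_f_smul, add_zero, π_algebraMap, π_algebraMap, mul_smul]

theorem res_smul (h : S ≤ T) (r : Localization S) (x : LocalizedModule S N) :
    res h (r • x) = rr h r • res h x := by
  induction r using Localization.induction_on with
  | _ p =>
    obtain ⟨a, s⟩ := p
    obtain ⟨n, t, rfl⟩ := exists_eq_mk x
    rw [rr_mk, res_mk, LocalizedModule.mk_smul_mk, LocalizedModule.mk_smul_mk, res_mk]
    rfl

theorem res_π (h : S ≤ T) (x : LocalizedModule S N) (b : B f S) :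
    res h (π f hN x b) = π f hN (res h x) (ρ f h b) := by
  obtain ⟨r, y, rfl⟩ := exists_approx' f b
  rw [map_add, π_f_smul, add_zero, π_algebraMap, map_add, ρ_smul, map_add, π_f_smul, add_zero,
    ρ_algebraMap, π_algebraMap, res_smul]

/-- `x` is a free generator of `N_T` over `(A/f)_T`. -/
structure Gen (T : Submonoid A) (x : LocalizedModule T N) : Prop where
  surj : ∀ y : LocalizedModule T N, ∃ r : Localization T, y = r • x
  ker : ∀ r : Localization T, r • x = 0 → ∃ r' : Localization T, r = f • r'

variable {f} in
theorem Gen.π_surjective {x : LocalizedModule T N} (h : Gen f T x) : Function.Surjective (π f hN x) :=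
  fun y => by
    obtain ⟨r, rfl⟩ := h.surj y
    exact ⟨algebraMap _ _ r, π_algebraMap f hN x r⟩

variable {f} in
theorem Gen.exists_of_π_eq_zero {x : LocalizedModule T N} (h : Gen f T x) (b : B f T)
    (hb : π f hN x b = 0) : ∃ y, b = f • y := by
  obtain ⟨r, y, rfl⟩ := exists_approx' f b
  rw [map_add, π_f_smul, add_zero, π_algebraMap] at hb
  obtain ⟨r', rfl⟩ := h.ker r hb
  refine ⟨algebraMap _ _ r' + y, ?_⟩
  rw [smul_add]
  congr 1

end Mod

end Groth.Agent.FormalA.CompLoc
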