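import Groth.Agent.FormalA.CompleteCx
import Mathlib.RingTheory.AdicCompletion.Completeness
import Mathlib.RingTheory.AdicCompletion.Algebra
import Mathlib.Tactic.Ring
import Mathlib.Tactic.Abel

set_option autoImplicit false

/-!
# The completion of a ring with respect to a principal ideal

`Cp t` is the `t`-adic completion of a ring `R`; `ev : Cp t → R ⧸ (t)`; functoriality `cpMap`;
units are detected by `ev`; `Cp t` is `t`-torsion free if `R` is.
-/

namespace Groth.Agent.FormalA.CompRing

open CompleteCx AdicCompletion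

section Basic

variable {R : Type*} [CommRing R] (t : R)

/-- The `t`-adic completion. -/
abbrev Cp := AdicCompletion (Ideal.span {t}) R

theorem fc : FC t (Cp t) := by
  have : IsAdicComplete (Ideal.span {t}) (Cp t) :=
    AdicCompletion.isAdicComplete ⟨{t}, by simp⟩
  exact FC.of_isAdicComplete

/-- evaluation modulo `t^n`, elementwise. -/
theorem evalₐ_eq_zero_iff (n : ℕ) (x : Cp t) :
    evalₐ (Ideal.span {t}) n x = 0 ↔ ∃ y : Cp t, x = t ^ n • y := by
  have h1 : x ∈ (eval (Ideal.span {t}) R n).ker ↔ ∃ y : Cp t, x = t ^ n • y := by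
    rw [← AdicCompletion.pow_smul_top_eq_ker_eval ⟨{t}, by simp⟩, mem_span_pow_smul_top]
  rw [← h1, LinearMap.mem_ker]
  have h : (Ideal.span {t} ^ n • ⊤ : Ideal R) = Ideal.span {t} ^ n := by ext x; simp
  rw [← factor_eval_eq_evalₐ (Ideal.span {t}) x h.le]
  constructor
  · intro h2
    have : Function.Injective (Ideal.Quotient.factor h.le) := by
      rw [RingHom.injective_iff_ker_eq_bot, Ideal.Quotient.factor_ker]
      exact Ideal.map_mk_eq_bot_of_le h.ge
    exact this (by rw [_root_.map_zero]; exact h2)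
  · intro h2
    rw [h2]
    exact _root_.map_zero _

/-- reduction modulo `t` -/
noncomputable def ev : Cp t →ₐ[R] R ⧸ Ideal.span {t} := evalOneₐ (Ideal.span {t})

theorem ev_of (r : R) : ev t (of (Ideal.span {t}) R r) = Ideal.Quotient.mk _ r := rfl

theorem ev_surjective : Function.Surjective (ev t) := evalOneₐ_surjective _

theorem ev_eq_zero_iff (x : Cp t) : ev t x = 0 ↔ ∃ y : Cp t, x = t • y := by
  have h := evalₐ_eq_zero_iff t 1 x
  have h' : (∃ y : Cp t, x = t ^ 1 • y) ↔ ∃ y : Cp t, x = t • y := by simp only [pow_one]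
  rw [h'] at h
  rw [← h, ev, ← factorₐ_evalₐ_one]
  have hinj : Function.Injective
      (Ideal.Quotient.factor (show Ideal.span {t} ^ 1 ≤ Ideal.span {t} by simp)) := by
    rw [RingHom.injective_iff_ker_eq_bot, Ideal.Quotient.factor_ker]
    exact Ideal.map_mk_eq_bot_of_le (by simp)
  constructor
  · intro h2
    exact hinj (by rw [_root_.map_zero]; exact h2)
  · intro h2
    rw [h2]
    exact _root_.map_zero _

/-- Approximation of elements of the completion. -/
theorem exists_approx (n : ℕ) (x : Cp t) :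
    ∃ (r : R) (y : Cp t), x = algebraMap R (Cp t) r + t ^ n • y := by
  obtain ⟨r, hr⟩ := Ideal.Quotient.mk_surjective (evalₐ (Ideal.span {t}) n x)
  have : evalₐ (Ideal.span {t}) n (x - algebraMap R (Cp t) r) = 0 := by
    rw [map_sub, ← hr, AlgHom.commutes]
    exact sub_self _
  obtain ⟨y, hy⟩ := (evalₐ_eq_zero_iff t n _).1 this
  exact ⟨r, y, by rw [← hy]; abel⟩

theorem exists_approx_one (x : Cp t) :
    ∃ (r : R) (y : Cp t), x = algebraMap R (Cp t) r + t • y := by
  obtain ⟨r, y, h⟩ := exists_approx t 1 x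
  exact ⟨r, y, by rw [h, pow_one]⟩

theorem regular (ht : IsSMulRegular R t) : IsSMulRegular (Cp t) t := by
  have key : ∀ x : Cp t, t • x = 0 → x = 0 := by
    intro x hx
    refine (fc t).sep x fun n => ?_
    obtain ⟨r, y, h⟩ := exists_approx t n x
    -- `t r ∈ (t^(n+1))`
    have h1 : evalₐ (Ideal.span {t}) (n + 1) (algebraMap R (Cp t) (t * r)) = 0 := by
      rw [evalₐ_eq_zero_iff]
      refine ⟨-y, ?_⟩
      rw [map_mul, ← Algebra.smul_def, show algebraMap R (Cp t) r = x - t ^ n • y by rw [h]; abel,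
        smul_sub, hx, smul_neg, smul_smul, pow_succ']
      abel
    rw [AlgHom.commutes] at h1
    have h2 : t * r ∈ Ideal.span {t} ^ (n + 1) := Ideal.Quotient.eq_zero_iff_mem.1 h1
    rw [Ideal.span_singleton_pow, Ideal.mem_span_singleton] at h2
    obtain ⟨c, hc⟩ := h2
    have h3 : r = t ^ n * c := by
      apply ht
      change t * r = t * (t ^ n * c)
      rw [hc, pow_succ']; ring
    refine ⟨algebraMap R (Cp t) c + y, ?_⟩
    rw [h, h3, map_mul, ← Algebra.smul_def, smul_add]
  intro x y hxy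
  rw [← sub_eq_zero]
  apply key
  rw [smul_sub, sub_eq_zero]
  exact hxy

end Basic

section Unit

variable {B : Type*} [CommRing B] {t : B}

/-- `1 + t y` is a unit in a `t`-adically complete ring. -/
theorem isUnit_one_add (h : FC t B) (y : B) : IsUnit (1 + t * y) := by
  obtain ⟨s, hs⟩ := h.sum fun k => (-y) ^ k
  refine IsUnit.of_mul_eq_one s ?_
  rw [← sub_eq_zero]
  refine h.sep _ fun n => ?_
  obtain ⟨z, hz⟩ := hs n
  have key : ∀ n : ℕ, (1 + t * y) * ∑ k ∈ Finset.range n, t ^ k * (-y) ^ k = 1 - (t * (-y)) ^ n := by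
    intro n
    induction n with
    | zero => simp
    | succ n ih =>
      rw [Finset.sum_range_succ, mul_add, ih, ← mul_pow, pow_succ]
      ring
  refine ⟨(1 + t * y) * z - (-y) ^ n, ?_⟩
  rw [hz]
  simp only [smul_eq_mul]
  rw [mul_add, key n, mul_pow]
  ring

theorem isUnit_of_mul_eq (h : FC t B) {b c y : B} (hbc : b * c = 1 + t * y) : IsUnit b :=
  isUnit_of_mul_isUnit_left (hbc ▸ isUnit_one_add h y)

end Unit

section Map

variable {R S : Type*} [CommRing R] [CommRing S] (φ : R →+* S) {t : R} {s : S} (h : φ t = s)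

include h in
theorem map_span_pow_le (n : ℕ) : Ideal.span {t} ^ n ≤ (Ideal.span {s} ^ n).comap φ := by
  rw [Ideal.span_singleton_pow, Ideal.span_singleton_pow, Ideal.span_singleton_le_iff_mem,
    Ideal.mem_comap, map_pow, h]
  exact Ideal.mem_span_singleton_self _

theorem compat {m n : ℕ} (hmn : m ≤ n) :
    (Ideal.Quotient.factorPow (Ideal.span {s}) hmn).comp
      ((Ideal.quotientMap (Ideal.span {s} ^ n) φ (map_span_pow_le φ h n)).comp
      (evalₐ (Ideal.span {t}) n : Cp t →+* R ⧸ Ideal.span {t} ^ n)) =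
      (Ideal.quotientMap (Ideal.span {s} ^ m) φ (map_span_pow_le φ h m)).comp
      (evalₐ (Ideal.span {t}) m : Cp t →+* R ⧸ Ideal.span {t} ^ m) := by
  ext x
  obtain ⟨r, y, rfl⟩ := exists_approx t n x
  have h1 : (evalₐ (Ideal.span {t}) n) (algebraMap R (Cp t) r + t ^ n • y) =
      Ideal.Quotient.mk _ r := by
    rw [map_add, (evalₐ_eq_zero_iff t n _).2 ⟨y, rfl⟩, add_zero, AlgHom.commutes]
    rfl
  have h2 : (evalₐ (Ideal.span {t}) m) (algebraMap R (Cp t) r + t ^ n • y) =
      Ideal.Quotient.mk _ r := by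
    have h3 : (evalₐ (Ideal.span {t}) m) (t ^ n • y) = 0 :=
      (evalₐ_eq_zero_iff t m _).2 ⟨t ^ (n - m) • y, by
        rw [smul_smul, ← pow_add, Nat.add_sub_cancel' hmn]⟩
    rw [map_add, h3, add_zero, AlgHom.commutes]
    rfl
  simp only [RingHom.comp_apply]
  erw [h1, h2]
  rfl

/-- Functoriality of the completion. -/
noncomputable def cpMap : Cp t →+* Cp s :=
  liftRingHom (Ideal.span {s})
    (fun n => (Ideal.quotientMap (Ideal.span {s} ^ n) φ (map_span_pow_le φ h n)).comp
      (evalₐ (Ideal.span {t}) n : Cp t →+* R ⧸ Ideal.span {t} ^ n))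
    (fun hmn => compat φ h hmn)

theorem evalₐ_cpMap (n : ℕ) (x : Cp t) : evalₐ (Ideal.span {s}) n (cpMap φ h x) =
    Ideal.quotientMap (Ideal.span {s} ^ n) φ (map_span_pow_le φ h n) (evalₐ (Ideal.span {t}) n x) :=
  evalₐ_liftRingHom _ _ (fun hmn => compat φ h hmn) n x

theorem cpMap_algebraMap (r : R) :
    cpMap φ h (algebraMap R (Cp t) r) = algebraMap S (Cp s) (φ r) := by
  apply ext_evalₐ
  intro n
  rw [evalₐ_cpMap, AlgHom.commutes, AlgHom.commutes]
  rfl

theorem cpMap_smul (r : R) (x : Cp t) : cpMap φ h (r • x) = φ r • cpMap φ h x := by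
  rw [Algebra.smul_def, map_mul, cpMap_algebraMap, ← Algebra.smul_def]

/-- A ring homomorphism out of `Cp t` is determined by its values on `R`. -/
theorem hom_ext {B : Type*} [CommRing B] {b : B} (hB : FC b B) (F G : Cp t →+* B)
    (hF : F (algebraMap R (Cp t) t) = b)
    (hFG : ∀ r : R, F (algebraMap R (Cp t) r) = G (algebraMap R (Cp t) r)) (x : Cp t) :
    F x = G x := by
  rw [← sub_eq_zero]
  refine hB.sep _ fun n => ?_
  obtain ⟨r, y, rfl⟩ := exists_approx t n x
  refine ⟨F y - G y, ?_⟩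
  rw [Algebra.smul_def, map_add, map_add, map_mul, map_mul, hFG r, map_pow, map_pow, map_pow, hF,
    ← hFG t, hF, smul_eq_mul]
  ring

end Map

end Groth.Agent.FormalA.CompRing
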