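import Mathlib.RingTheory.AdicCompletion.Basic
import Mathlib.RingTheory.Noetherian.Basic
import Mathlib.RingTheory.Finiteness.Basic
import Mathlib.Algebra.Regular.SMul

set_option autoImplicit false

/-!
# Complexes of `f`-adically complete modules

`FC f M`: elementary form of `f`-adic completeness of `M` (separated, and series `∑ f^k b_k` converge).

For a complex `B0 → B1 → B2` of `f`-torsion free, `f`-adically complete modules over a complete
Noetherian ring, with reduction `C0 → C1 → C2` modulo `f`: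
* `fg_ker`: `ker d0` is finitely generated if `ker c0` is;
* `exists_gen_ker`: `ker d1 / im d0` is finitely generated if `ker c1 / im c0` is;
* `exists_pow_lift`: if moreover `a^k` kills `ker c1 / im c0` then some power of `a` maps `ker c0` into
  the image of `ker d0`.
-/

namespace Groth.Agent.FormalA.CompleteCx

open Submodule Finset

/-- Elementary form of `f`-adic completeness. -/
structure FC {A : Type*} [CommRing A] (f : A) (M : Type*) [AddCommGroup M] [Module A M] : Prop where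
  sep : ∀ x : M, (∀ n : ℕ, ∃ y : M, x = f ^ n • y) → x = 0
  sum : ∀ b : ℕ → M, ∃ s : M, ∀ n : ℕ, ∃ y : M, s = ∑ k ∈ range n, f ^ k • b k + f ^ n • y

section FC

variable {A : Type*} [CommRing A] {f : A} {M : Type*} [AddCommGroup M] [Module A M]

theorem mem_span_pow_smul_top {n : ℕ} {x : M} :
    x ∈ (Ideal.span {f} ^ n • ⊤ : Submodule A M) ↔ ∃ y : M, x = f ^ n • y := by
  rw [Ideal.span_singleton_pow, Submodule.ideal_span_singleton_smul, Submodule.mem_smul_pointwise_iff_exists]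
  simp only [mem_top, true_and, eq_comm]

theorem FC.of_isAdicComplete [IsAdicComplete (Ideal.span {f}) M] : FC f M where
  sep x hx := by
    refine IsHausdorff.haus (I := Ideal.span {f}) inferInstance x fun n => ?_
    rw [SModEq.zero, mem_span_pow_smul_top]
    exact hx n
  sum b := by
    obtain ⟨s, hs⟩ := IsPrecomplete.prec' (I := Ideal.span {f}) (M := M)
      (fun n => ∑ k ∈ range n, f ^ k • b k) (by
        intro m n hmn
        rw [SModEq.sub_mem]
        induction n, hmn using Nat.le_induction with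
        | base => simp
        | succ n hmn ih =>
          rw [sum_range_succ, ← sub_sub]
          refine Submodule.sub_mem _ ih ?_
          rw [mem_span_pow_smul_top]
          exact ⟨f ^ (n - m) • b n, by rw [smul_smul, ← pow_add]; congr 2; omega⟩)
    refine ⟨s, fun n => ?_⟩
    have h := hs n
    rw [SModEq.sub_mem, mem_span_pow_smul_top] at h
    obtain ⟨y, hy⟩ := h
    exact ⟨-y, by rw [smul_neg, ← hy]; abel⟩

theorem FC.pi {ι : Type*} {N : ι → Type*} [∀ i, AddCommGroup (N i)] [∀ i, Module A (N i)]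
    (h : ∀ i, FC f (N i)) : FC f (∀ i, N i) where
  sep x hx := by
    funext i
    refine (h i).sep (x i) fun n => ?_
    obtain ⟨y, hy⟩ := hx n
    exact ⟨y i, by rw [hy]; rfl⟩
  sum b := by
    choose s hs using fun i => (h i).sum (fun n => b n i)
    refine ⟨s, fun n => ?_⟩
    choose y hy using fun i => hs i n
    refine ⟨y, funext fun i => ?_⟩
    rw [hy i]
    simp

theorem FC.of_equiv {N : Type*} [AddCommGroup N] [Module A N] (h : FC f M) (e : M ≃ₗ[A] N) : FC f N where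
  sep x hx := by
    have := h.sep (e.symm x) fun n => by
      obtain ⟨y, hy⟩ := hx n
      exact ⟨e.symm y, by rw [hy, map_smul]⟩
    simpa using this
  sum b := by
    obtain ⟨s, hs⟩ := h.sum fun n => e.symm (b n)
    refine ⟨e s, fun n => ?_⟩
    obtain ⟨y, hy⟩ := hs n
    refine ⟨e y, ?_⟩
    rw [hy]
    simp

theorem FC.ofPUnit : FC f PUnit where
  sep x _ := by cases x; rfl
  sum _ := ⟨PUnit.unit, fun _ => ⟨PUnit.unit, rfl⟩⟩

end FC

section Approx

variable {A : Type*} [CommRing A] {f : A}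
variable {B0 B1 : Type*} [AddCommGroup B0] [Module A B0] [AddCommGroup B1] [Module A B1]

/-- Successive approximation. -/
theorem approx (hA : FC f A) (h0 : FC f B0) (h1 : FC f B1) (d0 : B0 →ₗ[A] B1) {r : ℕ}
    (w : Fin r → B1) (Z : Set B1)
    (step : ∀ z ∈ Z, ∃ (a : Fin r → A) (b : B0) (z' : B1), z' ∈ Z ∧
      z = ∑ k, a k • w k + d0 b + f • z') :
    ∀ z ∈ Z, ∃ (a : Fin r → A) (b : B0), z = ∑ k, a k • w k + d0 b := by
  classical
  intro z hz
  choose a b z' hz' hstep using step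
  -- the sequence of remainders
  let s : ℕ → Z := fun n => Nat.rec ⟨z, hz⟩ (fun _ p => ⟨z' p.1 p.2, hz' p.1 p.2⟩) n
  have hs0 : (s 0).1 = z := rfl
  have hs : ∀ n, (s n).1 = ∑ k, a (s n).1 (s n).2 k • w k + d0 (b (s n).1 (s n).2) + f • (s (n + 1)).1 :=
    fun n => hstep (s n).1 (s n).2
  let α : ℕ → Fin r → A := fun n => a (s n).1 (s n).2
  let β : ℕ → B0 := fun n => b (s n).1 (s n).2
  have key : ∀ n, z = ∑ k, (∑ i ∈ range n, f ^ i • α i k) • w k + d0 (∑ i ∈ range n, f ^ i • β i) +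
      f ^ n • (s n).1 := by
    intro n
    induction n with
    | zero => simp [hs0]
    | succ n ih =>
      rw [ih]
      conv_lhs => rw [hs n]
      simp only [sum_range_succ, map_add, add_smul, Finset.sum_add_distrib, smul_add, map_smul,
        Finset.smul_sum, smul_assoc, pow_succ, mul_smul]
      change _ = _ + ∑ x, f ^ n • (a (s n).1 (s n).2 x • w x) + _ + _
      abel
  choose A0 hA0 using fun k => hA.sum (fun n => α n k)
  obtain ⟨β0, hβ0⟩ := h0.sum β
  refine ⟨A0, β0, ?_⟩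
  rw [← sub_eq_zero]
  refine h1.sep _ fun n => ?_
  choose y hy using fun k => hA0 k n
  obtain ⟨y', hy'⟩ := hβ0 n
  refine ⟨(s n).1 - ∑ k, y k • w k - d0 y', ?_⟩
  have e1 : ∑ k, A0 k • w k = ∑ k, (∑ i ∈ range n, f ^ i • α i k) • w k + f ^ n • ∑ k, y k • w k := by
    rw [Finset.smul_sum, ← Finset.sum_add_distrib]
    refine Finset.sum_congr rfl fun k _ => ?_
    rw [← smul_assoc, ← add_smul, ← hy k]
  have e2 : d0 β0 = d0 (∑ i ∈ range n, f ^ i • β i) + f ^ n • d0 y' := by
    rw [← map_smul, ← map_add, ← hy']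
  rw [e1, e2, smul_sub, smul_sub]
  nth_rewrite 1 [key n]
  abel

end Approx

section Complex

variable {A : Type*} [CommRing A] [IsNoetherianRing A] {f : A}
variable {B0 B1 B2 C0 C1 : Type*} [AddCommGroup B0] [Module A B0] [AddCommGroup B1] [Module A B1]
  [AddCommGroup B2] [Module A B2] [AddCommGroup C0] [Module A C0] [AddCommGroup C1] [Module A C1]

omit [IsNoetherianRing A] in
theorem exists_fin_gen {N : Type*} [AddCommGroup N] [Module A N] {Z : Type*} [AddCommGroup Z]
    [Module A Z] (g : Z →ₗ[A] N) (h : (LinearMap.range g).FG) :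
    ∃ (r : ℕ) (w : Fin r → Z), ∀ z, ∃ a : Fin r → A, g z = ∑ k, a k • g (w k) := by
  obtain ⟨r, v, hv⟩ := Submodule.fg_iff_exists_fin_generating_family.mp h
  have hmem : ∀ k, v k ∈ LinearMap.range g := fun k => hv ▸ subset_span ⟨k, rfl⟩
  choose w hw using hmem
  refine ⟨r, w, fun z => ?_⟩
  have : g z ∈ span A (Set.range v) := hv ▸ ⟨z, rfl⟩
  obtain ⟨a, ha⟩ := (Submodule.mem_span_range_iff_exists_fun A).mp this
  exact ⟨a, by rw [← ha]; simp only [hw]⟩

/-- `ker d0` is finitely generated. -/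
theorem fg_ker (hA : FC f A) (h0 : FC f B0) (d0 : B0 →ₗ[A] B1) (hr1 : IsSMulRegular B1 f)
    (c0 : C0 →ₗ[A] C1) (π0 : B0 →ₗ[A] C0) (π1 : B1 →ₗ[A] C1)
    (comm0 : ∀ x, π1 (d0 x) = c0 (π0 x)) (hk0 : ∀ x, π0 x = 0 → ∃ y, x = f • y)
    (hfg : (LinearMap.ker c0).FG) : (LinearMap.ker d0).FG := by
  have hle : LinearMap.range (π0 ∘ₗ (LinearMap.ker d0).subtype) ≤ LinearMap.ker c0 := by
    rintro _ ⟨x, rfl⟩
    rw [LinearMap.mem_ker, LinearMap.comp_apply, ← comm0]
    have : d0 x.1 = 0 := x.2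
    simp [this]
  have hN : IsNoetherian A (LinearMap.ker c0) := isNoetherian_of_fg_of_noetherian _ hfg
  have hfg' : (LinearMap.range (π0 ∘ₗ (LinearMap.ker d0).subtype)).FG :=
    Submodule.FG.of_le hfg hle
  obtain ⟨r, w, hw⟩ := exists_fin_gen _ hfg'
  have h := approx hA (FC.ofPUnit.{_, 0} (f := f)) h0 (0 : PUnit.{1} →ₗ[A] B0) (fun k => (w k).1)
    (LinearMap.ker d0 : Set B0) (by
      intro z hz
      obtain ⟨a, ha⟩ := hw ⟨z, hz⟩
      have : π0 (z - ∑ k, a k • (w k).1) = 0 := by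
        rw [map_sub, map_sum, sub_eq_zero]
        simpa using ha
      obtain ⟨y, hy⟩ := hk0 _ this
      refine ⟨a, PUnit.unit, y, ?_, ?_⟩
      · have : d0 (f • y) = 0 := by
          rw [← hy]
          exact (LinearMap.ker d0).sub_mem hz (Submodule.sum_mem _ fun k _ =>
            (LinearMap.ker d0).smul_mem _ (w k).2)
        rw [map_smul] at this
        exact hr1.right_eq_zero_of_smul this
      · rw [← hy]; simp)
  rw [Submodule.fg_iff_exists_fin_generating_family]
  refine ⟨r, fun k => (w k).1, le_antisymm ?_ ?_⟩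
  · rw [span_le]
    rintro _ ⟨k, rfl⟩
    exact (w k).2
  · intro z hz
    obtain ⟨a, _, h⟩ := h z hz
    rw [h]
    simp only [LinearMap.zero_apply, add_zero]
    exact Submodule.sum_mem _ fun k _ => Submodule.smul_mem _ _ (subset_span ⟨k, rfl⟩)

variable (d0 : B0 →ₗ[A] B1) (d1 : B1 →ₗ[A] B2) (c0 : C0 →ₗ[A] C1) (π0 : B0 →ₗ[A] C0)
  (π1 : B1 →ₗ[A] C1)

/-- `ker d1 / im d0` is finitely generated. -/
theorem exists_gen_ker (hA : FC f A) (h0 : FC f B0) (h1 : FC f B1)
    (hd : ∀ x, d1 (d0 x) = 0) (hr2 : IsSMulRegular B2 f)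
    (comm0 : ∀ x, π1 (d0 x) = c0 (π0 x)) (hs0 : Function.Surjective π0)
    (hk1 : ∀ x, π1 x = 0 → ∃ y, x = f • y)
    (Z1 : Submodule A C1) (hZ1 : ∀ z, d1 z = 0 → π1 z ∈ Z1)
    (hfg : (Z1.map (LinearMap.range c0).mkQ).FG) :
    ∃ (r : ℕ) (w : Fin r → B1), (∀ k, d1 (w k) = 0) ∧
      ∀ z, d1 z = 0 → ∃ (a : Fin r → A) (b : B0), z = ∑ k, a k • w k + d0 b := by
  let q := (LinearMap.range c0).mkQ
  have hle : LinearMap.range ((q ∘ₗ π1) ∘ₗ (LinearMap.ker d1).subtype) ≤ Z1.map q := by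
    rintro _ ⟨x, rfl⟩
    exact ⟨π1 x.1, hZ1 _ x.2, rfl⟩
  have hfg' : (LinearMap.range ((q ∘ₗ π1) ∘ₗ (LinearMap.ker d1).subtype)).FG :=
    Submodule.FG.of_le hfg hle
  obtain ⟨r, w, hw⟩ := exists_fin_gen _ hfg'
  refine ⟨r, fun k => (w k).1, fun k => (w k).2, fun z hz => ?_⟩
  refine approx hA h0 h1 d0 (fun k => (w k).1) (LinearMap.ker d1 : Set B1) ?_ z hz
  intro z hz
  obtain ⟨a, ha⟩ := hw ⟨z, hz⟩
  have h2 : q (π1 (z - ∑ k, a k • (w k).1)) = 0 := by
    rw [map_sub, map_sub, map_sum, map_sum, sub_eq_zero]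
    simpa using ha
  rw [Submodule.mkQ_apply, Submodule.Quotient.mk_eq_zero] at h2
  obtain ⟨x, hx⟩ := h2
  obtain ⟨b, rfl⟩ := hs0 x
  have h3 : π1 (z - ∑ k, a k • (w k).1 - d0 b) = 0 := by
    rw [map_sub, comm0, hx, sub_self]
  obtain ⟨y, hy⟩ := hk1 _ h3
  refine ⟨a, b, y, ?_, ?_⟩
  · have : d1 (f • y) = 0 := by
      rw [← hy, map_sub, hd, sub_zero]
      exact (LinearMap.ker d1).sub_mem hz (Submodule.sum_mem _ fun k _ =>
        (LinearMap.ker d1).smul_mem _ (w k).2)
    rw [map_smul] at this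
    exact hr2.right_eq_zero_of_smul this
  · rw [← hy]; abel

/-- Lifting elements of `ker c0` to `ker d0` up to a power of `a`. -/
theorem exists_pow_lift (hA : FC f A) (h0 : FC f B0) (h1 : FC f B1)
    (hd : ∀ x, d1 (d0 x) = 0) (hr2 : IsSMulRegular B2 f)
    (comm0 : ∀ x, π1 (d0 x) = c0 (π0 x)) (hs0 : Function.Surjective π0)
    (hk0 : ∀ x, π0 (f • x) = 0)
    (hk1 : ∀ x, π1 x = 0 → ∃ y, x = f • y)
    (Z1 : Submodule A C1) (hZ1 : ∀ z, d1 z = 0 → π1 z ∈ Z1)
    (hfg : (Z1.map (LinearMap.range c0).mkQ).FG) (a : A) (k : ℕ)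
    (hak : ∀ z ∈ Z1, a ^ k • z ∈ LinearMap.range c0) :
    ∃ l : ℕ, ∀ x, c0 x = 0 → ∃ m, d0 m = 0 ∧ π0 m = a ^ l • x := by
  obtain ⟨r, w, hw, hgen⟩ := exists_gen_ker d0 d1 c0 π0 π1 hA h0 h1 hd hr2 comm0 hs0 hk1 Z1 hZ1 hfg
  -- the quotient `ker d1 / im d0` is Noetherian
  let q := (LinearMap.range d0).mkQ
  let H : Submodule A (B1 ⧸ LinearMap.range d0) := (LinearMap.ker d1).map q
  have hH : H.FG := by
    rw [Submodule.fg_iff_exists_fin_generating_family]
    refine ⟨r, fun k => q (w k), le_antisymm ?_ ?_⟩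
    · rw [span_le]
      rintro _ ⟨k, rfl⟩
      exact ⟨w k, hw k, rfl⟩
    · rintro _ ⟨z, hz, rfl⟩
      obtain ⟨a, b, h⟩ := hgen z hz
      rw [h, map_add, map_sum]
      have : q (d0 b) = 0 := (Submodule.Quotient.mk_eq_zero _).2 ⟨b, rfl⟩
      rw [this, add_zero]
      refine Submodule.sum_mem _ fun k _ => ?_
      rw [map_smul]
      exact Submodule.smul_mem _ _ (subset_span ⟨k, rfl⟩)
  have hHN : IsNoetherian A H := isNoetherian_of_fg_of_noetherian _ hH
  -- the `f^n`-torsion of `H`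
  let T : ℕ →o Submodule A H :=
    ⟨fun n => LinearMap.ker (LinearMap.lsmul A H (f ^ n)), by
      intro m n hmn x hx
      rw [LinearMap.mem_ker, LinearMap.lsmul_apply] at hx ⊢
      obtain ⟨j, rfl⟩ := Nat.exists_eq_add_of_le hmn
      rw [pow_add, mul_comm, mul_smul, hx, smul_zero]⟩
  obtain ⟨m, hm⟩ := monotone_stabilizes_iff_noetherian.mpr hHN T
  have hstab : ∀ z, d1 z = 0 → ∀ n, f ^ (m + n) • z ∈ LinearMap.range d0 →
      f ^ m • z ∈ LinearMap.range d0 := by
    intro z hz n hzn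
    have h1 : (⟨q z, z, hz, rfl⟩ : H) ∈ T (m + n) := by
      change LinearMap.lsmul A H (f ^ (m + n)) _ = 0
      rw [LinearMap.lsmul_apply]
      apply Subtype.ext
      change f ^ (m + n) • q z = 0
      rw [← map_smul]
      exact (Submodule.Quotient.mk_eq_zero _).2 hzn
    rw [← hm (m + n) (Nat.le_add_right _ _)] at h1
    have h2 : f ^ m • q z = 0 := congrArg Subtype.val (show LinearMap.lsmul A H (f ^ m) _ = 0 from h1)
    rw [← map_smul] at h2
    exact (Submodule.Quotient.mk_eq_zero _).1 h2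
  -- powers of `a`
  have hpow : ∀ n z, d1 z = 0 → ∃ b z', d1 z' = 0 ∧ (a ^ (k * n)) • z = d0 b + f ^ n • z' := by
    intro n
    induction n with
    | zero => intro z hz; exact ⟨0, z, hz, by simp⟩
    | succ n ih =>
      intro z hz
      obtain ⟨b, z', hz', h⟩ := ih z hz
      obtain ⟨x, hx⟩ := hak _ (hZ1 z' hz')
      obtain ⟨b', rfl⟩ := hs0 x
      have h3 : π1 (a ^ k • z' - d0 b') = 0 := by
        rw [map_sub, map_smul, comm0, hx, sub_self]
      obtain ⟨y, hy⟩ := hk1 _ h3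
      refine ⟨a ^ k • b + f ^ n • b', y, ?_, ?_⟩
      · have : d1 (f • y) = 0 := by
          rw [← hy, map_sub, hd, map_smul, hz', smul_zero, sub_zero]
        rw [map_smul] at this
        exact hr2.right_eq_zero_of_smul this
      · rw [mul_add, mul_one, pow_add, mul_comm, mul_smul, h, smul_add, smul_smul, mul_comm (a ^ k),
          ← smul_smul, show a ^ k • z' = d0 b' + f • y by rw [← hy]; abel]
        simp only [map_add, map_smul, smul_add, pow_succ, mul_smul]
        abel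
  refine ⟨k * m, fun x hx => ?_⟩
  obtain ⟨b, rfl⟩ := hs0 x
  rw [← comm0] at hx
  obtain ⟨z, hz⟩ := hk1 _ hx
  have hz1 : d1 z = 0 := by
    have : d1 (f • z) = 0 := by rw [← hz, hd]
    rw [map_smul] at this
    exact hr2.right_eq_zero_of_smul this
  obtain ⟨b', z', hz', h⟩ := hpow m z hz1
  have h4 : f ^ m • z' ∈ LinearMap.range d0 := by
    refine hstab z' hz' 1 ?_
    refine ⟨a ^ (k * m) • b - f • b', ?_⟩
    rw [map_sub, map_smul, map_smul, hz, smul_comm, h, smul_add, smul_smul, ← pow_succ']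
    abel
  obtain ⟨b'', hb''⟩ := h4
  refine ⟨a ^ (k * m) • b - f • (b' + b''), ?_, ?_⟩
  · rw [map_sub, map_smul, map_smul, hz, map_add, hb'', ← h, smul_comm, sub_self]
  · rw [map_sub, hk0, sub_zero, map_smul]

end Complex

end Groth.Agent.FormalA.CompleteCx
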