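import Mathlib.RingTheory.KrullDimension.Regular
import Mathlib.RingTheory.KrullDimension.LocalRing
import Mathlib.RingTheory.Ideal.KrullsHeightTheorem
import Mathlib.Topology.KrullDimension
import Mathlib.RingTheory.Spectrum.Prime.Topology
import Mathlib.RingTheory.AdicCompletion.Noetherian
import Mathlib.RingTheory.AdicCompletion.Algebra
import Mathlib.RingTheory.AdicCompletion.Exactness

/-!
Dimension theory helpers for the connectedness theorem 0ECR:
* dimension of quotients and closed subsets of the spectrum,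
* systems of parameters relative to an ideal,
* completeness of quotients of complete local rings.
-/

set_option autoImplicit false
universe u

namespace Groth.Agent.FormalA.ConnDim

open PrimeSpectrum IsLocalRing

section Dim

variable {R : Type u} [CommRing R]

/-- Comparison of dimensions of quotients through zero loci. -/
theorem ringKrullDim_quotient_le_of_zeroLocus_subset {I J : Ideal R}
    (h : zeroLocus (R := R) (J : Set R) ⊆ zeroLocus (R := R) (I : Set R)) :
    ringKrullDim (R ⧸ J) ≤ ringKrullDim (R ⧸ I) := by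
  rw [ringKrullDim_quotient, ringKrullDim_quotient]
  exact Order.krullDim_le_of_strictMono (Set.inclusion h) (fun a b hab => hab)

theorem ringKrullDim_quotient_le_of_le {I J : Ideal R} (h : I ≤ J) :
    ringKrullDim (R ⧸ J) ≤ ringKrullDim (R ⧸ I) :=
  ringKrullDim_quotient_le_of_zeroLocus_subset (zeroLocus_anti_mono_ideal h)

theorem ringKrullDim_quotient_eq_of_zeroLocus_eq {I J : Ideal R}
    (h : zeroLocus (R := R) (J : Set R) = zeroLocus (R := R) (I : Set R)) :
    ringKrullDim (R ⧸ J) = ringKrullDim (R ⧸ I) :=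
  le_antisymm (ringKrullDim_quotient_le_of_zeroLocus_subset h.le)
    (ringKrullDim_quotient_le_of_zeroLocus_subset h.ge)

/-- The dimension of a closed subset of the spectrum. -/
theorem topologicalKrullDim_zeroLocus (I : Ideal R) :
    topologicalKrullDim (zeroLocus (R := R) (I : Set R)) = ringKrullDim (R ⧸ I) := by
  rw [← PrimeSpectrum.topologicalKrullDim_eq_ringKrullDim]
  have hs : Function.Surjective (Ideal.Quotient.mk I) := Ideal.Quotient.mk_surjective
  have he := isClosedEmbedding_comap_of_surjective _ (Ideal.Quotient.mk I) hs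
  have hr : Set.range (PrimeSpectrum.comap (Ideal.Quotient.mk I)) = zeroLocus (R := R) (I : Set R) := by
    rw [range_comap_of_surjective _ _ hs, Ideal.mk_ker]
  symm
  refine IsHomeomorph.topologicalKrullDim_eq
    (fun x => (⟨PrimeSpectrum.comap (Ideal.Quotient.mk I) x, hr ▸ Set.mem_range_self x⟩ :
      zeroLocus (R := R) (I : Set R))) ?_
  exact (he.isEmbedding.toHomeomorph.trans (Homeomorph.setCongr hr)).isHomeomorph

/-- If `dim R/I` is finite there is a prime `Q ⊇ I` with `dim R/Q = dim R/I`. -/
theorem exists_prime_ringKrullDim_quotient_eq {I : Ideal R} [FiniteRingKrullDim (R ⧸ I)] :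
    ∃ Q : Ideal R, Q.IsPrime ∧ I ≤ Q ∧ ringKrullDim (R ⧸ Q) = ringKrullDim (R ⧸ I) := by
  have hfin : FiniteDimensionalOrder (zeroLocus (R := R) (I : Set R)) := by
    rw [Order.finiteDimensionalOrder_iff_krullDim_ne_bot_and_top, ← ringKrullDim_quotient]
    exact ⟨ringKrullDim_ne_bot, ringKrullDim_ne_top⟩
  let l := LTSeries.longestOf (zeroLocus (R := R) (I : Set R))
  refine ⟨l.head.1.asIdeal, l.head.1.2, l.head.2, le_antisymm ?_ ?_⟩
  · exact ringKrullDim_quotient_le_of_le l.head.2
  · rw [ringKrullDim_quotient, Order.krullDim_eq_length_of_finiteDimensionalOrder]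
    rw [ringKrullDim_quotient]
    let l' : LTSeries (zeroLocus (R := R) (l.head.1.asIdeal : Set R)) :=
      { length := l.length
        toFun := fun i => ⟨(l i).1, by
          have : l.head ≤ l i := LTSeries.head_le l i
          exact this⟩
        step := fun i => l.step i }
    exact Order.LTSeries.length_le_krullDim l'

theorem exists_nat_ringKrullDim (R : Type u) [CommRing R] [FiniteRingKrullDim R] :
    ∃ d : ℕ, ringKrullDim R = d :=
  ⟨_, Order.krullDim_eq_length_of_finiteDimensionalOrder⟩

end Dim

section Local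

variable {R : Type u} [CommRing R] [IsLocalRing R]

theorem isLocalRing_quotient {b : Ideal R} (hb : b ≠ ⊤) : IsLocalRing (R ⧸ b) := by
  have := Ideal.Quotient.nontrivial_iff.mpr hb
  exact IsLocalRing.of_surjective' (Ideal.Quotient.mk b) Ideal.Quotient.mk_surjective

theorem mem_maximalIdeal_quotient {b : Ideal R} [IsLocalRing (R ⧸ b)] (x : R) :
    Ideal.Quotient.mk b x ∈ maximalIdeal (R ⧸ b) ↔ x ∈ maximalIdeal R := by
  have : IsLocalHom (Ideal.Quotient.mk b) := .of_surjective _ Ideal.Quotient.mk_surjective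
  rw [mem_maximalIdeal, mem_maximalIdeal, mem_nonunits_iff, mem_nonunits_iff, isUnit_map_iff]

theorem map_maximalIdeal_quotient {b : Ideal R} [IsLocalRing (R ⧸ b)] :
    (maximalIdeal R).map (Ideal.Quotient.mk b) = maximalIdeal (R ⧸ b) := by
  ext x
  obtain ⟨x, rfl⟩ := Ideal.Quotient.mk_surjective x
  rw [mem_maximalIdeal_quotient, Ideal.mem_map_iff_of_surjective _ Ideal.Quotient.mk_surjective]
  constructor
  · rintro ⟨y, hy, hxy⟩
    rw [← mem_maximalIdeal_quotient (b := b)] at hy ⊢
    rwa [← hxy]
  · intro h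
    exact ⟨x, h, rfl⟩

variable [IsNoetherianRing R]

/-- Adding `s.card` elements of the maximal ideal lowers the dimension by at most `s.card`. -/
theorem ringKrullDim_quotient_le_add_card (b : Ideal R) (hb : b ≠ ⊤) (s : Finset R)
    (hs : (s : Set R) ⊆ maximalIdeal R) :
    ringKrullDim (R ⧸ b) ≤ ringKrullDim (R ⧸ (b ⊔ Ideal.span (s : Set R))) + s.card := by
  classical
  have := isLocalRing_quotient hb
  have h := ringKrullDim_le_ringKrullDim_quotient_add_card (R := R ⧸ b)
    (s.image (Ideal.Quotient.mk b)) (by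
      rw [IsLocalRing.ringJacobson_eq_maximalIdeal]
      intro x hx
      simp only [Finset.coe_image, Set.mem_image, Finset.mem_coe] at hx
      obtain ⟨y, hy, rfl⟩ := hx
      exact (mem_maximalIdeal_quotient y).2 (hs hy))
  have e : ((R ⧸ b) ⧸ Ideal.span ((s.image (Ideal.Quotient.mk b) : Finset (R ⧸ b)) : Set (R ⧸ b))) ≃+*
      R ⧸ (b ⊔ Ideal.span (s : Set R)) := by
    rw [Finset.coe_image, ← Ideal.map_span]
    exact DoubleQuot.quotQuotEquivQuotSup _ _
  rw [ringKrullDim_eq_of_ringEquiv e] at h
  refine h.trans ?_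
  gcongr
  exact_mod_cast Finset.card_image_le

/-- Existence of a system of parameters for `R/b`. -/
theorem exists_parameters (b : Ideal R) (hb : b ≠ ⊤) :
    ∃ s : Finset R, (s : Set R) ⊆ maximalIdeal R ∧ (s.card : WithBot ℕ∞) = ringKrullDim (R ⧸ b) ∧
      (b ⊔ Ideal.span (s : Set R)).radical = maximalIdeal R := by
  classical
  have := isLocalRing_quotient hb
  obtain ⟨s', hs', hc⟩ := Ideal.exists_finset_card_eq_height_of_isNoetherianRing (maximalIdeal (R ⧸ b))
  have hsub : (s' : Set (R ⧸ b)) ⊆ Ideal.Quotient.mk b '' (maximalIdeal R : Set R) := by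
    intro x hx
    obtain ⟨x, rfl⟩ := Ideal.Quotient.mk_surjective x
    refine ⟨x, ?_, rfl⟩
    exact (mem_maximalIdeal_quotient x).1 (hs'.1.2 (Ideal.subset_span hx))
  obtain ⟨s, hs, hinj, himg⟩ := s'.exists_subset_injOn_image_eq_of_surjOn (maximalIdeal R : Set R)
    (f := Ideal.Quotient.mk b) hsub
  refine ⟨s, hs, ?_, ?_⟩
  · rw [← IsLocalRing.maximalIdeal_height_eq_ringKrullDim, ← hc, ← himg, Finset.card_image_of_injOn hinj]
    rfl
  · have hbm : b ≤ maximalIdeal R := le_maximalIdeal hb
    have hsm : Ideal.span (s : Set R) ≤ maximalIdeal R := Ideal.span_le.2 hs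
    apply le_antisymm
    · rw [Ideal.IsPrime.radical_le_iff (inferInstance : (maximalIdeal R).IsPrime)]
      exact sup_le hbm hsm
    · rw [Ideal.radical_eq_sInf, le_sInf_iff]
      rintro P ⟨hP, hPp⟩
      have hbP : b ≤ P := le_sup_left.trans hP
      have hsP : Ideal.span (s : Set R) ≤ P := le_sup_right.trans hP
      have hPq : (P.map (Ideal.Quotient.mk b)).IsPrime :=
        Ideal.map_isPrime_of_surjective Ideal.Quotient.mk_surjective (by rwa [Ideal.mk_ker])
      have hle : Ideal.span (s' : Set (R ⧸ b)) ≤ P.map (Ideal.Quotient.mk b) := by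
        rw [← himg, Finset.coe_image, ← Ideal.map_span]
        exact Ideal.map_mono hsP
      have hmax := hs'.2 ⟨hPq, hle⟩ (le_maximalIdeal hPq.ne_top)
      intro x hx
      have hx' : Ideal.Quotient.mk b x ∈ P.map (Ideal.Quotient.mk b) :=
        hmax ((mem_maximalIdeal_quotient x).2 hx)
      rw [← Ideal.mem_comap, Ideal.comap_map_of_surjective _ Ideal.Quotient.mk_surjective] at hx'
      rw [← RingHom.ker_eq_comap_bot, Ideal.mk_ker, sup_eq_left.2 hbP] at hx'
      exact hx'

/-- A quotient of a complete Noetherian local ring is complete. -/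
theorem isAdicComplete_quotient [IsAdicComplete (maximalIdeal R) R] (b : Ideal R)
    [IsLocalRing (R ⧸ b)] : IsAdicComplete (maximalIdeal (R ⧸ b)) (R ⧸ b) := by
  have h1 : IsPrecomplete (maximalIdeal R) (R ⧸ b) := by
    rw [← AdicCompletion.of_surjective_iff]
    have hs : Function.Surjective (AdicCompletion.map (maximalIdeal R)
        (Submodule.mkQ b : R →ₗ[R] (R ⧸ b))) :=
      AdicCompletion.map_surjective _ (Submodule.mkQ_surjective _)
    intro y
    obtain ⟨x, rfl⟩ := hs y
    obtain ⟨x, rfl⟩ := AdicCompletion.of_surjective (maximalIdeal R) R x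
    exact ⟨Submodule.mkQ b x, by rw [AdicCompletion.map_of]⟩
  have h2 : IsPrecomplete (maximalIdeal (R ⧸ b)) (R ⧸ b) := by
    rw [← map_maximalIdeal_quotient (b := b)]
    exact (IsPrecomplete.map_algebraMap_iff (S := R ⧸ b)).2 h1
  exact { toIsHausdorff := inferInstance, toIsPrecomplete := h2 }

end Local

end Groth.Agent.FormalA.ConnDim
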