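import Groth.Agent.FormalA.LCMayerShift
import Groth.Agent.Localalg.LCInst

/-!
A vanishing consequence of the Mayer-Vietoris sequence for local cohomology.
-/

set_option autoImplicit false
universe u

open CategoryTheory

namespace Groth.Agent.FormalA.LCMayer

open LocCoh Groth.Agent.FormalA.LCMayerAbs

/-- Mathlib's local cohomology satisfies the interface `Shift`. -/
theorem shift {R : Type u} [CommRing R] (J : Ideal R) : Shift J :=
  LCMayerShift.shift_of_LC J (Localalg.LCAbs.lc J) (fun n M => ⟨Iso.refl _⟩)

/-- A vanishing consequence of the Mayer-Vietoris sequence. -/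
theorem subsingleton_H_sup (R : Type u) [CommRing R] [IsNoetherianRing R] (b c : Ideal R)
    (M : Type u) [AddCommGroup M] [Module R M] (n : ℕ)
    (hb : Subsingleton (H b (n + 1) M)) (hc : Subsingleton (H c (n + 1) M))
    (hbc : Subsingleton (H (b ⊓ c) n M)) : Subsingleton (H (b ⊔ c) (n + 1) M) :=
  subsingleton_sup' b c (shift b) (shift c) (shift (b ⊓ c)) (shift (b ⊔ c)) n M hb hc hbc

end Groth.Agent.FormalA.LCMayer
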