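import Groth.Agent.Localalg.LCInst
import Groth.Agent.Localalg.LCRows
import Mathlib.Algebra.Homology.DerivedCategory.Ext.EnoughProjectives
import Mathlib.LinearAlgebra.Pi
import Groth.Prelude.Def_Wider

/-!
# The syzygy killing lemma

Let `R` be a Noetherian ring, `I` an ideal of cohomological dimension at most `d`, `D` any delta
functor on `R`-modules (e.g. local cohomology with support in another ideal) and `f` an element of
`R` such that multiplication by `f` induces zero on `D.T l R` for `l ≤ L + d`.  Then for every `n`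
there is `m ≥ n` such that `f ^ (d + 1)` kills the image of `D.T i (R/I^m) → D.T i (R/I^n)` for all
`i ≤ L`.
-/

set_option autoImplicit false
universe v' u' u

open CategoryTheory Limits
open Groth.Agent.Localalg.DeltaFun

namespace Groth.Agent.FormalA.SyzKill

section General

variable {R : Type u} [CommRing R] {𝒟 : Type u'} [Category.{v'} 𝒟] [Abelian 𝒟]

/-- Multiplication by `f` on a finite free module is killed by an additive functor which kills
multiplication by `f` on `R`. -/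
theorem map_smul_free (T : ModuleCat.{u} R ⥤ 𝒟) [T.Additive] (f : R)
    (h : T.map (f • 𝟙 (ModuleCat.of R R)) = 0) (r : ℕ) :
    T.map (f • 𝟙 (ModuleCat.of R (Fin r → R))) = 0 := by
  have h1 : f • 𝟙 (ModuleCat.of R (Fin r → R)) =
      ∑ j : Fin r, ModuleCat.ofHom (LinearMap.proj (R := R) (φ := fun _ : Fin r => R) j) ≫
        (f • 𝟙 (ModuleCat.of R R)) ≫
        ModuleCat.ofHom (LinearMap.single R (fun _ : Fin r => R) j) := by
    refine ModuleCat.hom_ext (LinearMap.ext fun x => ?_)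
    rw [ModuleCat.hom_sum, LinearMap.sum_apply]
    change f • x = ∑ j : Fin r, Pi.single j (f • x j)
    funext k
    rw [Finset.sum_apply, Finset.sum_eq_single k]
    · simp
    · intro j _ hj
      exact Pi.single_eq_of_ne hj.symm _
    · intro hk
      exact absurd (Finset.mem_univ k) hk
  rw [h1, Functor.map_sum]
  refine Finset.sum_eq_zero fun j _ => ?_
  rw [Functor.map_comp, Functor.map_comp, h, zero_comp, comp_zero]

/-- One step: a short exact sequence `0 → Z → F → M → 0` with `F` finite free and `Z` finite. -/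
theorem exists_syz [IsNoetherianRing R] (M : ModuleCat.{u} R) [Module.Finite R M] :
    ∃ (S : ShortComplex (ModuleCat.{u} R)) (r : ℕ), S.ShortExact ∧ S.X₃ = M ∧
      S.X₂ = ModuleCat.of R (Fin r → R) ∧ Module.Finite R S.X₁ := by
  obtain ⟨r, g, hg⟩ := Module.Finite.exists_fin' R M
  have : Epi (ModuleCat.ofHom g) := (ModuleCat.epi_iff_surjective _).2 hg
  refine ⟨ShortComplex.mk (ModuleCat.ofHom (LinearMap.ker g).subtype) (ModuleCat.ofHom g) ?_, r,
    ?_, rfl, rfl, ?_⟩
  · ext x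
    exact x.2
  · refine ShortComplex.ShortExact.mk' ?_ ?_ this
    · rw [ShortComplex.ShortExact.moduleCat_exact_iff_function_exact]
      exact LinearMap.exact_subtype_ker_map g
    · exact (ModuleCat.mono_iff_injective _).2 Subtype.val_injective
  · change Module.Finite R (LinearMap.ker g)
    infer_instance

/-- If `T^l (f • 1_F) = 0` and `x : X ⟶ T^l M` dies in `T^{l+1} Z` then `f` kills `x`. -/
theorem map_smul_comp_eq_zero (D : DeltaFunctor (ModuleCat.{u} R) 𝒟)
    {S : ShortComplex (ModuleCat.{u} R)} (hS : S.ShortExact) (f : R) (l : ℕ)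
    (h : (D.T l).map (f • 𝟙 S.X₂) = 0) {X : 𝒟} (x : X ⟶ (D.T l).obj S.X₃)
    (hx : x ≫ D.δ hS l = 0) : x ≫ (D.T l).map (f • 𝟙 S.X₃) = 0 := by
  refine (D.exact₃ hS l).comp_eq_zero hx ?_
  change (D.T l).map S.g ≫ (D.T l).map (f • 𝟙 S.X₃) = 0
  rw [← Functor.map_comp, Linear.comp_smul, Category.comp_id]
  have h1 : f • S.g = (f • 𝟙 S.X₂) ≫ S.g := by rw [Linear.smul_comp, Category.id_comp]
  rw [h1, Functor.map_comp, h, zero_comp]

/-- scalar multiple of a morphism of short complexes -/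
def smulHom (f : R) {S S' : ShortComplex (ModuleCat.{u} R)} (ψ : S' ⟶ S) : S' ⟶ S where
  τ₁ := f • ψ.τ₁
  τ₂ := f • ψ.τ₂
  τ₃ := f • ψ.τ₃
  comm₁₂ := by rw [Linear.smul_comp, Linear.comp_smul, ψ.comm₁₂]
  comm₂₃ := by rw [Linear.smul_comp, Linear.comp_smul, ψ.comm₂₃]

theorem smulHom_τ₁ (f : R) {S S' : ShortComplex (ModuleCat.{u} R)} (ψ : S' ⟶ S) :
    (smulHom f ψ).τ₁ = f • ψ.τ₁ := rfl

theorem smulHom_τ₃ (f : R) {S S' : ShortComplex (ModuleCat.{u} R)} (ψ : S' ⟶ S) :
    (smulHom f ψ).τ₃ = f • ψ.τ₃ := rfl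

/-- Lifting a map to the quotient to a map from a short exact sequence with projective middle
term. -/
theorem exists_lift {S : ShortComplex (ModuleCat.{u} R)} (hS : S.ShortExact)
    {M' : ModuleCat.{u} R} (φ : M' ⟶ S.X₃) :
    ∃ (S' : ShortComplex (ModuleCat.{u} R)) (_ : S'.ShortExact) (ψ : S' ⟶ S) (h : S'.X₃ = M'),
      ψ.τ₃ = eqToHom h ≫ φ ∧ Projective S'.X₂ := by
  have := hS.epi_g
  have := hS.mono_f
  let S' : ShortComplex (ModuleCat.{u} R) :=
    ShortComplex.mk (kernel.ι (Projective.π M')) (Projective.π M') (kernel.condition _)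
  have hS' : S'.ShortExact :=
    { exact := ShortComplex.exact_of_f_is_kernel _ (kernelIsKernel _)
      mono_f := by dsimp [S']; infer_instance
      epi_g := by dsimp [S']; infer_instance }
  let a : Projective.over M' ⟶ S.X₂ := Projective.factorThru (Projective.π M' ≫ φ) S.g
  have ha : a ≫ S.g = Projective.π M' ≫ φ := Projective.factorThru_comp _ _
  let b : kernel (Projective.π M') ⟶ S.X₁ := hS.exact.lift (kernel.ι (Projective.π M') ≫ a) (by
    rw [Category.assoc, ha, ← Category.assoc, kernel.condition, zero_comp])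
  have hb : b ≫ S.f = kernel.ι (Projective.π M') ≫ a := hS.exact.lift_f _ _
  refine ⟨S', hS', { τ₁ := b, τ₂ := a, τ₃ := φ, comm₁₂ := hb, comm₂₃ := ha }, rfl, ?_, ?_⟩
  · simp
  · change Projective (Projective.over M')
    infer_instance

/-- The syzygy lemma: there are a module `N` and a class `ξ ∈ Ext^{d+1}(M, N)` such that a map
`φ : M' ⟶ M` with `φ^* ξ = 0` becomes zero after multiplication by `f^{d+1}` on `T^i`, `i ≤ L`,
as soon as `f` kills `T^l R` for `l ≤ L + d`. -/
theorem exists_class [IsNoetherianRing R] (d : ℕ) : ∀ (M : ModuleCat.{u} R) [Module.Finite R M],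
    ∃ (N : ModuleCat.{u} R) (ξ : Abelian.Ext M N (d + 1)),
      ∀ (M' : ModuleCat.{u} R) (φ : M' ⟶ M),
        (Abelian.Ext.mk₀ φ).comp ξ (zero_add (d + 1)) = 0 →
        ∀ (D : DeltaFunctor (ModuleCat.{u} R) 𝒟) (f : R) (L : ℕ),
          (∀ l ≤ L + d, (D.T l).map (f • 𝟙 (ModuleCat.of R R)) = 0) →
          ∀ i ≤ L, (D.T i).map (f ^ (d + 1) • φ) = 0 := by
  induction d with
  | zero =>
    intro M _
    obtain ⟨S, r, hS, hM, hF, -⟩ := exists_syz M
    subst hM
    refine ⟨S.X₁, hS.extClass, fun M' φ hφ D f L hf i hi => ?_⟩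
    obtain ⟨y, hy⟩ := Abelian.Ext.covariant_sequence_exact₃ M' hS (Abelian.Ext.mk₀ φ) (n₁ := 1)
      rfl hφ
    obtain ⟨ψ, rfl⟩ := (Abelian.Ext.mk₀_bijective M' S.X₂).2 y
    rw [Abelian.Ext.mk₀_comp_mk₀] at hy
    obtain rfl := (Abelian.Ext.mk₀_bijective M' S.X₃).1 hy
    have h2 : (D.T i).map (f • 𝟙 S.X₂) = 0 := by
      rw [hF]
      exact map_smul_free _ f (hf i (by omega)) r
    have h3 : f ^ (0 + 1) • (ψ ≫ S.g) = ψ ≫ (f • 𝟙 S.X₂) ≫ S.g := by
      rw [zero_add, pow_one, Linear.smul_comp, Category.id_comp, Linear.comp_smul]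
    rw [h3, Functor.map_comp, Functor.map_comp, h2, zero_comp, comp_zero]
  | succ d ih =>
    intro M _
    obtain ⟨S, r, hS, hM, hF, hfin⟩ := exists_syz M
    subst hM
    obtain ⟨N, ξ, hξ⟩ := ih S.X₁
    refine ⟨N, hS.extClass.comp ξ (by omega), fun M' φ hφ D f L hf i hi => ?_⟩
    obtain ⟨S', hS', ψ, hM', hψ, hP⟩ := exists_lift hS φ
    subst hM'
    obtain rfl : ψ.τ₃ = φ := hψ
    have h1 : (Abelian.Ext.mk₀ ψ.τ₁).comp ξ (zero_add (d + 1)) = 0 := by
      have h2 : hS'.extClass.comp ((Abelian.Ext.mk₀ ψ.τ₁).comp ξ (zero_add (d + 1)))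
          (show 1 + (d + 1) = d + 1 + 1 by omega) = 0 := by
        rw [← Abelian.Ext.comp_assoc _ _ _ (add_zero 1) (zero_add (d + 1)) (by omega),
          ShortComplex.ShortExact.extClass_naturality hS' hS ψ,
          Abelian.Ext.comp_assoc _ _ _ (zero_add 1) (show 1 + (d + 1) = d + 1 + 1 by omega)
            (by omega)]
        exact hφ
      obtain ⟨x₂, hx₂⟩ := Abelian.Ext.contravariant_sequence_exact₁ hS' _ _ _ h2
      rw [← hx₂, Abelian.Ext.eq_zero_of_projective x₂, Abelian.Ext.comp_zero]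
    have h3 := hξ S'.X₁ ψ.τ₁ h1 D f (L + 1) (fun l hl => hf l (by omega)) (i + 1) (by omega)
    have h4 : (D.T i).map (f ^ (d + 1) • ψ.τ₃) ≫ D.δ hS i = 0 := by
      have h5 := D.naturality hS' hS (smulHom (f ^ (d + 1)) ψ) i
      rw [smulHom_τ₁, smulHom_τ₃, h3, comp_zero] at h5
      exact h5
    have h7 : (D.T i).map (f • 𝟙 S.X₂) = 0 := by
      rw [hF]
      exact map_smul_free _ f (hf i (by omega)) r
    have h8 := map_smul_comp_eq_zero D hS f i h7 _ h4
    rw [← Functor.map_comp] at h8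
    rw [← h8]
    congr 1
    rw [Linear.comp_smul, Category.comp_id, smul_smul, pow_succ']

/-- The syzygy killing lemma for a general delta functor. -/
theorem exists_ge [IsNoetherianRing R] (I : Ideal R) (d : ℕ)
    (hcd : ∀ N : ModuleCat.{u} R, Subsingleton ((localCohomology I (d + 1)).obj N)) (n : ℕ) :
    ∃ (m : ℕ) (h : n ≤ m), ∀ (D : DeltaFunctor (ModuleCat.{u} R) 𝒟) (f : R) (L : ℕ),
      (∀ l ≤ L + d, (D.T l).map (f • 𝟙 (ModuleCat.of R R)) = 0) →
      ∀ i ≤ L, (D.T i).map (f ^ (d + 1) • Localalg.LCInst.tr I h) = 0 := by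
  have : Module.Finite R (Localalg.LCInst.Q I n) := inferInstanceAs (Module.Finite R (R ⧸ I ^ n))
  obtain ⟨N, ξ, hξ⟩ := exists_class (𝒟 := 𝒟) d (Localalg.LCInst.Q I n)
  obtain ⟨m, h, hm⟩ := Localalg.LCInst.ι_eq_zero ξ (@Subsingleton.elim _ (hcd N) _ _)
  exact ⟨m, h, fun D f L hf i hi => hξ _ _ hm D f L hf i hi⟩

end General

section Alg

variable {A : Type u} [CommRing A] [IsNoetherianRing A] (B : Type u) [CommRing B] [Algebra A B]
  [IsNoetherianRing B]

open Groth.Agent.Localalg.LCAbs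

/-- restriction of scalars of a module over a tower -/
noncomputable def resIso (N : Type u) [AddCommGroup N] [Module A N] [Module B N]
    [IsScalarTower A B N] : (res A B).obj (ModuleCat.of B N) ≅ ModuleCat.of A N :=
  { hom := ModuleCat.ofHom (X := (res A B).obj (ModuleCat.of B N)) (Y := N)
        { toFun := fun x => x
          map_add' := fun _ _ => rfl
          map_smul' := fun a (x : N) => algebraMap_smul B a x }
    inv := ModuleCat.ofHom (X := N) (Y := (res A B).obj (ModuleCat.of B N))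
        { toFun := fun x => x
          map_add' := fun _ _ => rfl
          map_smul' := fun a (x : N) => (algebraMap_smul B a x).symm } }

/-- The transition map `B / I^m B → B / I^n B`. -/
noncomputable def quotMap (I : Ideal A) {m n : ℕ} (h : n ≤ m) :
    (B ⧸ (I ^ m • (⊤ : Submodule A B))) →ₗ[A] (B ⧸ (I ^ n • (⊤ : Submodule A B))) :=
  Submodule.factor (Submodule.smul_mono_left (Ideal.pow_le_pow_right h))

omit [IsNoetherianRing A] [IsNoetherianRing B] in
theorem pow_map_eq (I : Ideal A) (n : ℕ) :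
    (I ^ n • (⊤ : Submodule A B)) =
      ((I.map (algebraMap A B)) ^ n : Ideal B).restrictScalars A := by
  rw [Ideal.smul_top_eq_map, Ideal.map_pow]

/-- `B / (IB)^n ≅ B / I^n B`. -/
noncomputable def quotIso (I : Ideal A) (n : ℕ) :
    (res A B).obj (Localalg.LCInst.Q (I.map (algebraMap A B)) n) ≅
      ModuleCat.of A (B ⧸ (I ^ n • (⊤ : Submodule A B))) :=
  resIso B (B ⧸ (I.map (algebraMap A B)) ^ n) ≪≫
    ((Submodule.quotEquivOfEq _ _ (pow_map_eq B I n)).trans
      (Submodule.Quotient.restrictScalarsEquiv A _)).symm.toModuleIso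

omit [IsNoetherianRing A] [IsNoetherianRing B] in
theorem res_tr (I : Ideal A) {m n : ℕ} (h : n ≤ m) (f : A) :
    (res A B).map (algebraMap A B f • Localalg.LCInst.tr (I.map (algebraMap A B)) h) =
      (quotIso B I m).hom ≫ (f • ModuleCat.ofHom (quotMap B I h)) ≫ (quotIso B I n).inv := by
  rw [← Category.assoc, Iso.eq_comp_inv]
  ext x
  obtain ⟨y, rfl⟩ := Ideal.Quotient.mk_surjective (x : B ⧸ (I.map (algebraMap A B)) ^ m)
  change (Submodule.Quotient.mk (algebraMap A B f * y) : B ⧸ (I ^ n • (⊤ : Submodule A B))) =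
    f • Submodule.Quotient.mk y
  rw [← Submodule.Quotient.mk_smul]
  exact congrArg _ (Algebra.smul_def f y).symm

omit [IsNoetherianRing A] [IsNoetherianRing B] in
theorem res_id (f : A) :
    (res A B).map (algebraMap A B f • 𝟙 (ModuleCat.of B B)) =
      (resIso B B).hom ≫ (f • 𝟙 (ModuleCat.of A B)) ≫ (resIso B B).inv := by
  rw [← Category.assoc, Iso.eq_comp_inv]
  ext x
  exact (Algebra.smul_def f (show B from x)).symm

/-- The syzygy killing lemma for an arbitrary delta functor `D` on `A`-modules and a Noetherian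
`A`-algebra `B` (e.g. `B = A / p`). -/
theorem exists_ge_delta {𝒟 : Type u'} [Category.{v'} 𝒟] [Abelian 𝒟] (I : Ideal A) (d : ℕ)
    (hcd : LocCoh.CdLE A I d) (n : ℕ) :
    ∃ (m : ℕ) (h : n ≤ m), ∀ (D : DeltaFunctor (ModuleCat.{u} A) 𝒟) (f : A) (L : ℕ),
      (∀ l ≤ L + d, (D.T l).map (f • 𝟙 (ModuleCat.of A B)) = 0) →
      ∀ i ≤ L, (D.T i).map (f ^ (d + 1) • ModuleCat.ofHom (quotMap B I h)) = 0 := by
  have hcd' := Localalg.LCRows.cdLE_map (B := B) I d hcd
  obtain ⟨m, h, hm⟩ := exists_ge (𝒟 := 𝒟) (I.map (algebraMap A B)) d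
    (fun N => hcd' N (d + 1) (Nat.lt_succ_self d)) n
  refine ⟨m, h, fun D f L hf i hi => ?_⟩
  have h1 := hm (D.precomp (res A B)) (algebraMap A B f) L ?_ i hi
  · change (D.T i).map ((res A B).map _) = 0 at h1
    rw [← map_pow, res_tr, Functor.map_comp, Functor.map_comp] at h1
    have h2 := congrArg (fun t => (D.T i).map (quotIso B I m).inv ≫ t ≫
      (D.T i).map (quotIso B I n).hom) h1
    simpa using h2
  · intro l hl
    change (D.T l).map ((res A B).map _) = 0
    rw [res_id, Functor.map_comp, Functor.map_comp, hf l hl, zero_comp, comp_zero]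

/-- The syzygy killing lemma for local cohomology of an algebra `B` (e.g. `B = A / p`). -/
theorem exists_ge_alg (I : Ideal A) (d : ℕ) (hcd : LocCoh.CdLE A I d) (n : ℕ) :
    ∃ (m : ℕ) (h : n ≤ m), ∀ (𝔞 : Ideal A) (f : A) (L : ℕ),
      (∀ l ≤ L + d, (localCohomology 𝔞 l).map (f • 𝟙 (ModuleCat.of A B)) = 0) →
      ∀ i ≤ L, (localCohomology 𝔞 i).map (f ^ (d + 1) • ModuleCat.ofHom (quotMap B I h)) = 0 := by
  obtain ⟨m, h, hm⟩ := exists_ge_delta (𝒟 := ModuleCat.{u} A) B I d hcd n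
  exact ⟨m, h, fun 𝔞 f L hf i hi => hm (lc 𝔞).D f L hf i hi⟩

/-- The syzygy killing lemma, element form.  `B` is a Noetherian `A`-algebra, e.g. `A / p`. -/
theorem exists_ge_elem (I : Ideal A) (d : ℕ) (hcd : LocCoh.CdLE A I d) (n : ℕ) :
    ∃ (m : ℕ) (h : n ≤ m), ∀ (𝔞 : Ideal A) (f : A) (L : ℕ),
      (∀ l ≤ L + d, ∀ x : LocCoh.H 𝔞 l B, f • x = 0) →
      ∀ i ≤ L, ∀ x : LocCoh.H 𝔞 i (B ⧸ (I ^ m • (⊤ : Submodule A B))),
        f ^ (d + 1) • ((localCohomology 𝔞 i).map (ModuleCat.ofHom (quotMap B I h))).hom x = 0 := by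
  obtain ⟨m, h, hm⟩ := exists_ge_alg B I d hcd n
  refine ⟨m, h, fun 𝔞 f L hf i hi x => ?_⟩
  have h1 := hm 𝔞 f L (fun l hl => ?_) i hi
  · rw [LoccohA.LCLinear.localCohomology_map_smul] at h1
    exact congr($(h1).hom x)
  · rw [LoccohA.LCLinear.localCohomology_map_smul]
    ext x
    rw [CategoryTheory.Functor.map_id]
    exact hf l hl x

/-- The syzygy killing lemma in the indexing of `Formal2.quotPow`. -/
theorem exists_ge_elem_succ (I : Ideal A) (d : ℕ) (hcd : LocCoh.CdLE A I d) (n : ℕ) :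
    ∃ (m : ℕ) (h : n ≤ m), ∀ (𝔞 : Ideal A) (f : A) (L : ℕ),
      (∀ l ≤ L + d, ∀ x : LocCoh.H 𝔞 l B, f • x = 0) →
      ∀ i ≤ L, ∀ x : LocCoh.H 𝔞 i (B ⧸ (I ^ (m + 1) • (⊤ : Submodule A B))),
        f ^ (d + 1) • ((localCohomology 𝔞 i).map
          (ModuleCat.ofHom (quotMap B I (Nat.succ_le_succ h)))).hom x = 0 := by
  obtain ⟨m, h, hm⟩ := exists_ge_elem B I d hcd (n + 1)
  obtain ⟨m, rfl⟩ : ∃ k, m = k + 1 := ⟨m - 1, by omega⟩
  exact ⟨m, Nat.le_of_succ_le_succ h, hm⟩

end Alg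

end Groth.Agent.FormalA.SyzKill
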