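import Groth.Agent.FormalA.HVTors
import Groth.Agent.FormalA.AdicFin

/-!
# Formal cohomology over opens from local cohomology

`V = Spec A ∖ V(J)`, `A` Noetherian, `M` an `A`-module.
* `formalCohBijective_succ`: if `H^{i+2}_J(M) → lim_n H^{i+2}_J(M/I^{n+1}M)` is bijective then
  `FormalCohBijective A I M (i+1) V`.
* `formalCohBijective_zero`: the same in degree zero, from degrees zero and one.
* `formalCohColimBijective_of_forall`.
-/

set_option autoImplicit false
universe u

open CategoryTheory TopologicalSpace Opposite CategoryTheory.Limits AlgebraicGeometry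
open Groth.Agent.FormalA.TildeAb Groth.Agent.FormalA.InjSec Groth.Agent.FormalA.HUBasic
open Groth.Agent.FormalA.HVBasic Groth.Agent.FormalA.HVLC Groth.Agent.FormalA.HVTors
open Groth.Agent.Localalg.DeltaFun Groth.Agent.Localalg.Gam Groth.Agent.Localalg.LCAbs

namespace Groth.Agent.FormalA.HVForm

attribute [local instance 3000] HUBasic.hasSheafify HUBasic.hasExt

variable {A : Type u} [CommRing A]

/-- `F(M) → lim_n F(M/I^{n+1}M)` is bijective, elementwise. -/
def LimBij (I : Ideal A) (M : Type u) [AddCommGroup M] [Module A M]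
    (F : ModuleCat.{u} A ⥤ ModuleCat.{u} A) : Prop :=
  (∀ x : F.obj (ModuleCat.of A M),
    (∀ n, (F.map (ModuleCat.ofHom (Formal2.quotPowπ A I M n))).hom x = 0) → x = 0) ∧
  ∀ y : ∀ n, F.obj (ModuleCat.of A (Formal2.quotPow A I M n)),
    (∀ n, (F.map (ModuleCat.ofHom (Formal2.quotPowTrans A I M n))).hom (y (n + 1)) = y n) →
      ∃ x : F.obj (ModuleCat.of A M),
        ∀ n, (F.map (ModuleCat.ofHom (Formal2.quotPowπ A I M n))).hom x = y n

variable (I : Ideal A) (M : Type u) [AddCommGroup M] [Module A M]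

/-- Reformulation of `FormalCohBijective` with `EV`. -/
theorem formalCohBijective_iff (i : ℕ) (V : (Spec (CommRingCat.of A)).Opens) :
    Formal2.FormalCohBijective A I M i V ↔ LimBij I M (evF i V) := by
  constructor
  · rintro ⟨h1, h2⟩
    constructor
    · intro x hx
      have := h1 ((toEV A M i V).symm x) 0 (fun n => by
        apply (toEV A _ i V).injective
        rw [toEV_HVmap, AddEquiv.apply_symm_apply, map_zero, map_zero]
        exact hx n)
      exact (AddEquiv.map_eq_zero_iff (toEV A M i V).symm).1 this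
    · intro y hy
      obtain ⟨x, hx⟩ := h2 (fun n => (toEV A _ i V).symm (y n)) (fun n => by
        apply (toEV A _ i V).injective
        rw [toEV_HVmap, AddEquiv.apply_symm_apply, AddEquiv.apply_symm_apply]
        exact hy n)
      refine ⟨toEV A M i V x, fun n => ?_⟩
      have := congrArg (toEV A _ i V) (hx n)
      rw [toEV_HVmap, AddEquiv.apply_symm_apply] at this
      exact this
  · rintro ⟨h1, h2⟩
    constructor
    · intro x x' hx
      rw [← sub_eq_zero]
      apply (AddEquiv.map_eq_zero_iff (toEV A M i V)).1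
      apply h1
      intro n
      refine (toEV_HVmap A (Formal2.quotPowπ A I M n) i V (x - x')).symm.trans ?_
      rw [map_sub, hx n, sub_self, map_zero]
      rfl
    · intro y hy
      obtain ⟨x, hx⟩ := h2 (fun n => toEV A _ i V (y n)) (fun n => by
        refine (toEV_HVmap A (Formal2.quotPowTrans A I M n) i V (y (n + 1))).symm.trans ?_
        rw [hy n])
      refine ⟨(toEV A M i V).symm x, fun n => ?_⟩
      apply (toEV A _ i V).injective
      rw [toEV_HVmap, AddEquiv.apply_symm_apply]
      exact hx n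

/-- `LimBij` only depends on the functor up to isomorphism. -/
theorem LimBij.of_bijective {F G : ModuleCat.{u} A ⥤ ModuleCat.{u} A} (α : F ⟶ G)
    (hα : ∀ N : ModuleCat.{u} A, Function.Bijective (α.app N).hom) (h : LimBij I M G) :
    LimBij I M F := by
  have nat : ∀ {N N' : ModuleCat.{u} A} (φ : N ⟶ N') (x : F.obj N),
      (α.app N').hom ((F.map φ).hom x) = (G.map φ).hom ((α.app N).hom x) := fun φ x =>
    congrArg (fun f => f.hom x) (α.naturality φ)
  constructor
  · intro x hx
    apply (hα _).1
    rw [map_zero]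
    apply h.1
    intro n
    rw [← nat, hx n, map_zero]
  · intro y hy
    obtain ⟨x, hx⟩ := h.2 (fun n => (α.app _).hom (y n)) (fun n => by
      rw [← nat, hy n])
    obtain ⟨x, rfl⟩ := (hα _).2 x
    refine ⟨x, fun n => ?_⟩
    apply (hα _).1
    rw [nat, hx n]

theorem LimBij.of_iso {F G : ModuleCat.{u} A ⥤ ModuleCat.{u} A} (α : F ≅ G)
    (h : LimBij I M G) : LimBij I M F :=
  LimBij.of_bijective I M α.hom (fun N => ConcreteCategory.bijective_of_isIso (α.hom.app N)) h

variable {I M}

/-- Positive degrees. -/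
theorem formalCohBijective_succ [IsNoetherianRing A] {J : Ideal A}
    {V : (Spec (CommRingCat.of A)).Opens} (hV : V = LocCoh.puncturedOpen A J) (i : ℕ)
    (h : LimBij I M (localCohomology J (i + 2))) : Formal2.FormalCohBijective A I M (i + 1) V := by
  rw [formalCohBijective_iff]
  exact LimBij.of_bijective I M (conn hV (i + 1)) (fun N => connL_succ_bijective hV i N) h

/-- `M → lim_n M/I^{n+1}M` is bijective. -/
theorem exists_of_compat [IsPrecomplete I M] (m : ∀ n, Formal2.quotPow A I M n)
    (hm : ∀ n, Formal2.quotPowTrans A I M n (m (n + 1)) = m n) :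
    ∃ x : M, ∀ n, Formal2.quotPowπ A I M n x = m n := by
  choose f hf using fun n => Submodule.mkQ_surjective _ (m n)
  let g : ℕ → M := fun n => Nat.casesOn n 0 f
  have hstep : ∀ n, f (n + 1) - f n ∈ (I ^ (n + 1) • ⊤ : Submodule A M) := by
    intro n
    rw [← Submodule.Quotient.mk_eq_zero, Submodule.Quotient.mk_sub, sub_eq_zero]
    have h1 := hm n
    rw [← hf (n + 1), ← hf n] at h1
    exact h1
  have hstep' : ∀ n, g (n + 1) - g n ∈ (I ^ n • ⊤ : Submodule A M) := by
    intro n
    cases n with
    | zero => simp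
    | succ n => exact hstep n
  have hle : ∀ {m n : ℕ}, m ≤ n → g n - g m ∈ (I ^ m • ⊤ : Submodule A M) := by
    intro m n hmn
    induction n, hmn using Nat.le_induction with
    | base => simp
    | succ n hmn ih =>
      have h1 : g (n + 1) - g m = (g (n + 1) - g n) + (g n - g m) := by abel
      rw [h1]
      exact Submodule.add_mem _ (Submodule.smul_mono_left (Ideal.pow_le_pow_right hmn) (hstep' n)) ih
  obtain ⟨L, hL⟩ := IsPrecomplete.prec' (I := I) (M := M) g (fun {m n} hmn => by
    rw [SModEq.sub_mem, ← neg_sub]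
    exact Submodule.neg_mem _ (hle hmn))
  refine ⟨L, fun n => ?_⟩
  have h1 := hL (n + 1)
  rw [SModEq.sub_mem] at h1
  rw [← hf n]
  change Submodule.Quotient.mk L = Submodule.Quotient.mk (f n)
  rw [eq_comm, Submodule.Quotient.eq]
  exact h1

/-- Degree zero. -/
theorem formalCohBijective_zero [IsNoetherianRing A] [IsPrecomplete I M] {J : Ideal A}
    {V : (Spec (CommRingCat.of A)).Opens} (hV : V = LocCoh.puncturedOpen A J)
    (h0 : ∀ m : M, (∀ n, Formal2.quotPowπ A I M n m ∈ gam J (Formal2.quotPow A I M n)) →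
      m ∈ gam J M)
    (h1 : LimBij I M (localCohomology J 1))
    (hR : ∀ a : ∀ n, gam J (Formal2.quotPow A I M n), ∃ x : ∀ n, gam J (Formal2.quotPow A I M n),
      ∀ n, (x n : Formal2.quotPow A I M n) - Formal2.quotPowTrans A I M n (x (n + 1)) = a n) :
    Formal2.FormalCohBijective A I M 0 V := by
  rw [formalCohBijective_iff]
  have hmap : ∀ n (m : M), mapL (ModuleCat.ofHom (Formal2.quotPowπ A I M n)) 0 V
      (augHom V (ModuleCat.of A M) m) =
      augHom V (ModuleCat.of A (Formal2.quotPow A I M n)) (Formal2.quotPowπ A I M n m) :=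
    fun n m => (augHom_naturality (ModuleCat.ofHom (Formal2.quotPowπ A I M n)) m).symm
  have key1 : ∀ x : EV (ModuleCat.of A M) 0 V,
      (∀ n, mapL (ModuleCat.ofHom (Formal2.quotPowπ A I M n)) 0 V x = 0) → x = 0 := by
    intro x hx
    have h2 : connL hV 0 _ x = 0 := by
      apply h1.1
      intro n
      rw [← connL_naturality, hx n, map_zero]
    obtain ⟨m, rfl⟩ := (augHom_connL_exact hV _ x).1 h2
    rw [augHom_eq_zero_iff hV]
    refine h0 m fun n => ?_
    have h3 := hx n
    rw [hmap] at h3
    exact (augHom_eq_zero_iff hV _ _).1 h3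
  have key2 : ∀ y : ∀ n, EV (ModuleCat.of A (Formal2.quotPow A I M n)) 0 V,
      (∀ n, mapL (ModuleCat.ofHom (Formal2.quotPowTrans A I M n)) 0 V (y (n + 1)) = y n) →
      ∃ x : EV (ModuleCat.of A M) 0 V,
        ∀ n, mapL (ModuleCat.ofHom (Formal2.quotPowπ A I M n)) 0 V x = y n := by
    intro y hy
    obtain ⟨z, hz⟩ := h1.2 (fun n => connL hV 0 _ (y n)) (fun n => by
      rw [← connL_naturality, hy n])
    obtain ⟨w, rfl⟩ := connL_zero_surjective hV _ z
    have h2 : ∀ n, ∃ m : Formal2.quotPow A I M n,
        augHom V (ModuleCat.of A (Formal2.quotPow A I M n)) m =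
          y n - mapL (ModuleCat.ofHom (Formal2.quotPowπ A I M n)) 0 V w := by
      intro n
      obtain ⟨m, hm⟩ := (augHom_connL_exact hV (ModuleCat.of A (Formal2.quotPow A I M n))
        (y n - mapL (ModuleCat.ofHom (Formal2.quotPowπ A I M n)) 0 V w)).1 (by
          rw [map_sub, connL_naturality, hz n, sub_self])
      exact ⟨m, hm⟩
    choose m hm using h2
    have hcomp : ∀ n, mapL (ModuleCat.ofHom (Formal2.quotPowTrans A I M n)) 0 V
        (mapL (ModuleCat.ofHom (Formal2.quotPowπ A I M (n + 1))) 0 V w) =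
          mapL (ModuleCat.ofHom (Formal2.quotPowπ A I M n)) 0 V w := by
      intro n
      rw [← mapL_comp]
      congr 2
    have h3 : ∀ n, Formal2.quotPowTrans A I M n (m (n + 1)) - m n ∈
        gam J (Formal2.quotPow A I M n) := by
      intro n
      apply (augHom_eq_zero_iff hV (ModuleCat.of A (Formal2.quotPow A I M n)) _).1
      have h4 : augHom V (ModuleCat.of A (Formal2.quotPow A I M n))
          (Formal2.quotPowTrans A I M n (m (n + 1))) = _ :=
        augHom_naturality (V := V) (ModuleCat.ofHom (Formal2.quotPowTrans A I M n)) (m (n + 1))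
      rw [hm (n + 1), map_sub, hy n, hcomp n, ← hm n] at h4
      rw [map_sub]
      exact sub_eq_zero.2 h4
    obtain ⟨x, hx⟩ := hR (fun n => ⟨_, h3 n⟩)
    obtain ⟨l, hl⟩ := exists_of_compat (I := I) (M := M) (fun n => m n + (x n : _)) (fun n => by
      have h5 := hx n
      change (x n : Formal2.quotPow A I M n) - Formal2.quotPowTrans A I M n (x (n + 1)) =
        Formal2.quotPowTrans A I M n (m (n + 1)) - m n at h5
      rw [map_add]
      rw [sub_eq_sub_iff_add_eq_add] at h5
      rw [← h5]
      abel)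
    refine ⟨w + augHom V (ModuleCat.of A M) l, fun n => ?_⟩
    rw [map_add, hmap, hl n, map_add, hm n,
      (augHom_eq_zero_iff hV (ModuleCat.of A (Formal2.quotPow A I M n)) _).2 (x n).2]
    abel
  exact ⟨key1, key2⟩

theorem HVres_HVmap {N N' : Type u} [AddCommGroup N] [Module A N] [AddCommGroup N'] [Module A N']
    (φ : N →ₗ[A] N') (i : ℕ) {V V' : (Spec (CommRingCat.of A)).Opens} (h : V' ≤ V)
    (x : Formal2.HV A N i V) :
    Formal2.HVres A N' i h (Formal2.HVmap A φ i V x) =
      Formal2.HVmap A φ i V' (Formal2.HVres A N i h x) := by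
  apply (toEV A N' i V').injective
  rw [toEV_HVres, toEV_HVmap, toEV_HVmap, toEV_HVres]
  exact E.res_map _ _ h _

theorem admissible_inf {U V V' : (Spec (CommRingCat.of A)).Opens}
    (h : Formal2.Admissible A I U V) (h' : Formal2.Admissible A I U V') :
    Formal2.Admissible A I U (V ⊓ V') :=
  ⟨inf_le_left.trans h.1, fun p hp hpI => ⟨h.2 p hp hpI, h'.2 p hp hpI⟩⟩

theorem formalCohColimBijective_of_forall {U V₀ : (Spec (CommRingCat.of A)).Opens} (i : ℕ)
    (h₀ : Formal2.Admissible A I U V₀)
    (h : ∀ V, Formal2.Admissible A I U V → V ≤ V₀ → Formal2.FormalCohBijective A I M i V) :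
    Formal2.FormalCohColimBijective A I M i U := by
  constructor
  · intro V hV x hx
    refine ⟨V ⊓ V₀, ⟨admissible_inf hV h₀, inf_le_left⟩, ?_⟩
    refine (h (V ⊓ V₀) (admissible_inf hV h₀) inf_le_right).1 _ 0 fun n => ?_
    rw [← HVres_HVmap, hx n, map_zero, map_zero]
  · intro y hy
    obtain ⟨x, hx⟩ := (h V₀ h₀ le_rfl).2 (fun n => Formal2.HVres A _ i h₀.1 (y n)) (fun n => by
      rw [← HVres_HVmap, hy n])
    exact ⟨V₀, h₀, x, fun n => (hx n).symm⟩

end Groth.Agent.FormalA.HVForm
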