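import Groth.Agent.FormalA.EulerThree
import Mathlib.RingTheory.HopkinsLevitzki
import Mathlib.Algebra.Group.ForwardDiff
import Mathlib.RingTheory.Ideal.AssociatedPrime.Finiteness
import Mathlib.RingTheory.Ideal.AssociatedPrime.Localization
import Mathlib.RingTheory.Support

/-!
# Polynomial growth of Euler characteristics of twists

This is the algebraic heart of the theory of invertible coherent triples on a punctured spectrum
(Stacks 0F27): for a tower `K 0, K 1, …` of finite modules over a Noetherian local ring with "multiplication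
by sections" maps `K i → K (i+1)` which are isomorphisms outside the closed point for good sections, and
compatible maps to a module `N`, the Euler characteristic of `K i --f--> K i --φ--> N` is a polynomial
function of `i`.
-/

set_option autoImplicit false

universe u v

namespace Groth.Agent.FormalA.EulerPoly

open LinearMap EulerThree

section localAt

variable {A : Type u} [CommRing A]

/-- The module vanishes at the prime `p` (elementwise). -/
def ZeroAt (p : Ideal A) (M : Type*) [AddCommGroup M] [Module A M] : Prop :=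
  ∀ x : M, ∃ a : A, a ∉ p ∧ a • x = 0

/-- The linear map is surjective at the prime `p`. -/
def SurjAt (p : Ideal A) {M N : Type*} [AddCommGroup M] [Module A M] [AddCommGroup N] [Module A N]
    (u : M →ₗ[A] N) : Prop :=
  ∀ y : N, ∃ a : A, a ∉ p ∧ ∃ x, u x = a • y

/-- The linear map is injective at the prime `p`. -/
def InjAt (p : Ideal A) {M N : Type*} [AddCommGroup M] [Module A M] [AddCommGroup N] [Module A N]
    (u : M →ₗ[A] N) : Prop :=
  ∀ x : M, u x = 0 → ∃ a : A, a ∉ p ∧ a • x = 0

lemma exists_notMem_smul_eq_zero (p : Ideal A) [p.IsPrime] {M : Type*} [AddCommGroup M] [Module A M]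
    [Module.Finite A M] (h : ZeroAt p M) : ∃ a : A, a ∉ p ∧ ∀ x : M, a • x = 0 := by
  have hp : (⟨p, inferInstance⟩ : PrimeSpectrum A) ∉ Module.support A M := by
    rw [Module.notMem_support_iff']
    intro m
    obtain ⟨a, ha, ham⟩ := h m
    exact ⟨a, ha, ham⟩
  rw [Module.mem_support_iff_of_finite] at hp
  obtain ⟨a, ha, hap⟩ := Set.not_subset.mp hp
  exact ⟨a, hap, fun x => Module.mem_annihilator.mp ha x⟩

lemma length_lt_top_of_zeroAt [IsNoetherianRing A] [IsLocalRing A] (M : Type*) [AddCommGroup M]
    [Module A M] [Module.Finite A M]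
    (h : ∀ p : Ideal A, p.IsPrime → p ≠ IsLocalRing.maximalIdeal A → ZeroAt p M) :
    Module.length A M < ⊤ := by
  rw [lt_top_iff_ne_top, Module.length_ne_top_iff, isFiniteLength_iff_isNoetherian_isArtinian]
  refine ⟨inferInstance, ?_⟩
  let I := Module.annihilator A M
  have hI : ∀ p : Ideal A, p.IsPrime → I ≤ p → p = IsLocalRing.maximalIdeal A := by
    intro p hp hIp
    by_contra hne
    obtain ⟨a, ha, hax⟩ := exists_notMem_smul_eq_zero p (h p hp hne)
    exact ha (hIp (Module.mem_annihilator.mpr hax))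
  have hart : IsArtinianRing (A ⧸ I) := by
    rw [isArtinianRing_iff_isNoetherianRing_krullDimLE_zero]
    refine ⟨isNoetherianRing_of_surjective A (A ⧸ I) (Ideal.Quotient.mk I)
      Ideal.Quotient.mk_surjective, ?_⟩
    rw [Ring.krullDimLE_zero_iff]
    intro J hJ
    have h1 : (J.comap (Ideal.Quotient.mk I)).IsPrime := Ideal.comap_isPrime _ _
    have h2 : I ≤ J.comap (Ideal.Quotient.mk I) := by
      intro x hx
      rw [Ideal.mem_comap, Ideal.Quotient.eq_zero_iff_mem.mpr hx]
      exact J.zero_mem
    have h3 := hI _ h1 h2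
    have h4 : (J.comap (Ideal.Quotient.mk I)).IsMaximal := by
      rw [h3]; infer_instance
    have h5 : J = (J.comap (Ideal.Quotient.mk I)).map (Ideal.Quotient.mk I) :=
      (Ideal.map_comap_of_surjective _ Ideal.Quotient.mk_surjective J).symm
    rw [h5]
    exact (Ideal.map_eq_top_or_isMaximal_of_surjective _ Ideal.Quotient.mk_surjective h4).resolve_left
      (by rw [← h5]; exact hJ.ne_top)
  let : Module (A ⧸ I) M := Module.quotientAnnihilator
  have : IsScalarTower A (A ⧸ I) M := IsScalarTower.of_algebraMap_smul (fun r x => rfl)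
  have : Module.Finite (A ⧸ I) M := Module.Finite.of_restrictScalars_finite A (A ⧸ I) M
  have : IsArtinian (A ⧸ I) M := inferInstance
  exact (isArtinian_of_surjective_algebraMap (Ideal.Quotient.mk_surjective (I := I)))

/-- To kill `x` outside `q`, it is enough to do it outside the associated primes below `q`. -/
lemma exists_smul_eq_zero_of_ass [IsNoetherianRing A] {M : Type*} [AddCommGroup M] [Module A M]
    (q : Ideal A) [q.IsPrime] (x : M)
    (h : ∀ p ∈ associatedPrimes A M, p ≤ q → ∃ a : A, a ∉ p ∧ a • x = 0) :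
    ∃ a : A, a ∉ q ∧ a • x = 0 := by
  by_contra hcon
  push Not at hcon
  let P : Submodule A M := A ∙ x
  have hann : Module.annihilator A P ≤ q := by
    intro a ha
    by_contra haq
    apply hcon a haq
    have := Module.mem_annihilator.mp ha ⟨x, Submodule.mem_span_singleton_self x⟩
    exact congrArg Subtype.val this
  obtain ⟨p, hp, hpq⟩ := Ideal.exists_minimalPrimes_le hann
  have hass : p ∈ associatedPrimes A P :=
    Module.associatedPrimes.minimalPrimes_annihilator_subset_associatedPrimes A P hp
  have hass' : p ∈ associatedPrimes A M :=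
    associatedPrimes.subset_of_injective (f := P.subtype) P.injective_subtype hass
  obtain ⟨a, ha, hax⟩ := h p hass' hpq
  apply ha
  apply hp.1.2
  rw [Module.mem_annihilator]
  rintro ⟨y, hy⟩
  obtain ⟨b, rfl⟩ := Submodule.mem_span_singleton.mp hy
  apply Subtype.ext
  change a • b • x = 0
  rw [smul_comm, hax, smul_zero]

end localAt

section poly

open fwdDiff

/-- A function `ℕ → ℤ` which is eventually killed by iterated differences. -/
def IsPoly (P : ℕ → ℤ) : Prop := ∃ k : ℕ, Δ_[1]^[k] P = 0

lemma fwdDiff_iter_zero (k : ℕ) : Δ_[1]^[k] (0 : ℕ → ℤ) = 0 := by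
  induction k with
  | zero => rfl
  | succ k ih =>
    rw [Function.iterate_succ_apply, show Δ_[1] (0 : ℕ → ℤ) = 0 from ?_, ih]
    funext n
    simp [fwdDiff]

lemma isPoly_of_diff {P Q : ℕ → ℤ} {c : ℤ} (hQ : IsPoly Q) (h : ∀ i, P (i + 1) - P i = Q i - c) :
    IsPoly P := by
  obtain ⟨k, hk⟩ := hQ
  refine ⟨k + 2, ?_⟩
  have h1 : Δ_[1] P = fun i => Q i - c := by
    funext i
    exact h i
  have h2 : Δ_[1] (Δ_[1] P) = Δ_[1] Q := by
    rw [h1]
    funext i
    simp [fwdDiff]
  rw [Function.iterate_succ_apply, Function.iterate_succ_apply, h2, ← Function.iterate_succ_apply,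
    Function.iterate_succ_apply', hk]
  funext n
  simp [fwdDiff]

/-- A periodic function which is polynomial is constant. -/
lemma const_of_isPoly_of_periodic {P : ℕ → ℤ} (hP : IsPoly P) {N : ℕ} (hN : 0 < N)
    (hper : ∀ i, P (i + N) = P i) : ∀ i, P i = P 0 := by
  obtain ⟨k, hk⟩ := hP
  -- descend `k`
  have hd : ∀ k : ℕ, ∀ i, (Δ_[1]^[k] P) (i + N) = (Δ_[1]^[k] P) i := by
    intro k
    induction k with
    | zero => exact hper
    | succ k ih =>
      intro i
      rw [Function.iterate_succ_apply']
      simp only [fwdDiff]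
      rw [ih i, show i + N + 1 = (i + 1) + N by ring, ih (i + 1)]
  have key : ∀ k : ℕ, Δ_[1]^[k + 1] P = 0 → Δ_[1] P = 0 := by
    intro k
    induction k with
    | zero => intro h; exact h
    | succ k ih =>
      intro h
      apply ih
      -- `Q = Δ^k P` periodic with `Δ (Δ Q) = 0`
      set Q := Δ_[1]^[k] P with hQdef
      have h2 : Δ_[1] (Δ_[1] Q) = 0 := by
        rw [hQdef, ← Function.iterate_succ_apply' (f := Δ_[1]),
          ← Function.iterate_succ_apply' (f := Δ_[1])]; exact h
      have h3 : ∀ i, (Δ_[1] Q) i = (Δ_[1] Q) 0 := by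
        intro i
        induction i with
        | zero => rfl
        | succ i hi =>
          have := congrFun h2 i
          simp only [fwdDiff, Pi.zero_apply] at this
          rw [← hi]
          simp only [fwdDiff]
          linarith
      have h4 : ∀ n : ℕ, Q n = Q 0 + n * (Δ_[1] Q) 0 := by
        intro n
        induction n with
        | zero => simp
        | succ n hn =>
          have := h3 n
          have h5 : Q (n + 1) = Q n + (Δ_[1] Q) n := by simp [fwdDiff]
          rw [h5, this, hn]
          push_cast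
          ring
      have h5 := h4 N
      have h6 := hd k 0
      rw [zero_add, ← hQdef] at h6
      rw [h6] at h5
      have h7 : (N : ℤ) * (Δ_[1] Q) 0 = 0 := by linarith
      have h8 : (Δ_[1] Q) 0 = 0 := by
        rcases mul_eq_zero.mp h7 with h | h
        · exact absurd (Int.natCast_eq_zero.mp h) hN.ne'
        · exact h
      rw [Function.iterate_succ_apply', ← hQdef]
      funext i
      rw [h3 i, h8]; rfl
  have hk' : Δ_[1]^[k + 1] P = 0 := by
    rw [Function.iterate_succ_apply', hk]
    funext n
    simp [fwdDiff]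
  have h0 := key k hk'
  intro i
  induction i with
  | zero => rfl
  | succ i hi =>
    have := congrFun h0 i
    simp only [fwdDiff, Pi.zero_apply] at this
    linarith

end poly

section tower

/-- A tower of finite modules with multiplication by sections and compatible maps to `N`. -/
structure Tower (A : Type u) [CommRing A] (f : A) (S : Type v) (ε : S → A) where
  /-- the twists -/
  K : ℕ → Type u
  /-- the target -/
  N : Type u
  [acgK : ∀ i, AddCommGroup (K i)]
  [modK : ∀ i, Module A (K i)]
  [finK : ∀ i, Module.Finite A (K i)]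
  [acgN : AddCommGroup N]
  [modN : Module A N]
  [finN : Module.Finite A N]
  /-- multiplication by a section -/
  μ : ∀ i, S → (K i →ₗ[A] K (i + 1))
  comm : ∀ i s t x, μ (i + 1) t (μ i s x) = μ (i + 1) s (μ i t x)
  /-- the comparison maps -/
  φ : ∀ i, K i →ₗ[A] N
  φμ : ∀ i s x, φ (i + 1) (μ i s x) = ε s • φ i x
  fN : ∀ y : N, f • y = 0

attribute [instance] Tower.acgK Tower.modK Tower.finK Tower.acgN Tower.modN Tower.finN

variable {A : Type u} [CommRing A] {f : A} {S : Type v} {ε : S → A}

/-- The complex `K i --f--> K i --φ--> N` has cohomology of finite length. -/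
def Tower.Fin (T : Tower A f S ε) (i : ℕ) : Prop :=
  Fin3 (LinearMap.lsmul A (T.K i) f) (T.φ i)

/-- The Euler characteristic of `K i --f--> K i --φ--> N`. -/
noncomputable def Tower.P (T : Tower A f S ε) (i : ℕ) : ℤ :=
  chi (LinearMap.lsmul A (T.K i) f) (T.φ i)

/-- The quotient of a tower by a section. -/
def Tower.quot (T : Tower A f S ε) (s : S) : Tower A f S ε where
  K i := T.K (i + 1) ⧸ range (T.μ i s)
  N := T.N ⧸ range (LinearMap.lsmul A T.N (ε s))
  μ i t := Submodule.mapQ _ _ (T.μ (i + 1) t) (by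
    rintro _ ⟨x, rfl⟩
    exact ⟨T.μ i t x, T.comm i t s x⟩)
  comm i t t' x := by
    obtain ⟨x, rfl⟩ := Submodule.Quotient.mk_surjective _ x
    simp only [Submodule.mapQ_apply]
    rw [T.comm]
  φ i := Submodule.mapQ _ _ (T.φ (i + 1)) (by
    rintro _ ⟨x, rfl⟩
    exact ⟨T.φ i x, (T.φμ i s x).symm⟩)
  φμ i t x := by
    obtain ⟨x, rfl⟩ := Submodule.Quotient.mk_surjective _ x
    simp only [Submodule.mapQ_apply]
    rw [T.φμ]
    rfl
  fN y := by
    obtain ⟨y, rfl⟩ := Submodule.Quotient.mk_surjective _ y
    rw [← Submodule.Quotient.mk_smul, T.fN]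
    rfl

/-- `s` is good at `p` for the tower. -/
def Tower.GoodAt (T : Tower A f S ε) (s : S) (p : Ideal A) : Prop :=
  ∀ i, SurjAt p (T.μ i s) ∧ InjAt p (T.μ i s)

lemma Tower.GoodAt.quot {T : Tower A f S ε} {t : S} {p : Ideal A} [p.IsPrime] (h : T.GoodAt t p)
    (s : S) : (T.quot s).GoodAt t p := by
  intro i
  constructor
  · intro y
    obtain ⟨y, rfl⟩ := Submodule.Quotient.mk_surjective _ y
    obtain ⟨a, ha, x, hx⟩ := (h (i + 1)).1 y
    exact ⟨a, ha, Submodule.Quotient.mk x, congrArg Submodule.Quotient.mk hx⟩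
  · intro x hx
    obtain ⟨x, rfl⟩ := Submodule.Quotient.mk_surjective _ x
    have hx' : T.μ (i + 1) t x ∈ range (T.μ (i + 1) s) := by
      have : (Submodule.Quotient.mk (T.μ (i + 1) t x) :
          T.K (i + 1 + 1) ⧸ range (T.μ (i + 1) s)) = 0 := hx
      rwa [Submodule.Quotient.mk_eq_zero] at this
    obtain ⟨y, hy⟩ := hx'
    obtain ⟨a, ha, z, hz⟩ := (h i).1 y
    have h1 : T.μ (i + 1) t (a • x - T.μ i s z) = 0 := by
      rw [map_sub, map_smul, ← hy, ← map_smul, ← hz, T.comm, sub_self]
    obtain ⟨b, hb, hb'⟩ := (h (i + 1)).2 _ h1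
    refine ⟨b * a, fun hab => ?_, ?_⟩
    · rcases (inferInstance : p.IsPrime).mem_or_mem hab with h' | h'
      · exact hb h'
      · exact ha h'
    · change Submodule.Quotient.mk ((b * a) • x) = (0 : T.K (i + 1) ⧸ range (T.μ i s))
      rw [Submodule.Quotient.mk_eq_zero]
      refine ⟨b • z, ?_⟩
      rw [map_smul, mul_smul]
      rw [smul_sub, sub_eq_zero] at hb'
      exact hb'.symm

lemma Tower.injAt_succ (T : Tower A f S ε) {s t : S} {q : Ideal A} [q.IsPrime] (ht : T.GoodAt t q)
    (i : ℕ) (h : InjAt q (T.μ i s)) : InjAt q (T.μ (i + 1) s) := by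
  intro x hx
  obtain ⟨a, ha, y, hy⟩ := (ht i).1 x
  have h1 : T.μ (i + 1) t (T.μ i s y) = 0 := by
    rw [T.comm, hy, map_smul, hx, smul_zero]
  obtain ⟨b, hb, hb'⟩ := (ht (i + 1)).2 _ h1
  rw [← map_smul] at hb'
  obtain ⟨c, hc, hc'⟩ := h _ hb'
  refine ⟨c * b * a, ?_, ?_⟩
  · intro hm
    rcases (inferInstance : q.IsPrime).mem_or_mem hm with hm | hm
    · rcases (inferInstance : q.IsPrime).mem_or_mem hm with hm | hm
      · exact hc hm
      · exact hb hm
    · exact ha hm
  · rw [mul_smul, ← hy, ← map_smul, mul_smul, hc', map_zero]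

lemma Tower.injAt_all (T : Tower A f S ε) {s t : S} {q : Ideal A} [q.IsPrime] (ht : T.GoodAt t q)
    (h : InjAt q (T.μ 0 s)) (i : ℕ) : InjAt q (T.μ i s) := by
  induction i with
  | zero => exact h
  | succ i ih => exact T.injAt_succ ht i ih

lemma Tower.zeroAt_succ (T : Tower A f S ε) {t : S} {q : Ideal A} [q.IsPrime] (ht : T.GoodAt t q)
    (i : ℕ) (h : ZeroAt q (T.K i)) : ZeroAt q (T.K (i + 1)) := by
  intro x
  obtain ⟨a, ha, y, hy⟩ := (ht i).1 x
  obtain ⟨b, hb, hb'⟩ := h y
  refine ⟨b * a, ?_, ?_⟩
  · intro hm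
    rcases (inferInstance : q.IsPrime).mem_or_mem hm with hm | hm
    · exact hb hm
    · exact ha hm
  · rw [mul_smul, ← hy, ← map_smul, hb', map_zero]

lemma Tower.zeroAt_all (T : Tower A f S ε) {t : S} {q : Ideal A} [q.IsPrime] (ht : T.GoodAt t q)
    (h : ZeroAt q (T.K 0)) (i : ℕ) : ZeroAt q (T.K i) := by
  induction i with
  | zero => exact h
  | succ i ih => exact T.zeroAt_succ ht i ih

lemma ZeroAt.submodule {q : Ideal A} {M : Type*} [AddCommGroup M] [Module A M] (h : ZeroAt q M)
    (P : Submodule A M) : ZeroAt q P := by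
  intro x
  obtain ⟨a, ha, hx⟩ := h x
  exact ⟨a, ha, Subtype.ext hx⟩

lemma ZeroAt.quotient {q : Ideal A} {M : Type*} [AddCommGroup M] [Module A M] (h : ZeroAt q M)
    (P : Submodule A M) : ZeroAt q (M ⧸ P) := by
  intro x
  obtain ⟨x, rfl⟩ := Submodule.Quotient.mk_surjective _ x
  obtain ⟨a, ha, hx⟩ := h x
  exact ⟨a, ha, by rw [← Submodule.Quotient.mk_smul, hx]; rfl⟩

lemma zeroAt_ker_of_injAt {q : Ideal A} {M N : Type*} [AddCommGroup M] [Module A M]
    [AddCommGroup N] [Module A N] {u : M →ₗ[A] N} (h : InjAt q u) : ZeroAt q (ker u) := by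
  intro x
  obtain ⟨a, ha, hx⟩ := h x x.2
  exact ⟨a, ha, Subtype.ext hx⟩

lemma zeroAt_coker_of_surjAt {q : Ideal A} {M N : Type*} [AddCommGroup M] [Module A M]
    [AddCommGroup N] [Module A N] {u : M →ₗ[A] N} (h : SurjAt q u) : ZeroAt q (N ⧸ range u) := by
  intro x
  obtain ⟨x, rfl⟩ := Submodule.Quotient.mk_surjective _ x
  obtain ⟨a, ha, y, hy⟩ := h x
  refine ⟨a, ha, ?_⟩
  rw [← Submodule.Quotient.mk_smul, Submodule.Quotient.mk_eq_zero]
  exact ⟨y, hy⟩

/-- One step of the difference computation. -/
lemma Tower.diff (T : Tower A f S ε) (s : S) (i : ℕ)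
    (f₀ : Module.length A (ker (T.μ i s)) < ⊤)
    (f₂ : Module.length A (ker (LinearMap.lsmul A T.N (ε s))) < ⊤)
    (h₁ : T.Fin i) (h₂ : T.Fin (i + 1)) :
    (T.quot s).Fin i ∧ T.P (i + 1) - T.P i = (T.quot s).P i -
      ((Module.length A (ker (LinearMap.lsmul A T.N (ε s)))).toNat : ℤ) := by
  obtain ⟨m1, m2⟩ := chi_coker (LinearMap.lsmul A (T.K i) f) (T.φ i)
    (LinearMap.lsmul A (T.K (i + 1)) f) (T.φ (i + 1))
    (fun x => by simp [T.fN]) (fun x => by simp [T.fN])
    (T.μ i s) (T.μ i s) (LinearMap.lsmul A T.N (ε s))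
    (fun x => by simp) (fun x => (T.φμ i s x).symm) f₀ f₀ f₂ h₁ h₂
    (LinearMap.lsmul A ((T.quot s).K i) f) ((T.quot s).φ i) (fun x => rfl) (fun x => rfl)
  refine ⟨m1, ?_⟩
  have : T.P (i + 1) - T.P i = _ := m2
  rw [this, sub_self, zero_add]
  rfl

end tower

section main

variable {A : Type u} [CommRing A] [IsNoetherianRing A] [IsLocalRing A] {f : A} {S : Type v} {ε : S → A}

/-- Polynomiality of the Euler characteristics of a tower. -/
theorem Tower.isPoly (good : S → Ideal A → Prop)
    (hε : ∀ s p, good s p → f ∈ p → ε s ∉ p)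
    (havoid : ∀ Z : Set (Ideal A), Z.Finite →
      (∀ p ∈ Z, p.IsPrime ∧ p ≠ IsLocalRing.maximalIdeal A) → ∃ s, ∀ p ∈ Z, good s p)
    (I : Ideal A) : ∀ (T : Tower A f S ε)
    (_ : ∀ s p, p.IsPrime → good s p → T.GoodAt s p)
    (_ : ∀ i, T.Fin i)
    (_ : ∀ p : Ideal A, p.IsPrime → p ≠ IsLocalRing.maximalIdeal A → ¬ I ≤ p → ZeroAt p (T.K 0))
    (_ : ∀ p : Ideal A, p.IsPrime → p ≠ IsLocalRing.maximalIdeal A → ¬ I ≤ p → ZeroAt p T.N),
    IsPoly T.P := by
  induction I using WellFoundedGT.induction with
  | ind I IH =>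
    intro T hgood hfin hK hN
    by_cases hI : ∃ p ∈ I.minimalPrimes, p ≠ IsLocalRing.maximalIdeal A
    · obtain ⟨p, hp, hpm⟩ := hI
      have hpp : p.IsPrime := hp.1.1
      let Sg : Set (Ideal A) := ({p} ∪ associatedPrimes A (T.K 0) ∪ associatedPrimes A T.N) \
        {IsLocalRing.maximalIdeal A}
      have hSgfin : Sg.Finite := by
        refine Set.Finite.subset ?_ Set.sdiff_subset
        exact ((Set.finite_singleton p).union (associatedPrimes.finite A (T.K 0))).union
          (associatedPrimes.finite A T.N)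
      obtain ⟨s, hs⟩ := havoid Sg hSgfin (by
        rintro q ⟨hq, hqm⟩
        refine ⟨?_, hqm⟩
        rcases hq with (hq | hq) | hq
        · rw [Set.mem_singleton_iff] at hq; rw [hq]; exact hpp
        · exact IsAssociatedPrime.isPrime hq
        · exact IsAssociatedPrime.isPrime hq)
      have hlt : ∀ q q' : Ideal A, q.IsPrime → q'.IsPrime → q' ≤ q →
          q ≠ IsLocalRing.maximalIdeal A → q' ≠ IsLocalRing.maximalIdeal A := by
        intro q q' hq hq' hle hne he
        apply hne
        rw [he] at hle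
        exact le_antisymm (IsLocalRing.le_maximalIdeal hq.ne_top) hle
      have hsp : good s p := hs p ⟨Or.inl (Or.inl rfl), hpm⟩
      -- injectivity of `μ 0 s` outside the closed point
      have hinj0 : ∀ q : Ideal A, q.IsPrime → q ≠ IsLocalRing.maximalIdeal A →
          InjAt q (T.μ 0 s) := by
        intro q hq hqm x hx
        refine exists_smul_eq_zero_of_ass q x (fun p' hp' hle => ?_)
        have hp'p : p'.IsPrime := IsAssociatedPrime.isPrime hp'
        have h1 : p' ∈ Sg := ⟨Or.inl (Or.inr hp'), hlt q p' hq hp'p hle hqm⟩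
        exact ((hgood s p' hp'p (hs p' h1)) 0).2 x hx
      have hinj : ∀ i, ∀ q : Ideal A, q.IsPrime → q ≠ IsLocalRing.maximalIdeal A →
          InjAt q (T.μ i s) := by
        intro i q hq hqm
        obtain ⟨t, ht⟩ := havoid {q} (Set.finite_singleton q) (by
          intro q' hq'; rw [Set.mem_singleton_iff] at hq'; rw [hq']; exact ⟨hq, hqm⟩)
        exact T.injAt_all (hgood t q hq (ht q rfl)) (hinj0 q hq hqm) i
      have hkerfin : ∀ i, Module.length A (ker (T.μ i s)) < ⊤ := by
        intro i
        exact length_lt_top_of_zeroAt _ (fun q hq hqm => zeroAt_ker_of_injAt (hinj i q hq hqm))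
      have hkerN : Module.length A (ker (LinearMap.lsmul A T.N (ε s))) < ⊤ := by
        refine length_lt_top_of_zeroAt _ (fun q hq hqm => zeroAt_ker_of_injAt ?_)
        intro x hx
        refine exists_smul_eq_zero_of_ass q x (fun p' hp' hle => ?_)
        have hp'p : p'.IsPrime := IsAssociatedPrime.isPrime hp'
        have h1 : p' ∈ Sg := ⟨Or.inr hp', hlt q p' hq hp'p hle hqm⟩
        by_cases hfp : f ∈ p'
        · exact ⟨ε s, hε s p' (hs p' h1) hfp, hx⟩
        · exact ⟨f, hfp, T.fN x⟩
      have hdiff := fun i => T.diff s i (hkerfin i) hkerN (hfin i) (hfin (i + 1))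
      -- the support of the quotient tower
      have hz0 : ZeroAt p ((T.quot s).K 0) := zeroAt_coker_of_surjAt ((hgood s p hpp hsp) 0).1
      have hzN : ZeroAt p (T.quot s).N := by
        intro x
        obtain ⟨x, rfl⟩ := Submodule.Quotient.mk_surjective _ x
        by_cases hfp : f ∈ p
        · refine ⟨ε s, hε s p hsp hfp, ?_⟩
          change Submodule.Quotient.mk (ε s • x) = (0 : T.N ⧸ range (LinearMap.lsmul A T.N (ε s)))
          rw [Submodule.Quotient.mk_eq_zero]
          exact ⟨x, rfl⟩
        · exact ⟨f, hfp, (T.quot s).fN _⟩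
      obtain ⟨a₁, ha₁, ha₁'⟩ := exists_notMem_smul_eq_zero p hz0
      obtain ⟨a₂, ha₂, ha₂'⟩ := exists_notMem_smul_eq_zero p hzN
      let a := a₁ * a₂
      have hap : a ∉ p := by
        intro hm
        rcases hpp.mem_or_mem hm with hm | hm
        · exact ha₁ hm
        · exact ha₂ hm
      have hlt' : I < I ⊔ Ideal.span {a} := by
        refine lt_of_le_of_ne le_sup_left (fun he => hap ?_)
        apply hp.1.2
        rw [he]
        exact Ideal.mem_sup_right (Ideal.mem_span_singleton_self a)
      have hQ : IsPoly (T.quot s).P := by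
        refine IH _ hlt' (T.quot s) ?_ (fun i => (hdiff i).1) ?_ ?_
        · intro t q hq ht
          exact (hgood t q hq ht).quot s
        · intro q hq hqm hIq
          by_cases h1 : I ≤ q
          · have h2 : a ∉ q := by
              intro h3
              apply hIq
              rw [sup_le_iff, Ideal.span_singleton_le_iff_mem]
              exact ⟨h1, h3⟩
            intro x
            refine ⟨a, h2, ?_⟩
            change (a₁ * a₂) • x = 0
            rw [mul_comm, mul_smul, ha₁', smul_zero]
          · obtain ⟨t, ht⟩ := havoid {q} (Set.finite_singleton q) (by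
              intro q' hq'; rw [Set.mem_singleton_iff] at hq'; rw [hq']; exact ⟨hq, hqm⟩)
            exact (T.zeroAt_succ (hgood t q hq (ht q rfl)) 0 (hK q hq hqm h1)).quotient _
        · intro q hq hqm hIq
          by_cases h1 : I ≤ q
          · have h2 : a ∉ q := by
              intro h3
              apply hIq
              rw [sup_le_iff, Ideal.span_singleton_le_iff_mem]
              exact ⟨h1, h3⟩
            intro x
            refine ⟨a, h2, ?_⟩
            change (a₁ * a₂) • x = 0
            rw [mul_smul, ha₂', smul_zero]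
          · exact (hN q hq hqm h1).quotient _
      exact isPoly_of_diff hQ (fun i => (hdiff i).2)
    · push Not at hI
      have hnot : ∀ q : Ideal A, q.IsPrime → q ≠ IsLocalRing.maximalIdeal A → ¬ I ≤ q := by
        intro q hq hqm hle
        obtain ⟨p, hp, hpq⟩ := Ideal.exists_minimalPrimes_le hle
        have := hI p hp
        rw [this] at hpq
        exact hqm (le_antisymm (IsLocalRing.le_maximalIdeal hq.ne_top) hpq)
      have hKfin : ∀ i, Module.length A (T.K i) < ⊤ := by
        intro i
        refine length_lt_top_of_zeroAt _ (fun q hq hqm => ?_)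
        obtain ⟨t, ht⟩ := havoid {q} (Set.finite_singleton q) (by
          intro q' hq'; rw [Set.mem_singleton_iff] at hq'; rw [hq']; exact ⟨hq, hqm⟩)
        exact T.zeroAt_all (hgood t q hq (ht q rfl)) (hK q hq hqm (hnot q hq hqm)) i
      have hNfin : Module.length A T.N < ⊤ :=
        length_lt_top_of_zeroAt _ (fun q hq hqm => hN q hq hqm (hnot q hq hqm))
      refine isPoly_of_diff (Q := 0) (c := 0) ⟨0, rfl⟩ (fun i => ?_)
      have hc : ∀ i, T.P i = ((Module.length A T.N).toNat : ℤ) := by
        intro i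
        have := (chi_of_finite (LinearMap.lsmul A (T.K i) f) (T.φ i) (fun x => by simp [T.fN])
          (hKfin i) (hKfin i) hNfin).2
        rw [Tower.P, this]
        ring
      rw [hc, hc]
      simp

end main

end Groth.Agent.FormalA.EulerPoly
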