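import Mathlib.RingTheory.Length
import Mathlib.Algebra.Module.SnakeLemma

/-!
# Lengths of the cohomology of three term complexes: additivity

For a complex `M₀ --a--> M₁ --b--> M₂` of modules, `h0 a`, `h1 a b`, `h2 b` are the lengths of its three
cohomology modules, and `chi a b = h0 - h1 + h2`.
-/

set_option autoImplicit false

universe u

namespace Groth.Agent.FormalA.EulerThree

open LinearMap

section six

variable {A : Type*} [CommRing A]
variable {K₁ K₂ K₃ C₁ C₂ C₃ : Type*}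
  [AddCommGroup K₁] [Module A K₁] [AddCommGroup K₂] [Module A K₂] [AddCommGroup K₃] [Module A K₃]
  [AddCommGroup C₁] [Module A C₁] [AddCommGroup C₂] [Module A C₂] [AddCommGroup C₃] [Module A C₃]

lemma length_eq_add_range_of_exact {X Y Z : Type*} [AddCommGroup X] [AddCommGroup Y] [AddCommGroup Z]
    [Module A X] [Module A Y] [Module A Z] (a : X →ₗ[A] Y) (b : Y →ₗ[A] Z) (h : Function.Exact a b) :
    Module.length A Y = Module.length A (LinearMap.range a) + Module.length A (LinearMap.range b) := by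
  refine Module.length_eq_add_of_exact (LinearMap.range a).subtype b.rangeRestrict
    (Submodule.subtype_injective _) b.surjective_rangeRestrict ?_
  intro y
  constructor
  · intro hy
    have : b y = 0 := by simpa using congrArg Subtype.val hy
    obtain ⟨x, hx⟩ := (h y).mp this
    exact ⟨⟨y, ⟨x, hx⟩⟩, rfl⟩
  · rintro ⟨⟨y, ⟨x, rfl⟩⟩, rfl⟩
    apply Subtype.ext
    simp [h.apply_apply_eq_zero]

lemma length_lt_top_of_exact {X Y Z : Type*} [AddCommGroup X] [AddCommGroup Y] [AddCommGroup Z]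
    [Module A X] [Module A Y] [Module A Z] (a : X →ₗ[A] Y) (b : Y →ₗ[A] Z) (h : Function.Exact a b)
    (hX : Module.length A X < ⊤) (hZ : Module.length A Z < ⊤) : Module.length A Y < ⊤ := by
  rw [length_eq_add_range_of_exact a b h]
  refine ENat.add_lt_top.mpr ⟨?_, ?_⟩
  · exact (Module.length_le_of_surjective a.rangeRestrict a.surjective_rangeRestrict).trans_lt hX
  · exact (Module.length_le_of_injective (LinearMap.range b).subtype
      (Submodule.subtype_injective _)).trans_lt hZ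

end six

section snake

variable {A : Type*} [CommRing A]
variable {M₁ M₂ M₃ N₁ N₂ N₃ : Type*}
  [AddCommGroup M₁] [Module A M₁] [AddCommGroup M₂] [Module A M₂] [AddCommGroup M₃] [Module A M₃]
  [AddCommGroup N₁] [Module A N₁] [AddCommGroup N₂] [Module A N₂] [AddCommGroup N₃] [Module A N₃]

/-- The six term sequence for a map of short exact sequences. -/
lemma exists_six (f₁ : M₁ →ₗ[A] N₁) (f₂ : M₂ →ₗ[A] N₂) (f₃ : M₃ →ₗ[A] N₃)
    (i : M₁ →ₗ[A] M₂) (p : M₂ →ₗ[A] M₃) (j : N₁ →ₗ[A] N₂) (q : N₂ →ₗ[A] N₃)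
    (hi : Function.Injective i) (hp : Function.Surjective p) (hex : Function.Exact i p)
    (hj : Function.Injective j) (hq : Function.Surjective q) (hex' : Function.Exact j q)
    (h₁ : j.comp f₁ = f₂.comp i) (h₂ : q.comp f₂ = f₃.comp p) :
    ∃ (a : ker f₁ →ₗ[A] ker f₂) (b : ker f₂ →ₗ[A] ker f₃) (d : ker f₃ →ₗ[A] (N₁ ⧸ range f₁))
      (c : (N₁ ⧸ range f₁) →ₗ[A] (N₂ ⧸ range f₂)) (e : (N₂ ⧸ range f₂) →ₗ[A] (N₃ ⧸ range f₃)),
      Function.Injective a ∧ Function.Exact a b ∧ Function.Exact b d ∧ Function.Exact d c ∧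
      Function.Exact c e ∧ Function.Surjective e ∧ (∀ x, (b x : M₃) = p x) := by
  have hh₁ : ∀ x, j (f₁ x) = f₂ (i x) := fun x => LinearMap.congr_fun h₁ x
  have hh₂ : ∀ x, q (f₂ x) = f₃ (p x) := fun x => LinearMap.congr_fun h₂ x
  let a : ker f₁ →ₗ[A] ker f₂ := i.restrict (fun x hx => by
    rw [LinearMap.mem_ker] at hx ⊢; rw [← hh₁, hx, map_zero])
  let b : ker f₂ →ₗ[A] ker f₃ := p.restrict (fun x hx => by
    rw [LinearMap.mem_ker] at hx ⊢; rw [← hh₂, hx, map_zero])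
  let c : (N₁ ⧸ range f₁) →ₗ[A] (N₂ ⧸ range f₂) := Submodule.mapQ _ _ j (by
    rintro _ ⟨x, rfl⟩; exact ⟨i x, (hh₁ x).symm⟩)
  let e : (N₂ ⧸ range f₂) →ₗ[A] (N₃ ⧸ range f₃) := Submodule.mapQ _ _ q (by
    rintro _ ⟨x, rfl⟩; exact ⟨p x, (hh₂ x).symm⟩)
  let d := SnakeLemma.δ' f₁ f₂ f₃ i p hex j q hex' h₁ h₂ (ker f₃).subtype
    (LinearMap.exact_subtype_ker_map f₃) (range f₁).mkQ (LinearMap.exact_map_mkQ_range f₁) hp hj
  refine ⟨a, b, d, c, e, ?_, ?_, ?_, ?_, ?_, ?_, fun x => rfl⟩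
  · intro x y hxy
    apply Subtype.ext
    apply hi
    exact congrArg Subtype.val hxy
  · intro y
    constructor
    · intro hy
      have hy' : p y = 0 := congrArg Subtype.val hy
      obtain ⟨x, hx⟩ := (hex _).mp hy'
      refine ⟨⟨x, ?_⟩, Subtype.ext hx⟩
      rw [LinearMap.mem_ker]
      apply hj
      rw [hh₁, hx, map_zero]
      exact y.2
    · rintro ⟨x, rfl⟩
      apply Subtype.ext
      exact hex.apply_apply_eq_zero _
  · exact SnakeLemma.exact_δ'_right f₁ f₂ f₃ i p hex j q hex' h₁ h₂ (ker f₂).subtype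
      (LinearMap.exact_subtype_ker_map f₂) (ker f₃).subtype (LinearMap.exact_subtype_ker_map f₃)
      (range f₁).mkQ (LinearMap.exact_map_mkQ_range f₁) hp hj b rfl (Submodule.subtype_injective _)
  · exact SnakeLemma.exact_δ'_left f₁ f₂ f₃ i p hex j q hex' h₁ h₂ (ker f₃).subtype
      (LinearMap.exact_subtype_ker_map f₃)
      (range f₁).mkQ (LinearMap.exact_map_mkQ_range f₁) (range f₂).mkQ
      (LinearMap.exact_map_mkQ_range f₂) hp hj c rfl (Submodule.mkQ_surjective _)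
  · intro y
    obtain ⟨y, rfl⟩ := Submodule.mkQ_surjective _ y
    constructor
    · intro hy
      have hy' : q y ∈ range f₃ := by
        have : (range f₃).mkQ (q y) = 0 := hy
        rwa [Submodule.mkQ_apply, Submodule.Quotient.mk_eq_zero] at this
      obtain ⟨z, hz⟩ := hy'
      obtain ⟨z, rfl⟩ := hp z
      have : q (y - f₂ z) = 0 := by rw [map_sub, hh₂, hz, sub_self]
      obtain ⟨x, hx⟩ := (hex' _).mp this
      refine ⟨(range f₁).mkQ x, ?_⟩
      change (range f₂).mkQ (j x) = (range f₂).mkQ y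
      rw [hx, map_sub, sub_eq_self, Submodule.mkQ_apply, Submodule.Quotient.mk_eq_zero]
      exact ⟨z, rfl⟩
    · rintro ⟨x, hx⟩
      obtain ⟨x, rfl⟩ := Submodule.mkQ_surjective _ x
      rw [← hx]
      change (range f₃).mkQ (q (j x)) = 0
      rw [hex'.apply_apply_eq_zero, map_zero]
  · intro y
    obtain ⟨y, rfl⟩ := Submodule.mkQ_surjective _ y
    obtain ⟨y, rfl⟩ := hq y
    exact ⟨(range f₂).mkQ y, rfl⟩

end snake

section defs

variable {A : Type*} [CommRing A]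
variable {M₀ M₁ M₂ : Type*}
  [AddCommGroup M₀] [Module A M₀] [AddCommGroup M₁] [Module A M₁] [AddCommGroup M₂] [Module A M₂]

/-- length of the zeroth cohomology -/
noncomputable def h0 (a : M₀ →ₗ[A] M₁) : ℕ∞ := Module.length A (ker a)

/-- length of the first cohomology -/
noncomputable def h1 (a : M₀ →ₗ[A] M₁) (b : M₁ →ₗ[A] M₂) : ℕ∞ :=
  Module.length A (ker b ⧸ (range a).submoduleOf (ker b))

/-- length of the second cohomology -/
noncomputable def h2 (b : M₁ →ₗ[A] M₂) : ℕ∞ := Module.length A (M₂ ⧸ range b)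

/-- the three term complex has cohomology of finite length -/
def Fin3 (a : M₀ →ₗ[A] M₁) (b : M₁ →ₗ[A] M₂) : Prop := h0 a < ⊤ ∧ h1 a b < ⊤ ∧ h2 b < ⊤

/-- The Euler characteristic of a three term complex. -/
noncomputable def chi (a : M₀ →ₗ[A] M₁) (b : M₁ →ₗ[A] M₂) : ℤ :=
  ((h0 a).toNat : ℤ) - (h1 a b).toNat + (h2 b).toNat

end defs

section additive

variable {A : Type*} [CommRing A]
variable {L₀ L₁ L₂ M₀ M₁ M₂ N₀ N₁ N₂ : Type*}
  [AddCommGroup L₀] [Module A L₀] [AddCommGroup L₁] [Module A L₁] [AddCommGroup L₂] [Module A L₂]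
  [AddCommGroup M₀] [Module A M₀] [AddCommGroup M₁] [Module A M₁] [AddCommGroup M₂] [Module A M₂]
  [AddCommGroup N₀] [Module A N₀] [AddCommGroup N₁] [Module A N₁] [AddCommGroup N₂] [Module A N₂]

/-- length additivity for a quotient chain `P ≤ W ≤ Z`. -/
lemma length_quot_chain {Z : Type*} [AddCommGroup Z] [Module A Z] (P W : Submodule A Z) (h : P ≤ W) :
    Module.length A (Z ⧸ P) =
      Module.length A (W ⧸ P.submoduleOf W) + Module.length A (Z ⧸ W) := by
  let u : (W ⧸ P.submoduleOf W) →ₗ[A] (Z ⧸ P) := Submodule.mapQ (P.submoduleOf W) P W.subtype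
    (fun x hx => hx)
  have hu : ∀ x : W, u (Submodule.Quotient.mk x) = Submodule.Quotient.mk (x : Z) := fun x => rfl
  refine Module.length_eq_add_of_exact u
    (Submodule.factor h) ?_ (Submodule.factor_surjective h) ?_
  · rw [← LinearMap.ker_eq_bot, LinearMap.ker_eq_bot']
    intro x hx
    obtain ⟨x, rfl⟩ := Submodule.mkQ_surjective _ x
    rw [Submodule.mkQ_apply, hu, Submodule.Quotient.mk_eq_zero] at hx
    rw [Submodule.mkQ_apply, Submodule.Quotient.mk_eq_zero]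
    exact hx
  · intro x
    obtain ⟨x, rfl⟩ := Submodule.mkQ_surjective _ x
    constructor
    · intro hx
      have : x ∈ W := by simpa using hx
      exact ⟨Submodule.Quotient.mk ⟨x, this⟩, rfl⟩
    · rintro ⟨y, hy⟩
      obtain ⟨y, rfl⟩ := Submodule.mkQ_surjective _ y
      rw [← hy, Submodule.mkQ_apply, hu]
      change Submodule.Quotient.mk (y : Z) = _
      rw [Submodule.Quotient.mk_eq_zero]
      exact y.2

/-- The nine term identity. -/
theorem nine (a₁ : L₀ →ₗ[A] L₁) (b₁ : L₁ →ₗ[A] L₂) (a₂ : M₀ →ₗ[A] M₁) (b₂ : M₁ →ₗ[A] M₂)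
    (a₃ : N₀ →ₗ[A] N₁) (b₃ : N₁ →ₗ[A] N₂)
    (hc₁ : ∀ x, b₁ (a₁ x) = 0) (hc₂ : ∀ x, b₂ (a₂ x) = 0) (hc₃ : ∀ x, b₃ (a₃ x) = 0)
    (i₀ : L₀ →ₗ[A] M₀) (i₁ : L₁ →ₗ[A] M₁) (i₂ : L₂ →ₗ[A] M₂)
    (p₀ : M₀ →ₗ[A] N₀) (p₁ : M₁ →ₗ[A] N₁) (p₂ : M₂ →ₗ[A] N₂)
    (hi₀ : Function.Injective i₀) (hi₁ : Function.Injective i₁) (hi₂ : Function.Injective i₂)
    (hp₀ : Function.Surjective p₀) (hp₁ : Function.Surjective p₁) (hp₂ : Function.Surjective p₂)
    (he₀ : Function.Exact i₀ p₀) (he₁ : Function.Exact i₁ p₁) (he₂ : Function.Exact i₂ p₂)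
    (hia : ∀ x, i₁ (a₁ x) = a₂ (i₀ x)) (hib : ∀ x, i₂ (b₁ x) = b₂ (i₁ x))
    (hpa : ∀ x, p₁ (a₂ x) = a₃ (p₀ x)) (hpb : ∀ x, p₂ (b₂ x) = b₃ (p₁ x)) :
    (h0 a₁ + h0 a₃ + h1 a₂ b₂ + h2 b₁ + h2 b₃ = h0 a₂ + h1 a₁ b₁ + h1 a₃ b₃ + h2 b₂) ∧
      h0 a₃ ≤ h0 a₂ + h1 a₁ b₁ ∧ h1 a₃ b₃ ≤ h1 a₂ b₂ + h2 b₁ ∧ h2 b₃ ≤ h2 b₂ := by
  -- restricted maps on kernels
  let Z₁ := ker b₁
  let Z₂ := ker b₂
  let W : Submodule A N₁ := (ker b₂).map p₁
  have hWle : W ≤ ker b₃ := by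
    rintro _ ⟨x, hx, rfl⟩
    rw [LinearMap.mem_ker, ← hpb, show b₂ x = 0 from hx, map_zero]
  let A₁ : L₀ →ₗ[A] Z₁ := a₁.codRestrict _ (fun x => by rw [LinearMap.mem_ker]; exact hc₁ x)
  let A₂ : M₀ →ₗ[A] Z₂ := a₂.codRestrict _ (fun x => by rw [LinearMap.mem_ker]; exact hc₂ x)
  have hA₃ : ∀ x, a₃ x ∈ W := by
    intro x
    obtain ⟨y, rfl⟩ := hp₀ x
    exact ⟨a₂ y, hc₂ y, hpa y⟩
  let A₃ : N₀ →ₗ[A] W := a₃.codRestrict _ hA₃
  let I : Z₁ →ₗ[A] Z₂ := i₁.restrict (fun x hx => by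
    rw [LinearMap.mem_ker] at hx ⊢; rw [← hib, hx, map_zero])
  let P : Z₂ →ₗ[A] W := p₁.restrict (fun x hx => ⟨x, hx, rfl⟩)
  have hIinj : Function.Injective I := by
    intro x y hxy
    apply Subtype.ext
    apply hi₁
    exact congrArg Subtype.val hxy
  have hPsurj : Function.Surjective P := by
    rintro ⟨_, ⟨x, hx, rfl⟩⟩
    exact ⟨⟨x, hx⟩, rfl⟩
  have hIP : Function.Exact I P := by
    intro y
    constructor
    · intro hy
      have hy' : p₁ y = 0 := congrArg Subtype.val hy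
      obtain ⟨x, hx⟩ := (he₁ _).mp hy'
      refine ⟨⟨x, ?_⟩, Subtype.ext hx⟩
      rw [LinearMap.mem_ker]
      apply hi₂
      rw [hib, hx, map_zero]
      exact y.2
    · rintro ⟨x, rfl⟩
      apply Subtype.ext
      exact he₁.apply_apply_eq_zero _
  -- first snake
  obtain ⟨s1, s2, s3, s4, s5, t1, t2, t3, t4, t5, t6, -⟩ := exists_six A₁ A₂ A₃ i₀ p₀ I P hi₀ hp₀ he₀
    hIinj hPsurj hIP (by ext x; exact hia x) (by ext x; exact hpa x)
  -- second snake
  obtain ⟨r1, r2, r3, r4, r5, v1, v2, v3, v4, v5, v6, v7⟩ := exists_six b₁ b₂ b₃ i₁ p₁ i₂ p₂ hi₁ hp₁ he₁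
    hi₂ hp₂ he₂ (by ext x; exact hib x) (by ext x; exact hpb x)
  have k1 : Module.length A (ker A₁) = h0 a₁ := by
    have : ker A₁ = ker a₁ := by
      ext x; simp only [LinearMap.mem_ker, A₁, Subtype.ext_iff]; rfl
    rw [this]; rfl
  have k2 : Module.length A (ker A₂) = h0 a₂ := by
    have : ker A₂ = ker a₂ := by
      ext x; simp only [LinearMap.mem_ker, A₂, Subtype.ext_iff]; rfl
    rw [this]; rfl
  have k3 : Module.length A (ker A₃) = h0 a₃ := by
    have : ker A₃ = ker a₃ := by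
      ext x; simp only [LinearMap.mem_ker, A₃, Subtype.ext_iff]; rfl
    rw [this]; rfl
  have c1 : Module.length A (Z₁ ⧸ range A₁) = h1 a₁ b₁ := by
    have : range A₁ = (range a₁).submoduleOf (ker b₁) := by
      ext x
      constructor
      · rintro ⟨y, rfl⟩; exact ⟨y, rfl⟩
      · rintro ⟨y, hy⟩; exact ⟨y, Subtype.ext hy⟩
    rw [this]; rfl
  have c2 : Module.length A (Z₂ ⧸ range A₂) = h1 a₂ b₂ := by
    have : range A₂ = (range a₂).submoduleOf (ker b₂) := by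
      ext x
      constructor
      · rintro ⟨y, rfl⟩; exact ⟨y, rfl⟩
      · rintro ⟨y, hy⟩; exact ⟨y, Subtype.ext hy⟩
    rw [this]; rfl
  -- lengths around Z₃
  let Wz : Submodule A (ker b₃) := W.submoduleOf (ker b₃)
  let Pz : Submodule A (ker b₃) := (range a₃).submoduleOf (ker b₃)
  have hPW : Pz ≤ Wz := by
    rintro x ⟨y, hy⟩
    change (x : N₁) ∈ W
    rw [show (x : N₁) = a₃ y from hy.symm]
    exact hA₃ y
  have e3 : h1 a₃ b₃ = Module.length A (Wz ⧸ Pz.submoduleOf Wz) + Module.length A (ker b₃ ⧸ Wz) :=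
    length_quot_chain Pz Wz hPW
  have e4 : Module.length A (Wz ⧸ Pz.submoduleOf Wz) = Module.length A (W ⧸ range A₃) := by
    let φ : Wz ≃ₗ[A] W := Submodule.submoduleOfEquivOfLe hWle
    refine LinearEquiv.length_eq (Submodule.Quotient.equiv _ _ φ ?_)
    ext x
    constructor
    · rintro ⟨y, ⟨z, hz⟩, rfl⟩
      exact ⟨z, Subtype.ext hz⟩
    · rintro ⟨z, rfl⟩
      refine ⟨⟨⟨a₃ z, ?_⟩, ?_⟩, ⟨z, rfl⟩, ?_⟩
      · exact hc₃ z
      · exact hA₃ z
      · rfl
  have e5 : Wz = range r2 := by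
    ext x
    constructor
    · rintro ⟨y, hy, hxy⟩
      exact ⟨⟨y, hy⟩, Subtype.ext ((v7 _).trans hxy)⟩
    · rintro ⟨y, rfl⟩
      exact ⟨y, y.2, (v7 y).symm⟩
  have e6 : Module.length A (ker b₃ ⧸ Wz) = Module.length A (range r3) := by
    rw [e5]
    have : ker r3 = range r2 := (LinearMap.exact_iff.mp v3)
    rw [← this]
    exact LinearEquiv.length_eq r3.quotKerEquivRange
  have m1 := length_eq_add_range_of_exact r3 r4 v4
  have m2 := length_eq_add_range_of_exact r4 r5 v5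
  have m3 : Module.length A (LinearMap.range r5) = h2 b₃ := by
    rw [LinearMap.range_eq_top.mpr v6, Module.length_top]; rfl
  rw [m3] at m2
  have n1 : Module.length A (ker A₁) = Module.length A (LinearMap.range s1) :=
    (LinearEquiv.ofInjective s1 t1).length_eq
  have n2 := length_eq_add_range_of_exact s1 s2 t2
  have n3 := length_eq_add_range_of_exact s2 s3 t3
  have n4 := length_eq_add_range_of_exact s3 s4 t4
  have n5 := length_eq_add_range_of_exact s4 s5 t5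
  have n6 : Module.length A (LinearMap.range s5) = Module.length A (W ⧸ range A₃) := by
    rw [LinearMap.range_eq_top.mpr t6, Module.length_top]
  rw [k1] at n1
  rw [k2] at n2
  rw [k3] at n3
  rw [c1] at n4
  rw [c2, n6] at n5
  have m1' : h2 b₁ = Module.length A (range r3) + Module.length A (range r4) := m1
  have m2' : h2 b₂ = Module.length A (range r4) + h2 b₃ := m2
  refine ⟨?_, ?_, ?_, ?_⟩
  · rw [e3, e4, e6, n1, n2, n3, n4, n5, m1', m2']
    abel
  · rw [n2, n3, n4]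
    exact add_le_add le_add_self le_self_add
  · rw [e3, e4, e6, n5, m1']
    exact add_le_add le_add_self le_self_add
  · rw [m2']
    exact le_add_self

/-- Additivity of the Euler characteristic. -/
theorem chi_add (a₁ : L₀ →ₗ[A] L₁) (b₁ : L₁ →ₗ[A] L₂) (a₂ : M₀ →ₗ[A] M₁) (b₂ : M₁ →ₗ[A] M₂)
    (a₃ : N₀ →ₗ[A] N₁) (b₃ : N₁ →ₗ[A] N₂)
    (hc₁ : ∀ x, b₁ (a₁ x) = 0) (hc₂ : ∀ x, b₂ (a₂ x) = 0) (hc₃ : ∀ x, b₃ (a₃ x) = 0)
    (i₀ : L₀ →ₗ[A] M₀) (i₁ : L₁ →ₗ[A] M₁) (i₂ : L₂ →ₗ[A] M₂)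
    (p₀ : M₀ →ₗ[A] N₀) (p₁ : M₁ →ₗ[A] N₁) (p₂ : M₂ →ₗ[A] N₂)
    (hi₀ : Function.Injective i₀) (hi₁ : Function.Injective i₁) (hi₂ : Function.Injective i₂)
    (hp₀ : Function.Surjective p₀) (hp₁ : Function.Surjective p₁) (hp₂ : Function.Surjective p₂)
    (he₀ : Function.Exact i₀ p₀) (he₁ : Function.Exact i₁ p₁) (he₂ : Function.Exact i₂ p₂)
    (hia : ∀ x, i₁ (a₁ x) = a₂ (i₀ x)) (hib : ∀ x, i₂ (b₁ x) = b₂ (i₁ x))
    (hpa : ∀ x, p₁ (a₂ x) = a₃ (p₀ x)) (hpb : ∀ x, p₂ (b₂ x) = b₃ (p₁ x))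
    (h₁ : Fin3 a₁ b₁) (h₂ : Fin3 a₂ b₂) :
    Fin3 a₃ b₃ ∧ chi a₂ b₂ = chi a₁ b₁ + chi a₃ b₃ := by
  obtain ⟨E, F0, F1, F2⟩ := nine a₁ b₁ a₂ b₂ a₃ b₃ hc₁ hc₂ hc₃ i₀ i₁ i₂ p₀ p₁ p₂ hi₀ hi₁ hi₂
    hp₀ hp₁ hp₂ he₀ he₁ he₂ hia hib hpa hpb
  have h₃ : Fin3 a₃ b₃ :=
    ⟨F0.trans_lt (ENat.add_lt_top.mpr ⟨h₂.1, h₁.2.1⟩),
      F1.trans_lt (ENat.add_lt_top.mpr ⟨h₂.2.1, h₁.2.2⟩), F2.trans_lt h₂.2.2⟩
  refine ⟨h₃, ?_⟩
  have e1 := ENat.natCast_toNat h₁.1.ne
  have e2 := ENat.natCast_toNat h₁.2.1.ne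
  have e3 := ENat.natCast_toNat h₁.2.2.ne
  have e4 := ENat.natCast_toNat h₂.1.ne
  have e5 := ENat.natCast_toNat h₂.2.1.ne
  have e6 := ENat.natCast_toNat h₂.2.2.ne
  have e7 := ENat.natCast_toNat h₃.1.ne
  have e8 := ENat.natCast_toNat h₃.2.1.ne
  have e9 := ENat.natCast_toNat h₃.2.2.ne
  rw [← e1, ← e2, ← e3, ← e4, ← e5, ← e6, ← e7, ← e8, ← e9] at E
  norm_cast at E
  unfold chi
  omega

end additive

section finite

variable {A : Type*} [CommRing A]
variable {M₀ M₁ M₂ : Type*}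
  [AddCommGroup M₀] [Module A M₀] [AddCommGroup M₁] [Module A M₁] [AddCommGroup M₂] [Module A M₂]

lemma length_ker_add_range (a : M₀ →ₗ[A] M₁) :
    Module.length A M₀ = Module.length A (ker a) + Module.length A (range a) :=
  Module.length_eq_add_of_exact (ker a).subtype a.rangeRestrict
    (Submodule.subtype_injective _) a.surjective_rangeRestrict (by
      intro x
      simp only [Submodule.coe_subtype, Subtype.range_coe_subtype]
      constructor
      · intro hx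
        have : a x = 0 := by simpa using congrArg Subtype.val hx
        exact this
      · intro hx
        have : a x = 0 := hx
        apply Subtype.ext
        simpa using this)

lemma length_range_add_coker (a : M₀ →ₗ[A] M₁) :
    Module.length A M₁ = Module.length A (range a) + Module.length A (M₁ ⧸ range a) :=
  Module.length_eq_add_of_exact (range a).subtype (range a).mkQ
    (Submodule.subtype_injective _) (Submodule.mkQ_surjective _)
    (LinearMap.exact_subtype_mkQ _)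

theorem chi_of_finite (a : M₀ →ₗ[A] M₁) (b : M₁ →ₗ[A] M₂) (hc : ∀ x, b (a x) = 0)
    (f₀ : Module.length A M₀ < ⊤) (f₁ : Module.length A M₁ < ⊤) (f₂ : Module.length A M₂ < ⊤) :
    Fin3 a b ∧ chi a b = ((Module.length A M₀).toNat : ℤ) - (Module.length A M₁).toNat +
      (Module.length A M₂).toNat := by
  have q1 : Module.length A M₀ = h0 a + Module.length A (range a) := length_ker_add_range a
  have q2 := length_ker_add_range b
  have q3 : Module.length A M₂ = Module.length A (range b) + h2 b := length_range_add_coker b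
  have q4 : Module.length A (ker b) = Module.length A (range a) + h1 a b := by
    let a' : M₀ →ₗ[A] ker b := a.codRestrict _ (fun x => by rw [LinearMap.mem_ker]; exact hc x)
    have := length_range_add_coker a'
    have hr : range a' = (range a).submoduleOf (ker b) := by
      ext x
      constructor
      · rintro ⟨y, rfl⟩; exact ⟨y, rfl⟩
      · rintro ⟨y, hy⟩; exact ⟨y, Subtype.ext hy⟩
    rw [this, h1, hr]
    congr 1
    rw [← hr]
    have hk : ker a' = ker a := by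
      ext x; simp only [LinearMap.mem_ker, a', Subtype.ext_iff]; rfl
    exact ((a'.quotKerEquivRange.symm.trans (Submodule.quotEquivOfEq _ _ hk)).trans
      a.quotKerEquivRange).length_eq
  rw [q4] at q2
  have g0 : h0 a < ⊤ := lt_of_le_of_lt (by rw [q1]; exact le_self_add) f₀
  have g1 : h1 a b < ⊤ := lt_of_le_of_lt (by rw [q2]; exact le_add_self.trans le_self_add) f₁
  have g2 : h2 b < ⊤ := lt_of_le_of_lt (by rw [q3]; exact le_add_self) f₂
  have g3 : Module.length A (range a) < ⊤ := lt_of_le_of_lt (by rw [q1]; exact le_add_self) f₀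
  have g4 : Module.length A (range b) < ⊤ := lt_of_le_of_lt (by rw [q3]; exact le_self_add) f₂
  refine ⟨⟨g0, g1, g2⟩, ?_⟩
  have e1 := ENat.natCast_toNat f₀.ne
  have e2 := ENat.natCast_toNat f₁.ne
  have e3 := ENat.natCast_toNat f₂.ne
  have e4 := ENat.natCast_toNat g0.ne
  have e5 := ENat.natCast_toNat g1.ne
  have e6 := ENat.natCast_toNat g2.ne
  have e7 := ENat.natCast_toNat g3.ne
  have e8 := ENat.natCast_toNat g4.ne
  rw [← e1, ← e4, ← e7] at q1
  rw [← e2, ← e7, ← e5, ← e8] at q2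
  rw [← e3, ← e8, ← e6] at q3
  norm_cast at q1 q2 q3
  unfold chi
  omega

end finite

section kercoker

variable {A : Type*} [CommRing A]
variable {L₀ L₁ L₂ M₀ M₁ M₂ : Type*}
  [AddCommGroup L₀] [Module A L₀] [AddCommGroup L₁] [Module A L₁] [AddCommGroup L₂] [Module A L₂]
  [AddCommGroup M₀] [Module A M₀] [AddCommGroup M₁] [Module A M₁] [AddCommGroup M₂] [Module A M₂]

/-- Comparison of Euler characteristics along a map of complexes with kernels of finite length. -/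
theorem chi_coker (a₁ : L₀ →ₗ[A] L₁) (b₁ : L₁ →ₗ[A] L₂) (a₂ : M₀ →ₗ[A] M₁) (b₂ : M₁ →ₗ[A] M₂)
    (hc₁ : ∀ x, b₁ (a₁ x) = 0) (hc₂ : ∀ x, b₂ (a₂ x) = 0)
    (u₀ : L₀ →ₗ[A] M₀) (u₁ : L₁ →ₗ[A] M₁) (u₂ : L₂ →ₗ[A] M₂)
    (hua : ∀ x, u₁ (a₁ x) = a₂ (u₀ x)) (hub : ∀ x, u₂ (b₁ x) = b₂ (u₁ x))
    (f₀ : Module.length A (ker u₀) < ⊤) (f₁ : Module.length A (ker u₁) < ⊤)
    (f₂ : Module.length A (ker u₂) < ⊤)
    (h₁ : Fin3 a₁ b₁) (h₂ : Fin3 a₂ b₂)
    (a₃ : (M₀ ⧸ range u₀) →ₗ[A] (M₁ ⧸ range u₁)) (b₃ : (M₁ ⧸ range u₁) →ₗ[A] (M₂ ⧸ range u₂))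
    (ha₃ : ∀ x, a₃ (Submodule.Quotient.mk x) = Submodule.Quotient.mk (a₂ x))
    (hb₃ : ∀ x, b₃ (Submodule.Quotient.mk x) = Submodule.Quotient.mk (b₂ x)) :
    Fin3 a₃ b₃ ∧ chi a₂ b₂ - chi a₁ b₁ = chi a₃ b₃ - (((Module.length A (ker u₀)).toNat : ℤ) -
      (Module.length A (ker u₁)).toNat + (Module.length A (ker u₂)).toNat) := by
  let ka : ker u₀ →ₗ[A] ker u₁ := a₁.restrict (fun x hx => by
    rw [LinearMap.mem_ker] at hx ⊢; rw [hua, hx, map_zero])
  let kb : ker u₁ →ₗ[A] ker u₂ := b₁.restrict (fun x hx => by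
    rw [LinearMap.mem_ker] at hx ⊢; rw [hub, hx, map_zero])
  let ra : range u₀ →ₗ[A] range u₁ := a₂.restrict (by
    rintro _ ⟨x, rfl⟩; exact ⟨a₁ x, hua x⟩)
  let rb : range u₁ →ₗ[A] range u₂ := b₂.restrict (by
    rintro _ ⟨x, rfl⟩; exact ⟨b₁ x, hub x⟩)
  obtain ⟨k1, k2⟩ := chi_of_finite ka kb (fun x => Subtype.ext (hc₁ _)) f₀ f₁ f₂
  obtain ⟨l1, l2⟩ := chi_add ka kb a₁ b₁ ra rb (fun x => Subtype.ext (hc₁ _)) hc₁
    (fun x => Subtype.ext (hc₂ _)) (ker u₀).subtype (ker u₁).subtype (ker u₂).subtype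
    u₀.rangeRestrict u₁.rangeRestrict u₂.rangeRestrict
    (Submodule.subtype_injective _) (Submodule.subtype_injective _) (Submodule.subtype_injective _)
    u₀.surjective_rangeRestrict u₁.surjective_rangeRestrict u₂.surjective_rangeRestrict
    (by
      intro x
      constructor
      · intro hx
        have hx' : u₀ x = 0 := by simpa using congrArg Subtype.val hx
        exact ⟨⟨x, hx'⟩, rfl⟩
      · rintro ⟨y, rfl⟩
        exact Subtype.ext y.2)
    (by
      intro x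
      constructor
      · intro hx
        have hx' : u₁ x = 0 := by simpa using congrArg Subtype.val hx
        exact ⟨⟨x, hx'⟩, rfl⟩
      · rintro ⟨y, rfl⟩
        exact Subtype.ext y.2)
    (by
      intro x
      constructor
      · intro hx
        have hx' : u₂ x = 0 := by simpa using congrArg Subtype.val hx
        exact ⟨⟨x, hx'⟩, rfl⟩
      · rintro ⟨y, rfl⟩
        exact Subtype.ext y.2)
    (fun x => rfl) (fun x => rfl) (fun x => Subtype.ext (hua x)) (fun x => Subtype.ext (hub x))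
    k1 h₁
  obtain ⟨m1, m2⟩ := chi_add ra rb a₂ b₂ a₃ b₃ (fun x => Subtype.ext (hc₂ _)) hc₂
    (fun x => by
      obtain ⟨x, rfl⟩ := Submodule.Quotient.mk_surjective _ x
      rw [ha₃, hb₃, hc₂]; rfl)
    (range u₀).subtype (range u₁).subtype (range u₂).subtype
    (range u₀).mkQ (range u₁).mkQ (range u₂).mkQ
    (Submodule.subtype_injective _) (Submodule.subtype_injective _) (Submodule.subtype_injective _)
    (Submodule.mkQ_surjective _) (Submodule.mkQ_surjective _) (Submodule.mkQ_surjective _)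
    (LinearMap.exact_subtype_mkQ _) (LinearMap.exact_subtype_mkQ _) (LinearMap.exact_subtype_mkQ _)
    (fun x => rfl) (fun x => rfl) (fun x => (ha₃ x).symm) (fun x => (hb₃ x).symm) l1 h₂
  refine ⟨m1, ?_⟩
  rw [k2] at l2
  rw [m2, l2]
  ring

end kercoker

end Groth.Agent.FormalA.EulerThree
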