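import Groth.Agent.Ega1.SubOfMono
import Groth.Agent.CohqB.LocalQC
import Mathlib.RingTheory.Filtration

/-!
# Extension of homomorphisms of coherent modules from an open, after shrinking the source

`Inj p N V`: the map `p` is injective on the sections of the subsheaf `N` over opens inside `V`.
An extension argument (Artin–Rees on affine opens, Zorn) for good subsheaves with this property.
-/

set_option autoImplicit false

universe u

open AlgebraicGeometry CategoryTheory TopologicalSpace Opposite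
open Groth.Agent.Ega1.SubSheaf Groth.Agent.Ega1.LocMod Groth.Agent.Ega1.QCohOfLoc
open Groth.Agent.Ega1.QCohFinite Groth.Agent.Ega1.SubExt

namespace Groth.Agent.FormalA.ExtendHom

variable {X : Scheme.{u}} {M K : X.Modules}

/-- `p` is injective on sections of `N` over opens inside `V`. -/
def Inj (p : M ⟶ K) (N : Sub M) (V : X.Opens) : Prop :=
  ∀ O : X.Opens, O ≤ V → ∀ s : Γ(M, O), s ∈ N.obj O → p.app O s = 0 → s = 0

lemma Inj.congr {p : M ⟶ K} {N N' : Sub M} {V V' : X.Opens} (h : Agree N N' V') (hV : V ≤ V')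
    (hN : Inj p N V) : Inj p N' V := by
  intro O hO s hs hp
  refine hN O hO s ?_ hp
  rw [h O (hO.trans hV)]
  exact hs

lemma Inj.mono {p : M ⟶ K} {N : Sub M} {V V' : X.Opens} (hN : Inj p N V) (hV : V' ≤ V) :
    Inj p N V' := fun O hO s hs hp ↦ hN O (hO.trans hV) s hs hp

lemma Inj.local' {p : M ⟶ K} {N : Sub M} {V : X.Opens}
    (h : ∀ x ∈ V, ∃ V' : X.Opens, x ∈ V' ∧ Inj p N V') : Inj p N V := by
  intro O hO s hs hp
  refine section_ext M _ _ fun x hx ↦ ?_
  obtain ⟨V', hxV', hV'⟩ := h x (hO hx)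
  refine ⟨O ⊓ V', inf_le_left, ⟨hx, hxV'⟩, ?_⟩
  rw [map_zero]
  refine hV' _ inf_le_right _ (N.map_mem _ hs) ?_
  rw [app_res, hp, map_zero]

/-- The linear map on sections. -/
noncomputable def lin (p : M ⟶ K) (W : X.Opens) : Γ(M, W) →ₗ[Γ(X, W)] Γ(K, W) where
  toFun := p.app W
  map_add' := map_add _
  map_smul' r s := app_smul' p r s

lemma lin_apply (p : M ⟶ K) (W : X.Opens) (s : Γ(M, W)) : lin p W s = p.app W s := rfl

/-- Algebraic core: Artin–Rees. -/
lemma exists_pow_smul_inf_eq_bot {A : Type*} [CommRing A] [IsNoetherianRing A] {Q : Type*}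
    [AddCommGroup Q] [Module A Q] (P L : Submodule A Q) (hP : P.FG) (S : Set A)
    (hS : ∀ a ∈ S, ∀ s ∈ P ⊓ L, ∃ n : ℕ, a ^ n • s = 0) :
    ∃ n : ℕ, (Ideal.span S) ^ n • P ⊓ L = ⊥ := by
  classical
  set J := Ideal.span S with hJ
  have hPfin : Module.Finite A P := Module.Finite.iff_fg.mpr hP
  have : IsNoetherian A P := isNoetherian_of_isNoetherianRing_of_finite A P
  let L' : Submodule A P := L.comap P.subtype
  have hL'fg : L'.FG := IsNoetherian.noetherian L'
  have h1 : J ≤ L'.annihilator.radical := by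
    rw [hJ, Ideal.span_le]
    intro a ha
    obtain ⟨T, hT⟩ := hL'fg
    have hT' : ∀ t : P, ∃ n : ℕ, t ∈ T → a ^ n • t = 0 := by
      intro t
      by_cases ht : t ∈ T
      · have ht' : t ∈ L' := hT ▸ Submodule.subset_span ht
        obtain ⟨n, hn⟩ := hS a ha t.1 ⟨t.2, ht'⟩
        exact ⟨n, fun _ ↦ Subtype.ext hn⟩
      · exact ⟨0, fun h ↦ absurd h ht⟩
    choose n hn using hT'
    refine ⟨T.sup n, ?_⟩
    rw [Submodule.mem_annihilator]
    intro s hs
    rw [← hT] at hs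
    induction hs using Submodule.span_induction with
    | mem x hx =>
      obtain ⟨k, hk⟩ := Nat.exists_eq_add_of_le' (Finset.le_sup (f := n) hx)
      rw [hk, pow_add, mul_smul, hn x hx, smul_zero]
    | zero => exact smul_zero _
    | add x y _ _ hx hy => rw [smul_add, hx, hy, add_zero]
    | smul b x _ hx => rw [smul_comm, hx, smul_zero]
  obtain ⟨m, hm⟩ := Ideal.exists_pow_le_of_le_radical_of_fg h1 (IsNoetherian.noetherian J)
  obtain ⟨k, hk⟩ := Ideal.exists_pow_inf_eq_pow_smul J L'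
  refine ⟨k + m, ?_⟩
  rw [eq_bot_iff]
  rintro s ⟨hs, hsL⟩
  have hsmap : s ∈ Submodule.map P.subtype (J ^ (k + m) • ⊤) := by
    rw [Submodule.map_smul'', Submodule.map_top, Submodule.range_subtype]
    exact hs
  obtain ⟨t, ht, rfl⟩ := hsmap
  have h2 : t ∈ J ^ (k + m) • ⊤ ⊓ L' := ⟨ht, hsL⟩
  rw [hk (k + m) (Nat.le_add_right k m), Nat.add_sub_cancel_left] at h2
  have h3 : J ^ m • (J ^ k • ⊤ ⊓ L') ≤ ⊥ := by
    rw [Submodule.smul_le]
    rintro r hr q ⟨-, hq⟩
    rw [Submodule.mem_bot]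
    exact Submodule.mem_annihilator.mp (hm hr) q hq
  have h4 := h3 h2
  rw [Submodule.mem_bot] at h4
  rw [h4, map_zero]
  exact Submodule.zero_mem _

/-- Shrinking a good subsheaf over an affine open so that `p` becomes injective on it. -/
theorem exists_shrink [M.IsQuasicoherent] [K.IsQuasicoherent] {p : M ⟶ K} {N : Sub M}
    {V W : X.Opens} (hN : GoodOn N W) (hA : IsNoetherianRing Γ(X, W)) (hinj : Inj p N (W ⊓ V)) :
    ∃ N' : Sub M, GoodOn N' W ∧ Agree N' N (W ⊓ V) ∧ Inj p N' W := by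
  have hW := hN.affine
  have hLM := loc_of_isQuasicoherent M hW
  have hLK := loc_of_isQuasicoherent K hW
  let S : Set Γ(X, W) := {a | X.basicOpen a ≤ V}
  obtain ⟨n, hn⟩ := exists_pow_smul_inf_eq_bot (N.obj W) (LinearMap.ker (lin p W)) hN.fg S (by
    rintro a ha s ⟨hs, hps⟩
    refine hLM.inj a s ?_
    refine hinj _ (le_inf (X.basicOpen_le a) ha) _ (N.map_mem _ hs) ?_
    rw [app_res]
    have : p.app W s = 0 := hps
    rw [this, map_zero])
  set J := Ideal.span S with hJ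
  let P := J ^ n • N.obj W
  have hPle : P ≤ N.obj W := Submodule.smul_le_right
  have hPfg : P.FG := by
    have h1 : Module.Finite Γ(X, W) (N.obj W) := Module.Finite.iff_fg.mpr hN.fg
    have h2 : IsNoetherian Γ(X, W) (N.obj W) := isNoetherian_of_isNoetherianRing_of_finite _ _
    have h3 : P = Submodule.map (N.obj W).subtype (P.comap (N.obj W).subtype) := by
      rw [Submodule.map_comap_subtype, inf_eq_right.mpr hPle]
    rw [h3]
    exact (IsNoetherian.noetherian (P.comap (N.obj W).subtype)).map _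
  have hgood := goodOn_gen hW P hPfg
  refine ⟨gen (P : Set Γ(M, W)), hgood, fun U hU ↦ le_antisymm ?_ ?_, ?_⟩
  · refine QC.le_of_le hW (qc_gen hW P) ?_ (hU.trans inf_le_left)
    rw [gen_self hW]
    exact hPle
  · intro s hs
    refine (gen (P : Set Γ(M, W))).local_mem s fun x hx ↦ ?_
    obtain ⟨a, haU, hxa⟩ := hW.exists_basicOpen_le ⟨x, hx⟩ ((hU.trans inf_le_left) hx)
    refine ⟨X.basicOpen a, haU, hxa, ?_⟩
    obtain ⟨k, t, ht⟩ := hLM.surj a (res M haU s)
    obtain ⟨m, hm⟩ := hN.qc a t (by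
      rw [ht]; exact Submodule.smul_mem _ _ (N.map_mem haU hs))
    have haJ : a ∈ J := Ideal.subset_span (haU.trans (hU.trans inf_le_right))
    have h1 : a ^ n • a ^ m • t ∈ (gen (P : Set Γ(M, W))).obj W := by
      rw [gen_self hW]
      exact Submodule.smul_mem_smul (Ideal.pow_mem_pow haJ n) hm
    have h2 := (gen (P : Set Γ(M, W))).map_mem (X.basicOpen_le a) h1
    rw [res_pow_smul, res_pow_smul, ht, smul_smul, smul_smul, ← pow_add, ← pow_add] at h2
    exact mem_of_pow_smul_mem _ a le_rfl _ _ h2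
  · intro O hO s hs hps
    refine section_ext M _ _ fun x hx ↦ ?_
    obtain ⟨a, haO, hxa⟩ := hW.exists_basicOpen_le ⟨x, hx⟩ (hO hx)
    refine ⟨X.basicOpen a, haO, hxa, ?_⟩
    rw [map_zero]
    obtain ⟨k, t, ht⟩ := hLM.surj a (res M haO s)
    obtain ⟨m, hm⟩ := hgood.qc a t (by
      rw [ht]
      exact Submodule.smul_mem _ _ ((gen (P : Set Γ(M, W))).map_mem haO hs))
    obtain ⟨l, hl⟩ := hLK.inj a (p.app W t) (by
      rw [← app_res, ht, app_smul', app_res, hps, map_zero, smul_zero])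
    rw [gen_self hW] at hm
    have h1 : a ^ l • a ^ m • t ∈ P ⊓ LinearMap.ker (lin p W) := by
      refine ⟨P.smul_mem _ hm, ?_⟩
      rw [SetLike.mem_coe, LinearMap.mem_ker, smul_comm, map_smul, map_smul, lin_apply, hl,
        smul_zero]
    have h2 : a ^ l • a ^ m • t = 0 := by
      have h3 : P ⊓ LinearMap.ker (lin p W) = ⊥ := hn
      rw [h3] at h1
      exact (Submodule.mem_bot _).mp h1
    have h3 := congr(res M (X.basicOpen_le a) $h2)
    rw [res_pow_smul, res_pow_smul, ht, smul_smul, smul_smul, ← pow_add, ← pow_add, map_zero] at h3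
    exact ((isUnit_res W a).pow _).smul_eq_zero.mp h3

/-- One step of the extension. -/
theorem exists_step [M.IsQuasicoherent] [K.IsQuasicoherent] {p : M ⟶ K} {N : Sub M}
    {V W : X.Opens} (hN : ∀ x ∈ V, GoodAt N x) (hinj : Inj p N V) (hW : IsAffineOpen W)
    (hA : IsNoetherianRing Γ(X, W)) (hc : IsCompact ((W ⊓ V : X.Opens) : Set X)) :
    ∃ N' : Sub M, Agree N' N V ∧ (∀ x ∈ V ⊔ W, GoodAt N' x) ∧ Inj p N' (V ⊔ W) := by
  obtain ⟨N₀, hN₀, hN₀'⟩ := exists_affine_extension hW hc (fun x hx ↦ hN x hx.2)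
  obtain ⟨N₁, hN₁, hN₁', hinj₁⟩ := exists_shrink (p := p) (V := V) hN₀ hA
    ((hinj.mono inf_le_right).congr hN₀'.symm le_rfl)
  replace hN₁' := hN₁'.trans hN₀'
  let Vf : Bool → X.Opens := fun b ↦ cond b V W
  let Nf : Bool → Sub M := fun b ↦ cond b N N₁
  have hag : ∀ i j, Agree (Nf i) (Nf j) (Vf i ⊓ Vf j) := by
    rintro (_ | _) (_ | _)
    · exact fun _ _ ↦ rfl
    · exact hN₁'
    · exact (hN₁'.symm).mono (by rw [inf_comm]; exact le_rfl)
    · exact fun _ _ ↦ rfl
  refine ⟨glue Vf Nf, agree_glue hag true, ?_, ?_⟩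
  · rintro x (hx | hx)
    · exact GoodAt.congr (agree_glue hag true).symm hx (hN x hx)
    · exact GoodAt.congr (agree_glue hag false).symm hx ⟨W, hx, hN₁⟩
  · refine Inj.local' ?_
    rintro x (hx | hx)
    · exact ⟨V, hx, hinj.congr (agree_glue hag true).symm le_rfl⟩
    · exact ⟨W, hx, hinj₁.congr (agree_glue hag false).symm le_rfl⟩

/-- Extension of a good subsheaf on which `p` is injective, on a locally Noetherian scheme. -/
theorem exists_extension [M.IsQuasicoherent] [K.IsQuasicoherent] [IsLocallyNoetherian X]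
    {p : M ⟶ K} {N : Sub M} {V : X.Opens} (hN : ∀ x ∈ V, GoodAt N x) (hinj : Inj p N V) :
    ∃ N' : Sub M, Agree N' N V ∧ (∀ x : X, GoodAt N' x) ∧ Inj p N' ⊤ := by
  let α := {q : X.Opens × Sub M // V ≤ q.1 ∧ Agree q.2 N V ∧ (∀ x ∈ q.1, GoodAt q.2 x) ∧
    Inj p q.2 q.1}
  let r : α → α → Prop := fun a b ↦ a.1.1 ≤ b.1.1 ∧ Agree b.1.2 a.1.2 a.1.1
  have : Nonempty α := ⟨⟨(V, N), le_rfl, fun _ _ ↦ rfl, hN, hinj⟩⟩
  obtain ⟨⟨⟨V', N'⟩, hVV', hag, hN', hinj'⟩, hmax⟩ :=
    exists_maximal_of_nonempty_chains_bounded (r := r)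
    (by
      intro c hc hne
      let Vf : c → X.Opens := fun a ↦ a.1.1.1
      let Nf : c → Sub M := fun a ↦ a.1.1.2
      have hcomp : ∀ i j : c, Agree (Nf i) (Nf j) (Vf i ⊓ Vf j) := by
        intro i j
        by_cases hij : i = j
        · subst hij; exact fun _ _ ↦ rfl
        rcases hc i.2 j.2 (fun h ↦ hij (Subtype.ext h)) with h | h
        · exact (h.2.symm).mono inf_le_left
        · exact h.2.mono inf_le_right
      obtain ⟨a₀, ha₀⟩ := hne
      refine ⟨⟨(⨆ i, Vf i, glue Vf Nf), ?_, ?_, ?_, ?_⟩, ?_⟩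
      · exact a₀.2.1.trans (le_iSup Vf ⟨a₀, ha₀⟩)
      · exact ((agree_glue hcomp ⟨a₀, ha₀⟩).mono a₀.2.1).trans a₀.2.2.1
      · intro x hx
        obtain ⟨i, hi⟩ := Opens.mem_iSup.mp hx
        exact GoodAt.congr (agree_glue hcomp i).symm hi (i.1.2.2.2.1 x hi)
      · refine Inj.local' fun x hx ↦ ?_
        obtain ⟨i, hi⟩ := Opens.mem_iSup.mp hx
        exact ⟨Vf i, hi, (i.1.2.2.2.2).congr (agree_glue hcomp i).symm le_rfl⟩
      · intro a ha
        exact ⟨le_iSup Vf ⟨a, ha⟩, agree_glue hcomp ⟨a, ha⟩⟩)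
    (by
      intro a b c hab hbc
      exact ⟨hab.1.trans hbc.1, (hbc.2.mono hab.1).trans hab.2⟩)
  have key : ∀ x : X, x ∈ V' := by
    intro x
    obtain ⟨_, ⟨W, hW, rfl⟩, hxW, -⟩ :=
      X.isBasis_affineOpens.exists_subset_of_mem_open (Set.mem_univ x) isOpen_univ
    have hA : IsNoetherianRing Γ(X, W) := IsLocallyNoetherian.component_noetherian ⟨W, hW⟩
    have hc : IsCompact ((W ⊓ V' : X.Opens) : Set X) := by
      have hU : NoetherianSpace (W : Set X) := noetherianSpace_of_isAffineOpen W hW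
      rw [noetherianSpace_set_iff] at hU
      exact hU _ Set.inter_subset_left
    obtain ⟨N₁, hag₁, hN₁, hinj₁⟩ := exists_step hN' hinj' hW hA hc
    have := (hmax ⟨(V' ⊔ W, N₁), hVV'.trans le_sup_left, (hag₁.mono hVV').trans hag, hN₁, hinj₁⟩
      ⟨le_sup_left, hag₁⟩).1
    exact this (Or.inr hxW)
  refine ⟨N', hag, fun x ↦ hN' x (key x), ?_⟩
  exact hinj'.mono (fun x _ ↦ key x)

end Groth.Agent.FormalA.ExtendHom
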