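import Groth.Agent.FormalA.NFam
import Mathlib.RingTheory.Localization.Finiteness
import Mathlib.RingTheory.Localization.AtPrime.Basic
import Mathlib.RingTheory.Localization.Submodule

/-!
# Algebraization of compatible families near a point
-/

set_option autoImplicit false
universe u

namespace Groth.Agent.FormalA.GoodLoc

open LocalizedModule Groth.Agent.FormalA.LocSub Groth.Agent.FormalA.SecMod Groth.Agent.FormalA.NFam

variable {A : Type u} [CommRing A] (I 𝔞 : Ideal A) (p : PrimeSpectrum A)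

section Krull

variable {I p}
variable {M : Type u} [AddCommGroup M] [Module A M]

/-- The image of `I ^ n M` in the localization. -/
theorem mkLinearMap_mem (n : ℕ) (m : M) (hm : m ∈ I ^ n • (⊤ : Submodule A M)) :
    mkLinearMap p.asIdeal.primeCompl M m ∈
      (I.map (algebraMap A (Localization.AtPrime p.asIdeal))) ^ n •
        (⊤ : Submodule (Localization.AtPrime p.asIdeal)
          (LocalizedModule p.asIdeal.primeCompl M)) := by
  refine Submodule.smul_induction_on hm ?_ ?_
  · intro r hr x _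
    rw [map_smul, ← algebraMap_smul (Localization.AtPrime p.asIdeal) r]
    refine Submodule.smul_mem_smul ?_ trivial
    rw [← Ideal.map_pow]
    exact Ideal.mem_map_of_mem _ hr
  · intro x y hx hy
    rw [map_add]
    exact add_mem hx hy

/-- Krull's intersection theorem at a point of `V(I)`. -/
theorem krull_at [IsNoetherianRing A] [Module.Finite A M] (hp : I ≤ p.asIdeal)
    (x : LocalizedModule p.asIdeal.primeCompl M)
    (h : ∀ n, lmap p.asIdeal.primeCompl (pr I M n) x = 0) : x = 0 := by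
  obtain ⟨a, s, rfl⟩ := exists_eq_mk x
  have : IsNoetherianRing (Localization.AtPrime p.asIdeal) :=
    IsLocalization.isNoetherianRing p.asIdeal.primeCompl _ inferInstance
  have hfin : Module.Finite (Localization.AtPrime p.asIdeal)
      (LocalizedModule p.asIdeal.primeCompl M) :=
    Module.Finite.of_isLocalizedModule p.asIdeal.primeCompl
      (mkLinearMap p.asIdeal.primeCompl M)
  have hI : I.map (algebraMap A (Localization.AtPrime p.asIdeal)) ≠ ⊤ := by
    refine fun h1 => ?_
    have h2 : I.map (algebraMap A (Localization.AtPrime p.asIdeal)) ≤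
        IsLocalRing.maximalIdeal (Localization.AtPrime p.asIdeal) := by
      rw [← Localization.AtPrime.map_eq_maximalIdeal]
      exact Ideal.map_mono hp
    rw [h1, top_le_iff] at h2
    exact (IsLocalRing.maximalIdeal.isMaximal _).ne_top h2
  have hK := Ideal.iInf_pow_smul_eq_bot_of_isLocalRing
    (M := LocalizedModule p.asIdeal.primeCompl M)
    (I.map (algebraMap A (Localization.AtPrime p.asIdeal))) hI
  have hmem : mkLinearMap p.asIdeal.primeCompl M a = 0 := by
    rw [← Submodule.mem_bot (Localization.AtPrime p.asIdeal), ← hK, Submodule.mem_iInf]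
    intro n
    have h1 := h n
    rw [lmap_mk, mk_eq_zero_iff] at h1
    obtain ⟨u, hu, h2⟩ := h1
    rw [← map_smul, pr_eq_zero_iff] at h2
    have h3 := mkLinearMap_mem (p := p) _ _ h2
    rw [map_smul] at h3
    have h4 : IsUnit (algebraMap A (Localization.AtPrime p.asIdeal) u) :=
      IsLocalization.map_units _ (⟨u, hu⟩ : p.asIdeal.primeCompl)
    have h5 : mkLinearMap p.asIdeal.primeCompl M a ∈
      (I.map (algebraMap A (Localization.AtPrime p.asIdeal))) ^ (n + 1) •
        (⊤ : Submodule (Localization.AtPrime p.asIdeal)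
          (LocalizedModule p.asIdeal.primeCompl M)) := by
      obtain ⟨v, hv⟩ := h4
      have h6 := Submodule.smul_mem _ (↑v⁻¹ : Localization.AtPrime p.asIdeal) h3
      rwa [← algebraMap_smul (Localization.AtPrime p.asIdeal) u, smul_smul, ← hv,
        Units.inv_mul, one_smul] at h6
    exact (Submodule.smul_mono_left (Ideal.pow_le_pow_right (Nat.le_succ n))) h5
  refine smul_eq_zero_of_mem (S := p.asIdeal.primeCompl) s.2 ?_
  rw [mk_smul_self, hmem]

end Krull

variable {M N P : Type u} [AddCommGroup M] [Module A M] [AddCommGroup N] [Module A N]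
  [AddCommGroup P] [Module A P]

variable {I 𝔞 p}

/-- Elements dying in all the quotients die near `p`. -/
theorem exists_smul_eq_zero [IsNoetherianRing A] [Module.Finite A M] (hp : I ≤ p.asIdeal)
    (hp' : ¬ 𝔞 ≤ p.asIdeal) (m : M) (hm : ιF I 𝔞 M m = 0) : ∃ c : A, c ∉ p.asIdeal ∧ c • m = 0 := by
  have h1 : mkLinearMap p.asIdeal.primeCompl M m = 0 := by
    refine krull_at hp _ fun n => ?_
    rw [lmap_mkLinearMap]
    have h2 : (ιF I 𝔞 M m).at n = 0 := by rw [hm, F.at_zero]
    exact congrFun (congrArg Subtype.val h2) (⟨p, hp'⟩ : D 𝔞)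
  obtain ⟨c, hc, h⟩ := (mkLinearMap_eq_zero_iff _).1 h1
  exact ⟨c, hc, h⟩

variable (I 𝔞 p) in
/-- Compatible families are algebraic near `p`. -/
def Good (M : Type u) [AddCommGroup M] [Module A M] : Prop :=
  ∀ y : F I 𝔞 M, ∃ b : A, b ∉ p.asIdeal ∧ ∃ m : M, b • y = ιF I 𝔞 M m

/-- A module which dies near `p` is good. -/
theorem good_of_smul (c : A) (hc : c ∉ p.asIdeal) (h : ∀ m : M, c • m = 0) : Good I 𝔞 p M := by
  intro y
  refine ⟨c, hc, 0, ?_⟩
  rw [map_zero, ← Fmap_smul]
  have : c • (LinearMap.id : M →ₗ[A] M) = 0 := LinearMap.ext fun m => h m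
  rw [this, Fmap_zero]

/-- A module killed by a power of `I` is good. -/
theorem good_of_pow [IsNoetherianRing A] (hp' : ¬ 𝔞 ≤ p.asIdeal) (c : ℕ)
    (h : I ^ (c + 1) • (⊤ : Submodule A M) = ⊥) : Good I 𝔞 p M := by
  intro y
  obtain ⟨k, hk⟩ := exists_pow_smul (y.at c)
  have h1 : ¬ 𝔞 ^ k ≤ p.asIdeal := fun h2 => hp' (p.isPrime.le_of_pow_le h2)
  obtain ⟨b, hb, hbp⟩ := SetLike.not_le_iff_exists.1 h1
  obtain ⟨m, hm⟩ := hk b hb
  obtain ⟨m, rfl⟩ := pr_surjective I _ m
  refine ⟨b, hbp, m, F.ext fun n => ?_⟩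
  rw [F.at_smul, ιF_at]
  rcases le_total n c with hn | hn
  · rw [← y.compat hn, ← map_smul, hm, map_ι, tr_pr]
  · have hinj : Function.Injective (tr I M hn) := by
      rw [injective_iff_map_eq_zero]
      intro x hx
      obtain ⟨x, rfl⟩ := pr_surjective I _ x
      rw [tr_pr, pr_eq_zero_iff, h, Submodule.mem_bot] at hx
      rw [hx, map_zero]
    refine map_injective _ hinj ?_
    rw [map_smul, y.compat hn, hm, map_ι, tr_pr]

/-- Submodules of good modules are good. -/
theorem good_of_injective [IsNoetherianRing A] [Module.Finite A N] (hp : I ≤ p.asIdeal)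
    (hp' : ¬ 𝔞 ≤ p.asIdeal) (φ : M →ₗ[A] N) (h : Function.Injective φ) (hN : Good I 𝔞 p N) :
    Good I 𝔞 p M := by
  intro y
  obtain ⟨b, hb, n, hn⟩ := hN (Fmap I 𝔞 φ y)
  have h1 : ιF I 𝔞 (N ⧸ LinearMap.range φ) ((LinearMap.range φ).mkQ n) = 0 := by
    rw [← Fmap_ιF, ← hn, map_smul, Fmap_comp]
    have : (LinearMap.range φ).mkQ ∘ₗ φ = 0 := by
      refine LinearMap.ext fun m => ?_
      exact (Submodule.Quotient.mk_eq_zero _).2 ⟨m, rfl⟩
    rw [this, Fmap_zero, smul_zero]
  obtain ⟨c, hc, h2⟩ := exists_smul_eq_zero hp hp' _ h1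
  rw [← map_smul] at h2
  obtain ⟨m, hm⟩ := (Submodule.Quotient.mk_eq_zero _).1 h2
  refine ⟨c * b, fun hh => (p.isPrime.mem_or_mem hh).elim hc hb, m, ?_⟩
  refine Fmap_injective I 𝔞 φ h ?_
  rw [Fmap_ιF, hm, map_smul, map_smul, mul_smul, hn]

/-- Extensions of good modules are good. -/
theorem good_of_exact [IsNoetherianRing A] [Module.Finite A N] (φ : M →ₗ[A] N) (ψ : N →ₗ[A] P)
    (h : Function.Injective φ) (h' : Function.Exact φ ψ) (h'' : Function.Surjective ψ)
    (hM : Good I 𝔞 p M) (hP : Good I 𝔞 p P) : Good I 𝔞 p N := by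
  intro y
  obtain ⟨b, hb, n, hn⟩ := hP (Fmap I 𝔞 ψ y)
  obtain ⟨n, rfl⟩ := h'' n
  have h1 : Fmap I 𝔞 ψ (b • y - ιF I 𝔞 N n) = 0 := by
    rw [map_sub, map_smul, hn, Fmap_ιF, sub_self]
  obtain ⟨x, hx⟩ := Fmap_exact I 𝔞 φ ψ h h' h'' _ h1
  obtain ⟨c, hc, m, hm⟩ := hM x
  refine ⟨c * b, fun hh => (p.isPrime.mem_or_mem hh).elim hc hb, c • n + φ m, ?_⟩
  rw [map_add, map_smul, ← Fmap_ιF, ← hm, map_smul, hx, smul_sub, mul_smul]
  abel

/-- The key step: a domain on which every family becomes algebraic after multiplication by a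
nonzero element is good. -/
theorem good_of_generic [IsNoetherianRing A] [Module.Finite A M] (hp : I ≤ p.asIdeal)
    (hp' : ¬ 𝔞 ≤ p.asIdeal)
    (h : ∀ y : F I 𝔞 M, ∃ g : A, (∀ m : M, g • m = 0 → m = 0) ∧ ∃ m : M, g • y = ιF I 𝔞 M m) :
    Good I 𝔞 p M := by
  intro y
  obtain ⟨g, hg, c, hc⟩ := h y
  let γ : M →ₗ[A] M := g • LinearMap.id
  have hγ : Function.Injective γ := by
    rw [injective_iff_map_eq_zero]
    exact hg
  have h1 : ιF I 𝔞 (M ⧸ LinearMap.range γ) ((LinearMap.range γ).mkQ c) = 0 := by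
    rw [← Fmap_ιF, ← hc, ← Fmap_smul, Fmap_comp]
    have : (LinearMap.range γ).mkQ ∘ₗ (g • LinearMap.id) = 0 := by
      refine LinearMap.ext fun m => ?_
      exact (Submodule.Quotient.mk_eq_zero _).2 ⟨m, rfl⟩
    rw [this, Fmap_zero]
  obtain ⟨b, hb, h2⟩ := exists_smul_eq_zero hp hp' _ h1
  rw [← map_smul] at h2
  obtain ⟨m, hm⟩ := (Submodule.Quotient.mk_eq_zero _).1 h2
  refine ⟨b, hb, m, ?_⟩
  refine Fmap_injective I 𝔞 γ hγ ?_
  rw [Fmap_ιF, hm, Fmap_smul, smul_comm, hc, map_smul]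

end Groth.Agent.FormalA.GoodLoc
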