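import Groth.Agent.FormalA.HVSec
import Groth.Agent.FormalA.GoodLoc
import Groth.Prelude.Def_Wider

/-!
# `Formal2.FormalCohColimBijective` in degree zero from pointwise algebraization
-/

set_option autoImplicit false
universe u

open CategoryTheory TopologicalSpace Opposite AlgebraicGeometry

namespace Groth.Agent.FormalA.FColim

open LocalizedModule Groth.Agent.FormalA.LocSub Groth.Agent.FormalA.SecMod Groth.Agent.FormalA.NFam
  Groth.Agent.FormalA.GoodLoc Groth.Agent.FormalA.HVSec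

variable {A : Type u} [CommRing A]

section Dict

/-- The points of an open of `Spec A`. -/
def pts (V : (Spec (CommRingCat.of A)).Opens) : Set (PrimeSpectrum A) := {p | p ∈ V}

theorem mk_of_smul {M : Type u} [AddCommGroup M] [Module A M] {S : Submonoid A}
    {x : LocalizedModule S M} {b : A} (hb : b ∈ S) {a : M} (h : b • x = mkLinearMap S M a) :
    x = LocalizedModule.mk a ⟨b, hb⟩ := by
  have h1 : b • (x - LocalizedModule.mk a ⟨b, hb⟩) = 0 := by
    have h2 := mk_smul_self a (⟨b, hb⟩ : S)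
    rw [smul_sub, h]
    exact sub_eq_zero.2 h2.symm
  exact sub_eq_zero.1 (smul_eq_zero_of_mem hb h1)

variable (M : Type u) [AddCommGroup M] [Module A M]

theorem toG_aux (V : (Spec (CommRingCat.of A)).Opens) (x : Formal2.HV A M 0 V) (p : pts V) :
    ∃ (a : M) (b : A), b ∉ p.1.asIdeal ∧
    ∀ q : pts V, b ∉ q.1.asIdeal → b • val (toSec A M V x) q.1 q.2 =
      mkLinearMap q.1.asIdeal.primeCompl M a := by
  obtain ⟨W, hpW, -, a, b, h⟩ := exists_fraction (toSec A M V x) p.1 p.2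
  obtain ⟨_, ⟨_, ⟨c, rfl⟩, rfl⟩, hc, hcW⟩ :=
    PrimeSpectrum.isBasis_basic_opens.exists_subset_of_mem_open hpW W.2
  have hcp : c ∉ p.1.asIdeal := hc
  obtain ⟨hb, -⟩ := h p.1 hpW p.2
  refine ⟨c • a, c * b, fun hh => (p.1.isPrime.mem_or_mem hh).elim hcp hb, fun q hq => ?_⟩
  have hcq : c ∉ q.1.asIdeal := fun hh => hq (Ideal.mul_mem_right _ _ hh)
  have hqW : q.1 ∈ W := hcW hcq
  obtain ⟨hb', h2⟩ := h q.1 hqW q.2
  rw [h2, mul_smul]
  have h3 := mk_smul_self a (⟨b, hb'⟩ : q.1.asIdeal.primeCompl)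
  rw [map_smul]
  exact congrArg (fun t => c • t) h3

/-- The family of germs of a class in `H^0(V, M~)`. -/
noncomputable def toG (V : (Spec (CommRingCat.of A)).Opens) (x : Formal2.HV A M 0 V) :
    sec M (pts V) :=
  ⟨fun p => val (toSec A M V x) p.1 p.2, toG_aux M V x⟩

theorem toG_apply (V : (Spec (CommRingCat.of A)).Opens) (x : Formal2.HV A M 0 V) (p : pts V) :
    (toG M V x).1 p = val (toSec A M V x) p.1 p.2 := rfl

theorem toG_injective (V : (Spec (CommRingCat.of A)).Opens) : Function.Injective (toG M V) := by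
  intro x y hxy
  refine (toSec A M V).injective ?_
  refine ext_val fun p hp => ?_
  exact congrFun (congrArg Subtype.val hxy) (⟨p, hp⟩ : pts V)

theorem toG_surjective (V : (Spec (CommRingCat.of A)).Opens) : Function.Surjective (toG M V) := by
  intro s
  obtain ⟨t, ht⟩ := exists_sec V (fun p hp => s.1 ⟨p, hp⟩) (by
    intro p hp
    obtain ⟨a, b, hb, h⟩ := s.2 ⟨p, hp⟩
    refine ⟨PrimeSpectrum.basicOpen b, hb, a, b, fun q hq hq' => ?_⟩
    exact ⟨hq, mk_of_smul (S := q.asIdeal.primeCompl) hq (h ⟨q, hq'⟩ hq)⟩)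
  refine ⟨(toSec A M V).symm t, ext_sec fun p => ?_⟩
  rw [toG_apply, Equiv.apply_symm_apply]
  exact ht p.1 p.2

theorem toG_zero (V : (Spec (CommRingCat.of A)).Opens) : toG M V 0 = 0 := by
  refine ext_sec fun p => ?_
  rw [toG_apply, toSec_zero]
  rfl

variable {M} {N : Type u} [AddCommGroup N] [Module A N]

theorem toG_map (φ : M →ₗ[A] N) (V : (Spec (CommRingCat.of A)).Opens) (x : Formal2.HV A M 0 V) :
    toG N V (Formal2.HVmap A φ 0 V x) = map (pts V) φ (toG M V x) := by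
  refine ext_sec fun p => ?_
  obtain ⟨a, b, h⟩ := exists_eq_mk ((toG M V x).1 p)
  rw [map_apply, h, lmap_mk]
  exact val_map φ V x p.1 p.2 a b h

theorem toG_res {V V' : (Spec (CommRingCat.of A)).Opens} (hV : V' ≤ V)
    (x : Formal2.HV A M 0 V) (p : pts V') :
    (toG M V' (Formal2.HVres A M 0 hV x)).1 p = (toG M V x).1 ⟨p.1, hV p.2⟩ :=
  val_res hV x p.1 p.2

end Dict

section Main

variable [IsNoetherianRing A] (I 𝔞 : Ideal A) (M : Type u) [AddCommGroup M] [Module A M]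
  [Module.Finite A M]

/-- The injectivity part. -/
theorem exists_res_eq_zero (V : (Spec (CommRingCat.of A)).Opens)
    (hV : Formal2.Admissible A I (LocCoh.puncturedOpen A 𝔞) V) (x : Formal2.HV A M 0 V)
    (hx : ∀ n, Formal2.HVmap A (Formal2.quotPowπ A I M n) 0 V x = 0) :
    ∃ (V' : (Spec (CommRingCat.of A)).Opens)
      (h : Formal2.Admissible A I (LocCoh.puncturedOpen A 𝔞) V' ∧ V' ≤ V),
        Formal2.HVres A M 0 h.2 x = 0 := by
  let s := toG M V x
  let V' : (Spec (CommRingCat.of A)).Opens :=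
    ⟨{p : PrimeSpectrum A | ∃ hp : p ∈ V, s.1 ⟨p, hp⟩ = 0}, by
      rw [isOpen_iff_forall_mem_open]
      rintro p ⟨hp, hsp⟩
      obtain ⟨a, b, hb, h⟩ := s.2 ⟨p, hp⟩
      have h1 := h ⟨p, hp⟩ hb
      have hsp' : (s.1 ⟨p, hp⟩ : LocalizedModule p.asIdeal.primeCompl M) = 0 := hsp
      rw [hsp', smul_zero] at h1
      obtain ⟨c, hc, h2⟩ := (mkLinearMap_eq_zero_iff _).1 h1.symm
      refine ⟨(V : Set (Spec (CommRingCat.of A))) ∩ SetLike.coe (PrimeSpectrum.basicOpen (b * c)), ?_,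
        V.2.inter (PrimeSpectrum.basicOpen (b * c)).2, hp, ?_⟩
      · rintro q ⟨hqV, hq⟩
        refine ⟨hqV, ?_⟩
        have hq' : b * c ∉ q.asIdeal := hq
        have hbq : b ∉ q.asIdeal := fun hh => hq' (Ideal.mul_mem_right _ _ hh)
        have hcq : c ∉ q.asIdeal := fun hh => hq' (Ideal.mul_mem_left _ _ hh)
        refine smul_eq_zero_of_mem (S := q.asIdeal.primeCompl) (s := b) hbq ?_
        refine (h ⟨q, hqV⟩ hbq).trans ?_
        exact (mkLinearMap_eq_zero_iff _).2 ⟨c, hcq, h2⟩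
      · exact fun hh => (p.isPrime.mem_or_mem hh).elim hb hc⟩
  have hV'V : V' ≤ V := fun p hp => hp.1
  refine ⟨V', ⟨⟨hV'V.trans hV.1, fun p hp hpI => ?_⟩, hV'V⟩, ?_⟩
  · have hpV : p ∈ V := hV.2 p hp hpI
    refine ⟨hpV, ?_⟩
    refine krull_at (I := I) (p := p) hpI _ fun n => ?_
    have h1 := congrArg (toG _ V) (hx n)
    rw [toG_map, toG_zero] at h1
    exact congrFun (congrArg Subtype.val h1) (⟨p, hpV⟩ : pts V)
  · refine toG_injective M V' ?_
    rw [toG_zero]
    refine ext_sec fun p => ?_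
    rw [toG_res]
    exact p.2.2

/-- The open complement of `V(J)`. -/
def opn (J : Ideal A) : (Spec (CommRingCat.of A)).Opens := LocCoh.puncturedOpen A J

omit [IsNoetherianRing A] in
theorem mem_opn {J : Ideal A} {p : PrimeSpectrum A} : p ∈ opn J ↔ ¬ J ≤ p.asIdeal := Iff.rfl

omit [Module.Finite A M] [IsNoetherianRing A] in
/-- The denominators of a compatible family. -/
def denom (y : F I 𝔞 M) : Ideal A where
  carrier := {b | ∃ m : M, b • y = ιF I 𝔞 M m}
  add_mem' := by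
    rintro b b' ⟨m, hm⟩ ⟨m', hm'⟩
    exact ⟨m + m', by rw [add_smul, hm, hm', map_add]⟩
  zero_mem' := ⟨0, by rw [zero_smul, map_zero]⟩
  smul_mem' := by
    rintro c b ⟨m, hm⟩
    exact ⟨c • m, by rw [smul_eq_mul, mul_smul, hm, map_smul]⟩

/-- The kernel of `M → lim` dies near the points of `V(I)`. -/
theorem annihilator_ker (p : PrimeSpectrum A) (hp : I ≤ p.asIdeal) (hp' : ¬ 𝔞 ≤ p.asIdeal) :
    ¬ (LinearMap.ker (ιF I 𝔞 M)).annihilator ≤ p.asIdeal := by
  classical
  have hfg : (LinearMap.ker (ιF I 𝔞 M)).FG := IsNoetherian.noetherian _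
  obtain ⟨S, hS⟩ := hfg
  have h1 : ∀ t ∈ S, ∃ c : A, c ∉ p.asIdeal ∧ c • t = 0 := by
    intro t ht
    have h2 : t ∈ LinearMap.ker (ιF I 𝔞 M) := hS ▸ Submodule.subset_span ht
    exact exists_smul_eq_zero hp hp' t h2
  choose! c hc hct using h1
  have h3 : ∏ t ∈ S, c t ∉ p.asIdeal := by
    intro hh
    obtain ⟨t, ht, h4⟩ := (p.isPrime.prod_mem_iff).1 hh
    exact hc t ht h4
  refine fun hle => h3 (hle ?_)
  rw [Submodule.mem_annihilator]
  intro t ht
  rw [← hS] at ht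
  refine Submodule.span_induction ?_ ?_ ?_ ?_ ht
  · intro x hx
    rw [← Finset.prod_erase_mul S c hx, mul_smul, hct x hx, smul_zero]
  · rw [smul_zero]
  · intro x y _ _ hx hy
    rw [smul_add, hx, hy, add_zero]
  · intro a x _ hx
    rw [smul_comm, hx, smul_zero]

/-- A compatible family which is algebraic near the points of `V(I)` comes from a section over an
open containing `D(𝔞) ∩ V(I)`. -/
theorem exists_section (y : F I 𝔞 M) :
    ∃ x : sec M (D 𝔞 ∩ (D (denom I 𝔞 M y) ∩ D (LinearMap.ker (ιF I 𝔞 M)).annihilator)),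
      ∀ n p, (map _ (pr I M n) x).1 p = (y.at n).1 ⟨p.1, p.2.1⟩ := by
  have h1 : ∀ p : ↥(D 𝔞 ∩ (D (denom I 𝔞 M y) ∩ D (LinearMap.ker (ιF I 𝔞 M)).annihilator)),
      ∃ (b : A) (m : M), b ∉ p.1.asIdeal ∧ b • y = ιF I 𝔞 M m := by
    intro p
    obtain ⟨b, ⟨m, hm⟩, hb⟩ := exists_mem_of_mem_D p.2.2.1
    exact ⟨b, m, hb, hm⟩
  choose b m hb hm using h1
  have key : ∀ p q : ↥(D 𝔞 ∩ (D (denom I 𝔞 M y) ∩ D (LinearMap.ker (ιF I 𝔞 M)).annihilator)),
      b p ∉ q.1.asIdeal → b p • (LocalizedModule.mk (m q) ⟨b q, hb q⟩ :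
        LocalizedModule q.1.asIdeal.primeCompl M) =
        mkLinearMap q.1.asIdeal.primeCompl M (m p) := by
    intro p q hpq
    have h2 : b p • m q - b q • m p ∈ LinearMap.ker (ιF I 𝔞 M) := by
      rw [LinearMap.mem_ker, map_sub, map_smul, map_smul, ← hm, ← hm, smul_comm, sub_self]
    obtain ⟨c, hc, hcq⟩ := exists_mem_of_mem_D q.2.2.2
    have h3 : mkLinearMap q.1.asIdeal.primeCompl M (b p • m q - b q • m p) = 0 :=
      (mkLinearMap_eq_zero_iff _).2 ⟨c, hcq, Submodule.mem_annihilator.1 hc _ h2⟩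
    rw [map_sub, map_smul, map_smul, sub_eq_zero] at h3
    have h4 : b q • (b p • (LocalizedModule.mk (m q) ⟨b q, hb q⟩ :
        LocalizedModule q.1.asIdeal.primeCompl M) -
        mkLinearMap q.1.asIdeal.primeCompl M (m p)) = 0 := by
      have h5 := mk_smul_self (m q) (⟨b q, hb q⟩ : q.1.asIdeal.primeCompl)
      rw [smul_sub, smul_comm, ← h3, sub_eq_zero]
      exact congrArg (fun t => b p • t) h5
    exact sub_eq_zero.1 (smul_eq_zero_of_mem (S := q.1.asIdeal.primeCompl) (hb q) h4)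
  refine ⟨⟨fun p => LocalizedModule.mk (m p) ⟨b p, hb p⟩,
    fun p => ⟨m p, b p, hb p, fun q hq => key p q hq⟩⟩, fun n p => ?_⟩
  rw [map_apply]
  change lmap _ _ (LocalizedModule.mk (m p) ⟨b p, hb p⟩) = _
  rw [lmap_mk]
  refine (mk_of_smul (S := p.1.asIdeal.primeCompl) (hb p) ?_).symm
  have h6 : (b p • y).at n = ι _ _ (pr I M n (m p)) := by rw [hm, ιF_at]
  exact congrFun (congrArg Subtype.val h6) (⟨p.1, p.2.1⟩ : D 𝔞)

/-- Pointwise algebraization implies the bijectivity statement in degree zero. -/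
theorem colimBijective_of
    (h : ∀ p : PrimeSpectrum A, I ≤ p.asIdeal → ¬ 𝔞 ≤ p.asIdeal → Good I 𝔞 p M) :
    Formal2.FormalCohColimBijective A I M 0 (LocCoh.puncturedOpen A 𝔞) := by
  refine ⟨exists_res_eq_zero I 𝔞 M, ?_⟩
  intro y hy
  let Y : F I 𝔞 M := F.mk
    (fun n => (toG (Formal2.quotPow A I M n) (LocCoh.puncturedOpen A 𝔞) (y n) :
      sec (Formal2.quotPow A I M n) (pts (LocCoh.puncturedOpen A 𝔞)))) (by
      intro n
      have h1 := congrArg (toG (Formal2.quotPow A I M n) (LocCoh.puncturedOpen A 𝔞)) (hy n)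
      rw [toG_map] at h1
      have h2 : tr I M (Nat.le_succ n) = Formal2.quotPowTrans A I M n := hom_ext I fun x => rfl
      rw [h2]
      exact h1)
  obtain ⟨x, hx⟩ := exists_section I 𝔞 M Y
  let V : (Spec (CommRingCat.of A)).Opens := LocCoh.puncturedOpen A 𝔞 ⊓
    (opn (denom I 𝔞 M Y) ⊓ opn (LinearMap.ker (ιF I 𝔞 M)).annihilator)
  have hV : Formal2.Admissible A I (LocCoh.puncturedOpen A 𝔞) V := by
    refine ⟨inf_le_left, fun p hp hpI => ⟨hp, ?_, ?_⟩⟩
    · obtain ⟨b, hb, m, hm⟩ := h p hpI hp Y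
      exact fun hle => hb (hle ⟨m, hm⟩)
    · exact annihilator_ker I 𝔞 M p hpI hp
  obtain ⟨x', hx'⟩ := toG_surjective M V x
  refine ⟨V, hV, x', fun n => ?_⟩
  refine toG_injective _ V ?_
  refine ext_sec fun p => ?_
  rw [toG_res, toG_map, hx']
  exact (hx n p).symm

end Main

end Groth.Agent.FormalA.FColim
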