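import Groth.Agent.FormalA.HVFormLoc

/-!
# Assembly lemmas for Stacks 0EG4

* `formalCohBijective_of_lc` (G1)
* `formalCohColimBijective_of_lc` (G2)
-/

set_option autoImplicit false
universe u

open CategoryTheory TopologicalSpace Opposite CategoryTheory.Limits AlgebraicGeometry
open Groth.Agent.FormalA.HVForm Groth.Agent.FormalA.HVFormLoc
open Groth.Agent.Localalg.Gam Groth.Agent.Localalg.LCAbs

namespace Groth.Agent.FormalA.Glue06

variable {A : Type u} [CommRing A] [IsNoetherianRing A] {I : Ideal A} {M : Type u}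
  [AddCommGroup M] [Module A M]

omit [IsNoetherianRing A] in
/-- `R¹lim` of `Γ_J` from `R¹lim` of `H^0_J`. -/
theorem exists_sub_shift_gam_of_lc {J : Ideal A}
    (hc : ∀ η : ∀ n, (localCohomology J 0).obj (ModuleCat.of A (Formal2.quotPow A I M n)),
      ∃ γ : ∀ n, (localCohomology J 0).obj (ModuleCat.of A (Formal2.quotPow A I M n)),
        ∀ n, η n = γ n -
          ((localCohomology J 0).map (ModuleCat.ofHom (Formal2.quotPowTrans A I M n))).hom
            (γ (n + 1)))
    (a : ∀ n, gam J (Formal2.quotPow A I M n)) :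
    ∃ x : ∀ n, gam J (Formal2.quotPow A I M n), ∀ n,
      (x n : Formal2.quotPow A I M n) - Formal2.quotPowTrans A I M n (x (n + 1)) = a n := by
  obtain ⟨γ, hγ⟩ := hc (fun n => ((lc J).zero.inv.app _).hom (a n))
  let z : ∀ n, (localCohomology J 0).obj (ModuleCat.of A (Formal2.quotPow A I M n)) →ₗ[A]
      gam J (Formal2.quotPow A I M n) := fun n =>
    ((lc J).zero.hom.app (ModuleCat.of A (Formal2.quotPow A I M n))).hom
  refine ⟨fun n => z n (γ n), fun n => ?_⟩
  have h1 : z n (((localCohomology J 0).map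
      (ModuleCat.ofHom (Formal2.quotPowTrans A I M n))).hom (γ (n + 1))) =
      gamMap J (Formal2.quotPowTrans A I M n) (z (n + 1) (γ (n + 1))) :=
    congrArg (fun f => f.hom (γ (n + 1)))
      ((lc J).zero.hom.naturality (ModuleCat.ofHom (Formal2.quotPowTrans A I M n)))
  have h2 : z n (((lc J).zero.inv.app _).hom (a n)) = a n :=
    congrArg (fun f => f.hom (a n)) ((lc J).zero.inv_hom_id_app
      (ModuleCat.of A (Formal2.quotPow A I M n)))
  have h3 := congrArg (z n) (hγ n)
  rw [map_sub, h1, h2] at h3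
  exact (congrArg Subtype.val h3).symm

/-- (G1) -/
theorem formalCohBijective_of_lc [IsAdicComplete I A] [Module.Finite A M] (J : Ideal A) (t : ℕ)
    (ha : ∀ j ≤ t, ∀ z : (localCohomology J j).obj (ModuleCat.of A M),
      (∀ n, ((localCohomology J j).map (ModuleCat.ofHom (Formal2.quotPowπ A I M n))).hom z = 0) →
        z = 0)
    (hb : ∀ j ≤ t, ∀ y : ∀ n, (localCohomology J j).obj
        (ModuleCat.of A (Formal2.quotPow A I M n)),
      (∀ n, ((localCohomology J j).map (ModuleCat.ofHom (Formal2.quotPowTrans A I M n))).hom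
        (y (n + 1)) = y n) →
      ∃ z : (localCohomology J j).obj (ModuleCat.of A M),
        ∀ n, ((localCohomology J j).map (ModuleCat.ofHom (Formal2.quotPowπ A I M n))).hom z = y n)
    (hc : 1 ≤ t → ∀ η : ∀ n, (localCohomology J 0).obj
        (ModuleCat.of A (Formal2.quotPow A I M n)),
      ∃ γ : ∀ n, (localCohomology J 0).obj (ModuleCat.of A (Formal2.quotPow A I M n)),
        ∀ n, η n = γ n -
          ((localCohomology J 0).map (ModuleCat.ofHom (Formal2.quotPowTrans A I M n))).hom
            (γ (n + 1)))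
    (i : ℕ) (hi : i < t) :
    Formal2.FormalCohBijective A I M i (LocCoh.puncturedOpen A J) := by
  have hcomp : IsAdicComplete I M := AdicFin.isAdicComplete_of_finite I
  have hL : ∀ j ≤ t, LimBij I M (localCohomology J j) := fun j hj => ⟨ha j hj, hb j hj⟩
  cases i with
  | zero =>
    exact formalCohBijective_zero rfl (mem_gam_of_limBij (hL 0 (by omega))) (hL 1 (by omega))
      (exists_sub_shift_gam_of_lc (hc (by omega)))
  | succ i => exact formalCohBijective_succ rfl i (hL (i + 2) (by omega))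

omit [IsNoetherianRing A] in
/-- (G2) -/
theorem formalCohColimBijective_of_lc {𝔞 J₀ : Ideal A} (h₀ : J₀ ≤ 𝔞)
    (hT₀ : ∀ (q : Ideal A) [q.IsPrime], J₀ ≤ q → I ≤ q → 𝔞 ≤ q) (s : ℕ)
    (h : ∀ J ≤ J₀, (∀ (q : Ideal A) [q.IsPrime], J ≤ q → I ≤ q → 𝔞 ≤ q) →
      Formal2.FormalCohBijective A I M s (LocCoh.puncturedOpen A J)) :
    Formal2.FormalCohColimBijective A I M s (LocCoh.puncturedOpen A 𝔞) := by
  have hadm : Formal2.Admissible A I (LocCoh.puncturedOpen A 𝔞) (LocCoh.puncturedOpen A J₀) := by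
    constructor
    · intro p hp hpa
      exact hp (h₀.trans hpa)
    · intro p hp hpI hpJ
      have : (p : PrimeSpectrum A).asIdeal.IsPrime := (p : PrimeSpectrum A).2
      exact hp (hT₀ (p : PrimeSpectrum A).asIdeal hpJ hpI)
  refine formalCohColimBijective_of_forall s hadm ?_
  intro V hV hV₀
  obtain ⟨J, hJ⟩ := exists_puncturedOpen V
  have hV' : V = LocCoh.puncturedOpen A (J ⊓ J₀) := by
    apply le_antisymm
    · intro p hp hpJ
      rcases ((p : PrimeSpectrum A).2.inf_le).1 hpJ with h1 | h1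
      · rw [hJ] at hp
        exact hp h1
      · exact hV₀ hp h1
    · intro p hp
      rw [hJ]
      intro hpJ
      exact hp (fun a ha => hpJ ((inf_le_left : J ⊓ J₀ ≤ J) ha))
  rw [hV']
  refine h _ inf_le_right ?_
  intro q hq hqJ hqI
  by_contra hqa
  have h1 : (⟨q, hq⟩ : PrimeSpectrum A) ∈ LocCoh.puncturedOpen A 𝔞 := hqa
  have h2 := hV.2 ⟨q, hq⟩ h1 hqI
  rw [hV'] at h2
  exact h2 hqJ

end Groth.Agent.FormalA.Glue06
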