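import Groth.Agent.Localalg.LCInst
import Mathlib.Algebra.Category.ModuleCat.Ext.Finite
import Mathlib.Algebra.Category.ModuleCat.Ext.DimensionShifting

/-!
# Local cohomology of countable direct sums

`A` Noetherian. Every class of `Ext^l(F, ⊕ N)` (`F` finite) and every local cohomology class of
`⊕ N` comes from a finite partial sum. In particular an element of `A` killing `H^l_𝔞(N)` kills
`H^l_𝔞(⊕ N)`.
-/

set_option autoImplicit false
universe u
open CategoryTheory

namespace Groth.Agent.FormalA.FinsuppLC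

variable {A : Type u} [CommRing A]

/-- the direct sum of countably many copies of `N` -/
noncomputable abbrev S (N : ModuleCat.{u} A) : ModuleCat.{u} A := ModuleCat.of A (ℕ →₀ N)

/-- the `k`-th inclusion -/
noncomputable def sg (N : ModuleCat.{u} A) (k : ℕ) : N ⟶ S N := ModuleCat.ofHom (Finsupp.lsingle k)

/-- the `k`-th projection -/
noncomputable def pr (N : ModuleCat.{u} A) (k : ℕ) : S N ⟶ N := ModuleCat.ofHom (Finsupp.lapply k)

/-- the projection to the first `n` summands -/
noncomputable def trunc (N : ModuleCat.{u} A) (n : ℕ) : S N ⟶ S N :=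
  ∑ k ∈ Finset.range n, pr N k ≫ sg N k

lemma trunc_apply_of_le (N : ModuleCat.{u} A) (n : ℕ) (z : ℕ →₀ N)
    (hz : ∀ k, z k ≠ 0 → k < n) : (trunc N n).hom z = z := by
  have h1 : (trunc N n).hom z = ∑ k ∈ Finset.range n, Finsupp.single k (z k) := by
    rw [trunc, ModuleCat.hom_sum, LinearMap.sum_apply]
    rfl
  rw [h1]
  ext j
  rw [Finsupp.finsetSum_apply]
  by_cases hj : j < n
  · rw [Finset.sum_eq_single j]
    · simp
    · intro b _ hb
      rw [Finsupp.single_apply, if_neg hb]
    · intro h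
      exact absurd (Finset.mem_range.2 hj) h
  · have h2 : z j = 0 := by
      by_contra h
      exact hj (hz j h)
    rw [h2]
    refine Finset.sum_eq_zero fun b hb => ?_
    rw [Finsupp.single_apply, if_neg]
    rintro rfl
    exact hj (Finset.mem_range.1 hb)

variable [IsNoetherianRing A]

/-- Every class of `Ext^l(F, ⊕ N)`, `F` finite, comes from finitely many summands. -/
theorem exists_trunc_ext (F N : ModuleCat.{u} A) [Module.Finite A F] (l : ℕ)
    (x : Abelian.Ext.{u} F (S N) l) :
    ∃ n : ℕ, x.comp (Abelian.Ext.mk₀ (trunc N n)) (add_zero l) = x := by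
  induction l generalizing F with
  | zero =>
    obtain ⟨f, rfl⟩ := Localalg.LCInst.exists_mk₀ x
    obtain ⟨s, hs⟩ : (⊤ : Submodule A F).FG := Module.Finite.fg_top
    have h1 : ∀ y : F, ∃ n : ℕ, ∀ k, (f.hom y : ℕ →₀ N) k ≠ 0 → k < n := by
      intro y
      refine ⟨(f.hom y : ℕ →₀ N).support.sup id + 1, fun k hk => ?_⟩
      have h2 : k ≤ (f.hom y : ℕ →₀ N).support.sup id :=
        Finset.le_sup (f := id) (Finsupp.mem_support_iff.2 hk)
      omega
    choose m hm using h1
    refine ⟨s.sup m, ?_⟩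
    rw [Abelian.Ext.mk₀_comp_mk₀]
    congr 1
    ext : 1
    apply LinearMap.ext_on (s := (s : Set F)) hs
    intro y hy
    change (trunc N (s.sup m)).hom (f.hom y) = f.hom y
    exact trunc_apply_of_le N _ _ fun k hk => lt_of_lt_of_le (hm y k hk) (Finset.le_sup hy)
  | succ j ih =>
    obtain ⟨F', _, _, _, _, f, surjf⟩ := Module.exists_finite_presentation A F
    let exac := LinearMap.shortExact_shortComplexKer surjf
    obtain ⟨x', rfl⟩ := precomp_extClass_surjective_of_projective_X₂ (S N) exac j x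
    obtain ⟨n, hn⟩ := ih _ x'
    refine ⟨n, ?_⟩
    have h2 : (exac.extClass.comp x' (add_comm 1 j)).comp
          (Abelian.Ext.mk₀ (trunc N n)) (add_zero (j + 1)) =
        exac.extClass.comp (x'.comp (Abelian.Ext.mk₀ (trunc N n)) (add_zero j))
          (add_comm 1 j) :=
      Abelian.Ext.comp_assoc _ _ _ (add_comm 1 j) (add_zero j) (by omega)
    change (exac.extClass.comp x' (add_comm 1 j)).comp
          (Abelian.Ext.mk₀ (trunc N n)) (add_zero (j + 1)) = exac.extClass.comp x' (add_comm 1 j)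
    rw [h2, hn]

/-- Every local cohomology class of `⊕ N` comes from finitely many summands. -/
theorem exists_trunc (𝔞 : Ideal A) (N : ModuleCat.{u} A) (l : ℕ)
    (x : (localCohomology 𝔞 l).obj (S N)) :
    ∃ n : ℕ, ((localCohomology 𝔞 l).map (trunc N n)).hom x = x := by
  obtain ⟨t, y, rfl⟩ := Localalg.LCInst.exists_ι x
  obtain ⟨n, hn⟩ := exists_trunc_ext (Localalg.LCInst.Q 𝔞 t) N l y
  refine ⟨n, ?_⟩
  rw [Localalg.LCInst.ι_map, hn]

/-- An element killing `H^l_𝔞(N)` kills `H^l_𝔞(⊕ N)`. -/
theorem finsupp_smul_eq_zero {A : Type u} [CommRing A] [IsNoetherianRing A] (𝔞 : Ideal A)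
    (N : ModuleCat.{u} A) (l : ℕ) (f : A) (h : ∀ x : (localCohomology 𝔞 l).obj N, f • x = 0)
    (x : (localCohomology 𝔞 l).obj (ModuleCat.of A (ℕ →₀ N))) : f • x = 0 := by
  obtain ⟨n, hn⟩ := exists_trunc 𝔞 N l x
  have hadd := Groth.Agent.LoccohA.LCLinear.localCohomology_additive 𝔞 l
  have h1 : (localCohomology 𝔞 l).map (trunc N n) = ∑ k ∈ Finset.range n,
      (localCohomology 𝔞 l).map (pr N k) ≫ (localCohomology 𝔞 l).map (sg N k) := by
    rw [trunc, Functor.map_sum]
    exact Finset.sum_congr rfl fun k _ => Functor.map_comp _ _ _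
  rw [← hn, h1, ModuleCat.hom_sum, LinearMap.sum_apply, Finset.smul_sum]
  refine Finset.sum_eq_zero fun k _ => ?_
  change f • ((localCohomology 𝔞 l).map (sg N k)).hom
    (((localCohomology 𝔞 l).map (pr N k)).hom x) = 0
  rw [← map_smul, h, map_zero]

end Groth.Agent.FormalA.FinsuppLC
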