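import Groth.Agent.FormalA.TowSub

/-!
# The derived limit of a tower whose transition maps are eventually killed by an element
-/

set_option autoImplicit false
set_option linter.unusedVariables false
universe u
open CategoryTheory Limits Opposite
open Groth.Agent.Localalg.DeltaFun

namespace Groth.Agent.FormalA.TowKill

open TowBasic

variable {A : Type u} [CommRing A]

section

variable (G : ModuleCat.{u} A ⥤ ModuleCat.{u} A) (N : Tw A)

/-- a compatible family is compatible along all the transition maps -/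
theorem eq_map_of_oneSub_eq_zero (x : ∀ n : ℕ, G.obj (N.obj (op n)))
    (hx : ((oneSub G).app N).hom x = 0) (n c : ℕ) :
    x n = (G.map (N.map (homOfLE (Nat.le_add_right n c)).op)).hom (x (n + c)) := by
  have h1 : shiftEnd G N x = x := by
    funext n
    exact (sub_eq_zero.mp (congrFun hx n)).symm
  have h2 : ∀ c : ℕ, (shiftEnd G N ^ c) x = x := by
    intro c
    induction c with
    | zero => rfl
    | succ c ih =>
      rw [pow_succ']
      change shiftEnd G N ((shiftEnd G N ^ c) x) = x
      rw [ih, h1]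
  rw [← shiftEnd_pow_apply, h2]

theorem map_comp_apply {n m k : ℕ} (h1 : n ≤ m) (h2 : m ≤ k) (h3 : n ≤ k)
    (y : G.obj (N.obj (op k))) :
    (G.map (N.map (homOfLE h1).op)).hom ((G.map (N.map (homOfLE h2).op)).hom y) =
      (G.map (N.map (homOfLE h3).op)).hom y := by
  change (G.map (N.map (homOfLE h2).op) ≫ G.map (N.map (homOfLE h1).op)).hom y = _
  rw [← G.map_comp, ← N.map_comp]
  rfl

/-- if `g` kills the transition maps from far away, it kills the compatible families -/
theorem smul_eq_zero_of_compatible (g : A)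
    (h : ∀ n : ℕ, ∃ (m : ℕ) (hm : n ≤ m), ∀ x : G.obj (N.obj (op m)),
      g • (G.map (N.map (homOfLE hm).op)).hom x = 0)
    (x : ∀ n : ℕ, G.obj (N.obj (op n))) (hx : ((oneSub G).app N).hom x = 0) (n : ℕ) :
    g • x n = 0 := by
  obtain ⟨m, hm, h1⟩ := h n
  obtain ⟨c, rfl⟩ := Nat.exists_eq_add_of_le hm
  rw [eq_map_of_oneSub_eq_zero G N x hx n c]
  exact h1 _

/-- if `g` kills the transition maps from far away, it kills the cokernel of `1 - shift` -/
theorem exists_oneSub_eq_smul (g : A)
    (h : ∀ n : ℕ, ∃ (m : ℕ) (hm : n ≤ m), ∀ x : G.obj (N.obj (op m)),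
      g • (G.map (N.map (homOfLE hm).op)).hom x = 0)
    (y : ∀ n : ℕ, G.obj (N.obj (op n))) :
    ∃ z : ∀ n : ℕ, G.obj (N.obj (op n)), ((oneSub G).app N).hom z = fun n => g • y n := by
  classical
  choose m hm h1 using h
  let a : ∀ n k : ℕ, G.obj (N.obj (op n)) := fun n k =>
    if hk : n ≤ k then g • (G.map (N.map (homOfLE hk).op)).hom (y k) else 0
  have ha0 : ∀ n k, m n ≤ k → a n k = 0 := by
    intro n k hk
    have hnk : n ≤ k := (hm n).trans hk
    change (if hk : n ≤ k then g • (G.map (N.map (homOfLE hk).op)).hom (y k) else 0) = 0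
    rw [dif_pos hnk, ← map_comp_apply G N (hm n) hk hnk]
    exact h1 n _
  have hsum : ∀ n B, m n ≤ B → ∑ k ∈ Finset.range (m n), a n k = ∑ k ∈ Finset.range B, a n k := by
    intro n B hB
    refine Finset.sum_subset (Finset.range_mono hB) ?_
    intro k _ hk
    exact ha0 n k (by simpa using hk)
  refine ⟨fun n => ∑ k ∈ Finset.range (m n), a n k, ?_⟩
  funext n
  change (∑ k ∈ Finset.range (m n), a n k) -
    (G.map (tr N n)).hom (∑ k ∈ Finset.range (m (n + 1)), a (n + 1) k) = g • y n
  let B := max (m n) (max (m (n + 1)) (n + 1))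
  rw [hsum n B (le_max_left _ _), hsum (n + 1) B ((le_max_left _ _).trans (le_max_right _ _)),
    map_sum, ← Finset.sum_sub_distrib]
  have hterm : ∀ k, a n k - (G.map (tr N n)).hom (a (n + 1) k) = if k = n then g • y n else 0 := by
    intro k
    change (if hk : n ≤ k then g • (G.map (N.map (homOfLE hk).op)).hom (y k) else 0) -
      (G.map (tr N n)).hom (if hk : n + 1 ≤ k then
        g • (G.map (N.map (homOfLE hk).op)).hom (y k) else 0) = _
    by_cases h3 : n + 1 ≤ k
    · rw [dif_pos (by omega : n ≤ k), dif_pos h3, map_smul,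
        map_comp_apply G N (Nat.le_succ n) h3 (by omega), sub_self, if_neg (by omega)]
    · rw [dif_neg h3, map_zero, sub_zero]
      by_cases h4 : n ≤ k
      · obtain rfl : k = n := by omega
        rw [dif_pos (le_refl k), if_pos rfl]
        have h5 : (homOfLE (le_refl k)).op = 𝟙 (op k) := rfl
        rw [h5, N.map_id, G.map_id]
        rfl
      · rw [dif_neg h4, if_neg (by omega)]
  rw [Finset.sum_congr rfl fun k _ => hterm k, Finset.sum_ite_eq', if_pos]
  rw [Finset.mem_range]
  exact lt_of_lt_of_le (Nat.lt_succ_self n) ((le_max_right _ _).trans (le_max_right _ _))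

end

variable {T : DeltaFunctor (ModuleCat.{u} A) (ModuleCat.{u} A)}

/-- If `g` kills the transition maps of the towers `T^j(N_n)` from far away for `j ≤ i`, then `g^2`
kills the derived limit `K^i(N)`. -/
theorem smul_sq_eq_zero (Z : TowK T) (N : Tw A) (i : ℕ) (g : A)
    (h : ∀ j ≤ i, ∀ n : ℕ, ∃ (m : ℕ) (hm : n ≤ m), ∀ x : (T.T j).obj (N.obj (op m)),
      g • ((T.T j).map (N.map (homOfLE hm).op)).hom x = 0)
    (x : (Z.K.T i).obj N) : g ^ 2 • x = 0 := by
  have hp : ((Z.p.app i).app N).hom (g • x) = 0 := by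
    rw [map_smul]
    funext n
    exact smul_eq_zero_of_compatible (T.T i) N g (h i le_rfl) _ (Z.p_ex i N x) n
  rw [pow_two, mul_smul]
  cases i with
  | zero =>
    rw [Z.p_inj N (hp.trans (map_zero _).symm), smul_zero]
  | succ i =>
    obtain ⟨y, hy⟩ := Z.ex_K i N (g • x) hp
    obtain ⟨z, hz⟩ := exists_oneSub_eq_smul (T.T i) N g (h i (Nat.le_succ i)) y
    rw [← hy, ← map_smul]
    have h2 : (g • y : (piDelta T).T i |>.obj N) = ((oneSub (T.T i)).app N).hom z := hz.symm
    rw [h2]
    exact Z.d_oneSub i N z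

end Groth.Agent.FormalA.TowKill
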