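import Groth.Agent.FormalA.NulTow
import Groth.Agent.FormalA.AdicFin
import Groth.Agent.Localalg.LCInst

/-!
# The tower of null sequences in a complete module

For a finite module `M` over a complete Noetherian ring, `1 - shift` is bijective on `∏_n W_n(M)`
(`oneSub_id_bijective`), so the derived limit of `lc J` along the tower `W_n(A/p)` vanishes if `J ≤ p`
(`zero_of_le`).
-/

set_option autoImplicit false
set_option linter.unusedVariables false
universe u
open CategoryTheory Limits Opposite
open Groth.Agent.Localalg.DeltaFun Groth.Agent.Localalg.LCAbs Groth.Agent.Localalg.Gam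
open Groth.Agent.FormalA Groth.Agent.FormalA.TowBasic Groth.Agent.FormalA.NullSeq
  Groth.Agent.FormalA.NulTow

namespace Groth.Agent.FormalA.NulComplete

variable {A : Type u} [CommRing A] [IsNoetherianRing A] (I : Ideal A) [IsAdicComplete I A]
  {T : DeltaFunctor (ModuleCat.{u} A) (ModuleCat.{u} A)}

section Series

variable {M : Type u} [AddCommGroup M] [Module A M]

omit [IsNoetherianRing A] [IsAdicComplete I A] in
/-- The sum of a series `∑ w_m` of null sequences with `w_m ∈ W_m`. -/
theorem exists_sum [IsPrecomplete I M] (w : ℕ → nul I M) (hw : ∀ n, w n ∈ nulW I M n) :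
    ∃ L : nul I M, ∀ n, L - ∑ m ∈ Finset.range n, w m ∈ nulW I M n := by
  have hS : ∀ k : ℕ, ∀ {m n : ℕ}, m ≤ n → ((∑ j ∈ Finset.range m, w j : nul I M).1 k) ≡
      ((∑ j ∈ Finset.range n, w j : nul I M).1 k) [SMOD (I ^ m • ⊤ : Submodule A M)] := by
    intro k m n hmn
    rw [SModEq.sub_mem, ← neg_mem_iff, neg_sub]
    induction n, hmn using Nat.le_induction with
    | base => rw [sub_self]; exact zero_mem _
    | succ n hmn ih =>
      have h1 : ((∑ j ∈ Finset.range (n + 1), w j : nul I M).1 k) =
          ((∑ j ∈ Finset.range n, w j : nul I M).1 k) + (w n).1 k := by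
        rw [Finset.sum_range_succ]; rfl
      rw [h1, add_sub_right_comm]
      exact add_mem ih ((Submodule.smul_mono_left (Ideal.pow_le_pow_right hmn) :
        (I ^ n • ⊤ : Submodule A M) ≤ I ^ m • ⊤) (hw n k))
  have h2 : ∀ k : ℕ, ∃ L : M, ∀ n, ((∑ j ∈ Finset.range n, w j : nul I M).1 k) ≡ L
      [SMOD (I ^ n • ⊤ : Submodule A M)] := fun k =>
    IsPrecomplete.prec' (I := I) (fun n => (∑ j ∈ Finset.range n, w j : nul I M).1 k) (hS k)
  choose L hL using h2
  have hL' : ∀ n k, L k - (∑ j ∈ Finset.range n, w j : nul I M).1 k ∈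
      (I ^ n • ⊤ : Submodule A M) := fun n k => by
    have h3 := hL k n
    rw [SModEq.sub_mem, ← neg_mem_iff, neg_sub] at h3
    exact h3
  have hLn : L ∈ nul I M := by
    intro n
    obtain ⟨N, hN⟩ := (∑ j ∈ Finset.range n, w j : nul I M).2 n
    refine ⟨N, fun k hk => ?_⟩
    have h3 := add_mem (hL' n k) (hN k hk)
    rwa [sub_add_cancel] at h3
  exact ⟨⟨L, hLn⟩, fun n k => hL' n k⟩

omit [IsNoetherianRing A] [IsAdicComplete I A] in
theorem eq_zero_of_mem_nulW [IsHausdorff I M] (x : nul I M) (h : ∀ n, x ∈ nulW I M n) : x = 0 := by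
  refine Subtype.ext (funext fun k => ?_)
  refine IsHausdorff.haus (I := I) inferInstance _ fun n => ?_
  rw [SModEq.zero]
  exact h n k

end Series

theorem oneSub_id_bijective (M : ModuleCat.{u} A) [Module.Finite A M] :
    Function.Bijective ((oneSub (𝟭 (ModuleCat.{u} A))).app ((nulTw I).obj M)).hom := by
  have hc : IsAdicComplete I M := AdicFin.isAdicComplete_of_finite I
  constructor
  · rw [injective_iff_map_eq_zero]
    intro x hx
    let y : ∀ n : ℕ, nulW I M n := x
    have h1 : ∀ n, (y n).1 = (y (n + 1)).1 := by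
      intro n
      have h2 := congrFun hx n
      have h3 : (y n).1 - (y (n + 1)).1 = 0 := congrArg Subtype.val h2
      exact sub_eq_zero.mp h3
    have h2 : ∀ n, (y 0).1 = (y n).1 := by
      intro n
      induction n with
      | zero => rfl
      | succ n ih => exact ih.trans (h1 n)
    have h3 : (y 0).1 = 0 := eq_zero_of_mem_nulW I _ fun n => by
      rw [h2 n]; exact (y n).2
    funext n
    exact Subtype.ext ((h2 n).symm.trans h3)
  · intro w
    let v : ∀ n : ℕ, nulW I M n := w
    obtain ⟨L, hL⟩ := exists_sum I (fun n => (v n).1) fun n => (v n).2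
    let x : ∀ n : ℕ, nulW I M n := fun n => ⟨L - ∑ m ∈ Finset.range n, (v m).1, hL n⟩
    refine ⟨x, ?_⟩
    funext n
    refine Subtype.ext ?_
    change (L - ∑ m ∈ Finset.range n, (v m).1) - (L - ∑ m ∈ Finset.range (n + 1), (v m).1) = (v n).1
    rw [Finset.sum_range_succ]
    abel

omit [IsNoetherianRing A] in
/-- A natural isomorphism on power torsion modules. -/
theorem zero_bijective (J : Ideal A) (M : ModuleCat.{u} A) (hM : LocCoh.IsPowerTorsion J M) :
    Function.Bijective fun x : (((lc J).D.T 0).obj M : ModuleCat.{u} A) =>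
      ((show gam J M from ((lc J).zero.hom.app M).hom x) : M) := by
  have h1 : Function.Bijective ((lc J).zero.hom.app M).hom := by
    have : IsIso ((lc J).zero.hom.app M) := inferInstance
    exact (ConcreteCategory.isIso_iff_bijective _).mp this
  refine Function.Bijective.comp (g := fun y : gam J M => (y : M)) ⟨Subtype.val_injective, ?_⟩ h1
  intro m
  exact ⟨⟨m, hM m⟩, rfl⟩

theorem bijective_of_torsion (J : Ideal A) (N : Tw A)
    (hN : ∀ n : ℕ, LocCoh.IsPowerTorsion J (N.obj (op n)))
    (h : Function.Bijective ((oneSub (𝟭 (ModuleCat.{u} A))).app N).hom) (i : ℕ) :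
    Function.Bijective ((oneSub ((lc J).D.T i)).app N).hom := by
  cases i with
  | succ i =>
    have h0 : ∀ n : ℕ, Subsingleton (((lc J).D.T (i + 1)).obj (N.obj (op n))) := fun n =>
      ModuleCat.subsingleton_of_isZero ((lc J).acyc_of_torsion i _ (hN n))
    have h1 : Subsingleton (∀ n : ℕ, ((lc J).D.T (i + 1)).obj (N.obj (op n))) := inferInstance
    exact ⟨fun x y _ => h1.elim x y, fun y => ⟨y, h1.elim _ _⟩⟩
  | zero =>
    let E : ∀ n : ℕ, ((lc J).D.T 0).obj (N.obj (op n)) → N.obj (op n) := fun n x =>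
      ((show gam J (N.obj (op n)) from ((lc J).zero.hom.app (N.obj (op n))).hom x) : N.obj (op n))
    have hE : ∀ n, Function.Bijective (E n) := fun n => zero_bijective J _ (hN n)
    let Φ : (∀ n : ℕ, ((lc J).D.T 0).obj (N.obj (op n))) → (∀ n : ℕ, N.obj (op n)) :=
      fun x n => E n (x n)
    have hΦ : Function.Bijective Φ := by
      constructor
      · intro x y hxy
        funext n
        exact (hE n).1 (congrFun hxy n)
      · intro y
        choose x hx using fun n => (hE n).2 (y n)
        exact ⟨x, funext hx⟩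
    have hcomm : ∀ x, Φ (((oneSub ((lc J).D.T 0)).app N).hom x) =
        ((oneSub (𝟭 (ModuleCat.{u} A))).app N).hom (Φ x) := by
      intro x
      funext n
      let x' : ∀ n : ℕ, ((lc J).D.T 0).obj (N.obj (op n)) := x
      have h2 : ((lc J).zero.hom.app (N.obj (op n))).hom
          ((((lc J).D.T 0).map (tr N n)).hom (x' (n + 1))) =
          ((gamFunctor J).map (tr N n)).hom (((lc J).zero.hom.app (N.obj (op (n + 1)))).hom (x' (n + 1))) :=
        congrArg (fun t => t.hom (x' (n + 1))) ((lc J).zero.hom.naturality (tr N n))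
      change E n (x' n - (((lc J).D.T 0).map (tr N n)).hom (x' (n + 1))) =
        E n (x' n) - (tr N n).hom (E (n + 1) (x' (n + 1)))
      have h3 : E n (x' n - (((lc J).D.T 0).map (tr N n)).hom (x' (n + 1))) =
          E n (x' n) - E n ((((lc J).D.T 0).map (tr N n)).hom (x' (n + 1))) :=
        congrArg (Subtype.val : gam J (N.obj (op n)) → N.obj (op n))
          (map_sub ((lc J).zero.hom.app (N.obj (op n))).hom _ _)
      rw [h3]
      congr 1
      exact congrArg (Subtype.val : gam J (N.obj (op n)) → N.obj (op n)) h2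
    constructor
    · intro x y hxy
      apply hΦ.1
      apply h.1
      rw [← hcomm, ← hcomm, hxy]
    · intro y
      obtain ⟨z, hz⟩ := h.2 (Φ y)
      obtain ⟨x, rfl⟩ := hΦ.2 z
      exact ⟨x, hΦ.1 ((hcomm x).trans hz)⟩

omit [IsNoetherianRing A] [IsAdicComplete I A] in
theorem isPowerTorsion_nulTw (J p : Ideal A) (h : J ≤ p) (n : ℕ) :
    LocCoh.IsPowerTorsion J (((nulTw I).obj (ModuleCat.of A (A ⧸ p))).obj (op n)) := by
  intro x
  refine ⟨1, fun a ha => ?_⟩
  rw [pow_one] at ha
  refine Subtype.ext (Subtype.ext (funext fun k => ?_))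
  change a • ((show nulW I (A ⧸ p) n from x).1.1 k) = 0
  obtain ⟨b, hb⟩ := Ideal.Quotient.mk_surjective ((show nulW I (A ⧸ p) n from x).1.1 k)
  rw [← hb]
  change Ideal.Quotient.mk p (a * b) = 0
  rw [Ideal.Quotient.eq_zero_iff_mem]
  exact p.mul_mem_right _ (h ha)

theorem zero_of_le (J p : Ideal A) (h : J ≤ p) (Z : TowK (lc J).D) (i : ℕ)
    (x : (Z.K.T i).obj ((nulTw I).obj (ModuleCat.of A (A ⧸ p)))) : x = 0 := by
  refine Z.zero_of_bijective _ (fun i => ?_) i x
  exact bijective_of_torsion J _ (isPowerTorsion_nulTw I J p h)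
    (oneSub_id_bijective I (ModuleCat.of A (A ⧸ p))) i

end Groth.Agent.FormalA.NulComplete
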