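import Groth.Agent.FormalA.NulTow
import Groth.Agent.FormalA.AdicFin
import Groth.Agent.Localalg.LCInst

/-!
# The degree zero derived limit of the tower of null sequences vanishes
-/

set_option autoImplicit false
universe u
open CategoryTheory Limits Opposite
open Groth.Agent.Localalg.DeltaFun Groth.Agent.Localalg.LCAbs Groth.Agent.Localalg.Gam
open Groth.Agent.FormalA Groth.Agent.FormalA.TowBasic Groth.Agent.FormalA.NullSeq
open Groth.Agent.FormalA.NulTow

namespace Groth.Agent.FormalA.NulZero

variable {A : Type u} [CommRing A] [IsNoetherianRing A] (I : Ideal A) [IsAdicComplete I A]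

theorem K0_nulTw_eq_zero (J : Ideal A) (Z : TowK (lc J).D) (M : ModuleCat.{u} A) [Module.Finite A M]
    (x : (Z.K.T 0).obj ((nulTw I).obj M)) : x = 0 := by
  have hM : IsAdicComplete I M := AdicFin.isAdicComplete_of_finite I
  refine Z.p_inj _ ?_
  rw [map_zero]
  let y : ∀ n : ℕ, ((lc J).D.T 0).obj (((nulTw I).obj M).obj (op n)) :=
    ((Z.p.app 0).app ((nulTw I).obj M)).hom x
  have hy : ∀ n, y n = (((lc J).D.T 0).map (tr ((nulTw I).obj M) n)).hom (y (n + 1)) := by
    intro n
    have h1 := congrFun (Z.p_ex 0 ((nulTw I).obj M) x) n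
    rw [oneSub_app_apply] at h1
    exact sub_eq_zero.1 h1
  let w : ∀ n : ℕ, nulW I M n := fun n =>
    (((lc J).zero.hom.app (((nulTw I).obj M).obj (op n))).hom (y n) : gam J (nulW I M n)).1
  have hw : ∀ n, (w n).1 = (w (n + 1)).1 := by
    intro n
    have h1 := ConcreteCategory.congr_hom ((lc J).zero.hom.naturality (tr ((nulTw I).obj M) n))
      (y (n + 1))
    have h2 : ((lc J).zero.hom.app (((nulTw I).obj M).obj (op n))).hom (y n) =
        ((gamFunctor J).map (tr ((nulTw I).obj M) n)).hom
          (((lc J).zero.hom.app (((nulTw I).obj M).obj (op (n + 1)))).hom (y (n + 1))) := by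
      rw [hy n]
      exact h1
    have h3 := congrArg (fun t : gam J (nulW I M n) => t.1.1) h2
    exact h3
  have hw' : ∀ m n, (w n).1 = (w (n + m)).1 := by
    intro m
    induction m with
    | zero => intro n; rfl
    | succ m ih => intro n; rw [ih n, hw (n + m)]; rfl
  have hw0 : ∀ n, w n = 0 := by
    intro n
    refine Subtype.ext (Subtype.ext (funext fun k => ?_))
    refine IsHausdorff.haus (I := I) (M := M) inferInstance _ fun m => ?_
    rw [SModEq.zero]
    have h1 := (w (n + m)).2 k
    rw [← hw' m n] at h1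
    exact (Submodule.smul_mono_left (Ideal.pow_le_pow_right (Nat.le_add_left m n)) :
      (I ^ (n + m) • ⊤ : Submodule A M) ≤ (I ^ m • ⊤ : Submodule A M)) h1
  refine funext fun n => ?_
  have h4 : ((lc J).zero.hom.app (((nulTw I).obj M).obj (op n))).hom (y n) = 0 :=
    Subtype.ext (hw0 n)
  have h5 := congrArg ((lc J).zero.inv.app (((nulTw I).obj M).obj (op n))).hom h4
  rw [map_zero] at h5
  refine Eq.trans ?_ h5
  exact (ConcreteCategory.congr_hom ((lc J).zero.hom_inv_id_app (((nulTw I).obj M).obj (op n)))
    (y n)).symm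

end Groth.Agent.FormalA.NulZero
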