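import Groth.Agent.Ega3A.MLNat
import Groth.Agent.Localalg.Gam
import Groth.Prelude.Def_Formal2
import Groth.Agent.LoccohA.Chevalley
import Mathlib.Algebra.Category.ModuleCat.Basic
import Mathlib.RingTheory.Artinian.Module
import Mathlib.RingTheory.FiniteLength
import Mathlib.RingTheory.HopkinsLevitzki

/-!
# `R¹lim = 0` for towers of Artinian modules, in particular for `Γ_J(M/I^{n+1}M)`
-/

set_option autoImplicit false
universe u v

open CategoryTheory CategoryTheory.Limits Opposite
open Groth.Agent.Ega3A Groth.Agent.Localalg.Gam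

namespace Groth.Agent.FormalA.GamML

variable {A : Type u} [CommRing A]

/-- `1 - shift` is surjective on the product of a tower of Artinian modules. -/
theorem exists_sub_shift_of_artinian {T : ℕ → Type v} [∀ n, AddCommGroup (T n)]
    [∀ n, Module A (T n)] (hT : ∀ n, IsArtinian A (T n)) (t : ∀ n, T (n + 1) →ₗ[A] T n)
    (a : ∀ n, T n) : ∃ x : ∀ n, T n, ∀ n, x n - t n (x (n + 1)) = a n := by
  let F : ℕᵒᵖ ⥤ ModuleCat.{v} A := Functor.ofOpSequence (X := fun n => ModuleCat.of A (T n))
    (fun n => ModuleCat.ofHom (t n))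
  have hF : ∀ n, F.map (homOfLE (Nat.le_add_right n 1)).op = ModuleCat.ofHom (t n) := fun n =>
    Functor.ofOpSequence_map_homOfLE_succ (X := fun n => ModuleCat.of A (T n))
      (fun n => ModuleCat.ofHom (t n)) n
  have hML : ((F ⋙ forget₂ (ModuleCat.{v} A) AddCommGrpCat.{v}) ⋙
      forget AddCommGrpCat).IsMittagLeffler := by
    rw [MLBasic.isMittagLeffler_iff]
    intro j
    have hA : IsArtinian A (F.obj (op j)) := hT j
    let f : ℕ →o (Submodule A (F.obj (op j)))ᵒᵈ :=
      { toFun := fun k => LinearMap.range (F.map (homOfLE (Nat.le_add_right j k)).op).hom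
        monotone' := by
          intro k l hkl
          change LinearMap.range _ ≤ LinearMap.range _
          rintro _ ⟨x, rfl⟩
          have h1 : F.map (homOfLE (Nat.le_add_right j l)).op =
              F.map (homOfLE (show j + k ≤ j + l by omega)).op ≫
                F.map (homOfLE (Nat.le_add_right j k)).op := by
            rw [← F.map_comp]
            rfl
          rw [h1]
          exact ⟨_, rfl⟩ }
    obtain ⟨N, hN⟩ := IsArtinian.monotone_stabilizes f
    refine ⟨j + N, Nat.le_add_right _ _, fun k hik x => ?_⟩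
    obtain ⟨l, rfl⟩ := Nat.exists_eq_add_of_le (show j ≤ k by omega)
    have h2 := hN l (by omega)
    have h3 : (F.map (homOfLE (Nat.le_add_right j N)).op).hom x ∈
        (LinearMap.range (F.map (homOfLE (Nat.le_add_right j l)).op).hom) := by
      have h4 : LinearMap.range (F.map (homOfLE (Nat.le_add_right j N)).op).hom =
          LinearMap.range (F.map (homOfLE (Nat.le_add_right j l)).op).hom := h2
      rw [← h4]
      exact ⟨x, rfl⟩
    obtain ⟨y, hy⟩ := h3
    exact ⟨y, hy⟩
  obtain ⟨s, hs⟩ := MLNat.exists_sub_shift hML a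
  refine ⟨s, fun n => ?_⟩
  have h1 := hs n
  have h2 : (F.map (homOfLE (Nat.le_succ n)).op).hom (s (n + 1)) = t n (s (n + 1)) :=
    congrArg (fun f => f.hom (s (n + 1))) (hF n)
  rw [← h1, ← h2]
  rfl

open IsLocalRing in
/-- A finite module over a Noetherian local ring which is both `J`- and `I`-power torsion is
Artinian, if `V(J) ∩ V(I)` is the closed point. -/
theorem isArtinian_of_isPowerTorsion [IsNoetherianRing A] [IsLocalRing A] {N : Type v}
    [AddCommGroup N] [Module A N] [Module.Finite A N] (J I : Ideal A)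
    (hJI : ∀ p : Ideal A, p.IsPrime → J ≤ p → I ≤ p → p = maximalIdeal A)
    (hJ : LocCoh.IsPowerTorsion J N) (hI : LocCoh.IsPowerTorsion I N) : IsArtinian A N := by
  have key : ∀ K : Ideal A, LocCoh.IsPowerTorsion K N → K ≤ (Module.annihilator A N).radical := by
    intro K hK r hr
    rw [Ideal.radical_eq_sInf, Ideal.mem_sInf]
    rintro p ⟨hp, hpp⟩
    have hsupp : (⟨p, hpp⟩ : PrimeSpectrum A) ∈ Module.support A N :=
      Module.mem_support_iff_of_finite.2 hp
    rw [Module.mem_support_iff'] at hsupp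
    obtain ⟨m, hm⟩ := hsupp
    obtain ⟨n, hn⟩ := hK m
    by_contra hrp
    exact hm (r ^ n) (fun h => hrp (hpp.mem_of_pow_mem n h)) (hn _ (Ideal.pow_mem_pow hr n))
  have hmax : maximalIdeal A ≤ (Module.annihilator A N).radical := by
    rw [Ideal.radical_eq_sInf]
    refine le_sInf ?_
    rintro p ⟨hp, hpp⟩
    have hle : (Module.annihilator A N).radical ≤ p := (Ideal.IsPrime.radical_le_iff hpp).2 hp
    exact (hJI p hpp ((key J hJ).trans hle) ((key I hI).trans hle)).ge
  obtain ⟨k, hk⟩ := Ideal.exists_pow_le_of_le_radical_of_fg hmax (IsNoetherian.noetherian _)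
  have := LoccohA.Chevalley.isArtinian_quotient_pow_smul (A := A) N k
  have hbot : (maximalIdeal A ^ k • ⊤ : Submodule A N) = ⊥ := by
    rw [eq_bot_iff, Submodule.smul_le]
    intro r hr n _
    rw [Submodule.mem_bot]
    exact Module.mem_annihilator.1 (hk hr) n
  rw [hbot] at this
  exact (Submodule.quotEquivOfEqBot (⊥ : Submodule A N) rfl).isArtinian_iff.1 this

/-- `R¹lim Γ_J(M/I^{n+1}M) = 0` over a Noetherian local ring, if `V(J) ∩ V(I)` is the closed
point. -/
theorem exists_sub_shift_gam [IsNoetherianRing A] [IsLocalRing A] (J I : Ideal A)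
    (M : Type u) [AddCommGroup M] [Module A M] [Module.Finite A M]
    (hJI : ∀ p : Ideal A, p.IsPrime → J ≤ p → I ≤ p → p = IsLocalRing.maximalIdeal A)
    (a : ∀ n, gam J (Formal2.quotPow A I M n)) :
    ∃ x : ∀ n, gam J (Formal2.quotPow A I M n), ∀ n,
      (x n : Formal2.quotPow A I M n) - Formal2.quotPowTrans A I M n (x (n + 1)) = a n := by
  have hI : ∀ n, LocCoh.IsPowerTorsion I (Formal2.quotPow A I M n) := by
    intro n m
    obtain ⟨m, rfl⟩ := Submodule.mkQ_surjective _ m
    refine ⟨n + 1, fun a ha => ?_⟩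
    rw [← map_smul, Submodule.mkQ_apply, Submodule.Quotient.mk_eq_zero]
    exact Submodule.smul_mem_smul ha trivial
  have hT : ∀ n, IsArtinian A (gam J (Formal2.quotPow A I M n)) := by
    intro n
    refine isArtinian_of_isPowerTorsion J I hJI isPowerTorsion_gam ?_
    intro x
    obtain ⟨k, hk⟩ := hI n x.1
    exact ⟨k, fun a ha => Subtype.ext (hk a ha)⟩
  obtain ⟨x, hx⟩ := exists_sub_shift_of_artinian hT
    (fun n => gamMap J (Formal2.quotPowTrans A I M n)) a
  exact ⟨x, fun n => congrArg Subtype.val (hx n)⟩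

end Groth.Agent.FormalA.GamML
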