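import Groth.Agent.FormalA.GoodDom
import Groth.Agent.FormalA.AssFil

/-!
# Pointwise algebraization of compatible families
-/

set_option autoImplicit false
universe u

namespace Groth.Agent.FormalA.GoodAll

open Groth.Agent.FormalA.NFam Groth.Agent.FormalA.GoodLoc

variable {A : Type u} [CommRing A] [IsNoetherianRing A] {I 𝔞 : Ideal A}

/-- The pointwise algebraization theorem: it is enough to have annihilators of local cohomology
for the associated primes `q ⊆ p` outside `V(I)`. -/
theorem good_of_ann [IsAdicComplete I A] (d : ℕ) (hcd : LocCoh.CdLE A I d)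
    (M : Type u) [AddCommGroup M] [Module A M] [Module.Finite A M]
    (p : PrimeSpectrum A) (hp : I ≤ p.asIdeal) (hp' : ¬ 𝔞 ≤ p.asIdeal)
    (h : ∀ q ∈ associatedPrimes A M, q ≤ p.asIdeal → ¬ I ≤ q →
      ∃ f : A, f ∉ q ∧ ∀ l ≤ d + 1, ∀ x : LocCoh.H 𝔞 l (A ⧸ q), f • x = 0) :
    Good I 𝔞 p M := by
  refine AssFil.assFiltration (@Good A _ I 𝔞 p) ?_ ?_ ?_ M ?_
  · intro M N _ _ _ _ _ φ hφ hN
    exact good_of_injective hp hp' φ hφ hN
  · intro M₁ M M₂ _ _ _ _ _ _ _ _ _ f g hf hfg hg h1 h2
    exact good_of_exact f g hf hfg hg h1 h2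
  · intro M _ _ _
    exact good_of_smul 1 ((Ideal.ne_top_iff_one _).1 p.isPrime.ne_top)
      (fun m => Subsingleton.elim _ _)
  · intro q hq
    have hqp : q.IsPrime := hq.1
    by_cases h1 : q ≤ p.asIdeal
    · by_cases h2 : I ≤ q
      · refine good_of_pow hp' 0 ?_
        rw [zero_add, pow_one, eq_bot_iff, Submodule.smul_le]
        intro r hr x _
        obtain ⟨x, rfl⟩ := Ideal.Quotient.mk_surjective x
        rw [Submodule.mem_bot]
        exact Ideal.Quotient.eq_zero_iff_mem.2 (Ideal.mul_mem_right x q (h2 hr))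
      · obtain ⟨f, hf, hfx⟩ := h q hq h1 h2
        refine good_of_generic hp hp' fun y => ?_
        exact GoodDom.exists_generic d hcd q f hf hfx y
    · obtain ⟨c, hc, hcp⟩ := SetLike.not_le_iff_exists.1 h1
      refine good_of_smul c hcp fun x => ?_
      obtain ⟨x, rfl⟩ := Ideal.Quotient.mk_surjective x
      exact Ideal.Quotient.eq_zero_iff_mem.2 (Ideal.mul_mem_right x q hc)

end Groth.Agent.FormalA.GoodAll
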