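import Groth.Agent.FormalA.InjSurj
import Groth.Agent.Localalg.LCInst

/-!
# Local cohomology controls sections over `D(J)`
-/

set_option autoImplicit false
universe u

open CategoryTheory Limits
open Groth.Agent.Localalg.DeltaFun Groth.Agent.Localalg.Gam Groth.Agent.Localalg.LCAbs

namespace Groth.Agent.FormalA.Obst

open Groth.Agent.FormalA.SecMod

variable {A : Type u} [CommRing A] [IsNoetherianRing A] {J : Ideal A} (T : LC J)

omit [IsNoetherianRing A] in
theorem baer_of_injective (E : ModuleCat.{u} A) [Injective E] : Module.Baer A E := by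
  have : Module.Injective A E := Module.injective_module_of_injective_object A E
  exact Module.Baer.of_injective inferInstance

/-- Degree zero: a map killed by `f` on `H^0_J` is killed by `f` on `J`-torsion. -/
theorem smul_eq_zero_of_H0 {M M' : ModuleCat.{u} A} (z : M ⟶ M') (f : A)
    (hf : ∀ x : (T.D.T 0).obj M, f • ((T.D.T 0).map z).hom x = 0) (m : M)
    (hm : ∃ k : ℕ, ∀ b ∈ J ^ k, b • m = 0) : f • z.hom m = 0 := by
  let m₀ : gam J M := ⟨m, hm⟩
  let x : (T.D.T 0).obj M := (T.zero.inv.app M).hom m₀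
  have h1 : (T.zero.hom.app M').hom (((T.D.T 0).map z).hom x) = gamMap J z.hom m₀ := by
    have h2 := ConcreteCategory.congr_hom (T.zero.hom.naturality z) x
    refine h2.trans ?_
    have h3 : (T.zero.hom.app M).hom x = m₀ :=
      ConcreteCategory.congr_hom (T.zero.inv_hom_id_app M) m₀
    exact congrArg ((gamFunctor J).map z).hom h3
  have h4 := congrArg (T.zero.hom.app M').hom (hf x)
  rw [map_smul, h1, map_zero] at h4
  exact congrArg Subtype.val h4

/-- Degree one: a map killed by `f` on `H^1_J` is killed by `f` on the obstruction to lift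
sections. -/
theorem exists_smul_eq_ι {M M' : ModuleCat.{u} A} (z : M ⟶ M') (f : A)
    (hf : ∀ x : (T.D.T 1).obj M, f • ((T.D.T 1).map z).hom x = 0)
    (x : sec M (D J)) : ∃ m' : M', f • map (D J) z.hom x = ι M' (D J) m' := by
  -- injective resolutions
  let S := injSES M
  let S' := injSES M'
  have hS : S.ShortExact := injSES_shortExact M
  have hS' : S'.ShortExact := injSES_shortExact M'
  obtain ⟨φ, hφ⟩ := exists_hom hS hS' z
  have hE : Module.Baer A S.X₂ := baer_of_injective (Injective.under M)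
  obtain ⟨e, he⟩ := InjSurj.ι_surjective S.X₂ hE J (map (D J) S.f.hom x)
  -- the class in the cokernel
  have hgf : S.g.hom ∘ₗ S.f.hom = 0 := congrArg ModuleCat.Hom.hom S.zero
  have h1 : ι S.X₃ (D J) (S.g.hom e) = 0 := by
    rw [← map_ι, he, map_map, hgf]
    refine ext_sec fun p => ?_
    rw [map_apply]
    obtain ⟨m, s, hm⟩ := LocSub.exists_eq_mk (x.1 p)
    rw [hm, LocSub.lmap_mk, LinearMap.zero_apply, LocalizedModule.zero_mk]
    rfl
  have h2 : ∃ k : ℕ, ∀ b ∈ J ^ k, b • S.g.hom e = 0 := (ι_eq_zero_iff _).1 h1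
  let c₀ : gam J S.X₃ := ⟨S.g.hom e, h2⟩
  let c : (T.D.T 0).obj S.X₃ := (T.zero.inv.app S.X₃).hom c₀
  have hc : (T.zero.hom.app S.X₃).hom c = c₀ :=
    ConcreteCategory.congr_hom (T.zero.inv_hom_id_app S.X₃) c₀
  -- the connecting map
  have h3 : (T.D.δ hS' 0).hom (f • ((T.D.T 0).map φ.τ₃).hom c) = 0 := by
    rw [map_smul]
    have h4 := ConcreteCategory.congr_hom (T.D.naturality hS hS' φ 0) c
    refine (congrArg (fun t => f • t) h4).trans ?_
    rw [hφ]
    exact hf ((T.D.δ hS 0).hom c)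
  obtain ⟨e₀, he₀⟩ := (ShortComplex.moduleCat_exact_iff _).1 (T.D.exact₃ hS' 0) _ h3
  let e₁ : gam J S'.X₂ := (T.zero.hom.app S'.X₂).hom e₀
  have h5 : S'.g.hom e₁.1 = f • φ.τ₃.hom (S.g.hom e) := by
    have h6 := ConcreteCategory.congr_hom (T.zero.hom.naturality S'.g) e₀
    have h7 := ConcreteCategory.congr_hom (T.zero.hom.naturality φ.τ₃) c
    have h8 : (T.zero.hom.app S'.X₃).hom (((T.D.T 0).map S'.g).hom e₀) =
        f • (T.zero.hom.app S'.X₃).hom (((T.D.T 0).map φ.τ₃).hom c) := by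
      rw [← map_smul]
      exact congrArg (T.zero.hom.app S'.X₃).hom he₀
    have h9 : ((gamFunctor J).map S'.g).hom e₁ =
        f • ((gamFunctor J).map φ.τ₃).hom c₀ := by
      rw [← hc]
      exact h6.symm.trans (h8.trans (congrArg (fun t => f • t) h7))
    exact congrArg Subtype.val h9
  have h10 : S'.g.hom (f • φ.τ₂.hom e - e₁.1) = 0 := by
    have h11 : S'.g.hom (φ.τ₂.hom e) = φ.τ₃.hom (S.g.hom e) :=
      ConcreteCategory.congr_hom φ.comm₂₃ e
    rw [map_sub, map_smul, h11, h5, sub_self]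
  obtain ⟨m', hm'⟩ := (ShortComplex.moduleCat_exact_iff _).1 hS'.exact _ h10
  refine ⟨m', ?_⟩
  have hmono : Function.Injective S'.f.hom := (ModuleCat.mono_iff_injective _).1 hS'.mono_f
  refine map_injective (V := D J) S'.f.hom hmono ?_
  have h12 : S'.f.hom ∘ₗ z.hom = φ.τ₂.hom ∘ₗ S.f.hom := by
    rw [← hφ]
    exact congrArg ModuleCat.Hom.hom φ.comm₁₂
  have h13 : ι S'.X₂ (D J) e₁.1 = 0 := (ι_eq_zero_iff _).2 e₁.2
  have h14 : S'.f.hom m' = f • φ.τ₂.hom e - e₁.1 := hm'
  rw [map_smul, map_map, h12, ← map_map, ← he, map_ι, map_ι, h14, _root_.map_sub, h13, sub_zero,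
    map_smul]

end Groth.Agent.FormalA.Obst
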