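import Groth.Agent.FormalA.GoodLoc
import Groth.Agent.FormalA.Obst
import Groth.Agent.FormalA.SyzKill
import Groth.Agent.FormalA.AdicFin

/-!
# Generic algebraization of compatible families on a domain
-/

set_option autoImplicit false
universe u

open CategoryTheory Limits
open Groth.Agent.Localalg.DeltaFun Groth.Agent.Localalg.Gam Groth.Agent.Localalg.LCAbs

namespace Groth.Agent.FormalA.GoodDom

open LocalizedModule Groth.Agent.FormalA.LocSub Groth.Agent.FormalA.SecMod Groth.Agent.FormalA.NFam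
  Groth.Agent.FormalA.GoodLoc

variable {A : Type u} [CommRing A] [IsNoetherianRing A] {I 𝔞 : Ideal A}

/-- If the transition maps of the inverse system `B/I^nB` are killed by `g` on `Γ_𝔞` and on the
obstruction to lift sections, then `g ^ 2` times any compatible family of sections is algebraic. -/
theorem exists_smul_eq_ιF {B : Type u} [AddCommGroup B] [Module A B] [IsPrecomplete I B] (g : A)
    (h : ∀ n, ∃ (m : ℕ) (hnm : n ≤ m),
      (∀ t : Q I B m, (∃ k : ℕ, ∀ b ∈ 𝔞 ^ k, b • t = 0) → g • tr I B hnm t = 0) ∧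
      (∀ x : sec (Q I B m) (D 𝔞), ∃ c : Q I B n, g • map (D 𝔞) (tr I B hnm) x = ι _ _ c))
    (y : F I 𝔞 B) : ∃ c : B, (g * g) • y = ιF I 𝔞 B c := by
  choose m hm h0 h1 using h
  -- lifts
  have h2 : ∀ n, ∃ b : B, g • y.at n = ι _ _ (pr I B n b) := by
    intro n
    obtain ⟨c, hc⟩ := h1 n (y.at (m n))
    obtain ⟨b, rfl⟩ := pr_surjective I _ c
    exact ⟨b, by rw [← hc, y.compat]⟩
  choose b hb using h2
  have h3 : ∀ {j k : ℕ} (hjk : j ≤ k), g • y.at j = ι _ _ (pr I B j (b k)) := by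
    intro j k hjk
    rw [← y.compat hjk, ← map_smul, hb k, map_ι, tr_pr]
  have h4 : ∀ (n : ℕ) {k k' : ℕ} (_ : m n ≤ k) (_ : m n ≤ k'),
      pr I B n (g • b k) = pr I B n (g • b k') := by
    intro n k k' hk hk'
    have h5 : ι (Q I B (m n)) (D 𝔞) (pr I B (m n) (b k - b k')) = 0 := by
      rw [map_sub, map_sub, ← h3 hk, ← h3 hk', sub_self]
    have h6 := h0 n _ ((ι_eq_zero_iff _).1 h5)
    rw [tr_pr, ← map_smul, smul_sub, map_sub] at h6
    exact sub_eq_zero.1 h6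
  -- a monotone bound
  let μ : ℕ → ℕ := fun n => (Finset.range (n + 1)).sup m
  have hμ : ∀ {j n : ℕ}, j ≤ n → m j ≤ μ n := by
    intro j n hjn
    exact Finset.le_sup (f := m) (Finset.mem_range.2 (Nat.lt_succ_of_le hjn))
  obtain ⟨c, hc⟩ := IsPrecomplete.prec' (I := I) (M := B) (fun n => g • b (μ n)) (by
    intro j n hjn
    cases j with
    | zero =>
      rw [pow_zero, Submodule.one_smul]
      exact SModEq.top
    | succ j =>
      rw [SModEq.sub_mem]
      have h7 := h4 j (hμ (le_of_lt (Nat.lt_of_lt_of_le (Nat.lt_succ_self j) le_rfl)))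
        (hμ (j := j) (n := n) (by omega))
      rw [← sub_eq_zero, ← map_sub, pr_eq_zero_iff] at h7
      exact h7)
  refine ⟨c, F.ext fun n => ?_⟩
  have h8 := hc (n + 1)
  rw [SModEq.sub_mem, ← pr_eq_zero_iff, map_sub, sub_eq_zero] at h8
  rw [F.at_smul, ιF_at, mul_smul, ← h8, map_smul, map_smul, ← h3]
  exact (hm n).trans (hμ (Nat.le_succ n))

theorem exists_generic [IsAdicComplete I A] (d : ℕ) (hcd : LocCoh.CdLE A I d) (q : Ideal A)
    [q.IsPrime] (f : A) (hf : f ∉ q) (h : ∀ l ≤ d + 1, ∀ x : LocCoh.H 𝔞 l (A ⧸ q), f • x = 0)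
    (y : F I 𝔞 (A ⧸ q)) : ∃ g : A, (∀ m : A ⧸ q, g • m = 0 → m = 0) ∧
      ∃ m : A ⧸ q, g • y = ιF I 𝔞 (A ⧸ q) m := by
  have hc : IsAdicComplete I (A ⧸ q) := AdicFin.isAdicComplete_of_finite I
  refine ⟨f ^ (d + 1) * f ^ (d + 1), ?_, ?_⟩
  · intro m hm
    obtain ⟨m, rfl⟩ := Ideal.Quotient.mk_surjective m
    have h1 : f ^ (d + 1) * f ^ (d + 1) * m ∈ q := by
      rw [← Ideal.Quotient.eq_zero_iff_mem]
      exact hm
    rw [Ideal.Quotient.eq_zero_iff_mem]
    rcases ‹q.IsPrime›.mem_or_mem h1 with h2 | h2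
    · rcases ‹q.IsPrime›.mem_or_mem h2 with h3 | h3
      · exact absurd (‹q.IsPrime›.mem_of_pow_mem _ h3) hf
      · exact absurd (‹q.IsPrime›.mem_of_pow_mem _ h3) hf
    · exact h2
  · refine exists_smul_eq_ιF (f ^ (d + 1)) ?_ y
    intro n
    obtain ⟨m, hnm, hm⟩ := SyzKill.exists_ge_elem_succ (A ⧸ q) I d hcd n
    have hm' := hm 𝔞 f 1 (fun l hl => h l (by omega))
    let z : ModuleCat.of A (Q I (A ⧸ q) m) ⟶ ModuleCat.of A (Q I (A ⧸ q) n) :=
      ModuleCat.ofHom (tr I (A ⧸ q) hnm)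
    have hz : z = ModuleCat.ofHom (SyzKill.quotMap (A ⧸ q) I (Nat.succ_le_succ hnm)) := by
      refine ModuleCat.hom_ext ?_
      refine hom_ext I fun x => ?_
      rfl
    refine ⟨m, hnm, ?_, ?_⟩
    · intro t ht
      refine Obst.smul_eq_zero_of_H0 (lc 𝔞) z (f ^ (d + 1)) ?_ t ht
      rw [hz]
      exact hm' 0 (by omega)
    · intro x
      refine Obst.exists_smul_eq_ι (lc 𝔞) z (f ^ (d + 1)) ?_ x
      rw [hz]
      exact hm' 1 le_rfl

end Groth.Agent.FormalA.GoodDom
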