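import Groth.Prelude.Def_Formal2
import Groth.Agent.CohtopA.KillClass

/-!
Degree-zero cohomology over an open is sections, for abelian sheaves on a space and for
`Formal2.HV A M 0 V` (sections of the tilde module).
-/

set_option autoImplicit false
universe u

open CategoryTheory TopologicalSpace Opposite AlgebraicGeometry

namespace Groth.Agent.FormalA.HUZero

open Groth.Agent.CohtopA.KillClass

variable {X : TopCat.{u}}

/-- `H^0(U, F) ≃ F(U)`. -/
noncomputable def hu0 (F : CohTop.Ab X) (U : Opens X) : CohTop.HU F 0 U ≃ F.obj.obj (op U) :=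
  (Abelian.Ext.homEquiv₀ (X := (freeFunctor (Opens.grothendieckTopology X)).obj U) (Y := F)).trans
    (homFree (J := Opens.grothendieckTopology X) U F)

theorem exists_mk (F : CohTop.Ab X) (U : Opens X) (x : CohTop.HU F 0 U) :
    ∃ g : (freeFunctor (Opens.grothendieckTopology X)).obj U ⟶ F, x = Abelian.Ext.mk₀ g :=
  ⟨Abelian.Ext.homEquiv₀ (X := (freeFunctor (Opens.grothendieckTopology X)).obj U) (Y := F) x,
    (Abelian.Ext.mk₀_homEquiv₀_apply (X := (freeFunctor (Opens.grothendieckTopology X)).obj U)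
      (Y := F) x).symm⟩

theorem hu0_mk (F : CohTop.Ab X) (U : Opens X)
    (g : (freeFunctor (Opens.grothendieckTopology X)).obj U ⟶ F) :
    hu0 F U (Abelian.Ext.mk₀ g) = homFree (J := Opens.grothendieckTopology X) U F g :=
  congrArg (homFree (J := Opens.grothendieckTopology X) U F) (Abelian.Ext.homEquiv₀.right_inv g)

theorem hu0_map {F G : CohTop.Ab X} (φ : F ⟶ G) (U : Opens X) (x : CohTop.HU F 0 U) :
    hu0 G U (CohTop.HUmap φ 0 U x) = φ.hom.app (op U) (hu0 F U x) := by
  obtain ⟨g, rfl⟩ := exists_mk F U x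
  have h : CohTop.HUmap φ 0 U (Abelian.Ext.mk₀ g) = Abelian.Ext.mk₀ (g ≫ φ) :=
    Abelian.Ext.mk₀_comp_mk₀ g φ
  rw [h, hu0_mk, hu0_mk, homFree_comp]

theorem hu0_res (F : CohTop.Ab X) {U V : Opens X} (h : V ≤ U) (x : CohTop.HU F 0 U) :
    hu0 F V (CohTop.res F 0 h x) = F.obj.map (homOfLE h).op (hu0 F U x) := by
  obtain ⟨g, rfl⟩ := exists_mk F U x
  have h' : CohTop.res F 0 h (Abelian.Ext.mk₀ g) =
      Abelian.Ext.mk₀ ((freeFunctor (Opens.grothendieckTopology X)).map (homOfLE h) ≫ g) :=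
    Abelian.Ext.mk₀_comp_mk₀ _ g
  rw [h', hu0_mk, hu0_mk, homFree_map]

theorem hu0_zero (F : CohTop.Ab X) (U : Opens X) : hu0 F U 0 = 0 := by
  have h := hu0_map (0 : F ⟶ F) U 0
  rw [map_zero] at h
  rw [h]
  rfl

end Groth.Agent.FormalA.HUZero
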