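import Groth.Agent.FormalA.InjAcyc

/-!
# `Formal2.HV` in terms of `E ((tAb A).obj M)`
-/

universe u

open CategoryTheory TopologicalSpace Opposite CategoryTheory.Limits AlgebraicGeometry
open Groth.Agent.FormalA.TildeAb Groth.Agent.FormalA.InjSec Groth.Agent.FormalA.HUBasic

namespace Groth.Agent.FormalA.HVBasic

variable {A : Type u} [CommRing A]

attribute [local instance 3000] HUBasic.hasSheafify HUBasic.hasExt

/-- Cohomology of `M~` over an open of `Spec A`. -/
noncomputable abbrev EV (M : ModuleCat.{u} A) (i : ℕ) (V : Opens (SpT A)) : Type u :=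
  E ((tAb A).obj M) i V

/-- Functoriality in the module. -/
noncomputable abbrev EV.map {M N : ModuleCat.{u} A} (φ : M ⟶ N) (i : ℕ) (V : Opens (SpT A)) :
    EV M i V →+ EV N i V :=
  E.map ((tAb A).map φ) i V

section

variable (A)
variable (M : Type u) [AddCommGroup M] [Module A M]

/-- `Formal2.HV` is `EV`. -/
noncomputable def toEV (i : ℕ) (V : (Spec (CommRingCat.of A)).Opens) :
    Formal2.HV A M i V ≃+ EV (ModuleCat.of A M) i V :=
  toE ((tAb A).obj (ModuleCat.of A M)) i V

theorem toEV_HVmap {M} {N : Type u} [AddCommGroup M] [Module A M] [AddCommGroup N] [Module A N]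
    (φ : M →ₗ[A] N) (i : ℕ)
    (V : (Spec (CommRingCat.of A)).Opens) (x : Formal2.HV A M i V) :
    toEV A N i V (Formal2.HVmap A φ i V x) = EV.map (ModuleCat.ofHom φ) i V (toEV A M i V x) :=
  toE_HUmap ((tAb A).map (ModuleCat.ofHom φ)) i V x

theorem toEV_HVres (i : ℕ) {V V' : (Spec (CommRingCat.of A)).Opens} (h : V' ≤ V)
    (x : Formal2.HV A M i V) :
    toEV A M i V' (Formal2.HVres A M i h x) = E.res _ i h (toEV A M i V x) :=
  toE_res ((tAb A).obj (ModuleCat.of A M)) i h x

end

/-- Degree zero: sections. -/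
noncomputable def evSec (M : ModuleCat.{u} A) (V : (Spec (CommRingCat.of A)).Opens) :
    EV M 0 V ≃+ sec M V :=
  equiv₀ ((tAb A).obj M) V

theorem evSec_map {M N : ModuleCat.{u} A} (φ : M ⟶ N) (V : (Spec (CommRingCat.of A)).Opens)
    (x : EV M 0 V) : evSec N V (EV.map φ 0 V x) = secMap φ V (evSec M V x) :=
  equiv₀_map ((tAb A).map φ) V x

theorem evSec_res (M : ModuleCat.{u} A) {V V' : (Spec (CommRingCat.of A)).Opens} (h : V' ≤ V)
    (x : EV M 0 V) : evSec M V' (E.res _ 0 h x) = secRes M h (evSec M V x) :=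
  equiv₀_res ((tAb A).obj M) h x

/-! ## The `A`-module structure -/

/-- Multiplication by `a` on cohomology. -/
noncomputable instance (M : ModuleCat.{u} A) (i : ℕ) (V : Opens (SpT A)) :
    Module A (EV M i V) where
  smul a x := EV.map (a • 𝟙 M) i V x
  one_smul x := by
    change EV.map ((1 : A) • 𝟙 M) i V x = x
    rw [one_smul, EV.map, CategoryTheory.Functor.map_id, E.map_id]
  mul_smul a b x := by
    change EV.map ((a * b) • 𝟙 M) i V x = EV.map (a • 𝟙 M) i V (EV.map (b • 𝟙 M) i V x)
    rw [EV.map, EV.map, EV.map, ← E.map_comp, ← Functor.map_comp]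
    congr 3
    rw [Linear.smul_comp, Category.id_comp, mul_smul, smul_smul, smul_smul, mul_comm]
  smul_zero a := by
    change EV.map (a • 𝟙 M) i V 0 = 0
    rw [map_zero]
  smul_add a x y := by
    change EV.map (a • 𝟙 M) i V (x + y) = EV.map (a • 𝟙 M) i V x + EV.map (a • 𝟙 M) i V y
    rw [map_add]
  add_smul a b x := by
    change EV.map ((a + b) • 𝟙 M) i V x = EV.map (a • 𝟙 M) i V x + EV.map (b • 𝟙 M) i V x
    rw [add_smul, EV.map, Functor.map_add, E.map_add]
  zero_smul x := by
    change EV.map ((0 : A) • 𝟙 M) i V x = 0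
    rw [zero_smul, EV.map, Functor.map_zero, E.map_zero]

theorem smul_def (M : ModuleCat.{u} A) (i : ℕ) (V : Opens (SpT A)) (a : A) (x : EV M i V) :
    a • x = EV.map (a • 𝟙 M) i V x := rfl

theorem map_smul' {M N : ModuleCat.{u} A} (φ : M ⟶ N) (i : ℕ) (V : Opens (SpT A))
    (a : A) (x : EV M i V) : EV.map φ i V (a • x) = a • EV.map φ i V x := by
  rw [smul_def, smul_def, ← E.map_comp, ← E.map_comp, ← Functor.map_comp, ← Functor.map_comp]
  congr 2
  rw [Linear.smul_comp, Linear.comp_smul, Category.id_comp, Category.comp_id]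

theorem res_smul (M : ModuleCat.{u} A) (i : ℕ) {V V' : Opens (SpT A)} (h : V' ≤ V)
    (a : A) (x : EV M i V) : E.res _ i h (a • x) = a • (E.res _ i h x : EV M i V') := by
  rw [smul_def, smul_def, E.res_map]

/-- Functoriality in the module, as a linear map. -/
noncomputable def mapL {M N : ModuleCat.{u} A} (φ : M ⟶ N) (i : ℕ) (V : Opens (SpT A)) :
    EV M i V →ₗ[A] EV N i V where
  toFun := EV.map φ i V
  map_add' := map_add _
  map_smul' a x := map_smul' φ i V a x

theorem mapL_apply {M N : ModuleCat.{u} A} (φ : M ⟶ N) (i : ℕ) (V : Opens (SpT A))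
    (x : EV M i V) : mapL φ i V x = EV.map φ i V x := rfl

theorem mapL_comp {M N P : ModuleCat.{u} A} (φ : M ⟶ N) (ψ : N ⟶ P) (i : ℕ)
    (V : Opens (SpT A)) (x : EV M i V) :
    mapL (φ ≫ ψ) i V x = mapL ψ i V (mapL φ i V x) := by
  rw [mapL_apply, mapL_apply, mapL_apply, EV.map, Functor.map_comp, E.map_comp]

theorem mapL_id (M : ModuleCat.{u} A) (i : ℕ) (V : Opens (SpT A)) (x : EV M i V) :
    mapL (𝟙 M) i V x = x := by
  rw [mapL_apply, EV.map, CategoryTheory.Functor.map_id, E.map_id]

theorem mapL_zero {M N : ModuleCat.{u} A} (i : ℕ) (V : Opens (SpT A)) (x : EV M i V) :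
    mapL (0 : M ⟶ N) i V x = 0 := by
  rw [mapL_apply, EV.map, Functor.map_zero, E.map_zero]

theorem mapL_smul_id (M : ModuleCat.{u} A) (i : ℕ) (V : Opens (SpT A)) (a : A) (x : EV M i V) :
    mapL (a • 𝟙 M) i V x = a • x := rfl

/-- Restriction as a linear map. -/
noncomputable def resL (M : ModuleCat.{u} A) (i : ℕ) {V V' : Opens (SpT A)} (h : V' ≤ V) :
    EV M i V →ₗ[A] EV M i V' where
  toFun := E.res _ i h
  map_add' := map_add _
  map_smul' a x := res_smul M i h a x

theorem resL_apply (M : ModuleCat.{u} A) (i : ℕ) {V V' : Opens (SpT A)} (h : V' ≤ V)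
    (x : EV M i V) : resL M i h x = E.res _ i h x := rfl

theorem evSec_smul (M : ModuleCat.{u} A) (V : (Spec (CommRingCat.of A)).Opens)
    (a : A) (x : EV M 0 V) : evSec M V (a • x) = a • evSec M V x := by
  rw [smul_def, evSec_map]
  -- the map on sections induced by `a • 𝟙` is multiplication by `a`
  apply sec_ext
  intro f hf
  rw [← secRes_map, map_smul]
  generalize secRes M hf (evSec M V x) = y
  change (secMap (a • 𝟙 M) (PrimeSpectrum.basicOpen f)).hom y = a • y
  rw [secMap_basicOpen]
  have : IsLocalizedModule.map (Submonoid.powers f) (toSec M (PrimeSpectrum.basicOpen f)).hom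
      (toSec M (PrimeSpectrum.basicOpen f)).hom (a • 𝟙 M : M ⟶ M).hom =
      a • LinearMap.id := by
    apply IsLocalizedModule.ext (Submonoid.powers f) (toSec M (PrimeSpectrum.basicOpen f)).hom
      (IsLocalizedModule.map_units (toSec M (PrimeSpectrum.basicOpen f)).hom)
    rw [IsLocalizedModule.map_comp]
    ext m
    simp
  rw [this]
  rfl

/-- Degree zero: sections, linearly. -/
noncomputable def evSecL (M : ModuleCat.{u} A) (V : (Spec (CommRingCat.of A)).Opens) :
    EV M 0 V ≃ₗ[A] sec M V :=
  { evSec M V with map_smul' := fun a x => evSec_smul M V a x }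

theorem evSecL_apply (M : ModuleCat.{u} A) (V : (Spec (CommRingCat.of A)).Opens)
    (x : EV M 0 V) : evSecL M V x = evSec M V x := rfl

/-! ## Long exact sequence -/

section LES

variable {S : ShortComplex (ModuleCat.{u} A)} (hS : S.ShortExact)

/-- Connecting homomorphism, linear. -/
noncomputable def δL (i : ℕ) (V : Opens (SpT A)) : EV S.X₃ i V →ₗ[A] EV S.X₁ (i + 1) V where
  toFun := δ (tAb_shortExact hS) i V
  map_add' := map_add _
  map_smul' a x := by
    have := δ_naturality (tAb_shortExact hS) (tAb_shortExact hS)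
      ((tAb A).mapShortComplex.map
        ({ τ₁ := a • 𝟙 _, τ₂ := a • 𝟙 _, τ₃ := a • 𝟙 _
           comm₁₂ := by simp
           comm₂₃ := by simp } : S ⟶ S)) i V x
    exact this.symm

theorem δL_naturality {S' : ShortComplex (ModuleCat.{u} A)} (hS' : S'.ShortExact) (φ : S ⟶ S')
    (i : ℕ) (V : Opens (SpT A)) (x : EV S.X₃ i V) :
    mapL φ.τ₁ (i + 1) V (δL hS i V x) = δL hS' i V (mapL φ.τ₃ i V x) :=
  δ_naturality (tAb_shortExact hS) (tAb_shortExact hS') ((tAb A).mapShortComplex.map φ) i V x

theorem δL_res (i : ℕ) {V V' : Opens (SpT A)} (h : V' ≤ V) (x : EV S.X₃ i V) :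
    resL S.X₁ (i + 1) h (δL hS i V x) = δL hS i V' (resL S.X₃ i h x) :=
  δ_res (tAb_shortExact hS) i h x

theorem exactL₁ (i : ℕ) (V : Opens (SpT A)) :
    Function.Exact (δL hS i V) (mapL S.f (i + 1) V) := by
  intro x
  constructor
  · intro hx
    exact exact₁ (tAb_shortExact hS) i V x hx
  · rintro ⟨y, rfl⟩
    exact δ_f (tAb_shortExact hS) i V y

include hS in
theorem exactL₂ (i : ℕ) (V : Opens (SpT A)) :
    Function.Exact (mapL S.f i V) (mapL S.g i V) := by
  intro x
  constructor
  · intro hx
    exact exact₂ (tAb_shortExact hS) i V x hx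
  · rintro ⟨y, rfl⟩
    exact f_g (S := S.map (tAb A)) i V y

theorem exactL₃ (i : ℕ) (V : Opens (SpT A)) :
    Function.Exact (mapL S.g i V) (δL hS i V) := by
  intro x
  constructor
  · intro hx
    exact exact₃ (tAb_shortExact hS) i V x hx
  · rintro ⟨y, rfl⟩
    exact g_δ (tAb_shortExact hS) i V y

include hS in
theorem mapL_f_injective (V : Opens (SpT A)) : Function.Injective (mapL S.f 0 V) := by
  rw [injective_iff_map_eq_zero]
  intro x hx
  exact f_injective₀ (tAb_shortExact hS) V x hx

end LES

/-- Vanishing on injectives. -/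
theorem subsingleton_EV [IsNoetherianRing A] (I : ModuleCat.{u} A) [Injective I]
    (n : ℕ) (V : Opens (SpT A)) : Subsingleton (EV I (n + 1) V) := by
  have : Module.Injective A I := Module.injective_module_of_injective_object A I
  exact InjAcyc.subsingleton_E I (Module.Baer.of_injective inferInstance) n V

/-- Sections of an injective extend to elements. -/
theorem toSec_surjective_of_injective [IsNoetherianRing A] (I : ModuleCat.{u} A) [Injective I]
    (V : (Spec (CommRingCat.of A)).Opens) : Function.Surjective (toSec I V) := by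
  have : Module.Injective A I := Module.injective_module_of_injective_object A I
  exact toSec_surjective I (Module.Baer.of_injective inferInstance) V

end Groth.Agent.FormalA.HVBasic
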