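import Groth.Agent.FormalA.HVForm
import Groth.Agent.FormalA.GamML

/-!
# Formal cohomology over opens from local cohomology: local rings

Assembly lemma for Stacks 0DXQ: if `H^j_J(M) → lim_n H^j_J(M/I^{n+1}M)` is bijective for `j ≤ s`
then `FormalCohBijective A I M i V` for `i < s`, `V = Spec A ∖ V(J)` admissible in the punctured
spectrum.
-/

set_option autoImplicit false
universe u

open CategoryTheory TopologicalSpace Opposite CategoryTheory.Limits AlgebraicGeometry
open Groth.Agent.FormalA.HVForm Groth.Agent.FormalA.GamML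
open Groth.Agent.Localalg.Gam Groth.Agent.Localalg.LCAbs

namespace Groth.Agent.FormalA.HVFormLoc

variable {A : Type u} [CommRing A] {I : Ideal A} {M : Type u} [AddCommGroup M] [Module A M]

theorem eq_of_quotPow_eq [IsHausdorff I M] {x y : M}
    (h : ∀ n, Formal2.quotPowπ A I M n x = Formal2.quotPowπ A I M n y) : x = y := by
  rw [← sub_eq_zero]
  refine IsHausdorff.haus' (I := I) _ fun n => ?_
  rw [SModEq.zero]
  have h1 : x - y ∈ (I ^ (n + 1) • ⊤ : Submodule A M) := by
    rw [← Submodule.Quotient.mk_eq_zero, Submodule.Quotient.mk_sub, sub_eq_zero]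
    exact h n
  exact Submodule.smul_mono_left (Ideal.pow_le_pow_right (Nat.le_succ n)) h1

/-- The degree zero input of `formalCohBijective_zero`. -/
theorem mem_gam_of_limBij [IsHausdorff I M] {J : Ideal A} (h : LimBij I M (localCohomology J 0))
    (m : M) (hm : ∀ n, Formal2.quotPowπ A I M n m ∈ gam J (Formal2.quotPow A I M n)) :
    m ∈ gam J M := by
  have h' : LimBij I M (gamFunctor J) := LimBij.of_iso I M (lc J).zero.symm h
  obtain ⟨x, hx⟩ := h'.2 (fun n => ⟨_, hm n⟩) (fun n => Subtype.ext rfl)
  have h1 : (x : gam J M).1 = m := eq_of_quotPow_eq (I := I) fun n => congrArg Subtype.val (hx n)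
  rw [← h1]
  exact x.2

/-- Every open of `Spec A` is a punctured neighbourhood. -/
theorem exists_puncturedOpen (V : (Spec (CommRingCat.of A)).Opens) :
    ∃ J : Ideal A, V = LocCoh.puncturedOpen A J := by
  have h : (PrimeSpectrum.zeroLocus (PrimeSpectrum.vanishingIdeal (V.1ᶜ) : Set A) :
      Set (PrimeSpectrum A)) = V.1ᶜ := by
    rw [PrimeSpectrum.zeroLocus_vanishingIdeal_eq_closure]
    exact closure_eq_iff_isClosed.2 V.2.isClosed_compl
  refine ⟨PrimeSpectrum.vanishingIdeal (V.1ᶜ), Opens.ext ?_⟩
  exact ((congrArg compl h).trans (compl_compl _)).symm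

theorem eq_maximalIdeal_of_admissible [IsLocalRing A] {V : (Spec (CommRingCat.of A)).Opens}
    (hV : Formal2.Admissible A I (LocCoh.puncturedOpen A (IsLocalRing.maximalIdeal A)) V)
    {J : Ideal A} (hJ : V = LocCoh.puncturedOpen A J) (p : Ideal A) (hp : p.IsPrime)
    (hJp : J ≤ p) (hIp : I ≤ p) : p = IsLocalRing.maximalIdeal A := by
  by_contra hne
  have h1 : (⟨p, hp⟩ : PrimeSpectrum A) ∈
      LocCoh.puncturedOpen A (IsLocalRing.maximalIdeal A) := by
    intro h
    exact hne (le_antisymm (IsLocalRing.le_maximalIdeal hp.ne_top) h)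
  have h2 := hV.2 ⟨p, hp⟩ h1 hIp
  rw [hJ] at h2
  exact h2 hJp

/-- Assembly lemma for Stacks 0DXQ. -/
theorem formalCohBijective_of_limBij [IsNoetherianRing A] [IsLocalRing A] [IsAdicComplete I A]
    [Module.Finite A M] {V : (Spec (CommRingCat.of A)).Opens}
    (hV : Formal2.Admissible A I (LocCoh.puncturedOpen A (IsLocalRing.maximalIdeal A)) V)
    {J : Ideal A} (hJ : V = LocCoh.puncturedOpen A J) (s : ℕ)
    (h : ∀ j ≤ s, LimBij I M (localCohomology J j)) (i : ℕ) (hi : i < s) :
    Formal2.FormalCohBijective A I M i V := by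
  have hc : IsAdicComplete I M := AdicFin.isAdicComplete_of_finite I
  cases i with
  | zero =>
    exact formalCohBijective_zero hJ (mem_gam_of_limBij (h 0 (by omega))) (h 1 (by omega))
      (exists_sub_shift_gam J I M (eq_maximalIdeal_of_admissible hV hJ))
  | succ i => exact formalCohBijective_succ hJ i (h (i + 2) (by omega))

end Groth.Agent.FormalA.HVFormLoc
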