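import Groth.Agent.FormalA.HVBasic
import Groth.Agent.FormalA.AdicFin

/-!
# Towers: the map `H → lim Q_n` is bijective

Abstract lemma and the application to `H^i(U, M~) → lim H^i(U, (M/f^nM)~)`.
-/

universe u

open CategoryTheory TopologicalSpace Opposite CategoryTheory.Limits AlgebraicGeometry
open Groth.Agent.FormalA.TildeAb Groth.Agent.FormalA.HVBasic

namespace Groth.Agent.FormalA.TowerLim

/-- A separated and complete decreasing filtration by subgroups. -/
structure IsComplFil {H : Type*} [AddCommGroup H] (F : ℕ → AddSubgroup H) : Prop where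
  anti : Antitone F
  sep : ∀ x, (∀ n, x ∈ F n) → x = 0
  compl : ∀ x : ℕ → H, (∀ n, x (n + 1) - x n ∈ F n) → ∃ y, ∀ n, y - x n ∈ F n

theorem sub_mem_of_le {H : Type*} [AddCommGroup H] {F : ℕ → AddSubgroup H} (hF : Antitone F)
    (x : ℕ → H) (hx : ∀ n, x (n + 1) - x n ∈ F n) {m n : ℕ} (h : m ≤ n) : x n - x m ∈ F m := by
  induction n, h using Nat.le_induction with
  | base => simp
  | succ n hmn ih =>
    have h1 := hF hmn (hx n)
    have h2 := (F m).add_mem h1 ih
    rwa [sub_add_sub_cancel] at h2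

/-- Completeness only depends on the filtration up to a bounded shift. -/
theorem IsComplFil.of_interleaved {H : Type*} [AddCommGroup H] {F G : ℕ → AddSubgroup H}
    (hG : IsComplFil G) (hF : Antitone F) (c : ℕ) (h1 : ∀ n, F (n + c) ≤ G n)
    (h2 : ∀ n, G (n + c) ≤ F n) : IsComplFil F where
  anti := hF
  sep x hx := hG.sep x fun n => h1 n (hx (n + c))
  compl x hx := by
    obtain ⟨y, hy⟩ := hG.compl (fun n => x (n + c)) (fun n => by
      have := h1 n (hx (n + c))
      rwa [show n + c + 1 = n + 1 + c by omega] at this)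
    refine ⟨y, fun n => ?_⟩
    have h3 : y - x (n + c + c) ∈ F n := h2 n (hy (n + c))
    have h4 : x (n + c + c) - x n ∈ F n := sub_mem_of_le hF x hx (by omega)
    have := (F n).add_mem h3 h4
    rwa [sub_add_sub_cancel] at this

theorem isComplFil_of_eventually_bot {H : Type*} [AddCommGroup H] {F : ℕ → AddSubgroup H}
    (hF : Antitone F) (m : ℕ) (hm : F m = ⊥) : IsComplFil F where
  anti := hF
  sep x hx := by
    have := hx m
    rwa [hm] at this
  compl x hx := by
    refine ⟨x m, fun n => ?_⟩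
    rcases le_total n m with h | h
    · exact sub_mem_of_le hF x hx h
    · have h1 := sub_mem_of_le hF x hx h
      rw [hm, AddSubgroup.mem_bot] at h1
      rw [← neg_sub, h1, neg_zero]
      exact (F n).zero_mem

/-- Abstract bijectivity onto the limit. -/
theorem bijective_of_isComplFil {H : Type*} [AddCommGroup H] {Q : ℕ → Type*}
    [∀ n, AddCommGroup (Q n)] (π : ∀ n, H →+ Q n) (τ : ∀ n, Q (n + 1) →+ Q n)
    (hτ : ∀ n x, τ n (π (n + 1) x) = π n x) (hF : IsComplFil fun n => (π n).ker)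
    (hl : ∀ y : ∀ n, Q n, (∀ n, τ n (y (n + 1)) = y n) → ∀ n, ∃ x, π n x = y n) :
    (∀ x x' : H, (∀ n, π n x = π n x') → x = x') ∧
      ∀ y : ∀ n, Q n, (∀ n, τ n (y (n + 1)) = y n) → ∃ x, ∀ n, π n x = y n := by
  constructor
  · intro x x' h
    rw [← sub_eq_zero]
    apply hF.sep
    intro n
    rw [AddMonoidHom.mem_ker, map_sub, h n, sub_self]
  · intro y hy
    choose x hx using hl y hy
    obtain ⟨z, hz⟩ := hF.compl x (fun n => by
      rw [AddMonoidHom.mem_ker, map_sub, ← hτ, hx, hx, hy, sub_self])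
    refine ⟨z, fun n => ?_⟩
    have := hz n
    rw [AddMonoidHom.mem_ker, map_sub, hx, sub_eq_zero] at this
    exact this

variable {A : Type u} [CommRing A]

/-- The canonical map from `M` to degree zero cohomology. -/
noncomputable def ι₀ (M : ModuleCat.{u} A) (U : (Spec (CommRingCat.of A)).Opens) :
    M →ₗ[A] EV M 0 U :=
  (evSecL M U).symm.toLinearMap.comp (toSec M U).hom

theorem evSecL_ι₀ (M : ModuleCat.{u} A) (U : (Spec (CommRingCat.of A)).Opens) (m : M) :
    evSecL M U (ι₀ M U m) = toSec M U m := by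
  change evSecL M U ((evSecL M U).symm _) = _
  rw [LinearEquiv.apply_symm_apply]

theorem mapL_ι₀ {M N : ModuleCat.{u} A} (φ : M ⟶ N) (U : (Spec (CommRingCat.of A)).Opens)
    (m : M) : mapL φ 0 U (ι₀ M U m) = ι₀ N U (φ m) := by
  apply (evSecL N U).injective
  rw [evSecL_ι₀]
  have h := evSec_map φ U (ι₀ M U m)
  have h2 : evSec M U (ι₀ M U m) = toSec M U m := evSecL_ι₀ M U m
  rw [h2, toSec_map_apply] at h
  exact h

/-- If `a` kills `M` then it kills the cohomology. -/
theorem smul_eq_zero_of_killed (M : ModuleCat.{u} A) (a : A) (h : ∀ m : M, a • m = 0) (i : ℕ)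
    (U : Opens (SpT A)) (x : EV M i U) : a • x = 0 := by
  rw [← mapL_smul_id]
  have : a • 𝟙 M = 0 := by
    ext m
    exact h m
  rw [this, mapL_zero]

section Main

variable [IsNoetherianRing A] (f : A) (M : Type u) [AddCommGroup M] [Module A M]
  [Module.Finite A M]

/-- `f^(n+1) M`. -/
noncomputable def N (n : ℕ) : Submodule A M := Ideal.span {f} ^ (n + 1) • (⊤ : Submodule A M)

variable {M}

omit [IsNoetherianRing A] [Module.Finite A M] in
theorem mem_N (n : ℕ) (x : M) : x ∈ N f M n ↔ ∃ y : M, f ^ (n + 1) • y = x := by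
  rw [N, Ideal.span_singleton_pow, Submodule.ideal_span_singleton_smul,
    Submodule.mem_smul_pointwise_iff_exists]
  simp

omit [IsNoetherianRing A] [Module.Finite A M] in
theorem N_anti : Antitone (N f M) := fun _ _ h =>
  Submodule.smul_mono_left (Ideal.pow_le_pow_right (Nat.succ_le_succ h))

variable (M)

/-- `f^(n+1) M` as an object. -/
noncomputable def NN (n : ℕ) : ModuleCat.{u} A := ModuleCat.of A (N f M n)

/-- `M/f^(n+1) M` as an object. -/
noncomputable def QN (n : ℕ) : ModuleCat.{u} A :=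
  ModuleCat.of A (Formal2.quotPow A (Ideal.span {f}) M n)

/-- The inclusion. -/
noncomputable def sN (n : ℕ) : NN f M n ⟶ ModuleCat.of A M := ModuleCat.ofHom (N f M n).subtype

/-- The projection. -/
noncomputable def qN (n : ℕ) : ModuleCat.of A M ⟶ QN f M n :=
  ModuleCat.ofHom (Formal2.quotPowπ A (Ideal.span {f}) M n)

/-- The transition map. -/
noncomputable def tN (n : ℕ) : QN f M (n + 1) ⟶ QN f M n :=
  ModuleCat.ofHom (Formal2.quotPowTrans A (Ideal.span {f}) M n)

omit [IsNoetherianRing A] [Module.Finite A M] in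
theorem qN_tN (n : ℕ) : qN f M (n + 1) ≫ tN f M n = qN f M n := rfl

/-- Inclusion between the submodules. -/
noncomputable def incl {m n : ℕ} (h : m ≤ n) : NN f M n ⟶ NN f M m :=
  ModuleCat.ofHom (Submodule.inclusion (N_anti f h))

omit [IsNoetherianRing A] [Module.Finite A M] in
theorem incl_sN {m n : ℕ} (h : m ≤ n) : incl f M h ≫ sN f M m = sN f M n :=
  ModuleCat.hom_ext (Submodule.subtype_comp_inclusion _ _ (N_anti f h))

omit [IsNoetherianRing A] [Module.Finite A M] in
theorem incl_incl {l m n : ℕ} (h : m ≤ n) (h' : l ≤ m) :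
    incl f M h ≫ incl f M h' = incl f M (h'.trans h) := by
  have hm : Mono (sN f M l) := by
    rw [ModuleCat.mono_iff_injective]
    exact Subtype.val_injective
  rw [← cancel_mono (sN f M l), Category.assoc, incl_sN, incl_sN, incl_sN]

omit [IsNoetherianRing A] [Module.Finite A M] in
theorem incl_self (n : ℕ) : incl f M (le_refl n) = 𝟙 _ := by
  have hm : Mono (sN f M n) := by
    rw [ModuleCat.mono_iff_injective]
    exact Subtype.val_injective
  rw [← cancel_mono (sN f M n), incl_sN, Category.id_comp]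

omit [IsNoetherianRing A] [Module.Finite A M] in
theorem sN_qN (n : ℕ) : sN f M n ≫ qN f M n = 0 := by
  apply ModuleCat.hom_ext
  ext x
  exact (Submodule.Quotient.mk_eq_zero _).2 x.2

/-- The sequence `0 → f^(n+1) M → M → M/f^(n+1) M → 0`. -/
noncomputable abbrev SN (n : ℕ) : ShortComplex (ModuleCat.{u} A) :=
  ShortComplex.mk (sN f M n) (qN f M n) (sN_qN f M n)

omit [IsNoetherianRing A] [Module.Finite A M] in
theorem SN_shortExact (n : ℕ) : (SN f M n).ShortExact := by
  refine ShortComplex.ShortExact.mk' ?_ ?_ ?_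
  · rw [ShortComplex.moduleCat_exact_iff]
    intro x hx
    exact ⟨⟨x, (Submodule.Quotient.mk_eq_zero _).1 hx⟩, rfl⟩
  · rw [ModuleCat.mono_iff_injective]
    exact Subtype.val_injective
  · rw [ModuleCat.epi_iff_surjective]
    exact Submodule.mkQ_surjective _

/-- Pro-zero system in degree `j`. -/
def ProZero (j : ℕ) (U : Opens (SpT A)) : Prop :=
  ∀ n : ℕ, ∃ (m : ℕ) (h : n ≤ m), ∀ x : EV (NN f M m) j U, mapL (incl f M h) j U x = 0

omit [IsNoetherianRing A] [Module.Finite A M] in
theorem comm₁ (n : ℕ) : incl f M (Nat.le_succ n) ≫ sN f M n = sN f M (n + 1) ≫ 𝟙 _ := by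
  rw [Category.comp_id, incl_sN]

omit [IsNoetherianRing A] [Module.Finite A M] in
theorem comm₂ (n : ℕ) : 𝟙 _ ≫ qN f M n = qN f M (n + 1) ≫ tN f M n := by
  rw [Category.id_comp, qN_tN]

/-- The morphism of sequences. -/
noncomputable abbrev SNmap (n : ℕ) : SN f M (n + 1) ⟶ SN f M n :=
  ShortComplex.Hom.mk (incl f M (Nat.le_succ n)) (𝟙 _) (tN f M n) (comm₁ f M n) (comm₂ f M n)

omit [IsNoetherianRing A] [Module.Finite A M] in
theorem δ_step (i : ℕ) (U : Opens (SpT A)) (m : ℕ) (y : EV (QN f M (m + 1)) i U) :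
    δL (SN_shortExact f M m) i U (mapL (tN f M m) i U y) =
      mapL (incl f M (Nat.le_succ m)) (i + 1) U (δL (SN_shortExact f M (m + 1)) i U y) :=
  (δL_naturality (SN_shortExact f M (m + 1)) (SN_shortExact f M m) (SNmap f M m) i U y).symm

omit [IsNoetherianRing A] [Module.Finite A M] in
theorem δ_eq (i : ℕ) (U : Opens (SpT A))
    (y : ∀ n, EV (QN f M n) i U)
    (hy : ∀ n, mapL (tN f M n) i U (y (n + 1)) = y n) {n m : ℕ} (h : n ≤ m) :
    δL (SN_shortExact f M n) i U (y n) =
      mapL (incl f M h) (i + 1) U (δL (SN_shortExact f M m) i U (y m)) := by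
  induction m, h using Nat.le_induction with
  | base => 
    rw [incl_self, mapL_id]
  | succ m hnm ih =>
    rw [ih, ← hy m, δ_step, ← mapL_comp, incl_incl]

omit [IsNoetherianRing A] [Module.Finite A M] in
/-- Lifting of each member of a compatible family. -/
theorem exists_lift (i : ℕ) (U : Opens (SpT A)) (hpz : ProZero f M (i + 1) U)
    (y : ∀ n, EV (QN f M n) i U)
    (hy : ∀ n, mapL (tN f M n) i U (y (n + 1)) = y n) (n : ℕ) :
    ∃ x : EV (ModuleCat.of A M) i U, mapL (qN f M n) i U x = y n := by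
  obtain ⟨m, h, hm⟩ := hpz n
  have h1 : δL (SN_shortExact f M n) i U (y n) = 0 := by
    rw [δ_eq f M i U y hy h, hm]
  exact (exactL₃ (SN_shortExact f M n) i U (y n)).1 h1

/-- The kernel filtration on `H^i(U, M~)`. -/
noncomputable def F (i : ℕ) (U : Opens (SpT A)) (n : ℕ) :
    AddSubgroup (EV (ModuleCat.of A M) i U) :=
  ((mapL (qN f M n) i U).toAddMonoidHom).ker

omit [IsNoetherianRing A] [Module.Finite A M] in
theorem mem_F (i : ℕ) (U : Opens (SpT A)) (n : ℕ) (x : EV (ModuleCat.of A M) i U) :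
    x ∈ F f M i U n ↔ ∃ z : EV (NN f M n) i U, mapL (sN f M n) i U z = x :=
  exactL₂ (SN_shortExact f M n) i U x

omit [IsNoetherianRing A] [Module.Finite A M] in
theorem F_anti (i : ℕ) (U : Opens (SpT A)) : Antitone (F f M i U) := by
  intro m n h x hx
  rw [mem_F] at hx ⊢
  obtain ⟨z, hz⟩ := hx
  refine ⟨mapL (incl f M h) i U z, ?_⟩
  rw [← mapL_comp, incl_sN, hz]

omit [IsNoetherianRing A] [Module.Finite A M] in
theorem τπ (i : ℕ) (U : Opens (SpT A)) (n : ℕ) (x : EV (ModuleCat.of A M) i U) :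
    mapL (tN f M n) i U (mapL (qN f M (n + 1)) i U x) = mapL (qN f M n) i U x := by
  rw [← mapL_comp, qN_tN]

omit [IsNoetherianRing A] [Module.Finite A M] in
theorem toEV_π (i : ℕ) (U : (Spec (CommRingCat.of A)).Opens) (n : ℕ)
    (x : Formal2.HV A M i U) :
    toEV A _ i U (Formal2.HVmap A (Formal2.quotPowπ A (Ideal.span {f}) M n) i U x) =
      mapL (qN f M n) i U (toEV A M i U x) :=
  toEV_HVmap A _ i U x

omit [IsNoetherianRing A] [Module.Finite A M] in
theorem toEV_τ (i : ℕ) (U : (Spec (CommRingCat.of A)).Opens) (n : ℕ)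
    (x : Formal2.HV A (Formal2.quotPow A (Ideal.span {f}) M (n + 1)) i U) :
    toEV A _ i U (Formal2.HVmap A (Formal2.quotPowTrans A (Ideal.span {f}) M n) i U x) =
      mapL (tN f M n) i U (toEV A _ i U x) :=
  toEV_HVmap A _ i U x

omit [IsNoetherianRing A] [Module.Finite A M] in
/-- The abstract criterion. -/
theorem formalCohBijective_of (i : ℕ) (U : (Spec (CommRingCat.of A)).Opens)
    (hpz : ProZero f M (i + 1) U) (hF : IsComplFil (F f M i U)) :
    Formal2.FormalCohBijective A (Ideal.span {f}) M i U := by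
  obtain ⟨h1, h2⟩ := bijective_of_isComplFil
    (fun n => (mapL (qN f M n) i U).toAddMonoidHom)
    (fun n => (mapL (tN f M n) i U).toAddMonoidHom) (fun n x => τπ f M i U n x) hF
    (fun y hy n => exists_lift f M i U hpz y hy n)
  constructor
  · intro x x' h
    apply (toEV A M i U).injective
    apply h1
    intro n
    have := congrArg (toEV A _ i U) (h n)
    rw [toEV_π, toEV_π] at this
    exact this
  · intro y hy
    obtain ⟨x, hx⟩ := h2 (fun n => toEV A _ i U (y n)) (fun n => by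
      have := congrArg (toEV A _ i U) (hy n)
      rw [toEV_τ] at this
      exact this)
    refine ⟨(toEV A M i U).symm x, fun n => ?_⟩
    apply (toEV A _ i U).injective
    rw [toEV_π, AddEquiv.apply_symm_apply]
    exact hx n

/-- A bound for the `f`-power torsion of `M`. -/
theorem exists_torsion_bound :
    ∃ c : ℕ, ∀ (k : ℕ) (x : M), f ^ k • x = 0 → f ^ c • x = 0 := by
  let g : ℕ →o Submodule A M :=
    ⟨fun k => LinearMap.ker (LinearMap.lsmul A M (f ^ k)), fun m n h x hx => by
      rw [LinearMap.mem_ker] at hx ⊢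
      obtain ⟨d, rfl⟩ := Nat.exists_eq_add_of_le h
      rw [LinearMap.lsmul_apply] at hx ⊢
      rw [pow_add, mul_comm, mul_smul, hx, smul_zero]⟩
  obtain ⟨c, hc⟩ := monotone_stabilizes_iff_noetherian.2
    (inferInstance : IsNoetherian A M) g
  refine ⟨c, fun k x hx => ?_⟩
  have h1 : x ∈ g (max c k) := g.monotone (le_max_right c k) hx
  rw [← hc _ (le_max_left c k)] at h1
  exact h1

omit [IsNoetherianRing A] [Module.Finite A M] in
variable {M} in
/-- Multiplication by `f^k` as an isomorphism `f^(n+1)M → f^(n+k+1)M`. -/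
theorem exists_iso {c : ℕ} (hc : ∀ (k : ℕ) (x : M), f ^ k • x = 0 → f ^ c • x = 0) (n k : ℕ)
    (hn : c ≤ n) :
    ∃ φ : NN f M n ≅ NN f M (n + k), φ.hom ≫ sN f M (n + k) = f ^ k • sN f M n := by
  let g : N f M n →ₗ[A] N f M (n + k) :=
    LinearMap.codRestrict _ ((LinearMap.lsmul A M (f ^ k)).comp (N f M n).subtype) (by
      intro x
      obtain ⟨y, hy⟩ := (mem_N f n _).1 x.2
      rw [mem_N]
      refine ⟨y, ?_⟩
      rw [LinearMap.comp_apply, Submodule.subtype_apply, ← hy, LinearMap.lsmul_apply, smul_smul,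
        ← pow_add]
      congr 2
      omega)
  have hg : ∀ x, (g x : M) = f ^ k • (x : M) := fun x => rfl
  have hinj : Function.Injective g := by
    intro x y hxy
    obtain ⟨x', hx'⟩ := (mem_N f n _).1 x.2
    obtain ⟨y', hy'⟩ := (mem_N f n _).1 y.2
    have h1 := congrArg (Subtype.val) hxy
    rw [hg, hg, ← hx', ← hy', smul_smul, smul_smul, ← sub_eq_zero, ← smul_sub, ← pow_add] at h1
    have h2 := hc _ _ h1
    apply Subtype.ext
    rw [← hx', ← hy', ← sub_eq_zero, ← smul_sub]
    obtain ⟨d, hd⟩ := Nat.exists_eq_add_of_le (hn.trans (Nat.le_succ n))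
    rw [show n + 1 = c + d from hd, pow_add, mul_comm, mul_smul, h2, smul_zero]
  have hsurj : Function.Surjective g := by
    intro x
    obtain ⟨y, hy⟩ := (mem_N f (n + k) _).1 x.2
    refine ⟨⟨f ^ (n + 1) • y, (mem_N f n _).2 ⟨y, rfl⟩⟩, ?_⟩
    apply Subtype.ext
    rw [hg, ← hy, smul_smul, ← pow_add]
    congr 2
    omega
  refine ⟨(LinearEquiv.ofBijective g ⟨hinj, hsurj⟩).toModuleIso, ?_⟩
  apply ModuleCat.hom_ext
  apply LinearMap.ext
  intro x
  exact hg x

omit [IsNoetherianRing A] [Module.Finite A M] in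
variable {M} in
/-- The surjection `M → f^(n+1) M` with kernel killed by `f^(n+1)`. -/
theorem exists_kill (n : ℕ) (i : ℕ) (U : Opens (SpT A)) (x : EV (NN f M n) i U) :
    ∃ (p : ModuleCat.of A M ⟶ NN f M n) (z : EV (ModuleCat.of A M) i U),
      f ^ (n + 1) • x = mapL p i U z := by
  let p' : M →ₗ[A] N f M n :=
    LinearMap.codRestrict _ (LinearMap.lsmul A M (f ^ (n + 1))) (fun y =>
      (mem_N f n _).2 ⟨y, rfl⟩)
  have hsurj : Function.Surjective p' := by
    intro x
    obtain ⟨y, hy⟩ := (mem_N f n _).1 x.2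
    exact ⟨y, Subtype.ext hy⟩
  let S : ShortComplex (ModuleCat.{u} A) :=
    ShortComplex.mk (X₃ := NN f M n) (ModuleCat.ofHom (LinearMap.ker p').subtype)
      (ModuleCat.ofHom p') (by
        apply ModuleCat.hom_ext
        apply LinearMap.ext
        intro x
        exact x.2)
  have hS : S.ShortExact := by
    refine ShortComplex.ShortExact.mk' ?_ ?_ ?_
    · rw [ShortComplex.moduleCat_exact_iff]
      intro x hx
      exact ⟨⟨x, hx⟩, rfl⟩
    · rw [ModuleCat.mono_iff_injective]
      exact Subtype.val_injective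
    · rw [ModuleCat.epi_iff_surjective]
      exact hsurj
  have h1 : f ^ (n + 1) • δL hS i U x = 0 := by
    apply smul_eq_zero_of_killed
    intro m
    have h2 : p' (m : LinearMap.ker p').1 = 0 := (m : LinearMap.ker p').2
    have h3 : f ^ (n + 1) • ((m : LinearMap.ker p').1 : M) = 0 := congrArg Subtype.val h2
    apply Subtype.ext
    exact h3
  rw [← map_smul] at h1
  obtain ⟨z, hz⟩ := (exactL₃ hS i U _).1 h1
  exact ⟨ModuleCat.ofHom p', z, hz.symm⟩

variable {M} in
theorem kill_NN {a : ℕ} {i : ℕ} {U : Opens (SpT A)}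
    (h : ∀ x : EV (ModuleCat.of A M) i U, f ^ a • x = 0) (n : ℕ) (x : EV (NN f M n) i U) :
    f ^ (a + (n + 1)) • x = 0 := by
  obtain ⟨p, z, hz⟩ := exists_kill f n i U x
  rw [pow_add, mul_smul, hz, ← map_smul, h, map_zero]

variable {M} in
theorem coker_NN {a : ℕ} {U : (Spec (CommRingCat.of A)).Opens}
    (h : ∀ x : EV (ModuleCat.of A M) 0 U, ∃ m : M, f ^ a • x = ι₀ (ModuleCat.of A M) U m)
    (n : ℕ) (x : EV (NN f M n) 0 U) :
    ∃ m : NN f M n, f ^ (a + (n + 1)) • x = ι₀ (NN f M n) U m := by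
  obtain ⟨p, z, hz⟩ := exists_kill f n 0 U x
  obtain ⟨m, hm⟩ := h z
  refine ⟨p m, ?_⟩
  rw [pow_add, mul_smul, hz, ← map_smul, hm, mapL_ι₀]

theorem proZero {a : ℕ} {i : ℕ} {U : Opens (SpT A)}
    (h : ∀ x : EV (ModuleCat.of A M) i U, f ^ a • x = 0) : ProZero f M i U := by
  obtain ⟨c, hc⟩ := exists_torsion_bound f M
  intro n
  -- first go up to `n' = max n c`
  have hcn : c ≤ max n c := le_max_right _ _
  generalize hn' : max n c = n' at hcn
  have hnn' : n ≤ n' := hn' ▸ le_max_left _ _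
  let k := a + (n' + 1)
  obtain ⟨φ, hφ⟩ := exists_iso f hc n' k hcn
  refine ⟨n' + k, hnn'.trans (Nat.le_add_right _ _), fun x => ?_⟩
  rw [← incl_incl f M (Nat.le_add_right n' k) hnn', mapL_comp]
  have h1 : φ.hom ≫ incl f M (Nat.le_add_right n' k) = f ^ k • 𝟙 _ := by
    have hm : Mono (sN f M n') := by
      rw [ModuleCat.mono_iff_injective]
      exact Subtype.val_injective
    rw [← cancel_mono (sN f M n'), Category.assoc, incl_sN, hφ, Linear.smul_comp,
      Category.id_comp]
  have h2 : mapL (incl f M (Nat.le_add_right n' k)) i U x = 0 := by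
    have h3 : x = mapL φ.hom i U (mapL φ.inv i U x) := by
      rw [← mapL_comp, φ.inv_hom_id, mapL_id]
    rw [h3, ← mapL_comp, h1, mapL_smul_id]
    exact kill_NN f h n' _
  rw [h2, map_zero]

/-- Positive degrees. -/
theorem formalCohBijective_pos {a b : ℕ} {i : ℕ} {U : (Spec (CommRingCat.of A)).Opens}
    (h : ∀ x : EV (ModuleCat.of A M) i U, f ^ a • x = 0)
    (h' : ∀ x : EV (ModuleCat.of A M) (i + 1) U, f ^ b • x = 0) :
    Formal2.FormalCohBijective A (Ideal.span {f}) M i U := by
  refine formalCohBijective_of f M i U (proZero f M h') ?_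
  obtain ⟨m, hm, hm'⟩ := proZero f M h 0
  refine isComplFil_of_eventually_bot (F_anti f M i U) m ?_
  rw [eq_bot_iff]
  intro x hx
  obtain ⟨z, hz⟩ := (mem_F f M i U m x).1 hx
  rw [← incl_sN f M hm, mapL_comp, hm', map_zero] at hz
  exact hz.symm

/-- The image filtration. -/
noncomputable def G (U : (Spec (CommRingCat.of A)).Opens) (n : ℕ) :
    AddSubgroup (EV (ModuleCat.of A M) 0 U) :=
  ((N f M n).map (ι₀ (ModuleCat.of A M) U)).toAddSubgroup

omit [IsNoetherianRing A] [Module.Finite A M] in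
theorem mem_G (U : (Spec (CommRingCat.of A)).Opens) (n : ℕ)
    (x : EV (ModuleCat.of A M) 0 U) :
    x ∈ G f M U n ↔ ∃ m ∈ N f M n, ι₀ (ModuleCat.of A M) U m = x := Iff.rfl

theorem isComplFil_G [IsAdicComplete (Ideal.span {f}) A]
    (U : (Spec (CommRingCat.of A)).Opens) : IsComplFil (G f M U) where
  anti := by
    intro m n h x hx
    rw [mem_G] at hx ⊢
    obtain ⟨y, hy, rfl⟩ := hx
    exact ⟨y, N_anti f h hy, rfl⟩
  sep := by
    intro x hx
    simp only [mem_G] at hx
    choose m hm hm' using hx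
    let K := LinearMap.ker (ι₀ (ModuleCat.of A M) U)
    have hK : K.mkQ (m 0) = 0 := by
      have := AdicFin.isAdicComplete_of_finite (Ideal.span {f}) (M := M ⧸ K)
      apply IsHausdorff.haus this.toIsHausdorff
      intro n
      rw [SModEq.zero]
      have h1 : K.mkQ (m 0) = K.mkQ (m n) := by
        rw [← sub_eq_zero, ← map_sub, Submodule.mkQ_apply, Submodule.Quotient.mk_eq_zero,
          LinearMap.mem_ker, map_sub, hm', hm', sub_self]
      rw [h1]
      exact AdicFin.map_mem_smul_top K.mkQ _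
        (Submodule.smul_mono_left (Ideal.pow_le_pow_right (Nat.le_succ n)) (hm n))
    rw [Submodule.mkQ_apply, Submodule.Quotient.mk_eq_zero, LinearMap.mem_ker] at hK
    rw [← hm' 0, hK]
  compl := by
    intro x hx
    simp only [mem_G] at hx
    choose m hm hm' using hx
    have := AdicFin.isPrecomplete_of_finite (Ideal.span {f}) (M := M)
    obtain ⟨s, hs⟩ := AdicFin.exists_sum (Ideal.span {f}) m (fun k =>
      Submodule.smul_mono_left (Ideal.pow_le_pow_right (Nat.le_succ k)) (hm k))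
    have hsum : ∀ n, x n = x 0 + ι₀ (ModuleCat.of A M) U (∑ k ∈ Finset.range n, m k) := by
      intro n
      induction n with
      | zero => simp
      | succ n ih =>
        rw [Finset.sum_range_succ, map_add, ← add_assoc, ← ih, hm']
        abel
    refine ⟨x 0 + ι₀ (ModuleCat.of A M) U s, fun n => ?_⟩
    rw [mem_G]
    refine ⟨s - ∑ k ∈ Finset.range n, m k, ?_, ?_⟩
    · have h1 := hs (n + 1)
      rw [Finset.sum_range_succ] at h1
      have h2 := (N f M n).add_mem h1 (hm n)
      rwa [show s - (∑ k ∈ Finset.range n, m k + m n) + m n =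
        s - ∑ k ∈ Finset.range n, m k by abel] at h2
    · rw [hsum n, map_sub]
      abel

omit [IsNoetherianRing A] [Module.Finite A M] in
theorem exists_of_mem_F {c : ℕ} (hc : ∀ (k : ℕ) (x : M), f ^ k • x = 0 → f ^ c • x = 0)
    (k : ℕ) (U : Opens (SpT A)) (i : ℕ) (x : EV (ModuleCat.of A M) i U)
    (hx : x ∈ F f M i U (c + k)) :
    ∃ z' : EV (NN f M c) i U, x = f ^ k • mapL (sN f M c) i U z' := by
  obtain ⟨z, hz⟩ := (mem_F f M i U _ x).1 hx
  obtain ⟨φ, hφ⟩ := exists_iso f hc c k le_rfl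
  refine ⟨mapL φ.inv i U z, ?_⟩
  have h3 : z = mapL φ.hom i U (mapL φ.inv i U z) := by
    rw [← mapL_comp, φ.inv_hom_id, mapL_id]
  have h4 : f ^ k • sN f M c = sN f M c ≫ (f ^ k • 𝟙 (ModuleCat.of A M)) := by
    rw [Linear.comp_smul, Category.comp_id]
  rw [← mapL_smul_id, ← mapL_comp, ← h4, ← hφ, mapL_comp, ← h3, hz]

/-- Degree zero. -/
theorem formalCohBijective_zero [IsAdicComplete (Ideal.span {f}) A] {a b : ℕ}
    {U : (Spec (CommRingCat.of A)).Opens}
    (h : ∀ x : EV (ModuleCat.of A M) 0 U, ∃ m : M, f ^ a • x = ι₀ (ModuleCat.of A M) U m)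
    (h' : ∀ x : EV (ModuleCat.of A M) 1 U, f ^ b • x = 0) :
    Formal2.FormalCohBijective A (Ideal.span {f}) M 0 U := by
  refine formalCohBijective_of f M 0 U (proZero f M h') ?_
  obtain ⟨c, hc⟩ := exists_torsion_bound f M
  refine (isComplFil_G f M U).of_interleaved (F_anti f M 0 U) (c + (a + (c + 1))) ?_ ?_
  · intro n x hx
    rw [show n + (c + (a + (c + 1))) = c + (n + (a + (c + 1))) by omega] at hx
    obtain ⟨z', hz'⟩ := exists_of_mem_F f M hc _ U 0 x hx
    obtain ⟨m, hm⟩ := coker_NN f h c z'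
    obtain ⟨y, hy⟩ := (mem_N f c _).1 (m : N f M c).2
    rw [mem_G]
    refine ⟨f ^ n • (m : N f M c).1, ?_, ?_⟩
    · rw [mem_N]
      refine ⟨f ^ c • y, ?_⟩
      rw [← hy, smul_smul, smul_smul, ← pow_add, ← pow_add]
      congr 2
      omega
    · rw [hz', pow_add, mul_smul, ← map_smul (mapL (sN f M c) 0 U), hm, mapL_ι₀, ← map_smul]
      rfl
  · intro n x hx
    rw [mem_G] at hx
    obtain ⟨m, hm, rfl⟩ := hx
    refine F_anti f M 0 U (Nat.le_add_right n (c + (a + (c + 1)))) ?_
    rw [mem_F]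
    exact ⟨ι₀ (NN f M _) U ⟨m, hm⟩, mapL_ι₀ _ U _⟩

end Main

end Groth.Agent.FormalA.TowerLim
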