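import Groth.Agent.FormalA.HVLC
import Groth.Agent.FormalA.TowerLim

/-!
# Killing `H^i(U, M~)` by killing local cohomology; formal cohomology for a principal ideal
-/

set_option autoImplicit false
universe u

open CategoryTheory TopologicalSpace Opposite CategoryTheory.Limits AlgebraicGeometry
open Groth.Agent.FormalA.TildeAb Groth.Agent.FormalA.HVBasic Groth.Agent.FormalA.HVLC
open Groth.Agent.FormalA.TowerLim

namespace Groth.Agent.FormalA.HVKillLC

variable {A : Type u} [CommRing A] [IsNoetherianRing A] (J : Ideal A)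

/-- If `a` kills `H^{p+2}_J(M)` then it kills `H^{p+1}(Spec A ∖ V(J), M~)`. -/
theorem kill_succ (M : Type u) [AddCommGroup M] [Module A M] (a : A) (p : ℕ)
    (h : ∀ x : LocCoh.H J (p + 2) M, a • x = 0)
    (x : EV (ModuleCat.of A M) (p + 1) (LocCoh.puncturedOpen A J)) : a • x = 0 := by
  apply (connL_succ_bijective (J := J) rfl p (ModuleCat.of A M)).1
  rw [map_smul, map_zero]
  exact h _

/-- If `a` kills `H^1_J(M)` then `a H^0(Spec A ∖ V(J), M~)` lies in the image of `M`. -/
theorem exists_of_kill_one (M : Type u) [AddCommGroup M] [Module A M] (a : A)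
    (h : ∀ x : LocCoh.H J 1 M, a • x = 0)
    (x : EV (ModuleCat.of A M) 0 (LocCoh.puncturedOpen A J)) :
    ∃ m : M, a • x = ι₀ (ModuleCat.of A M) (LocCoh.puncturedOpen A J) m := by
  have h1 : connL (J := J) rfl 0 (ModuleCat.of A M) (a • x) = 0 := by
    rw [map_smul]
    exact h _
  obtain ⟨m, hm⟩ := (augHom_connL_exact (J := J) rfl (ModuleCat.of A M) _).1 h1
  exact ⟨m, hm.symm⟩

end Groth.Agent.FormalA.HVKillLC
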