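import Groth.Agent.FormalA.HVBasic
import Groth.Agent.Localalg.LCInst
import Groth.Agent.Localalg.DeltaSeq

/-!
# Cohomology of `M~` over `Spec A ∖ V(J)` and local cohomology

`A` Noetherian, `V = Spec A ∖ V(J)`: the delta functors `M ↦ H^i_J(M)`, `M` (in degree zero) and
`M ↦ H^i(V, M~)` form a long exact sequence.
-/

set_option autoImplicit false
universe u

open CategoryTheory TopologicalSpace Opposite CategoryTheory.Limits AlgebraicGeometry
open Groth.Agent.FormalA.TildeAb Groth.Agent.FormalA.InjSec Groth.Agent.FormalA.HUBasic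
open Groth.Agent.FormalA.HVBasic
open Groth.Agent.Localalg.DeltaFun Groth.Agent.Localalg.Gam Groth.Agent.Localalg.LCAbs

namespace Groth.Agent.FormalA.HVLC

attribute [local instance 3000] HUBasic.hasSheafify HUBasic.hasExt

variable {A : Type u} [CommRing A]

/-- The functor `M ↦ H^i(V, M~)`. -/
noncomputable def evF (i : ℕ) (V : Opens (SpT A)) : ModuleCat.{u} A ⥤ ModuleCat.{u} A where
  obj M := ModuleCat.of A (EV M i V)
  map φ := ModuleCat.ofHom (mapL φ i V)
  map_id M := by
    ext x
    exact mapL_id M i V x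
  map_comp φ ψ := by
    ext x
    exact mapL_comp φ ψ i V x

instance (i : ℕ) (V : Opens (SpT A)) : (evF (A := A) i V).Additive where
  map_add {M N φ ψ} := by
    ext x
    change EV.map (φ + ψ) i V x = EV.map φ i V x + EV.map ψ i V x
    rw [EV.map, Functor.map_add, E.map_add]

/-- The delta functor `H^i(V, M~)`. -/
noncomputable def evDF (V : Opens (SpT A)) :
    DeltaFunctor (ModuleCat.{u} A) (ModuleCat.{u} A) where
  T i := evF i V
  additive i := inferInstance
  δ hS i := ModuleCat.ofHom (δL hS i V)
  naturality hS hS' φ i := by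
    ext x
    exact (δL_naturality hS hS' φ i V x).symm
  zero₃ hS i := by
    ext x
    exact (exactL₃ hS i V _).2 ⟨x, rfl⟩
  zero₁ hS i := by
    ext x
    exact (exactL₁ hS i V _).2 ⟨x, rfl⟩
  exact₂ hS i := by
    rw [ShortComplex.moduleCat_exact_iff]
    intro x hx
    exact (exactL₂ hS i V x).1 hx
  exact₃ hS i := by
    rw [ShortComplex.moduleCat_exact_iff]
    intro x hx
    exact (exactL₃ hS i V x).1 hx
  exact₁ hS i := by
    rw [ShortComplex.moduleCat_exact_iff]
    intro x hx
    exact (exactL₁ hS i V x).1 hx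

theorem evDF_effaceable [IsNoetherianRing A] (V : Opens (SpT A)) : (evDF V).Effaceable := by
  intro J _ n
  change IsZero (ModuleCat.of A (EV J (n + 1) V))
  rw [ModuleCat.isZero_iff_subsingleton]
  exact subsingleton_EV J n V

theorem evDF_leftExact (V : Opens (SpT A)) : (evDF V).LeftExact := by
  intro S hS
  rw [ModuleCat.mono_iff_injective]
  exact mapL_f_injective hS V

/-! ## The identity as a delta functor -/

/-- The terms of the identity delta functor. -/
noncomputable def idT : ℕ → (ModuleCat.{u} A ⥤ ModuleCat.{u} A)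
  | 0 => 𝟭 _
  | _ + 1 => (Functor.const _).obj (ModuleCat.of A PUnit.{u + 1})

theorem isZero_idT (n : ℕ) (M : ModuleCat.{u} A) : IsZero ((idT (n + 1)).obj M) := by
  change IsZero (ModuleCat.of A PUnit.{u + 1})
  rw [ModuleCat.isZero_iff_subsingleton]
  infer_instance

/-- The identity in degree zero. -/
noncomputable def idDF : DeltaFunctor (ModuleCat.{u} A) (ModuleCat.{u} A) where
  T := idT
  additive n := by
    cases n with
    | zero => exact inferInstanceAs ((𝟭 (ModuleCat.{u} A)).Additive)
    | succ n => exact ⟨fun {M N f g} => (isZero_idT n N).eq_of_tgt _ _⟩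
  δ _ _ := 0
  naturality _ _ _ _ := by simp
  zero₃ _ _ := by simp
  zero₁ _ _ := by simp
  exact₂ {S} hS n := by
    cases n with
    | zero => exact hS.exact
    | succ n => exact ShortComplex.exact_of_isZero_X₂ _ (isZero_idT n S.X₂)
  exact₃ {S} hS n := by
    cases n with
    | zero =>
      have := hS.epi_g
      refine (ShortComplex.exact_iff_epi _ rfl).2 ?_
      exact hS.epi_g
    | succ n => exact ShortComplex.exact_of_isZero_X₂ _ (isZero_idT n S.X₃)
  exact₁ {S} _ n := ShortComplex.exact_of_isZero_X₂ _ (isZero_idT n S.X₁)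

theorem idDF_effaceable : (idDF (A := A)).Effaceable := fun J _ n => isZero_idT n J

theorem idDF_leftExact : (idDF (A := A)).LeftExact := fun {_} hS => hS.mono_f

/-! ## The sequence -/

variable (J : Ideal A) (V : Opens (SpT A))

/-- `Γ_J M → M`. -/
noncomputable def gamIncl : gamFunctor J ⟶ 𝟭 (ModuleCat.{u} A) where
  app M := ModuleCat.ofHom (gam J M).subtype

/-- `M → H^0(V, M~)`. -/
noncomputable def augHom (M : ModuleCat.{u} A) : M →ₗ[A] EV M 0 V :=
  (evSecL M V).symm.toLinearMap ∘ₗ (toSec M V).hom

theorem evSec_augHom (M : ModuleCat.{u} A) (m : M) : evSec M V (augHom V M m) = toSec M V m :=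
  (evSecL M V).apply_symm_apply _

/-- `M → H^0(V, M~)` as a natural transformation. -/
noncomputable def aug : 𝟭 (ModuleCat.{u} A) ⟶ evF 0 V where
  app M := ModuleCat.ofHom (augHom V M)
  naturality M N φ := by
    ext m
    apply (evSec N V).injective
    change evSec N V (augHom V N (φ m)) = evSec N V (EV.map φ 0 V (augHom V M m))
    rw [evSec_map, evSec_augHom, evSec_augHom, toSec_map_apply]

variable {J V}

theorem basicOpen_le (hV : V = LocCoh.puncturedOpen A J) {r : A} (hr : r ∈ J) :
    PrimeSpectrum.basicOpen r ≤ V := by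
  subst hV
  intro x hx hxJ
  exact hx (hxJ hr)

theorem exists_pow_kill {M : ModuleCat.{u} A} {m : M} (hm : m ∈ gam J M) {r : A} (hr : r ∈ J) :
    ∃ n : ℕ, r ^ n • m = 0 := by
  obtain ⟨n, hn⟩ := hm
  exact ⟨n, hn _ (Ideal.pow_mem_pow hr n)⟩

/-- Elements of `M` vanishing on `V = Spec A ∖ V(J)`. -/
theorem toSec_eq_zero_iff [IsNoetherianRing A] (hV : V = LocCoh.puncturedOpen A J)
    (M : ModuleCat.{u} A) (m : M) : toSec M V m = 0 ↔ m ∈ gam J M := by
  constructor
  · intro h
    let T : Submodule A M := Submodule.span A {m}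
    have hT : ∀ r ∈ J, ∀ t ∈ T, ∃ n : ℕ, r ^ n • t = 0 := by
      intro r hr t ht
      obtain ⟨a, rfl⟩ := Submodule.mem_span_singleton.1 ht
      obtain ⟨n, hn⟩ := toSec_eq_zero M r (basicOpen_le hV hr) m h
      exact ⟨n, by rw [smul_comm, hn, smul_zero]⟩
    obtain ⟨n, hn⟩ := exists_pow_smul_eq_bot T (Submodule.fg_span_singleton m) J hT
    refine ⟨n, fun a ha => ?_⟩
    have := Submodule.smul_mem_smul ha (Submodule.mem_span_singleton_self (R := A) m)
    rw [hn] at this
    exact this
  · intro h
    apply sec_ext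
    intro f hf
    rw [toSec_res_apply, map_zero]
    -- `f` lies in the radical of `J`
    have hrad : f ∈ J.radical := by
      rw [← PrimeSpectrum.vanishingIdeal_zeroLocus_eq_radical, PrimeSpectrum.mem_vanishingIdeal]
      intro x hx
      by_contra hfx
      have : x ∈ V := hf hfx
      rw [hV] at this
      exact this hx
    obtain ⟨k, hk⟩ := hrad
    obtain ⟨n, hn⟩ := exists_pow_kill h hk
    rw [← pow_mul] at hn
    apply smul_pow_injective M f (k * n) _ le_rfl
    rw [smul_zero]
    change f ^ (k * n) • (toSec M (PrimeSpectrum.basicOpen f)).hom m = 0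
    rw [← map_smul, hn, map_zero]

theorem lc_leftExact (J : Ideal A) : (lc J).D.LeftExact := by
  intro S hS
  have := hS.mono_f
  have h1 : Mono ((gamFunctor J).map S.f) := by
    rw [ModuleCat.mono_iff_injective]
    exact gamMap_injective S.f.hom ((ModuleCat.mono_iff_injective _).1 this)
  rw [zero_f_map_iso]
  infer_instance

theorem exists_α (J : Ideal A) :
    ∃ Φ : DeltaHom (lc J).D idDF, Φ.app 0 = (lc J).zero.hom ≫ gamIncl J :=
  exists_deltaHom _ idDF (lc J).eff _

theorem exists_β (V : Opens (SpT A)) : ∃ Φ : DeltaHom idDF (evDF V), Φ.app 0 = aug V :=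
  exists_deltaHom idDF (evDF V) idDF_effaceable (aug V)

/-- The sequence of delta functors. -/
noncomputable def sq [IsNoetherianRing A] (J : Ideal A) (V : Opens (SpT A))
    (hV : V = LocCoh.puncturedOpen A J) :
    Groth.Agent.Localalg.DeltaFun.Seq (ModuleCat.{u} A) (ModuleCat.{u} A) where
  T₁ := (lc J).D
  T₂ := idDF
  T₃ := evDF V
  eff₁ := (lc J).eff
  eff₂ := idDF_effaceable
  eff₃ := evDF_effaceable V
  left₁ := lc_leftExact J
  left₂ := idDF_leftExact
  left₃ := evDF_leftExact V
  α := (exists_α J).choose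
  β := (exists_β V).choose
  w₀ M := by
    rw [(exists_α J).choose_spec, (exists_β V).choose_spec]
    ext x
    apply (evSec M V).injective
    refine Eq.trans ?_ (map_zero (evSec M V)).symm
    exact (evSec_augHom V M _).trans
      ((toSec_eq_zero_iff hV M _).2 (((lc J).zero.hom.app M).hom x).2)
  short E _ := by
    have h0 : ∀ x, ((exists_β V).choose.app 0).app E x = augHom V E x := by
      intro x
      rw [(exists_β V).choose_spec]
      rfl
    have h1 : ∀ x, ((exists_α J).choose.app 0).app E x =
        (((lc J).zero.hom.app E).hom x : gam J E).1 := by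
      intro x
      rw [(exists_α J).choose_spec]
      rfl
    have hbij : Function.Bijective ((lc J).zero.hom.app E).hom :=
      ConcreteCategory.bijective_of_isIso ((lc J).zero.hom.app E)
    refine { exact := ?_, mono_f := ?_, epi_g := ?_ }
    · rw [ShortComplex.moduleCat_exact_iff]
      intro x hx
      have h2 : augHom V E x = 0 := (h0 x).symm.trans hx
      have h3 : toSec E V x = 0 := by rw [← evSec_augHom, h2, map_zero]
      obtain ⟨y, hy⟩ := hbij.2 ⟨x, (toSec_eq_zero_iff hV E x).1 h3⟩
      refine ⟨y, (h1 y).trans ?_⟩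
      rw [hy]
    · rw [ModuleCat.mono_iff_injective]
      intro x y hxy
      apply hbij.1
      apply Subtype.ext
      exact (h1 x).symm.trans (hxy.trans (h1 y))
    · rw [ModuleCat.epi_iff_surjective]
      intro y
      obtain ⟨x, hx⟩ := toSec_surjective_of_injective E V (evSec E V y)
      refine ⟨x, (h0 x).trans ?_⟩
      apply (evSec E V).injective
      rw [evSec_augHom, hx]

/-! ## The result -/

section

variable [IsNoetherianRing A] {J : Ideal A} {V : Opens (SpT A)} (hV : V = LocCoh.puncturedOpen A J)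

/-- The natural maps `H^i(V, M~) → H^{i+1}_J(M)`. -/
noncomputable def conn (n : ℕ) : evF n V ⟶ localCohomology J (n + 1) :=
  (sq J V hV).exists_les.choose n

/-- `conn` as a linear map. -/
noncomputable def connL (n : ℕ) (M : ModuleCat.{u} A) :
    EV M n V →ₗ[A] (localCohomology J (n + 1)).obj M :=
  ((conn hV n).app M).hom

theorem connL_naturality (n : ℕ) {M N : ModuleCat.{u} A} (φ : M ⟶ N) (x : EV M n V) :
    connL hV n N (mapL φ n V x) = ((localCohomology J (n + 1)).map φ).hom (connL hV n M x) :=
  congrArg (fun f => f.hom x) ((conn hV n).naturality φ)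

/-- Compatibility with the connecting maps. -/
theorem connL_δ (n : ℕ) {S : ShortComplex (ModuleCat.{u} A)} (hS : S.ShortExact)
    (x : EV S.X₃ n V) :
    connL hV (n + 1) S.X₁ (δL hS n V x) = ((lc J).D.δ hS (n + 1)).hom (connL hV n S.X₃ x) :=
  (congrArg (fun f => f.hom x) ((sq J V hV).exists_les.choose_spec.1 hS n)).symm

include hV in
theorem augHom_eq_zero_iff (M : ModuleCat.{u} A) (m : M) :
    augHom V M m = 0 ↔ m ∈ gam J M := by
  rw [← toSec_eq_zero_iff hV, ← evSec_augHom V M m]
  exact (map_eq_zero_iff (evSec M V) (evSec M V).injective).symm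

omit [IsNoetherianRing A] in
theorem augHom_naturality {M N : ModuleCat.{u} A} (φ : M ⟶ N) (m : M) :
    augHom V N (φ m) = mapL φ 0 V (augHom V M m) :=
  congrArg (fun f => f.hom m) ((aug V).naturality φ)

/-- `M → H^0(V, M~) → H^1_J(M)` is exact. -/
theorem augHom_connL_exact (M : ModuleCat.{u} A) :
    Function.Exact (augHom V M) (connL hV 0 M) := by
  obtain ⟨w, hw⟩ := (sq J V hV).exists_les.choose_spec.2.2.1 0 M
  have h0 : ∀ x, ((exists_β V).choose.app 0).app M x = augHom V M x := by
    intro x
    rw [(exists_β V).choose_spec]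
    rfl
  rw [ShortComplex.moduleCat_exact_iff] at hw
  intro y
  constructor
  · intro hy
    obtain ⟨x, hx⟩ := hw y hy
    exact ⟨x, (h0 x).symm.trans hx⟩
  · rintro ⟨x, rfl⟩
    rw [← h0]
    exact congrArg (fun f => f.hom x) w

/-- `H^0(V, M~) → H^1_J(M)` is surjective. -/
theorem connL_zero_surjective (M : ModuleCat.{u} A) : Function.Surjective (connL hV 0 M) := by
  obtain ⟨w, hw⟩ := (sq J V hV).exists_les.choose_spec.2.2.2 0 M
  rw [ShortComplex.moduleCat_exact_iff] at hw
  intro y
  exact hw y (Subsingleton.elim (α := PUnit.{u + 1}) _ _)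

/-- `H^i(V, M~) → H^{i+1}_J(M)` is bijective for `i ≥ 1`. -/
theorem connL_succ_bijective (n : ℕ) (M : ModuleCat.{u} A) :
    Function.Bijective (connL hV (n + 1) M) := by
  constructor
  · obtain ⟨w, hw⟩ := (sq J V hV).exists_les.choose_spec.2.2.1 (n + 1) M
    rw [ShortComplex.moduleCat_exact_iff] at hw
    rw [injective_iff_map_eq_zero]
    intro y hy
    obtain ⟨x, hx⟩ := hw y hy
    have h0 : x = 0 := Subsingleton.elim (α := PUnit.{u + 1}) x 0
    rw [← hx, h0]
    exact map_zero _
  · obtain ⟨w, hw⟩ := (sq J V hV).exists_les.choose_spec.2.2.2 (n + 1) M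
    rw [ShortComplex.moduleCat_exact_iff] at hw
    intro y
    exact hw y (Subsingleton.elim (α := PUnit.{u + 1}) _ _)

end

end Groth.Agent.FormalA.HVLC
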