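import Groth.Prelude.Def_Formal2
import Groth.Agent.FormalA.HUZero

/-!
`Formal2.HV A M 0 V` is the module of sections of `M~` over `V`, described as functions into the
localizations `M_p` which are locally fractions.
-/

set_option autoImplicit false
universe u

open CategoryTheory TopologicalSpace Opposite AlgebraicGeometry

namespace Groth.Agent.FormalA.HVSec

open Groth.Agent.FormalA.HUZero

variable (A : Type u) [CommRing A]

/-- Sections of `M~` over `V`, as functions into the localizations. -/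
abbrev Sec (M : Type u) [AddCommGroup M] [Module A M] (V : Opens (PrimeSpectrum.Top A)) : Type u :=
  (structureSheafInType A M).obj.obj (op V)

variable {A}

/-- The value of a section at a point. -/
def val {M : Type u} [AddCommGroup M] [Module A M] {V : Opens (PrimeSpectrum.Top A)}
    (s : Sec A M V) (p : PrimeSpectrum A) (hp : p ∈ V) : LocalizedModule p.asIdeal.primeCompl M :=
  s.1 ⟨p, hp⟩

variable (A) in
/-- `H^0(V, M~)` is the group of sections. -/
noncomputable def toSec (M : Type u) [AddCommGroup M] [Module A M]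
    (V : (Spec (CommRingCat.of A)).Opens) : Formal2.HV A M 0 V ≃ Sec A M V :=
  hu0 (X := (Spec (CommRingCat.of A)).toTopCat) (Coh.toAb (Formal2.tmod A M)) V

theorem toSec_zero (M : Type u) [AddCommGroup M] [Module A M]
    (V : (Spec (CommRingCat.of A)).Opens) : toSec A M V 0 = 0 :=
  hu0_zero _ _

theorem ext_val {M : Type u} [AddCommGroup M] [Module A M] {V : Opens (PrimeSpectrum.Top A)}
    {s t : Sec A M V} (h : ∀ p hp, val s p hp = val t p hp) : s = t :=
  Subtype.ext (funext fun p => h p.1 p.2)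

theorem val_zero {M : Type u} [AddCommGroup M] [Module A M] {V : Opens (PrimeSpectrum.Top A)}
    (p : PrimeSpectrum A) (hp : p ∈ V) : val (0 : Sec A M V) p hp = 0 := rfl

theorem val_map {M N : Type u} [AddCommGroup M] [Module A M] [AddCommGroup N] [Module A N]
    (φ : M →ₗ[A] N) (V : (Spec (CommRingCat.of A)).Opens) (x : Formal2.HV A M 0 V)
    (p : PrimeSpectrum A) (hp : p ∈ V) (a : M) (b : p.asIdeal.primeCompl)
    (h : val (toSec A M V x) p hp = LocalizedModule.mk a b) :
    val (toSec A N V (Formal2.HVmap A φ 0 V x)) p hp = LocalizedModule.mk (φ a) b := by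
  have h1 := hu0_map (X := (Spec (CommRingCat.of A)).toTopCat)
    ((SheafOfModules.toSheaf _).map (Formal2.tmodMap A φ)) V x
  have h2 := congrArg (fun (s : Sec A N V) => val s p hp) h1
  refine h2.trans ?_
  have h3 := StructureSheaf.Localizations.comapFun_mk (φ : M →ₗ[A] N) p a b
  refine Eq.trans ?_ h3
  refine Eq.trans ?_ (congrArg (StructureSheaf.Localizations.comapFun (φ : M →ₗ[A] N) p) h)
  rfl

theorem val_res {M : Type u} [AddCommGroup M] [Module A M]
    {V V' : (Spec (CommRingCat.of A)).Opens} (hV : V' ≤ V) (x : Formal2.HV A M 0 V)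
    (p : PrimeSpectrum A) (hp : p ∈ V') :
    val (toSec A M V' (Formal2.HVres A M 0 hV x)) p hp = val (toSec A M V x) p (hV hp) := by
  have h1 := hu0_res (X := (Spec (CommRingCat.of A)).toTopCat) (Coh.toAb (Formal2.tmod A M)) hV x
  exact congrArg (fun (s : Sec A M V') => val s p hp) h1

/-- Being a section. -/
theorem exists_sec {M : Type u} [AddCommGroup M] [Module A M] (V : Opens (PrimeSpectrum.Top A))
    (f : ∀ (p : PrimeSpectrum A), p ∈ V → LocalizedModule p.asIdeal.primeCompl M)
    (hf : ∀ (p : PrimeSpectrum A), p ∈ V → ∃ W : Opens (PrimeSpectrum A), p ∈ W ∧ ∃ (a : M) (b : A),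
      ∀ (q : PrimeSpectrum A) (_ : q ∈ W) (hq' : q ∈ V), ∃ hb : b ∉ q.asIdeal,
        f q hq' = LocalizedModule.mk a ⟨b, hb⟩) :
    ∃ s : Sec A M V, ∀ p hp, val s p hp = f p hp := by
  refine ⟨⟨fun p => f p.1 p.2, ?_⟩, fun p hp => rfl⟩
  intro p
  obtain ⟨W, hpW, a, b, h⟩ := hf p.1 p.2
  refine ⟨W ⊓ V, ⟨hpW, p.2⟩, homOfLE inf_le_right, a, b, fun q => ?_⟩
  exact h q.1 q.2.1 q.2.2

/-- Sections are locally fractions. -/
theorem exists_fraction {M : Type u} [AddCommGroup M] [Module A M] {V : Opens (PrimeSpectrum.Top A)}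
    (s : Sec A M V) (p : PrimeSpectrum A) (hp : p ∈ V) :
    ∃ W : Opens (PrimeSpectrum A), p ∈ W ∧ W ≤ V ∧ ∃ (a : M) (b : A),
      ∀ (q : PrimeSpectrum A) (_ : q ∈ W) (hq' : q ∈ V), ∃ hb : b ∉ q.asIdeal,
        val s q hq' = LocalizedModule.mk a ⟨b, hb⟩ := by
  obtain ⟨W, hpW, i, a, b, h⟩ := s.2 ⟨p, hp⟩
  exact ⟨W, hpW, i.le, a, b, fun q hq hq' => h ⟨q, hq⟩⟩

end Groth.Agent.FormalA.HVSec
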