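import Groth.Agent.FormalA.HVLC

/-!
# Cohomology of `M~` over opens for `I`-power torsion modules

If `V ≤ U` are opens of `Spec A` with `U ∩ V(I) ⊆ V` and `N` is `I`-power torsion, then
`H^i(U, N~) → H^i(V, N~)` is bijective.
-/

set_option autoImplicit false
universe u

open CategoryTheory TopologicalSpace Opposite CategoryTheory.Limits AlgebraicGeometry
open Groth.Agent.FormalA.TildeAb Groth.Agent.FormalA.InjSec Groth.Agent.FormalA.HUBasic
open Groth.Agent.FormalA.HVBasic Groth.Agent.FormalA.HVLC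
open Groth.Agent.Localalg.DeltaFun Groth.Agent.Localalg.Gam Groth.Agent.Localalg.LCAbs

namespace Groth.Agent.FormalA.HVTors

attribute [local instance 3000] HUBasic.hasSheafify HUBasic.hasExt

variable {A : Type u} [CommRing A] {I : Ideal A}

/-- An `I`-power torsion module embeds into an injective one. -/
theorem exists_embedding [IsNoetherianRing A] (M : ModuleCat.{u} A)
    (hM : LocCoh.IsPowerTorsion I M) :
    ∃ (S : ShortComplex (ModuleCat.{u} A)), S.ShortExact ∧ S.X₁ = M ∧ Injective S.X₂ ∧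
        LocCoh.IsPowerTorsion I S.X₂ ∧ LocCoh.IsPowerTorsion I S.X₃ := by
  let f : M ⟶ (gamFunctor I).obj (Injective.under M) :=
    ModuleCat.ofHom ((Injective.ι M).hom.codRestrict (gam I _)
      (fun m => map_mem_gam (Injective.ι M).hom (hM m)))
  have hf : Mono f := by
    rw [ModuleCat.mono_iff_injective]
    intro x y hxy
    exact (ModuleCat.mono_iff_injective (Injective.ι M)).1 inferInstance
      (congrArg Subtype.val hxy)
  refine ⟨_, shortExact_cokernel f, rfl, injective_gamObj I _, isPowerTorsion_gam, ?_⟩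
  have hepi : Function.Surjective (cokernel.π f) :=
    (ModuleCat.epi_iff_surjective _).1 inferInstance
  intro q
  obtain ⟨x, rfl⟩ := hepi q
  obtain ⟨n, hn⟩ := isPowerTorsion_gam (I := I) (M := (Injective.under M : ModuleCat A)) x
  refine ⟨n, fun a ha => ?_⟩
  have h1 := congrArg (cokernel.π f).hom (hn a ha)
  exact ((cokernel.π f).hom.map_smul a x).symm.trans (h1.trans (cokernel.π f).hom.map_zero)

/-- Sections of an `I`-power torsion module over an open where some `r ∈ I` is invertible. -/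
theorem sec_eq_zero_basicOpen (N : ModuleCat.{u} A) (hN : LocCoh.IsPowerTorsion I N) {r g : A}
    (hr : r ∈ I) (hgr : PrimeSpectrum.basicOpen g ≤ PrimeSpectrum.basicOpen r)
    (s : sec N (PrimeSpectrum.basicOpen g)) : s = 0 := by
  obtain ⟨k, m, hm⟩ := exists_toSec_basicOpen N g s
  obtain ⟨n, hn⟩ := hN m
  apply smul_pow_injective N g k _ le_rfl
  rw [hm, smul_zero]
  apply smul_pow_injective N r n _ hgr
  rw [smul_zero]
  change r ^ n • (toSec N (PrimeSpectrum.basicOpen g)).hom m = 0
  rw [← map_smul, hn _ (Ideal.pow_mem_pow hr n), map_zero]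

theorem secRes_injective (N : ModuleCat.{u} A) (hN : LocCoh.IsPowerTorsion I N)
    {U V : (Spec (CommRingCat.of A)).Opens} (hVU : V ≤ U)
    (hadm : ∀ p : PrimeSpectrum A, p ∈ U → I ≤ p.asIdeal → p ∈ V) (s : sec N U)
    (hs : secRes N hVU s = 0) : s = 0 := by
  apply sec_ext'
  intro x hx
  by_cases hxV : x ∈ V
  · exact ⟨V, hVU, hxV, by rw [hs, map_zero]⟩
  · have hI : ¬ I ≤ (x : PrimeSpectrum A).asIdeal := fun h => hxV (hadm x hx h)
    obtain ⟨r, hr, hrx⟩ := SetLike.not_le_iff_exists.1 hI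
    obtain ⟨a, ⟨_, ⟨g, rfl⟩, rfl⟩, hxg, hgU⟩ :=
      PrimeSpectrum.isBasis_basic_opens.exists_subset_of_mem_open
        (show x ∈ ((U ⊓ PrimeSpectrum.basicOpen r :
          (Spec (CommRingCat.of A)).Opens) : Set (Spec (CommRingCat.of A))) from ⟨hx, hrx⟩)
        (U ⊓ PrimeSpectrum.basicOpen r).2
    refine ⟨PrimeSpectrum.basicOpen g, fun y hy => (hgU hy).1, hxg, ?_⟩
    rw [sec_eq_zero_basicOpen N hN hr (fun y hy => (hgU hy).2) (secRes N _ s), map_zero]

theorem resL_zero_injective (N : ModuleCat.{u} A) (hN : LocCoh.IsPowerTorsion I N)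
    {U V : (Spec (CommRingCat.of A)).Opens} (hVU : V ≤ U)
    (hadm : ∀ p : PrimeSpectrum A, p ∈ U → I ≤ p.asIdeal → p ∈ V) :
    Function.Injective (resL N 0 hVU) := by
  rw [injective_iff_map_eq_zero]
  intro x hx
  apply (evSec N U).injective
  rw [map_zero]
  refine secRes_injective N hN hVU hadm _ ?_
  rw [← evSec_res]
  exact (congrArg (evSec N V) hx).trans (map_zero _)

theorem resL_map {M N : ModuleCat.{u} A} (φ : M ⟶ N) (i : ℕ) {V V' : Opens (SpT A)} (h : V' ≤ V)
    (x : EV M i V) : resL N i h (mapL φ i V x) = mapL φ i V' (resL M i h x) :=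
  E.res_map _ _ h x

theorem resL_augHom (M : ModuleCat.{u} A) {V V' : (Spec (CommRingCat.of A)).Opens} (h : V' ≤ V)
    (m : M) : resL M 0 h (augHom V M m) = augHom V' M m := by
  apply (evSec M V').injective
  rw [resL_apply, evSec_res, evSec_augHom, evSec_augHom, toSec_res_apply]

/-- `H^i(U, N~) → H^i(V, N~)` is bijective for `I`-power torsion `N` if `U ∩ V(I) ⊆ V`. -/
theorem resL_bijective [IsNoetherianRing A] {U V : (Spec (CommRingCat.of A)).Opens}
    (hVU : V ≤ U) (hadm : ∀ p : PrimeSpectrum A, p ∈ U → I ≤ p.asIdeal → p ∈ V) (i : ℕ) :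
    ∀ (N : ModuleCat.{u} A), LocCoh.IsPowerTorsion I N → Function.Bijective (resL N i hVU) := by
  induction i with
  | zero =>
    intro N hN
    refine ⟨resL_zero_injective N hN hVU hadm, ?_⟩
    obtain ⟨S, hS, rfl, hinj, h2, h3⟩ := exists_embedding N hN
    intro y
    obtain ⟨e, he⟩ := toSec_surjective_of_injective S.X₂ V (evSec S.X₂ V (mapL S.f 0 V y))
    have he' : augHom V S.X₂ e = mapL S.f 0 V y := by
      apply (evSec S.X₂ V).injective
      rw [evSec_augHom, he]
    have h4 : mapL S.g 0 U (augHom U S.X₂ e) = 0 := by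
      apply resL_zero_injective S.X₃ h3 hVU hadm
      rw [resL_map, resL_augHom, he', map_zero]
      exact (exactL₂ hS 0 V _).2 ⟨y, rfl⟩
    obtain ⟨x, hx⟩ := (exactL₂ hS 0 U _).1 h4
    refine ⟨x, ?_⟩
    apply mapL_f_injective hS V
    rw [← resL_map, hx, resL_augHom, he']
  | succ i ih =>
    intro N hN
    obtain ⟨S, hS, rfl, hinj, h2, h3⟩ := exists_embedding N hN
    have hsubU : Subsingleton (EV S.X₂ (i + 1) U) := subsingleton_EV S.X₂ i U
    have hsubV : Subsingleton (EV S.X₂ (i + 1) V) := subsingleton_EV S.X₂ i V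
    constructor
    · rw [injective_iff_map_eq_zero]
      intro x hx
      obtain ⟨q, rfl⟩ := (exactL₁ hS i U x).1 (Subsingleton.elim _ _)
      rw [δL_res] at hx
      obtain ⟨e', he'⟩ := (exactL₃ hS i V _).1 hx
      obtain ⟨e, rfl⟩ := (ih S.X₂ h2).2 e'
      rw [← resL_map] at he'
      rw [← (ih S.X₃ h3).1 he']
      exact (exactL₃ hS i U _).2 ⟨e, rfl⟩
    · intro y
      obtain ⟨q', rfl⟩ := (exactL₁ hS i V y).1 (Subsingleton.elim _ _)
      obtain ⟨q, rfl⟩ := (ih S.X₃ h3).2 q'
      exact ⟨δL hS i U q, δL_res hS i hVU q⟩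

/-- The version for `Formal2.HV`. -/
theorem HVres_bijective [IsNoetherianRing A] {U V : (Spec (CommRingCat.of A)).Opens}
    (hVU : V ≤ U) (hadm : ∀ p : PrimeSpectrum A, p ∈ U → I ≤ p.asIdeal → p ∈ V) (i : ℕ)
    (N : Type u) [AddCommGroup N] [Module A N] (hN : LocCoh.IsPowerTorsion I N) :
    Function.Bijective (Formal2.HVres A N i hVU) := by
  have h1 := resL_bijective (I := I) hVU hadm i (ModuleCat.of A N) hN
  constructor
  · intro x y hxy
    apply (toEV A N i U).injective
    apply h1.1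
    rw [resL_apply, resL_apply, ← toEV_HVres, ← toEV_HVres, hxy]
  · intro y
    obtain ⟨x, hx⟩ := h1.2 (toEV A N i V y)
    refine ⟨(toEV A N i U).symm x, ?_⟩
    apply (toEV A N i V).injective
    rw [toEV_HVres, AddEquiv.apply_symm_apply]
    exact hx

end Groth.Agent.FormalA.HVTors
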