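import Groth.Agent.Ega4C.ZClosed
import Groth.Agent.FormalA.HVSec
import Groth.Agent.CalgB.Depth1

/-!
# Hartogs: sections of `M~` extend over points of depth at least two

`A` Noetherian, `M` finite, `V ≤ U` opens of `Spec A` such that `M_p` has depth at least two for
all `p ∈ U ∖ V`. Then `H^0(U, M~) → H^0(V, M~)` is bijective.
-/

set_option autoImplicit false
universe u

open CategoryTheory TopologicalSpace Opposite AlgebraicGeometry AlgebraicGeometry.StructureSheaf
open Groth.Agent.FormalA.HVSec Groth.Agent.Ega4C.DepthBasics Groth.Agent.Ega4C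

namespace Groth.Agent.FormalA.Hartogs

variable {A : Type u} [CommRing A] {M : Type u} [AddCommGroup M] [Module A M]

/-- Noetherian ring: an associated prime between `Ann x` and a prime `p ⊇ Ann x`. -/
theorem exists_associated_between [IsNoetherianRing A] (x : M) (p : Ideal A) [p.IsPrime]
    (h : (⊥ : Submodule A M).colon {x} ≤ p) :
    ∃ P ∈ associatedPrimes A M, (⊥ : Submodule A M).colon {x} ≤ P ∧ P ≤ p := by
  have hann : Module.annihilator A (Submodule.span A {x}) = (⊥ : Submodule A M).colon {x} := by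
    ext a
    rw [Submodule.mem_annihilator_span_singleton, Submodule.mem_colon_singleton, Submodule.mem_bot]
  obtain ⟨P, hP, hPp⟩ := Ideal.exists_minimalPrimes_le
    (I := Module.annihilator A (Submodule.span A {x})) (J := p) (by rw [hann]; exact h)
  have h1 := Module.associatedPrimes.minimalPrimes_annihilator_subset_associatedPrimes
    A (Submodule.span A {x}) hP
  refine ⟨P, ?_, ?_, hPp⟩
  · exact associatedPrimes.subset_of_injective (f := (Submodule.span A {x}).subtype)
      (Submodule.injective_subtype _) h1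
  · rw [← hann]
    exact hP.1.2

theorem mem_of_le {W : Opens (PrimeSpectrum.Top A)} {p q : PrimeSpectrum A}
    (h : q.asIdeal ≤ p.asIdeal) (hp : p ∈ W) : q ∈ W :=
  ((PrimeSpectrum.le_iff_specializes q p).1 h).mem_open W.2 hp

theorem mem_colon_bot {x : M} {a : A} : a ∈ (⊥ : Submodule A M).colon {x} ↔ a • x = 0 := by
  rw [Submodule.mem_colon_singleton, Submodule.mem_bot]

/-- A section over `U` vanishing on `V` is zero if no point of `U ∖ V` is associated. -/
theorem eq_zero_of_vanish [IsNoetherianRing A] {U : Opens (PrimeSpectrum.Top A)} (s : Sec A M U)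
    (V : Opens (PrimeSpectrum.Top A))
    (h0 : ∀ p (hp : p ∈ U), p ∈ V → val s p hp = 0)
    (hd : ∀ p ∈ U, p ∉ V → p.asIdeal ∉ associatedPrimes A M) : s = 0 := by
  refine ext_val fun p hp => ?_
  obtain ⟨W, hpW, hWU, a, b, hab⟩ := exists_fraction s p hp
  obtain ⟨hb, h1⟩ := hab p hpW hp
  rw [h1, val_zero, RestrCompl.mk_eq_zero_iff]
  by_contra hcon
  have hle : (⊥ : Submodule A M).colon {a} ≤ p.asIdeal := by
    intro u hu
    by_contra hup
    exact hcon ⟨u, hup, mem_colon_bot.1 hu⟩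
  obtain ⟨P, hP, haP, hPp⟩ := exists_associated_between a p.asIdeal hle
  have hPprime : P.IsPrime := IsAssociatedPrime.isPrime hP
  have hPW : (⟨P, hPprime⟩ : PrimeSpectrum A) ∈ W := mem_of_le hPp hpW
  by_cases hPV : (⟨P, hPprime⟩ : PrimeSpectrum A) ∈ V
  · have := h0 _ (hWU hPW) hPV
    obtain ⟨hb', h2⟩ := hab _ hPW (hWU hPW)
    rw [h2, RestrCompl.mk_eq_zero_iff] at this
    obtain ⟨u, hu, hua⟩ := this
    exact hu (haP (mem_colon_bot.2 hua))
  · exact hd _ (hWU hPW) hPV hP

section LocKer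

variable (M) (p : Ideal A) [p.IsPrime]

/-- The kernel of `M → M_p`. -/
noncomputable def locKer : Submodule A M := LinearMap.ker (LocalizedModule.mkLinearMap p.primeCompl M)

variable {M} {p}

theorem mem_locKer {m : M} : m ∈ locKer M p ↔ ∃ g ∉ p, g • m = 0 := by
  rw [locKer, LinearMap.mem_ker, LocalizedModule.mkLinearMap_apply, RestrCompl.mk_eq_zero_iff]
  rfl

/-- `K_P = 0` for `P ≤ p`: `M_P → (M/K)_P` is bijective. -/
theorem map_mkQ_bijective (P : Ideal A) [P.IsPrime] (hP : P ≤ p) :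
    Function.Bijective (LocalizedModule.map P.primeCompl (locKer M p).mkQ) := by
  constructor
  · rw [injective_iff_map_eq_zero]
    intro x hx
    induction x using LocalizedModule.induction_on with | h a b => ?_
    rw [LocalizedModule.map_mk, RestrCompl.mk_eq_zero_iff] at hx
    obtain ⟨u, hu, hua⟩ := hx
    rw [← map_smul, Submodule.mkQ_apply, Submodule.Quotient.mk_eq_zero, mem_locKer] at hua
    obtain ⟨g, hg, hga⟩ := hua
    refine RestrCompl.mk_eq_zero_iff.2 ⟨g * u, ?_, by rw [mul_smul, hga]⟩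
    exact P.primeCompl.mul_mem (fun h => hg (hP h)) hu
  · intro x
    induction x using LocalizedModule.induction_on with | h a b => ?_
    obtain ⟨a, rfl⟩ := Submodule.mkQ_surjective _ a
    exact ⟨LocalizedModule.mk a b, by rw [LocalizedModule.map_mk]⟩

theorem depth_quot_locKer (P : Ideal A) [P.IsPrime] (hP : P ≤ p) :
    LocCoh.depth (Localization.AtPrime P) (LocalizedModule P.primeCompl (M ⧸ locKer M p)) =
      LocCoh.depth (Localization.AtPrime P) (LocalizedModule P.primeCompl M) :=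
  (CalgB.Depth1.depth_congr (LinearEquiv.ofBijective _ (map_mkQ_bijective (M := M) P hP))).symm

theorem le_of_mem_associatedPrimes_quot [IsNoetherianRing A] {Q : Ideal A}
    (hQ : Q ∈ associatedPrimes A (M ⧸ locKer M p)) : Q ≤ p := by
  have hQp : Q.IsPrime := IsAssociatedPrime.isPrime hQ
  obtain ⟨_, x, hx⟩ := isAssociatedPrime_iff.1 hQ
  obtain ⟨m, rfl⟩ := Submodule.mkQ_surjective _ x
  intro g hg
  by_contra hgp
  rw [hx, mem_colon_bot, ← map_smul, Submodule.mkQ_apply, Submodule.Quotient.mk_eq_zero,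
    mem_locKer] at hg
  obtain ⟨g', hg', h⟩ := hg
  refine hQp.ne_top ?_
  rw [hx, Ideal.eq_top_iff_one, mem_colon_bot, one_smul, Submodule.mkQ_apply,
    Submodule.Quotient.mk_eq_zero, mem_locKer]
  exact ⟨g' * g, (inferInstance : p.IsPrime).mul_notMem hg' hgp, by rw [mul_smul, h]⟩

theorem exists_kill_locKer [IsNoetherianRing A] [Module.Finite A M] :
    ∃ g ∉ p, ∀ k ∈ locKer M p, g • k = 0 := by
  have : (⟨p, inferInstance⟩ : PrimeSpectrum A) ∉ Module.support A (locKer M p) := by
    rw [Module.notMem_support_iff']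
    rintro ⟨m, hm⟩
    obtain ⟨g, hg, h⟩ := mem_locKer.1 hm
    exact ⟨g, hg, Subtype.ext h⟩
  rw [Module.mem_support_iff_of_finite, SetLike.not_le_iff_exists] at this
  obtain ⟨g, hg, hgp⟩ := this
  refine ⟨g, hgp, fun k hk => ?_⟩
  exact congrArg Subtype.val (Module.mem_annihilator.1 hg ⟨k, hk⟩)

end LocKer

/-- The image of a section under a linear map. -/
theorem exists_mapSec {N : Type u} [AddCommGroup N] [Module A N] (φ : M →ₗ[A] N)
    {V : Opens (PrimeSpectrum.Top A)} (s : Sec A M V) :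
    ∃ t : Sec A N V, ∀ p hp, val t p hp = LocalizedModule.map p.asIdeal.primeCompl φ (val s p hp) := by
  refine exists_sec V (fun p hp => LocalizedModule.map p.asIdeal.primeCompl φ (val s p hp)) ?_
  intro p hp
  obtain ⟨W, hpW, hWV, a, b, hab⟩ := exists_fraction s p hp
  refine ⟨W, hpW, φ a, b, fun q hq hq' => ?_⟩
  obtain ⟨hb, h⟩ := hab q hq hq'
  exact ⟨hb, by rw [h, LocalizedModule.map_mk]⟩

theorem exists_extension_at [IsNoetherianRing A] [Module.Finite A M] {J : Ideal A}
    (s : Sec A M (EGA4.openCompl A J)) (p : PrimeSpectrum A)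
    (h : ∀ q : PrimeSpectrum A, q.asIdeal ≤ p.asIdeal → J ≤ q.asIdeal → (2 : ℕ∞) ≤
      LocCoh.depth (Localization.AtPrime q.asIdeal) (LocalizedModule q.asIdeal.primeCompl M)) :
    ∃ (l : M) (b : A), b ∉ p.asIdeal ∧ ∀ (q : PrimeSpectrum A)
      (hq : q ∈ EGA4.openCompl A J) (hb : b ∉ q.asIdeal),
      val s q hq = LocalizedModule.mk l ⟨b, hb⟩ := by
  let K := locKer M p.asIdeal
  obtain ⟨t, ht⟩ := exists_mapSec K.mkQ s
  have h' : ∀ q : PrimeSpectrum A, q.asIdeal ≤ p.asIdeal → J ≤ q.asIdeal → (2 : ℕ∞) ≤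
      LocCoh.depth (Localization.AtPrime q.asIdeal)
        (LocalizedModule q.asIdeal.primeCompl (M ⧸ K)) := by
    intro q hqp hJq
    rw [depth_quot_locKer q.asIdeal hqp]
    exact h q hqp hJq
  have hass : ∀ q ∈ associatedPrimes A (M ⧸ K), ¬ J ≤ q := by
    intro q hq hJq
    have hqp : q.IsPrime := IsAssociatedPrime.isPrime hq
    have h2 := h' ⟨q, hqp⟩ (le_of_mem_associatedPrimes_quot hq) hJq
    have h1 : (1 : ℕ∞) ≤ LocCoh.depth (Localization.AtPrime q)
        (LocalizedModule q.primeCompl (M ⧸ K)) := le_trans (by norm_num) h2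
    exact (one_le_depth_localizedModule_iff q).mp h1 hq
  obtain ⟨y, hyJ, hy⟩ := exists_isSMulRegular_of_forall_not_le J hass
  obtain ⟨n, m, hm⟩ := ZClosed.exists_pow_smul_eq_toSec (J := J) t hyJ hy
  obtain ⟨w, hwJ, hw, m', hm'⟩ : ∃ w ∈ J, IsSMulRegular (M ⧸ K) w ∧ ∃ m' : M ⧸ K,
      w • t = RestrCompl.toSec A J (M ⧸ K) m' :=
    ⟨y ^ (n + 1), J.pow_mem_of_mem hyJ _ (Nat.succ_pos n), hy.pow _, y • m, by
      rw [pow_succ', mul_smul, hm, map_smul]⟩
  have hmem : ∃ c ∉ p.asIdeal, c • (Submodule.Quotient.mk m' : QuotSMulTop w (M ⧸ K)) = 0 := by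
    by_contra hcon
    have hle : (⊥ : Submodule A (QuotSMulTop w (M ⧸ K))).colon {Submodule.Quotient.mk m'} ≤
        p.asIdeal := by
      intro u hu
      by_contra hup
      exact hcon ⟨u, hup, mem_colon_bot.1 hu⟩
    obtain ⟨P, hP, hle, hPp'⟩ := exists_associated_between _ p.asIdeal hle
    have hPp : P.IsPrime := IsAssociatedPrime.isPrime hP
    by_cases hJP : J ≤ P
    · exact (two_le_depth_localizedModule_iff P (hJP hwJ) hw).mp (h' ⟨P, hPp⟩ hPp' hJP) hP
    · obtain ⟨g, f, hgP, hg⟩ := RestrCompl.exists_frac t ⟨P, hPp⟩ hJP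
      obtain ⟨hP', hsP⟩ := hg ⟨P, hPp⟩ hgP
      have h3 : w • t.1 ⟨⟨P, hPp⟩, hP'⟩ = LocalizedModule.mk m' 1 :=
        congrArg (fun (s : RestrCompl.Sec A J (M ⧸ K)) => s.1 ⟨⟨P, hPp⟩, hP'⟩) hm'
      rw [hsP, LocalizedModule.smul'_mk, LocalizedModule.mk_eq] at h3
      obtain ⟨⟨u, huP⟩, hu⟩ := h3
      simp only [Submonoid.smul_def, one_smul] at hu
      have hug : u * g ∈ P := by
        refine hle ?_
        rw [mem_colon_bot, ← Submodule.Quotient.mk_smul,
          Submodule.Quotient.mk_eq_zero, Submodule.mem_smul_pointwise_iff_exists]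
        refine ⟨u • f, trivial, ?_⟩
        rw [mul_smul, ← hu, smul_comm]
      rcases hPp.mem_or_mem hug with h | h
      · exact huP h
      · exact hgP h
  obtain ⟨c, hcp, hc⟩ := hmem
  rw [← Submodule.Quotient.mk_smul, Submodule.Quotient.mk_eq_zero,
    Submodule.mem_smul_pointwise_iff_exists] at hc
  obtain ⟨l', -, hl'⟩ := hc
  have hcl : c • t = RestrCompl.toSec A J (M ⧸ K) l' := by
    apply ZClosed.isSMulRegular_sec (J := J) hw
    change w • (c • t) = w • RestrCompl.toSec A J (M ⧸ K) l'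
    rw [smul_comm, hm', ← map_smul, ← map_smul, ← hl']
  obtain ⟨l, rfl⟩ := Submodule.mkQ_surjective _ l'
  obtain ⟨g, hgp, hg⟩ := exists_kill_locKer (M := M) (p := p.asIdeal)
  refine ⟨g • l, g * c, (p.2).mul_notMem hgp hcp, ?_⟩
  intro q hq hb
  have h4 : c • val t q hq = LocalizedModule.mk (K.mkQ l) 1 :=
    congrArg (fun (s : RestrCompl.Sec A J (M ⧸ K)) => s.1 ⟨q, hq⟩) hcl
  rw [ht] at h4
  revert h4
  generalize val s q hq = x
  induction x using LocalizedModule.induction_on with | h a d => ?_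
  intro h4
  rw [LocalizedModule.map_mk, LocalizedModule.smul'_mk, LocalizedModule.mk_eq] at h4
  obtain ⟨⟨u, hu⟩, h5⟩ := h4
  simp only [Submonoid.smul_def, one_smul] at h5
  rw [← map_smul, ← map_smul, ← map_smul, ← map_smul, ← sub_eq_zero, ← map_sub,
    Submodule.mkQ_apply, Submodule.Quotient.mk_eq_zero] at h5
  have h6 := hg _ h5
  rw [smul_sub, sub_eq_zero] at h6
  rw [LocalizedModule.mk_eq]
  refine ⟨⟨u, hu⟩, ?_⟩
  simp only [Submonoid.smul_def]
  calc u • (g * c) • a = g • u • c • a := by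
        rw [mul_smul, smul_comm u g]
    _ = g • u • (d : A) • l := h6
    _ = u • (d : A) • g • l := by
        rw [smul_comm g u, smul_comm g (d : A)]

/-- Every open of `Spec A` is the complement of some `V(J)`. -/
theorem exists_openCompl (V : Opens (PrimeSpectrum.Top A)) :
    ∃ J : Ideal A, EGA4.openCompl A J = V := by
  have h : (PrimeSpectrum.zeroLocus (PrimeSpectrum.vanishingIdeal (V.1ᶜ) : Set A) :
      Set (PrimeSpectrum A)) = V.1ᶜ := by
    rw [PrimeSpectrum.zeroLocus_vanishingIdeal_eq_closure]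
    exact closure_eq_iff_isClosed.2 V.2.isClosed_compl
  refine ⟨PrimeSpectrum.vanishingIdeal (V.1ᶜ), Opens.ext ?_⟩
  exact (congrArg compl h).trans (compl_compl _)

theorem exists_extension [IsNoetherianRing A] [Module.Finite A M]
    {U V : Opens (PrimeSpectrum.Top A)} (hVU : V ≤ U)
    (hd : ∀ p ∈ U, p ∉ V → (2 : ℕ∞) ≤
      LocCoh.depth (Localization.AtPrime p.asIdeal) (LocalizedModule p.asIdeal.primeCompl M))
    (s : Sec A M V) :
    ∃ t : Sec A M U, ∀ p (hp : p ∈ V), val t p (hVU hp) = val s p hp := by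
  obtain ⟨J, rfl⟩ := exists_openCompl V
  have key : ∀ p ∈ U, ∃ (l : M) (b : A), b ∉ p.asIdeal ∧ ∀ (q : PrimeSpectrum A)
      (hq : q ∈ EGA4.openCompl A J) (hb : b ∉ q.asIdeal),
      val s q hq = LocalizedModule.mk l ⟨b, hb⟩ := by
    intro p hp
    refine exists_extension_at s p fun q hqp hJq => ?_
    exact hd q (mem_of_le hqp hp) (fun h => h hJq)
  choose l b hb hlb using key
  have hass : ∀ p ∈ U, p ∉ EGA4.openCompl A J → p.asIdeal ∉ associatedPrimes A M := by
    intro p hp hpV
    exact (one_le_depth_localizedModule_iff p.asIdeal).mp (le_trans (by norm_num) (hd p hp hpV))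
  have hcomp : ∀ p (hp : p ∈ U) q (hq : q ∈ U) (hbq : b p hp ∉ q.asIdeal),
      (LocalizedModule.mk (l q hq) ⟨b q hq, hb q hq⟩ : LocalizedModule q.asIdeal.primeCompl M) =
        LocalizedModule.mk (l p hp) ⟨b p hp, hbq⟩ := by
    intro p hp q hq hbq
    have h1 : ∃ u ∉ q.asIdeal, u • (b p hp • l q hq - b q hq • l p hp) = 0 := by
      by_contra hcon
      have hle : (⊥ : Submodule A M).colon {b p hp • l q hq - b q hq • l p hp} ≤ q.asIdeal := by
        intro u hu
        by_contra hup
        exact hcon ⟨u, hup, mem_colon_bot.1 hu⟩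
      obtain ⟨P, hP, haP, hPq⟩ := exists_associated_between _ q.asIdeal hle
      have hPprime : P.IsPrime := IsAssociatedPrime.isPrime hP
      let P' : PrimeSpectrum A := ⟨P, hPprime⟩
      have hPU : P' ∈ U := mem_of_le (p := q) hPq hq
      by_cases hPV : P' ∈ EGA4.openCompl A J
      · have h2 := hlb p hp P' hPV (fun h => hbq (hPq h))
        rw [hlb q hq P' hPV (fun h => hb q hq (hPq h)), LocalizedModule.mk_eq] at h2
        obtain ⟨⟨u, hu⟩, h3⟩ := h2
        refine hu (haP (mem_colon_bot.2 ?_))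
        rw [smul_sub, sub_eq_zero]
        exact h3
      · exact hass P' hPU hPV hP
    obtain ⟨u, hu, h2⟩ := h1
    rw [LocalizedModule.mk_eq]
    refine ⟨⟨u, hu⟩, ?_⟩
    rw [smul_sub, sub_eq_zero] at h2
    exact h2
  obtain ⟨t, ht⟩ := exists_sec U (fun p hp => LocalizedModule.mk (l p hp) ⟨b p hp, hb p hp⟩)
    (fun p hp => ⟨PrimeSpectrum.basicOpen (b p hp), hb p hp, l p hp, b p hp,
      fun q hq hq' => ⟨hq, hcomp p hp q hq' hq⟩⟩)
  refine ⟨t, fun p hp => ?_⟩
  rw [ht, hlb p (hVU hp) p hp (hb p _)]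

/-- **Hartogs.** -/
theorem HVres_bijective [IsNoetherianRing A] [Module.Finite A M]
    {U V : (Spec (CommRingCat.of A)).Opens} (hVU : V ≤ U)
    (hd : ∀ p : PrimeSpectrum A, p ∈ U → p ∉ V → (2 : ℕ∞) ≤
      LocCoh.depth (Localization.AtPrime p.asIdeal) (LocalizedModule p.asIdeal.primeCompl M)) :
    Function.Bijective (Formal2.HVres A M 0 hVU) := by
  have hass : ∀ p : PrimeSpectrum A, p ∈ U → p ∉ V → p.asIdeal ∉ associatedPrimes A M := by
    intro p hp hpV
    exact (one_le_depth_localizedModule_iff p.asIdeal).mp (le_trans (by norm_num) (hd p hp hpV))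
  constructor
  · rw [injective_iff_map_eq_zero]
    intro x hx
    apply (toSec A M U).injective
    rw [toSec_zero]
    refine eq_zero_of_vanish _ V (fun p hp hpV => ?_) hass
    have h1 := val_res hVU x p hpV
    rw [hx, toSec_zero] at h1
    exact h1.symm
  · intro x
    obtain ⟨t, ht⟩ := exists_extension (M := M) (U := U) (V := V) hVU hd (toSec A M V x)
    refine ⟨(toSec A M U).symm t, ?_⟩
    apply (toSec A M V).injective
    refine ext_val fun p hp => ?_
    rw [val_res hVU _ p hp, Equiv.apply_symm_apply]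
    exact ht p hp

/-- Restriction of sections is injective if no point of `U ∖ V` is associated. -/
theorem HVres_injective [IsNoetherianRing A]
    {U V : (Spec (CommRingCat.of A)).Opens} (hVU : V ≤ U)
    (hass : ∀ p : PrimeSpectrum A, p ∈ U → p ∉ V → p.asIdeal ∉ associatedPrimes A M) :
    Function.Injective (Formal2.HVres A M 0 hVU) := by
  rw [injective_iff_map_eq_zero]
  intro x hx
  apply (toSec A M U).injective
  rw [toSec_zero]
  refine eq_zero_of_vanish _ V (fun p hp hpV => ?_) hass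
  have h1 := val_res hVU x p hpV
  rw [hx, toSec_zero] at h1
  exact h1.symm

end Groth.Agent.FormalA.Hartogs
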