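import Groth.Agent.FormalA.InjSec
import Groth.Agent.S0452
import Mathlib.Algebra.Category.ModuleCat.Injective

/-!
# `E~` is flasque for `E` injective over a Noetherian ring; its cohomology over opens vanishes
-/

universe u

open CategoryTheory TopologicalSpace Opposite CategoryTheory.Limits AlgebraicGeometry
open Groth.Agent.FormalA.TildeAb Groth.Agent.FormalA.InjSec Groth.Agent.FormalA.HUBasic

namespace Groth.Agent.FormalA.InjAcyc

variable {A : Type u} [CommRing A]

theorem isFlasque [IsNoetherianRing A] (E : ModuleCat.{u} A) (hE : Module.Baer A E) :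
    TopCat.Sheaf.IsFlasque (X := SpT A) ((tAb A).obj E) := by
  constructor
  intro U V i
  rw [AddCommGrpCat.epi_iff_surjective]
  intro s
  obtain ⟨e, he⟩ := toSec_surjective E hE V.unop s
  refine ⟨toSec E U.unop e, ?_⟩
  exact (toSec_res_apply E (leOfHom i.unop) e).trans he

theorem subsingleton_E [IsNoetherianRing A] (E₀ : ModuleCat.{u} A) (hE : Module.Baer A E₀)
    (n : ℕ) (U : Opens (SpT A)) : Subsingleton (E ((tAb A).obj E₀) (n + 1) U) := by
  have := isFlasque E₀ hE
  have h := Groth.Agent.S0452.result ((tAb A).obj E₀) U n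
  exact (toE _ _ _).symm.injective.subsingleton

end Groth.Agent.FormalA.InjAcyc
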