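import Groth.Agent.FormalA.TildeAb
import Mathlib.RingTheory.Filtration
import Mathlib.Algebra.Module.Injective
import Mathlib.RingTheory.Ideal.Operations

/-!
# Sections of `M~` over opens of a Noetherian affine scheme

For a Noetherian ring `A`: kernel and cokernel of `M → Γ(U, M~)` are power torsion, and
`E → Γ(U, E~)` is surjective for `E` injective.
-/

universe u

open CategoryTheory TopologicalSpace Opposite CategoryTheory.Limits AlgebraicGeometry
open Groth.Agent.FormalA.TildeAb

namespace Groth.Agent.FormalA.InjSec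

variable {A : Type u} [CommRing A]

theorem sec_ext' (M : ModuleCat.{u} A) (U : (Spec (CommRingCat.of A)).Opens) (s t : sec M U)
    (h : ∀ x ∈ U, ∃ (V : (Spec (CommRingCat.of A)).Opens) (hV : V ≤ U), x ∈ V ∧
      secRes M hV s = secRes M hV t) :
    s = t :=
  TopCat.Presheaf.IsSheaf.section_ext
    (modulesSpecToSheaf.obj (tilde (R := CommRingCat.of A) M)).2 h

theorem isUnit_end (R : CommRingCat.{u}) (M : (Spec R).Modules) (r : R) (U : (Spec R).Opens)
    (h : U ≤ PrimeSpectrum.basicOpen r) :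
    Function.Bijective (fun x : (modulesSpecToSheaf.obj M).obj.obj (.op U) => r • x) := by
  have := Scheme.Modules.isUnit_algebraMap_end_of_le_basicOpen (M := M) (U := U) r h
  rw [Module.End.isUnit_iff] at this
  exact this

/-- `r` acts bijectively on sections over an open inside `D(r)`. -/
theorem smul_bijective (M : ModuleCat.{u} A) (r : A) (U : (Spec (CommRingCat.of A)).Opens)
    (h : U ≤ PrimeSpectrum.basicOpen r) : Function.Bijective (fun x : sec M U => r • x) :=
  isUnit_end (CommRingCat.of A) _ r U h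

theorem smul_injective (M : ModuleCat.{u} A) (r : A) (U : (Spec (CommRingCat.of A)).Opens)
    (h : U ≤ PrimeSpectrum.basicOpen r) {x y : sec M U} (hxy : r • x = r • y) : x = y :=
  (smul_bijective M r U h).1 hxy

theorem smul_pow_injective (M : ModuleCat.{u} A) (r : A) (n : ℕ)
    (U : (Spec (CommRingCat.of A)).Opens)
    (h : U ≤ PrimeSpectrum.basicOpen r) {x y : sec M U} (hxy : r ^ n • x = r ^ n • y) :
    x = y := by
  induction n with
  | zero => simpa using hxy
  | succ n ih =>
    apply ih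
    rw [pow_succ', mul_smul, mul_smul] at hxy
    exact smul_injective M r U h hxy

theorem exists_toSec_basicOpen (M : ModuleCat.{u} A) (r : A)
    (s : sec M (PrimeSpectrum.basicOpen r)) :
    ∃ (n : ℕ) (m : M), r ^ n • s = toSec M (PrimeSpectrum.basicOpen r) m := by
  obtain ⟨⟨m, ⟨_, n, rfl⟩⟩, h⟩ := IsLocalizedModule.surj (Submonoid.powers r)
    (toSec M (PrimeSpectrum.basicOpen r)).hom s
  exact ⟨n, m, h⟩

theorem toSec_basicOpen_eq_zero (M : ModuleCat.{u} A) (r : A) (m : M)
    (h : toSec M (PrimeSpectrum.basicOpen r) m = 0) : ∃ n : ℕ, r ^ n • m = 0 := by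
  obtain ⟨⟨_, n, rfl⟩, hn⟩ := (IsLocalizedModule.eq_zero_iff (Submonoid.powers r)
    (toSec M (PrimeSpectrum.basicOpen r)).hom).1 h
  exact ⟨n, hn⟩

theorem toSec_eq_zero (M : ModuleCat.{u} A) {U : (Spec (CommRingCat.of A)).Opens} (r : A)
    (hr : PrimeSpectrum.basicOpen r ≤ U) (m : M) (h : toSec M U m = 0) :
    ∃ n : ℕ, r ^ n • m = 0 := by
  apply toSec_basicOpen_eq_zero
  rw [← toSec_res_apply M hr, h, map_zero]

/-- Local version: if a section over `U` vanishes on `D(r)`, then a power of `r` kills it. -/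
theorem exists_pow_smul_eq_zero (M : ModuleCat.{u} A) {U : (Spec (CommRingCat.of A)).Opens}
    (hU : IsCompact (U : Set (Spec (CommRingCat.of A)))) (r : A)
    (hr : PrimeSpectrum.basicOpen r ≤ U) (t : sec M U)
    (h : secRes M hr t = 0) : ∃ n : ℕ, r ^ n • t = 0 := by
  let p : Set (Spec (CommRingCat.of A)) → Prop := fun S =>
    ∃ (n : ℕ) (W : (Spec (CommRingCat.of A)).Opens) (hW : W ≤ U), S ⊆ W ∧
      secRes M hW (r ^ n • t) = 0
  have hp : p (U : Set (Spec (CommRingCat.of A))) := by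
    refine IsCompact.induction_on hU (p := p) ?_ ?_ ?_ ?_
    · refine ⟨0, ⊥, bot_le, by simp, ?_⟩
      apply sec_ext'
      intro x hx
      exact absurd hx (by simp)
    · rintro S T hST ⟨n, W, hW, hTW, h0⟩
      exact ⟨n, W, hW, hST.trans hTW, h0⟩
    · rintro S T ⟨n, W, hW, hTW, h0⟩ ⟨n', W', hW', hTW', h0'⟩
      refine ⟨n + n', W ⊔ W', sup_le hW hW', ?_, ?_⟩
      · rintro x (hx | hx)
        · exact Or.inl (hTW hx)
        · exact Or.inr (hTW' hx)
      · apply sec_ext'
        rintro x (hx | hx)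
        · refine ⟨W, le_sup_left, hx, ?_⟩
          rw [secRes_res, map_zero, add_comm, pow_add, mul_smul, map_smul]
          erw [h0]
          rw [smul_zero]
        · refine ⟨W', le_sup_right, hx, ?_⟩
          rw [secRes_res, map_zero, pow_add, mul_smul, map_smul]
          erw [h0']
          rw [smul_zero]
    · intro x hx
      obtain ⟨a, ⟨_, ⟨g, rfl⟩, rfl⟩, hxg, hgU⟩ :=
        PrimeSpectrum.isBasis_basic_opens.exists_subset_of_mem_open hx U.2
      have hgU' : PrimeSpectrum.basicOpen g ≤ U := hgU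
      refine ⟨SetLike.coe (PrimeSpectrum.basicOpen g), ?_, ?_⟩
      · exact mem_nhdsWithin_of_mem_nhds ((PrimeSpectrum.basicOpen g).2.mem_nhds hxg)
      · obtain ⟨k, m, hm⟩ := exists_toSec_basicOpen M g (secRes M hgU' t)
        have hle : PrimeSpectrum.basicOpen (r * g) ≤ PrimeSpectrum.basicOpen r :=
          PrimeSpectrum.basicOpen_mul_le_left r g
        have hle' : PrimeSpectrum.basicOpen (r * g) ≤ PrimeSpectrum.basicOpen g :=
          PrimeSpectrum.basicOpen_mul_le_right r g
        have h1 : toSec M (PrimeSpectrum.basicOpen (r * g)) m = 0 := by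
          rw [← toSec_res_apply M hle' m, ← hm, map_smul, secRes_res,
            ← secRes_res M hr hle, h, map_zero, smul_zero]
        obtain ⟨l, hl⟩ := toSec_basicOpen_eq_zero M (r * g) m h1
        refine ⟨l, PrimeSpectrum.basicOpen g, hgU', subset_rfl, ?_⟩
        apply smul_pow_injective M g (l + k) _ le_rfl
        rw [smul_zero, pow_add, mul_smul, map_smul, smul_comm (g ^ k), hm, ← map_smul, ← map_smul,
          ← mul_smul, ← mul_pow, mul_comm g r, hl, map_zero]
  obtain ⟨n, W, hW, hUW, h0⟩ := hp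
  refine ⟨n, ?_⟩
  have : W = U := le_antisymm hW hUW
  subst this
  rwa [secRes_self] at h0

theorem exists_toSec (M : ModuleCat.{u} A) {U : (Spec (CommRingCat.of A)).Opens}
    (hU : IsCompact (U : Set (Spec (CommRingCat.of A)))) (r : A)
    (hr : PrimeSpectrum.basicOpen r ≤ U) (s : sec M U) :
    ∃ (n : ℕ) (m : M), r ^ n • s = toSec M U m := by
  obtain ⟨k, m, hm⟩ := exists_toSec_basicOpen M r (secRes M hr s)
  obtain ⟨n, hn⟩ := exists_pow_smul_eq_zero M hU r hr (r ^ k • s - toSec M U m) (by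
    rw [map_sub, map_smul, hm, toSec_res_apply, sub_self])
  refine ⟨n + k, r ^ n • m, ?_⟩
  rw [smul_sub, sub_eq_zero] at hn
  rw [pow_add, mul_smul, hn, map_smul]

theorem isCompact_opens [IsNoetherianRing A] (U : (Spec (CommRingCat.of A)).Opens) :
    IsCompact (U : Set (Spec (CommRingCat.of A))) := by
  have : NoetherianSpace (PrimeSpectrum A) := inferInstance
  exact NoetherianSpace.isCompact (α := PrimeSpectrum A) _

/-- Every open is `D(J)` for a (finitely generated) ideal. -/
theorem exists_ideal (U : (Spec (CommRingCat.of A)).Opens) :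
    ∃ J : Ideal A, (∀ r : A, r ∈ J → PrimeSpectrum.basicOpen r ≤ U) ∧
      ∀ x ∈ U, ∃ r ∈ J, x ∈ PrimeSpectrum.basicOpen r := by
  refine ⟨PrimeSpectrum.vanishingIdeal (SetLike.coe U)ᶜ, ?_, ?_⟩
  · intro r hr x hx
    by_contra hxU
    exact hx ((PrimeSpectrum.mem_vanishingIdeal _ _).1 hr x hxU)
  · intro x hx
    obtain ⟨a, ⟨_, ⟨g, rfl⟩, rfl⟩, hxg, hgU⟩ :=
      PrimeSpectrum.isBasis_basic_opens.exists_subset_of_mem_open hx U.2
    refine ⟨g, ?_, hxg⟩
    rw [PrimeSpectrum.mem_vanishingIdeal]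
    intro y hy
    by_contra hgy
    exact hy (hgU hgy)

/-- Power-torsion elements of a finite module are killed by a uniform power. -/
theorem exists_pow_smul_eq_bot [IsNoetherianRing A] {N : Type*} [AddCommGroup N] [Module A N]
    (T : Submodule A N) (hT : T.FG) (J : Ideal A)
    (h : ∀ r ∈ J, ∀ t ∈ T, ∃ n : ℕ, r ^ n • t = 0) : ∃ n : ℕ, J ^ n • T = ⊥ := by
  have h1 : J ≤ T.annihilator.radical := by
    intro r hr
    obtain ⟨S, hS⟩ := hT
    choose! n hn using h r hr
    refine ⟨S.sup n, ?_⟩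
    rw [Submodule.mem_annihilator]
    intro t ht
    rw [← hS] at ht
    refine Submodule.span_induction ?_ ?_ ?_ ?_ ht
    · intro x hx
      have hxT : x ∈ T := hS ▸ Submodule.subset_span hx
      have hle : n x ≤ S.sup n := Finset.le_sup hx
      obtain ⟨k, hk⟩ := Nat.exists_eq_add_of_le hle
      rw [hk, add_comm, pow_add, mul_smul, hn x hxT, smul_zero]
    · simp
    · intro x y _ _ hx hy
      rw [smul_add, hx, hy, add_zero]
    · intro a x _ hx
      rw [smul_comm, hx, smul_zero]
  obtain ⟨n, hn⟩ := Ideal.exists_pow_le_of_le_radical_of_fg h1 (IsNoetherian.noetherian J)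
  refine ⟨n, ?_⟩
  rw [eq_bot_iff]
  refine (Submodule.smul_mono_left hn).trans ?_
  rw [Submodule.annihilator_smul]

/-- If `E` satisfies Baer's criterion then `E → Γ(U, E~)` is surjective. -/
theorem toSec_surjective [IsNoetherianRing A] (E : ModuleCat.{u} A) (hE : Module.Baer A E)
    (U : (Spec (CommRingCat.of A)).Opens) : Function.Surjective (toSec E U) := by
  classical
  intro s
  have hU := isCompact_opens U
  obtain ⟨J, hJ, hJ'⟩ := exists_ideal U
  obtain ⟨G, hG⟩ : J.FG := IsNoetherian.noetherian J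
  have hGJ : ∀ g ∈ G, g ∈ J := fun g hg => hG ▸ Ideal.subset_span hg
  have hloc : ∀ r ∈ J, ∃ (n : ℕ) (m : E), r ^ n • s = toSec E U m :=
    fun r hr => exists_toSec E hU r (hJ r hr) s
  choose! n m hm using hloc
  -- the submodule `P'` of `A × E`
  let P : Submodule A (A × E) := Submodule.span A ((fun g => (g ^ n g, m g)) '' (G : Set A))
  have hPfg : P.FG := ⟨G.image (fun g => (g ^ n g, m g)), by simp [P]⟩
  have hP : ∀ x ∈ P, x.1 • s = toSec E U x.2 := by
    intro x hx
    refine Submodule.span_induction ?_ ?_ ?_ ?_ hx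
    · rintro _ ⟨g, hg, rfl⟩
      exact hm g (hGJ g hg)
    · simp
    · intro x y _ _ hx hy
      rw [Prod.fst_add, Prod.snd_add, add_smul, hx, hy, map_add]
    · intro a x _ hx
      rw [Prod.smul_fst, Prod.smul_snd, smul_eq_mul, mul_smul, hx, map_smul]
  have : Module.Finite A P := Module.Finite.iff_fg.2 hPfg
  -- kernel of the first projection
  let T : Submodule A P := LinearMap.ker ((LinearMap.fst A A E).comp P.subtype)
  have hTt : ∀ r ∈ J, ∀ t ∈ T, ∃ n : ℕ, r ^ n • t = 0 := by
    intro r hr t ht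
    have h1 : t.1.1 = 0 := ht
    have h2 := hP t.1 t.2
    rw [h1, zero_smul] at h2
    obtain ⟨k, hk⟩ := toSec_eq_zero E r (hJ r hr) t.1.2 h2.symm
    refine ⟨k, ?_⟩
    apply Subtype.ext
    apply Prod.ext
    · change r ^ k • t.1.1 = 0
      rw [h1, smul_zero]
    · exact hk
  obtain ⟨N, hN⟩ := exists_pow_smul_eq_bot T (IsNoetherian.noetherian T) J hTt
  obtain ⟨k, hk⟩ := Ideal.exists_pow_inf_eq_pow_smul J T
  have hbot : J ^ (k + N) • (⊤ : Submodule A P) ⊓ T = ⊥ := by
    rw [hk (k + N) (Nat.le_add_right _ _), Nat.add_sub_cancel_left, eq_bot_iff, ← hN]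
    exact Submodule.smul_mono le_rfl inf_le_right
  let Q : Submodule A P := J ^ (k + N) • (⊤ : Submodule A P)
  let φ : Q →ₗ[A] A := ((LinearMap.fst A A E).comp P.subtype).comp Q.subtype
  have hφ : Function.Injective φ := by
    intro x y hxy
    have h1 : (x : P) - (y : P) ∈ T := by
      change ((x : P) : A × E).1 - ((y : P) : A × E).1 = 0
      exact sub_eq_zero.2 hxy
    have h2 : (x : P) - (y : P) ∈ Q ⊓ T := ⟨Q.sub_mem x.2 y.2, h1⟩
    rw [hbot] at h2
    exact Subtype.ext (sub_eq_zero.1 h2)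
  let e := LinearEquiv.ofInjective φ hφ
  obtain ⟨g', hg'⟩ := hE (LinearMap.range φ)
    (((LinearMap.snd A A E).comp P.subtype).comp (Q.subtype.comp e.symm.toLinearMap))
  have key : ∀ x : P, x ∈ Q → x.1.2 = x.1.1 • g' 1 := by
    intro x hx
    have h1 := hg' (φ ⟨x, hx⟩) ⟨_, rfl⟩
    have h2 : e.symm ⟨φ ⟨x, hx⟩, ⟨_, rfl⟩⟩ = ⟨x, hx⟩ := by
      apply e.injective
      rw [LinearEquiv.apply_symm_apply]
      rfl
    have h3 : g' (φ ⟨x, hx⟩) = x.1.2 :=
      h1.trans (congrArg (((LinearMap.snd A A E).comp P.subtype).comp Q.subtype) h2)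
    rw [← h3, ← map_smul, smul_eq_mul, mul_one]
    rfl
  refine ⟨g' 1, ?_⟩
  apply sec_ext'
  intro x hx
  -- find g ∈ G with x ∈ D(g)
  obtain ⟨g, hg, hxg⟩ : ∃ g ∈ G, x ∈ PrimeSpectrum.basicOpen g := by
    by_contra hcon
    push Not at hcon
    obtain ⟨r, hr, hxr⟩ := hJ' x hx
    have : J ≤ (x : PrimeSpectrum A).asIdeal := by
      rw [← hG, Ideal.span_le]
      intro g hg
      by_contra hgx
      exact hcon g hg hgx
    exact hxr (this hr)
  have hgU : PrimeSpectrum.basicOpen g ≤ U := (hJ g (hGJ g hg))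
  refine ⟨PrimeSpectrum.basicOpen g, hgU, hxg, ?_⟩
  let y : P := ⟨(g ^ n g, m g), Submodule.subset_span ⟨g, hg, rfl⟩⟩
  have hy : g ^ (k + N) • y ∈ Q :=
    Submodule.smul_mem_smul (Ideal.pow_mem_pow (hGJ g hg) _) trivial
  have h1 := key _ hy
  have h2 : g ^ (k + N) • m g = (g ^ (k + N) • g ^ n g) • g' 1 := h1
  have h3 : g ^ (k + N) • g ^ n g • s = (g ^ (k + N) • g ^ n g) • toSec E U (g' 1) := by
    rw [hm g (hGJ g hg), ← map_smul, h2, map_smul]
  rw [smul_eq_mul, ← mul_smul, ← pow_add] at h3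
  apply smul_pow_injective E g (k + N + n g) _ le_rfl
  have h4 := congrArg (secRes E hgU) h3
  rw [map_smul, map_smul] at h4
  exact h4.symm

end Groth.Agent.FormalA.InjSec
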