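import Groth.Agent.FormalA.SecMod
import Mathlib.RingTheory.Filtration
import Mathlib.Algebra.Module.Injective
import Mathlib.RingTheory.Ideal.Operations

/-!
# `E → Γ(D(J), E~)` is surjective for `E` injective over a Noetherian ring
-/

set_option autoImplicit false
universe u

namespace Groth.Agent.FormalA.InjSurj

open LocalizedModule Groth.Agent.FormalA.LocSub Groth.Agent.FormalA.SecMod

variable {A : Type u} [CommRing A] [IsNoetherianRing A]

/-- A finite module all of whose elements are killed by a power of `J` is killed by a power of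
`J`. -/
theorem exists_pow_smul_eq_bot {N : Type u} [AddCommGroup N] [Module A N]
    (T : Submodule A N) (hT : T.FG) (J : Ideal A)
    (h : ∀ t ∈ T, ∃ n : ℕ, ∀ r ∈ J ^ n, r • t = 0) : ∃ n : ℕ, J ^ n • T = ⊥ := by
  classical
  obtain ⟨S, hS⟩ := hT
  choose! n hn using h
  refine ⟨S.sup n, ?_⟩
  rw [eq_bot_iff, Submodule.smul_le]
  intro r hr t ht
  rw [Submodule.mem_bot]
  rw [← hS] at ht
  refine Submodule.span_induction ?_ ?_ ?_ ?_ ht
  · intro x hx
    have hxT : x ∈ T := hS ▸ Submodule.subset_span hx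
    exact hn x hxT r (Ideal.pow_le_pow_right (Finset.le_sup hx) hr)
  · rw [smul_zero]
  · intro x y _ _ hx hy
    rw [smul_add, hx, hy, add_zero]
  · intro a x _ hx
    rw [smul_comm, hx, smul_zero]

theorem ι_surjective (E : Type u) [AddCommGroup E] [Module A E] (hE : Module.Baer A E)
    (J : Ideal A) : Function.Surjective (ι E (D J)) := by
  classical
  intro s
  obtain ⟨k₀, hk₀⟩ := exists_pow_smul s
  obtain ⟨G, hG⟩ : (J ^ k₀).FG := IsNoetherian.noetherian (J ^ k₀)
  have hGJ : ∀ g ∈ G, g ∈ J ^ k₀ := fun g hg => hG ▸ Ideal.subset_span hg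
  choose! m hm using hk₀
  -- the submodule `P'` of `A × E`
  let P : Submodule A (A × E) := Submodule.span A ((fun g => (g, m g)) '' (G : Set A))
  have hPfg : P.FG := ⟨G.image (fun g => (g, m g)), by simp [P]⟩
  have hP : ∀ x ∈ P, x.1 • s = ι E (D J) x.2 := by
    intro x hx
    refine Submodule.span_induction ?_ ?_ ?_ ?_ hx
    · rintro _ ⟨g, hg, rfl⟩
      exact hm g (hGJ g hg)
    · rw [Prod.fst_zero, Prod.snd_zero, zero_smul, _root_.map_zero]
    · intro x y _ _ hx hy
      rw [Prod.fst_add, Prod.snd_add, add_smul, hx, hy, map_add]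
    · intro a x _ hx
      rw [Prod.smul_fst, Prod.smul_snd, smul_eq_mul, mul_smul, hx, map_smul]
  have : Module.Finite A P := Module.Finite.iff_fg.2 hPfg
  -- kernel of the first projection
  let T : Submodule A P := LinearMap.ker ((LinearMap.fst A A E).comp P.subtype)
  have hTt : ∀ t ∈ T, ∃ n : ℕ, ∀ r ∈ J ^ n, r • t = 0 := by
    intro t ht
    have h1 : t.1.1 = 0 := ht
    have h2 := hP t.1 t.2
    rw [h1, zero_smul] at h2
    obtain ⟨k, hk⟩ := (ι_eq_zero_iff t.1.2).1 h2.symm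
    refine ⟨k, fun r hr => ?_⟩
    apply Subtype.ext
    apply Prod.ext
    · change r • t.1.1 = 0
      rw [h1, smul_zero]
    · exact hk r hr
  obtain ⟨N, hN⟩ := exists_pow_smul_eq_bot T (IsNoetherian.noetherian T) J hTt
  obtain ⟨k, hk⟩ := Ideal.exists_pow_inf_eq_pow_smul J T
  have hbot : J ^ (k + N) • (⊤ : Submodule A P) ⊓ T = ⊥ := by
    rw [hk (k + N) (Nat.le_add_right _ _), Nat.add_sub_cancel_left, eq_bot_iff, ← hN]
    exact Submodule.smul_mono le_rfl inf_le_right
  let Q : Submodule A P := J ^ (k + N) • (⊤ : Submodule A P)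
  let φ : Q →ₗ[A] A := ((LinearMap.fst A A E).comp P.subtype).comp Q.subtype
  have hφ : Function.Injective φ := by
    intro x y hxy
    have h1 : (x : P) - (y : P) ∈ T := by
      change ((x : P) : A × E).1 - ((y : P) : A × E).1 = 0
      exact sub_eq_zero.2 hxy
    have h2 : (x : P) - (y : P) ∈ Q ⊓ T := ⟨Q.sub_mem x.2 y.2, h1⟩
    rw [hbot] at h2
    exact Subtype.ext (sub_eq_zero.1 h2)
  let e := LinearEquiv.ofInjective φ hφ
  obtain ⟨g', hg'⟩ := hE (LinearMap.range φ)
    (((LinearMap.snd A A E).comp P.subtype).comp (Q.subtype.comp e.symm.toLinearMap))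
  have key : ∀ x : P, x ∈ Q → x.1.2 = x.1.1 • g' 1 := by
    intro x hx
    have h1 := hg' (φ ⟨x, hx⟩) ⟨_, rfl⟩
    have h2 : e.symm ⟨φ ⟨x, hx⟩, ⟨_, rfl⟩⟩ = ⟨x, hx⟩ := by
      apply e.injective
      rw [LinearEquiv.apply_symm_apply]
      rfl
    have h3 : g' (φ ⟨x, hx⟩) = x.1.2 :=
      h1.trans (congrArg (((LinearMap.snd A A E).comp P.subtype).comp Q.subtype) h2)
    rw [← h3, ← map_smul, smul_eq_mul, mul_one]
    rfl
  refine ⟨g' 1, ?_⟩
  refine ext_sec fun p => ?_
  -- find g ∈ G with x ∈ D(g)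
  obtain ⟨g, hg, hxg⟩ : ∃ g ∈ G, g ∉ p.1.asIdeal := by
    by_contra hcon
    push Not at hcon
    have h1 : J ^ k₀ ≤ p.1.asIdeal := by
      rw [← hG, Submodule.span_le]
      exact hcon
    exact p.2 (p.1.isPrime.le_of_pow_le h1)
  obtain ⟨r, hr, hrp⟩ := exists_mem_of_mem_D p.2
  let y : P := ⟨(g, m g), Submodule.subset_span ⟨g, hg, rfl⟩⟩
  have hy : r ^ (k + N) • y ∈ Q :=
    Submodule.smul_mem_smul (Ideal.pow_mem_pow hr _) trivial
  have h1 := key _ hy
  have h2 : r ^ (k + N) • m g = (r ^ (k + N) * g) • g' 1 := h1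
  have h3 : (r ^ (k + N) * g) • (ι E (D J) (g' 1) - s) = 0 := by
    rw [smul_sub, ← map_smul, ← h2, map_smul, mul_smul, hm g (hGJ g hg), sub_self]
  have h4 : r ^ (k + N) * g ∈ p.1.asIdeal.primeCompl := by
    refine Submonoid.mul_mem _ (Submonoid.pow_mem _ ?_ _) ?_
    · exact hrp
    · exact hxg
  have h5 := smul_eq_zero_of_mem (S := p.1.asIdeal.primeCompl) h4
    (congrFun (congrArg Subtype.val h3) p)
  exact sub_eq_zero.1 h5

end Groth.Agent.FormalA.InjSurj
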