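import Mathlib.RingTheory.Noetherian.Basic
import Mathlib.RingTheory.Finiteness.Basic
import Mathlib.LinearAlgebra.Matrix.Charpoly.LinearMap
import Mathlib.Algebra.Regular.SMul
import Mathlib.Tactic.Ring
import Mathlib.Tactic.LinearCombination

set_option autoImplicit false

/-!
# Spreading out rank one freeness from `V(f)`

Let `M` be a finite module over a Noetherian ring, `f` regular on `M`, `x : M`, and suppose that after
inverting `g` the module `M/fM` is free with generator `x` (over `A/f`).  Then there is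
`h = g (g^n + f b)` such that `M_h` is free with generator `x` over `A_h`.
-/

namespace Groth.Agent.FormalA.InvSpreadAlg

open Polynomial

section

variable {A : Type*} [CommRing A] {M : Type*} [AddCommGroup M] [Module A M]

/-- uniform exponents -/
theorem uniform [Module.Finite A M] (g : A) (P : Submodule A M) (h : ∀ m : M, ∃ k : ℕ, g ^ k • m ∈ P) :
    ∃ k : ℕ, ∀ m : M, g ^ k • m ∈ P := by
  classical
  obtain ⟨s, hs⟩ := (Module.Finite.fg_top : (⊤ : Submodule A M).FG)
  choose k hk using h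
  refine ⟨∑ m ∈ s, k m, fun m => ?_⟩
  have hle : (⊤ : Submodule A M) ≤ P.comap (LinearMap.lsmul A M (g ^ ∑ m ∈ s, k m)) := by
    rw [← hs, Submodule.span_le]
    intro m hm
    change g ^ (∑ m ∈ s, k m) • m ∈ P
    rw [← Finset.sum_erase_add _ _ (show m ∈ s from hm), pow_add, mul_smul]
    exact P.smul_mem _ (hk m)
  exact hle (Submodule.mem_top (x := m))

/-- If `g^k M ⊆ f M` then `g^n + f b` kills `M`. -/
theorem nak [Module.Finite A M] (f g : A) (k : ℕ) (h : ∀ m : M, ∃ m' : M, g ^ k • m = f • m') :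
    ∃ (n : ℕ) (b : A), ∀ m : M, (g ^ n + f * b) • m = 0 := by
  have hφ : LinearMap.range (algebraMap A (Module.End A M) (g ^ k)) ≤
      Ideal.span {f} • (⊤ : Submodule A M) := by
    rintro _ ⟨m, rfl⟩
    obtain ⟨m', hm'⟩ := h m
    change g ^ k • m ∈ _
    rw [hm']
    exact Submodule.smul_mem_smul (Ideal.mem_span_singleton_self f) Submodule.mem_top
  obtain ⟨p, hp, -, hcoeff, haeval⟩ :=
    LinearMap.exists_monic_and_natDegree_eq_and_coeff_mem_pow_and_aeval_eq_zero A _
      (Ideal.span {f}) hφ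
  rw [aeval_algebraMap_apply_eq_algebraMap_eval] at haeval
  have h1 : p.eval (g ^ k) - g ^ (k * p.natDegree) ∈ Ideal.span {f} := by
    have h2 : p.eval (g ^ k) = g ^ (k * p.natDegree) +
        ∑ i ∈ Finset.range p.natDegree, p.coeff i * (g ^ k) ^ i := by
      conv_lhs => rw [hp.as_sum]
      rw [eval_add, eval_pow, eval_X, ← pow_mul]
      simp only [eval_finsetSum, eval_mul, eval_C, eval_pow, eval_X]
    rw [h2, add_sub_cancel_left]
    refine Submodule.sum_mem _ fun i hi => Ideal.mul_mem_right _ _ ?_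
    refine Ideal.pow_le_self ?_ (hcoeff i)
    have := Finset.mem_range.1 hi
    omega
  obtain ⟨b, hb⟩ := Ideal.mem_span_singleton'.1 h1
  refine ⟨k * p.natDegree, b, fun m => ?_⟩
  have h2 : g ^ (k * p.natDegree) + f * b = p.eval (g ^ k) := by
    rw [mul_comm f b, hb]; ring
  rw [h2]
  exact LinearMap.congr_fun haeval m

/-- Spreading out. -/
theorem spread [IsNoetherianRing A] [Module.Finite A M] {f g : A} (hreg : IsSMulRegular M f) (x : M)
    (h1 : ∀ m : M, ∃ (k : ℕ) (a : A) (m' : M), g ^ k • m = a • x + f • m')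
    (h2 : ∀ a : A, a • x = 0 → ∃ (k : ℕ) (b : A), g ^ k * a = f * b) :
    ∃ (n : ℕ) (b : A),
      (∀ r : A, r • x = 0 → ∃ k : ℕ, (g * (g ^ n + f * b)) ^ k * r = 0) ∧
      (∀ m : M, ∃ (k : ℕ) (r : A), (g * (g ^ n + f * b)) ^ k • m = r • x) := by
  -- generation
  obtain ⟨n₁, b₁, hb₁⟩ : ∃ (n : ℕ) (b : A), ∀ m : M, ∃ r : A, (g ^ n + f * b) • m = r • x := by
    let P : Submodule A M := Submodule.span A {x}
    obtain ⟨k, hk⟩ := uniform g (P ⊔ LinearMap.range (LinearMap.lsmul A M f)) (fun m => by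
      obtain ⟨k, a, m', h⟩ := h1 m
      refine ⟨k, ?_⟩
      rw [h]
      exact Submodule.add_mem_sup (Submodule.smul_mem _ _ (Submodule.mem_span_singleton_self x))
        ⟨m', rfl⟩)
    obtain ⟨n, b, hb⟩ := nak (M := M ⧸ P) f g k (fun m => by
      obtain ⟨m, rfl⟩ := Submodule.mkQ_surjective _ m
      obtain ⟨y, hy, z, ⟨m', rfl⟩, hyz⟩ := Submodule.mem_sup.1 (hk m)
      refine ⟨P.mkQ m', ?_⟩
      rw [← map_smul, ← hyz, map_add]
      have : P.mkQ y = 0 := (Submodule.Quotient.mk_eq_zero _).2 hy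
      rw [this, zero_add]
      exact map_smul _ _ _)
    refine ⟨n, b, fun m => ?_⟩
    have h3 := hb (P.mkQ m)
    rw [← map_smul] at h3
    obtain ⟨r, hr⟩ := Submodule.mem_span_singleton.1 ((Submodule.Quotient.mk_eq_zero _).1 h3)
    exact ⟨r, hr.symm⟩
  -- the annihilator
  obtain ⟨n₂, b₂, hb₂⟩ : ∃ (n : ℕ) (b : A), ∀ r : A, r • x = 0 → (g ^ n + f * b) * r = 0 := by
    let I : Ideal A := LinearMap.ker (LinearMap.toSpanSingleton A M x)
    have hI : ∀ r : A, r ∈ I ↔ r • x = 0 := fun r => Iff.rfl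
    have h3 : ∀ a : I, ∃ (k : ℕ) (b : I), g ^ k • a = f • b := by
      intro a
      obtain ⟨k, b, hb⟩ := h2 a.1 a.2
      have hbI : b ∈ I := by
        rw [hI]
        apply hreg
        change f • b • x = f • (0 : M)
        rw [smul_zero, ← mul_smul, ← hb, mul_smul, (hI a.1).1 a.2, smul_zero]
      exact ⟨k, ⟨b, hbI⟩, Subtype.ext hb⟩
    obtain ⟨k, hk⟩ := uniform (M := I) g (LinearMap.range (LinearMap.lsmul A I f)) (fun a => by
      obtain ⟨k, b, hb⟩ := h3 a
      exact ⟨k, b, hb.symm⟩)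
    obtain ⟨n, b, hb⟩ := nak (M := I) f g k (fun a => by
      obtain ⟨b, hb⟩ := hk a
      exact ⟨b, hb.symm⟩)
    exact ⟨n, b, fun r hr => congrArg Subtype.val (hb ⟨r, hr⟩)⟩
  refine ⟨n₁ + n₂, g ^ n₁ * b₂ + b₁ * g ^ n₂ + f * b₁ * b₂, fun r hr => ⟨1, ?_⟩,
    fun m => ⟨1, ?_⟩⟩
  · rw [pow_one]
    have := hb₂ r hr
    linear_combination g * (g ^ n₁ + f * b₁) * this
  · obtain ⟨r, hr⟩ := hb₁ m
    refine ⟨g * (g ^ n₂ + f * b₂) * r, ?_⟩
    rw [mul_smul, ← hr, smul_smul, pow_one]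
    congr 1
    ring

end

end Groth.Agent.FormalA.InvSpreadAlg
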