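import Mathlib
import Groth.Agent.FormalA.AlgCore
import Groth.Agent.Localalg.DeltaFun

/-!
# The cohomological functor `M ↦ lim_n D^i(M/I^(n+1)M)`

For an `A`-linear `DeltaFunctor` `D` on `A`-modules whose values on the finite modules killed by a
power of `I` are Artinian:

* `baseCohF D hlin : CohF A` : the functors `D.T i`;
* `limCohF D hlin I hArt : CohF A` : the functors `M ↦ lim_n D^i(M/I^(n+1)M)`;
* `limHom : CohHom (baseCohF ..) (limCohF ..)`: the canonical maps.
-/

set_option autoImplicit false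
universe u v w
open CategoryTheory Pointwise

namespace Groth.Agent.FormalA.KLim

open Groth.Agent.Localalg.DeltaFun Groth.Agent.FormalA.AlgCore

section Tower

variable {A : Type u} [CommRing A] {W : ℕ → Type v} {V : ℕ → Type w}
  [∀ n, AddCommGroup (W n)] [∀ n, Module A (W n)]
  [∀ n, AddCommGroup (V n)] [∀ n, Module A (V n)]
  (t : ∀ n m : ℕ, n ≤ m → (W m →ₗ[A] W n)) (s : ∀ n m : ℕ, n ≤ m → (V m →ₗ[A] V n))
  (ht : ∀ (n m k : ℕ) (h : n ≤ m) (h' : m ≤ k) (x : W k), t n m h (t m k h' x) =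
    t n k (h.trans h') x)
  (φ : ∀ n, W n →ₗ[A] V n)
  (hφ : ∀ (n m : ℕ) (h : n ≤ m) (x : W m), φ n (t n m h x) = s n m h (φ m x))

include ht hφ in
/-- Mittag-Leffler for towers of Artinian modules: a compatible family whose members are in the
images of the `φ n` comes from a compatible family. -/
theorem exists_compatible [∀ n, IsArtinian A (W n)] (v : ∀ n, V n)
    (hv : ∀ (n m : ℕ) (h : n ≤ m), s n m h (v m) = v n) (hr : ∀ n, ∃ w, φ n w = v n) :
    ∃ w : ∀ n, W n, (∀ n, t n (n + 1) (Nat.le_succ n) (w (n + 1)) = w n) ∧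
      ∀ n, φ n (w n) = v n := by
  -- eventual images
  let P : ∀ n, W n → Prop := fun n w => ∀ (m : ℕ) (h : n ≤ m), ∃ e : W m, φ m e = v m ∧
    t n m h e = w
  have hker : ∀ (n m : ℕ) (h : n ≤ m) (x : W m), x ∈ LinearMap.ker (φ m) →
      t n m h x ∈ LinearMap.ker (φ n) := by
    intro n m h x hx
    rw [LinearMap.mem_ker] at hx ⊢
    rw [hφ, hx, map_zero]
  have key : ∀ n, ∃ (N : ℕ) (hN : n ≤ N), ∀ (M : ℕ) (hM : N ≤ M) (e : W M), φ M e = v M →
      P n (t n M (hN.trans hM) e) := by
    intro n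
    -- the decreasing sequence of the images of the kernels
    let S : ℕ →o (Submodule A (W n))ᵒᵈ :=
      { toFun := fun k => OrderDual.toDual
          ((LinearMap.ker (φ (n + k))).map (t n (n + k) (Nat.le_add_right n k)))
        monotone' := by
          intro k l hkl
          change (LinearMap.ker (φ (n + l))).map _ ≤ (LinearMap.ker (φ (n + k))).map _
          rintro _ ⟨x, hx, rfl⟩
          refine ⟨t (n + k) (n + l) (by omega) x, hker _ _ _ x hx, ?_⟩
          rw [ht] }
    obtain ⟨k, hk⟩ := IsArtinian.monotone_stabilizes S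
    refine ⟨n + k, Nat.le_add_right n k, fun M hM e he => ?_⟩
    intro m h
    obtain ⟨l, rfl⟩ := Nat.exists_eq_add_of_le h
    -- it suffices to treat large `m`
    obtain ⟨L, hkL, hlL, hML⟩ : ∃ L, k ≤ L ∧ l ≤ L ∧ M ≤ n + L :=
      ⟨max k (max l (M - n)), by omega, by omega, by omega⟩
    obtain ⟨e₁, he₁⟩ := hr (n + L)
    have hx : t (n + k) M hM e - t (n + k) (n + L) (by omega) e₁ ∈ LinearMap.ker (φ (n + k)) := by
      rw [LinearMap.mem_ker, map_sub, hφ, hφ, he, he₁, hv, hv, sub_self]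
    have hmem : t n (n + k) (Nat.le_add_right n k)
        (t (n + k) M hM e - t (n + k) (n + L) (by omega) e₁) ∈ OrderDual.ofDual (S k) :=
      ⟨_, hx, rfl⟩
    rw [hk L hkL] at hmem
    obtain ⟨x, hxk, hxe⟩ := hmem
    rw [map_sub, ht, ht] at hxe
    refine ⟨t (n + l) (n + L) (by omega) (e₁ + x), ?_, ?_⟩
    · have hxk' : φ (n + L) x = 0 := hxk
      rw [hφ, map_add, he₁, hxk', add_zero, hv]
    · rw [ht, map_add, hxe]
      abel
  have step : ∀ n (w : W n), P n w → ∃ w' : W (n + 1), P (n + 1) w' ∧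
      t n (n + 1) (Nat.le_succ n) w' = w := by
    intro n w hw
    obtain ⟨N, hN, hP⟩ := key (n + 1)
    obtain ⟨e, he, hew⟩ := hw N (by omega)
    refine ⟨t (n + 1) N hN e, hP N le_rfl e he, ?_⟩
    rw [ht, hew]
  have base : ∃ w : W 0, P 0 w := by
    obtain ⟨N, hN, hP⟩ := key 0
    obtain ⟨e, he⟩ := hr N
    exact ⟨_, hP N le_rfl e he⟩
  choose f hf1 hf2 using step
  let q : ∀ n, {w : W n // P n w} := fun n =>
    Nat.rec ⟨base.choose, base.choose_spec⟩ (fun n w => ⟨f n w.1 w.2, hf1 n w.1 w.2⟩) n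
  refine ⟨fun n => (q n).1, fun n => hf2 n (q n).1 (q n).2, fun n => ?_⟩
  obtain ⟨e, he, heq⟩ := (q n).2 n le_rfl
  change φ n (q n).1 = v n
  rw [← heq, hφ, he, hv]

end Tower

variable {A : Type u} [CommRing A] (D : DeltaFunctor (ModuleCat.{u} A) (ModuleCat.{u} A))

/-- `A`-linearity of a `DeltaFunctor` -/
def Lin : Prop := ∀ (i : ℕ) (M : ModuleCat.{u} A) (a : A) (x : (D.T i).obj M),
  ((D.T i).map (a • 𝟙 M)).hom x = a • x

variable {D}

/-- a linear `DeltaFunctor` gives a `CohF` -/
noncomputable def baseCohF (hlin : Lin D) : CohF.{u, u} A where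
  F := D.T
  map_smul_id := hlin
  δ hS _ i := (D.δ hS i).hom
  ex₂ {S} hS _ i x hx := by
    have h := (ShortComplex.ShortExact.moduleCat_exact_iff_function_exact _).mp (D.exact₂ hS i)
    exact (h x).mp hx
  ex₃ hS _ i x hx := by
    have h := (ShortComplex.ShortExact.moduleCat_exact_iff_function_exact _).mp (D.exact₃ hS i)
    exact (h x).mp hx
  ex₁ hS _ i x hx := by
    have h := (ShortComplex.ShortExact.moduleCat_exact_iff_function_exact _).mp (D.exact₁ hS i)
    exact (h x).mp hx
  δ_g hS _ i x := by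
    have h := (ShortComplex.ShortExact.moduleCat_exact_iff_function_exact _).mp (D.exact₃ hS i)
    exact (h _).mpr ⟨x, rfl⟩
  f_δ hS _ i x := by
    have h := (ShortComplex.ShortExact.moduleCat_exact_iff_function_exact _).mp (D.exact₁ hS i)
    exact (h _).mpr ⟨x, rfl⟩


theorem CohF_map_congr (K : CohF.{u, w} A) (i : ℕ) {M N : Type u} [AddCommGroup M] [Module A M]
    [AddCommGroup N] [Module A N] {f g : M →ₗ[A] N} (h : f = g) (x : K.obj i M) :
    K.map i f x = K.map i g x := by rw [h]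

/-! ### Limits along a filtration -/

section Lim

variable (hlin : Lin D) (i : ℕ)

/-- the map between quotients induced by a linear map -/
abbrev qmap {M N : Type u} [AddCommGroup M] [Module A M] [AddCommGroup N] [Module A N]
    (f : M →ₗ[A] N) (P : Submodule A M) (Q : Submodule A N) (h : ∀ x ∈ P, f x ∈ Q) :
    (M ⧸ P) →ₗ[A] (N ⧸ Q) := P.mapQ Q f h

theorem qmap_comp {M N L : Type u} [AddCommGroup M] [Module A M] [AddCommGroup N] [Module A N]
    [AddCommGroup L] [Module A L] (f : M →ₗ[A] N) (g : N →ₗ[A] L) (P : Submodule A M)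
    (Q : Submodule A N) (R : Submodule A L) (h : ∀ x ∈ P, f x ∈ Q) (h' : ∀ x ∈ Q, g x ∈ R) :
    qmap g Q R h' ∘ₗ qmap f P Q h = qmap (g ∘ₗ f) P R (fun x hx => h' _ (h x hx)) := by
  ext x; rfl

variable {M : Type u} [AddCommGroup M] [Module A M] (F : ℕ → Submodule A M) (hF : Antitone F)

/-- transition maps `M / F m → M / F n` for `n ≤ m` -/
def tr (hF : Antitone F) {n m : ℕ} (h : n ≤ m) : (M ⧸ F m) →ₗ[A] (M ⧸ F n) :=
  qmap LinearMap.id (F m) (F n) (fun _ hx => hF h hx)

theorem tr_comp {n m k : ℕ} (h : n ≤ m) (h' : m ≤ k) :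
    tr F hF h ∘ₗ tr F hF h' = tr F hF (h.trans h') := by
  ext x; rfl

/-- `lim_n D^i(M / F n)` -/
noncomputable def Lm : Submodule A (∀ n, (baseCohF hlin).obj i (M ⧸ F n)) where
  carrier := {y | ∀ n, (baseCohF hlin).map i (tr F hF (Nat.le_succ n)) (y (n + 1)) = y n}
  add_mem' := by
    intro a b ha hb n
    rw [Pi.add_apply, map_add, ha n, hb n, Pi.add_apply]
  zero_mem' := fun n => by rw [Pi.zero_apply, map_zero, Pi.zero_apply]
  smul_mem' := by
    intro c x hx n
    rw [Pi.smul_apply, map_smul, hx n, Pi.smul_apply]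

theorem mem_Lm {y : ∀ n, (baseCohF hlin).obj i (M ⧸ F n)} :
    y ∈ Lm hlin i F hF ↔
      ∀ n, (baseCohF hlin).map i (tr F hF (Nat.le_succ n)) (y (n + 1)) = y n := Iff.rfl

theorem map_tr_tr {n m k : ℕ} (h : n ≤ m) (h' : m ≤ k)
    (x : (baseCohF hlin).obj i (M ⧸ F k)) :
    (baseCohF hlin).map i (tr F hF h) ((baseCohF hlin).map i (tr F hF h') x) =
      (baseCohF hlin).map i (tr F hF (h.trans h')) x := by
  rw [← CohF.map_comp, tr_comp]

theorem Lm_compat (y : Lm hlin i F hF) {n m : ℕ} (h : n ≤ m) :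
    (baseCohF hlin).map i (tr F hF h) (y.1 m) = y.1 n := by
  induction m, h using Nat.le_induction with
  | base =>
    have : tr F hF (le_refl n) = LinearMap.id := by
      ext x; rfl
    rw [this, CohF.map_id]
  | succ m h ih =>
    rw [← ih, ← y.2 m, map_tr_tr]


end Lim

section Map

variable (hlin : Lin D) (i : ℕ)
variable {M N L : Type u} [AddCommGroup M] [Module A M] [AddCommGroup N] [Module A N]
  [AddCommGroup L] [Module A L]
  {F : ℕ → Submodule A M} (hF : Antitone F) {G : ℕ → Submodule A N} (hG : Antitone G)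
  {E : ℕ → Submodule A L} (hE : Antitone E)

/-- continuity of a linear map for two filtrations -/
def Cts (f : M →ₗ[A] N) (F : ℕ → Submodule A M) (G : ℕ → Submodule A N) : Prop :=
  ∀ n, ∃ m, ∀ x ∈ F m, f x ∈ G n

theorem Cts.comp {f : M →ₗ[A] N} {g : N →ₗ[A] L} (hf : Cts f F G) (hg : Cts g G E) :
    Cts (g ∘ₗ f) F E := fun n => by
  obtain ⟨m, hm⟩ := hg n
  obtain ⟨k, hk⟩ := hf m
  exact ⟨k, fun x hx => hm _ (hk x hx)⟩

theorem Cts.of_le {f : M →ₗ[A] N} (h : ∀ n, ∀ x ∈ F n, f x ∈ G n) : Cts f F G := fun n => ⟨n, h n⟩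

theorem map_qmap_indep (f : M →ₗ[A] N) {m k n : ℕ} (h : ∀ x ∈ F m, f x ∈ G n)
    (h' : ∀ x ∈ F k, f x ∈ G n) (y : Lm hlin i F hF) :
    (baseCohF hlin).map i (qmap f (F m) (G n) h) (y.1 m) =
      (baseCohF hlin).map i (qmap f (F k) (G n) h') (y.1 k) := by
  wlog hmk : m ≤ k generalizing m k
  · exact (this h' h (by omega)).symm
  rw [← Lm_compat hlin i F hF y hmk, ← CohF.map_comp]
  exact CohF_map_congr _ _ (by ext x; rfl) _

theorem map_tr_qmap (f : M →ₗ[A] N) {m n k : ℕ} (hkn : k ≤ n) (h : ∀ x ∈ F m, f x ∈ G n)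
    (x : (baseCohF hlin).obj i (M ⧸ F m)) :
    (baseCohF hlin).map i (tr G hG hkn) ((baseCohF hlin).map i (qmap f (F m) (G n) h) x) =
      (baseCohF hlin).map i (qmap f (F m) (G k) (fun x hx => hG hkn (h x hx))) x := by
  rw [← CohF.map_comp]
  exact CohF_map_congr _ _ (by ext x; rfl) _

/-- functoriality of the limits -/
noncomputable def Lmap (f : M →ₗ[A] N) (hc : Cts f F G) : Lm hlin i F hF →ₗ[A] Lm hlin i G hG where
  toFun y := ⟨fun n => (baseCohF hlin).map i (qmap f _ (G n) (hc n).choose_spec)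
    (y.1 (hc n).choose), fun n => by
      rw [map_tr_qmap]
      exact map_qmap_indep hlin i hF f _ _ y⟩
  map_add' x y := by
    apply Subtype.ext
    funext n
    exact map_add _ _ _
  map_smul' a x := by
    apply Subtype.ext
    funext n
    exact map_smul _ _ _

theorem Lmap_val (f : M →ₗ[A] N) (hc : Cts f F G) (y : Lm hlin i F hF) {m n : ℕ}
    (h : ∀ x ∈ F m, f x ∈ G n) :
    (Lmap hlin i hF hG f hc y).1 n = (baseCohF hlin).map i (qmap f (F m) (G n) h) (y.1 m) :=
  map_qmap_indep hlin i hF f _ _ y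

theorem Lmap_comp (f : M →ₗ[A] N) (hf : Cts f F G) (g : N →ₗ[A] L) (hg : Cts g G E)
    (hgf : Cts (g ∘ₗ f) F E) (y : Lm hlin i F hF) :
    Lmap hlin i hG hE g hg (Lmap hlin i hF hG f hf y) = Lmap hlin i hF hE (g ∘ₗ f) hgf y := by
  apply Subtype.ext
  funext n
  obtain ⟨m, hm⟩ := hg n
  obtain ⟨k, hk⟩ := hf m
  rw [Lmap_val hlin i hG hE g hg _ hm, Lmap_val hlin i hF hG f hf y hk,
    Lmap_val hlin i hF hE (g ∘ₗ f) hgf y (m := k) (fun x hx => hm _ (hk x hx)), ← CohF.map_comp]
  exact CohF_map_congr _ _ (by ext x; rfl) _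

theorem Lmap_id (hc : Cts (LinearMap.id : M →ₗ[A] M) F F) (y : Lm hlin i F hF) :
    Lmap hlin i hF hF LinearMap.id hc y = y := by
  apply Subtype.ext
  funext n
  rw [Lmap_val hlin i hF hF _ hc y (m := n) (n := n) (fun x hx => hx)]
  have : qmap LinearMap.id (F n) (F n) (fun x hx => hx) = LinearMap.id := by
    ext x; rfl
  rw [this, CohF.map_id]

end Map

/-! ### The functor -/

section Functor

variable (hlin : Lin D) (I : Ideal A)

/-- the `I`-adic filtration, indexed as in the milestones -/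
def fil (I : Ideal A) (M : Type u) [AddCommGroup M] [Module A M] (n : ℕ) : Submodule A M :=
  I ^ (n + 1) • (⊤ : Submodule A M)

theorem fil_antitone (M : Type u) [AddCommGroup M] [Module A M] : Antitone (fil I M) :=
  fun _ _ h => Submodule.smul_mono_left (Ideal.pow_le_pow_right (Nat.succ_le_succ h))

theorem map_mem_fil {M N : Type u} [AddCommGroup M] [Module A M] [AddCommGroup N] [Module A N]
    (f : M →ₗ[A] N) (n : ℕ) (x : M) (hx : x ∈ fil I M n) : f x ∈ fil I N n := by
  have h1 : f x ∈ (I ^ (n + 1) • (⊤ : Submodule A M)).map f := Submodule.mem_map_of_mem hx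
  rw [Submodule.map_smul''] at h1
  exact Submodule.smul_mono le_rfl le_top h1

theorem cts_fil {M N : Type u} [AddCommGroup M] [Module A M] [AddCommGroup N] [Module A N]
    (f : M →ₗ[A] N) : Cts f (fil I M) (fil I N) := Cts.of_le (map_mem_fil I f)

/-- the functor `M ↦ lim_n D^i(M/I^(n+1)M)` -/
noncomputable def limF (i : ℕ) : ModuleCat.{u} A ⥤ ModuleCat.{u} A where
  obj M := ModuleCat.of A (Lm hlin i (fil I M) (fil_antitone I M))
  map {M N} f := ModuleCat.ofHom (Lmap hlin i (fil_antitone I M) (fil_antitone I N) f.hom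
    (cts_fil I f.hom))
  map_id M := by
    apply ModuleCat.hom_ext
    apply LinearMap.ext
    intro y
    exact Lmap_id hlin i (fil_antitone I M) (cts_fil I _) y
  map_comp {M N L} f g := by
    apply ModuleCat.hom_ext
    apply LinearMap.ext
    intro y
    exact (Lmap_comp hlin i (fil_antitone I M) (fil_antitone I N) (fil_antitone I L) f.hom
      (cts_fil I f.hom) g.hom (cts_fil I g.hom) (cts_fil I _) y).symm

theorem limF_smul_id (i : ℕ) (M : ModuleCat.{u} A) (a : A) (x : (limF hlin I i).obj M) :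
    ((limF hlin I i).map (a • 𝟙 M)).hom x = a • x := by
  apply Subtype.ext
  funext n
  refine (Lmap_val hlin i (fil_antitone I M) (fil_antitone I M) (a • 𝟙 M : M ⟶ M).hom
    (cts_fil I _) x (m := n) (n := n) (map_mem_fil I _ n)).trans ?_
  have : qmap (a • 𝟙 M : M ⟶ M).hom (fil I M n) (fil I M n) (map_mem_fil I _ n) =
      LinearMap.lsmul A (M ⧸ fil I M n) a := by
    ext x; rfl
  rw [this, CohF.map_smul_self]
  rfl

end Functor

/-! ### The long exact sequence -/

section LES

variable (hlin : Lin D)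

theorem base_conn_naturality (i : ℕ) {M N P M' N' P' : Type u} [AddCommGroup M] [Module A M]
    [AddCommGroup N] [Module A N] [AddCommGroup P] [Module A P] [AddCommGroup M'] [Module A M']
    [AddCommGroup N'] [Module A N'] [AddCommGroup P'] [Module A P'] [Module.Finite A N]
    [Module.Finite A N']
    (f : M →ₗ[A] N) (g : N →ₗ[A] P) (hf : Function.Injective f)
    (hg : Function.Surjective g) (hfg : Function.Exact f g)
    (f' : M' →ₗ[A] N') (g' : N' →ₗ[A] P') (hf' : Function.Injective f')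
    (hg' : Function.Surjective g') (hfg' : Function.Exact f' g')
    (a : M →ₗ[A] M') (b : N →ₗ[A] N') (c : P →ₗ[A] P')
    (hab : f' ∘ₗ a = b ∘ₗ f) (hbc : g' ∘ₗ b = c ∘ₗ g) (x : (baseCohF hlin).obj i P) :
    (baseCohF hlin).map (i + 1) a ((baseCohF hlin).conn f g hf hg hfg i x) =
      (baseCohF hlin).conn f' g' hf' hg' hfg' i ((baseCohF hlin).map i c x) := by
  have h := D.naturality (Localalg.Depth.shortExact_of_exact f g hf hg hfg)
    (Localalg.Depth.shortExact_of_exact f' g' hf' hg' hfg')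
    { τ₁ := ModuleCat.ofHom a, τ₂ := ModuleCat.ofHom b, τ₃ := ModuleCat.ofHom c
      comm₁₂ := by
        change ModuleCat.ofHom a ≫ ModuleCat.ofHom f' = ModuleCat.ofHom f ≫ ModuleCat.ofHom b
        rw [← ModuleCat.ofHom_comp, ← ModuleCat.ofHom_comp, hab]
      comm₂₃ := by
        change ModuleCat.ofHom b ≫ ModuleCat.ofHom g' = ModuleCat.ofHom g ≫ ModuleCat.ofHom c
        rw [← ModuleCat.ofHom_comp, ← ModuleCat.ofHom_comp, hbc] } i
  exact (congrArg (fun k => k.hom x) h).symm

variable (I : Ideal A)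

/-- the Artinian hypothesis -/
def ArtHyp (D : DeltaFunctor (ModuleCat.{u} A) (ModuleCat.{u} A)) (I : Ideal A) : Prop :=
  ∀ (M : Type u) [AddCommGroup M] [Module A M] [Module.Finite A M],
    (∃ n : ℕ, ∀ a ∈ I ^ n, ∀ x : M, a • x = 0) → ∀ i, IsArtinian A ((D.T i).obj (ModuleCat.of A M))

variable {M₁ M₂ M₃ : Type u} [AddCommGroup M₁] [Module A M₁] [AddCommGroup M₂] [Module A M₂]
  [AddCommGroup M₃] [Module A M₃]

/-- the filtration induced on the submodule -/
def sfil (f : M₁ →ₗ[A] M₂) (n : ℕ) : Submodule A M₁ := (fil I M₂ n).comap f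

theorem sfil_antitone (f : M₁ →ₗ[A] M₂) : Antitone (sfil I f) :=
  fun _ _ h => Submodule.comap_mono (fil_antitone I M₂ h)

/-- `M₁ / sfil n → M₂ / fil n` -/
def qf (f : M₁ →ₗ[A] M₂) (n : ℕ) : (M₁ ⧸ sfil I f n) →ₗ[A] (M₂ ⧸ fil I M₂ n) :=
  qmap f (sfil I f n) (fil I M₂ n) (fun _ hx => hx)

/-- `M₂ / fil n → M₃ / fil n` -/
def qg (g : M₂ →ₗ[A] M₃) (n : ℕ) : (M₂ ⧸ fil I M₂ n) →ₗ[A] (M₃ ⧸ fil I M₃ n) :=
  qmap g (fil I M₂ n) (fil I M₃ n) (map_mem_fil I g n)

theorem qf_injective (f : M₁ →ₗ[A] M₂) (n : ℕ) : Function.Injective (qf I f n) := by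
  rw [injective_iff_map_eq_zero]
  intro x hx
  obtain ⟨x, rfl⟩ := Submodule.mkQ_surjective _ x
  rw [Submodule.mkQ_apply, Submodule.Quotient.mk_eq_zero]
  exact (Submodule.Quotient.mk_eq_zero (fil I M₂ n)).mp hx

theorem qg_surjective (g : M₂ →ₗ[A] M₃) (hg : Function.Surjective g) (n : ℕ) :
    Function.Surjective (qg I g n) := by
  intro x
  obtain ⟨x, rfl⟩ := Submodule.mkQ_surjective _ x
  obtain ⟨y, rfl⟩ := hg x
  exact ⟨Submodule.mkQ _ y, rfl⟩

theorem qfg_exact (f : M₁ →ₗ[A] M₂) (g : M₂ →ₗ[A] M₃) (hg : Function.Surjective g)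
    (hfg : Function.Exact f g) (n : ℕ) : Function.Exact (qf I f n) (qg I g n) := by
  intro x
  constructor
  · intro hx
    obtain ⟨x, rfl⟩ := Submodule.mkQ_surjective _ x
    have hx' : g x ∈ fil I M₃ n := (Submodule.Quotient.mk_eq_zero _).mp hx
    have h1 : fil I M₃ n = (fil I M₂ n).map g := by
      rw [fil, fil, Submodule.map_smul'', Submodule.map_top, LinearMap.range_eq_top.mpr hg]
    rw [h1] at hx'
    obtain ⟨y, hy, hyx⟩ := hx'
    obtain ⟨z, hz⟩ := (hfg (x - y)).mp (by rw [map_sub, hyx, sub_self])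
    refine ⟨Submodule.mkQ _ z, ?_⟩
    change Submodule.Quotient.mk (f z) = Submodule.Quotient.mk x
    rw [Submodule.Quotient.eq, hz]
    have : x - y - x = -y := by abel
    rw [this]
    exact (fil I M₂ n).neg_mem hy
  · rintro ⟨y, rfl⟩
    obtain ⟨y, rfl⟩ := Submodule.mkQ_surjective _ y
    change Submodule.Quotient.mk (g (f y)) = 0
    rw [hfg.apply_apply_eq_zero, Submodule.Quotient.mk_zero]

theorem cts_id_sfil (f : M₁ →ₗ[A] M₂) :
    Cts (LinearMap.id : M₁ →ₗ[A] M₁) (fil I M₁) (sfil I f) :=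
  Cts.of_le fun n x hx => map_mem_fil I f n x hx

/-- Artin-Rees -/
theorem cts_sfil_id [IsNoetherianRing A] [Module.Finite A M₂] (f : M₁ →ₗ[A] M₂)
    (hf : Function.Injective f) :
    Cts (LinearMap.id : M₁ →ₗ[A] M₁) (sfil I f) (fil I M₁) := by
  intro n
  obtain ⟨k, hk⟩ := Ideal.exists_pow_inf_eq_pow_smul I (LinearMap.range f)
  refine ⟨n + k, fun x hx => ?_⟩
  have h1 : f x ∈ I ^ (n + k + 1) • (⊤ : Submodule A M₂) ⊓ LinearMap.range f := ⟨hx, ⟨x, rfl⟩⟩
  rw [hk (n + k + 1) (by omega)] at h1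
  have h2 : f x ∈ (I ^ (n + 1) • (⊤ : Submodule A M₁)).map f := by
    rw [Submodule.map_smul'', Submodule.map_top]
    have h3 : n + k + 1 - k = n + 1 := by omega
    rw [h3] at h1
    exact Submodule.smul_mono le_rfl inf_le_right h1
  obtain ⟨y, hy, hyx⟩ := h2
  rw [LinearMap.id_apply, ← hf hyx]
  exact hy

theorem cts_sfil_fil (f : M₁ →ₗ[A] M₂) : Cts f (sfil I f) (fil I M₂) :=
  Cts.of_le fun _ _ hx => hx

/-- connecting maps at finite level -/
noncomputable def connL [IsNoetherianRing A] [Module.Finite A M₂] (f : M₁ →ₗ[A] M₂)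
    (g : M₂ →ₗ[A] M₃) (hg : Function.Surjective g) (hfg : Function.Exact f g) (i : ℕ) :
    Lm hlin i (fil I M₃) (fil_antitone I M₃) →ₗ[A]
      Lm hlin (i + 1) (sfil I f) (sfil_antitone I f) where
  toFun y := ⟨fun n => (baseCohF hlin).conn (qf I f n) (qg I g n) (qf_injective I f n)
      (qg_surjective I g hg n) (qfg_exact I f g hg hfg n) i (y.1 n), fun n => by
    rw [base_conn_naturality hlin i (qf I f (n + 1)) (qg I g (n + 1)) (qf_injective I f (n + 1))
      (qg_surjective I g hg (n + 1)) (qfg_exact I f g hg hfg (n + 1)) (qf I f n) (qg I g n)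
      (qf_injective I f n) (qg_surjective I g hg n) (qfg_exact I f g hg hfg n)
      (tr (sfil I f) (sfil_antitone I f) (Nat.le_succ n))
      (tr (fil I M₂) (fil_antitone I M₂) (Nat.le_succ n))
      (tr (fil I M₃) (fil_antitone I M₃) (Nat.le_succ n)) (by ext x; rfl) (by ext x; rfl),
      y.2 n]⟩
  map_add' x y := by
    apply Subtype.ext
    funext n
    exact map_add _ _ _
  map_smul' a x := by
    apply Subtype.ext
    funext n
    exact map_smul _ _ _

section

variable [IsNoetherianRing A] [Module.Finite A M₂] (f : M₁ →ₗ[A] M₂) (g : M₂ →ₗ[A] M₃)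
  (hf : Function.Injective f) (hg : Function.Surjective g) (hfg : Function.Exact f g) (i : ℕ)

/-- the connecting map of the limits -/
noncomputable def kδ : Lm hlin i (fil I M₃) (fil_antitone I M₃) →ₗ[A]
      Lm hlin (i + 1) (fil I M₁) (fil_antitone I M₁) :=
  (Lmap hlin (i + 1) (sfil_antitone I f) (fil_antitone I M₁) LinearMap.id
    (cts_sfil_id I f hf)) ∘ₗ connL hlin I f g hg hfg i

/-- going back to the induced filtration -/
theorem Lmap_kδ (y : Lm hlin i (fil I M₃) (fil_antitone I M₃)) :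
    Lmap hlin (i + 1) (fil_antitone I M₁) (sfil_antitone I f) LinearMap.id (cts_id_sfil I f)
      (kδ hlin I f g hf hg hfg i y) = connL hlin I f g hg hfg i y := by
  rw [kδ, LinearMap.comp_apply, Lmap_comp hlin (i + 1) (sfil_antitone I f) (fil_antitone I M₁)
    (sfil_antitone I f) _ _ _ _ (Cts.of_le fun _ _ hx => hx)]
  exact Lmap_id hlin (i + 1) (sfil_antitone I f) _ _

theorem Lmap_id_injective : Function.Injective
    (Lmap hlin i (sfil_antitone I f) (fil_antitone I M₁) LinearMap.id (cts_sfil_id I f hf)) := by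
  rw [injective_iff_map_eq_zero]
  intro y hy
  have h := Lmap_comp hlin i (sfil_antitone I f) (fil_antitone I M₁)
    (sfil_antitone I f) LinearMap.id (cts_sfil_id I f hf) LinearMap.id (cts_id_sfil I f)
    (Cts.of_le fun _ _ hx => hx) y
  rw [hy, map_zero] at h
  have h2 := Lmap_id hlin i (sfil_antitone I f) (Cts.of_le fun _ _ hx => hx) y
  exact h2.symm.trans h.symm

theorem Lmap_id_id (y : Lm hlin i (fil I M₁) (fil_antitone I M₁)) :
    Lmap hlin i (sfil_antitone I f) (fil_antitone I M₁) LinearMap.id (cts_sfil_id I f hf)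
      (Lmap hlin i (fil_antitone I M₁) (sfil_antitone I f) LinearMap.id (cts_id_sfil I f) y) =
      y := by
  rw [Lmap_comp hlin i (fil_antitone I M₁) (sfil_antitone I f) (fil_antitone I M₁)
    _ _ _ _ (Cts.of_le fun _ _ hx => hx)]
  exact Lmap_id hlin i (fil_antitone I M₁) _ _

include hf in
omit [IsNoetherianRing A] [Module.Finite A M₂] in
theorem finite_sub [IsNoetherianRing A] [Module.Finite A M₂] : Module.Finite A M₁ :=
  Module.Finite.of_injective f hf

variable (hArt : ArtHyp D I)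
include hArt

include hf hg hfg in
theorem lim_ex₂ (y : Lm hlin i (fil I M₂) (fil_antitone I M₂))
    (hy : Lmap hlin i (fil_antitone I M₂) (fil_antitone I M₃) g (cts_fil I g) y = 0) :
    ∃ x, Lmap hlin i (fil_antitone I M₁) (fil_antitone I M₂) f (cts_fil I f) x = y := by
  have hfin : Module.Finite A M₁ := Module.Finite.of_injective f hf
  have hA : ∀ n, IsArtinian A ((baseCohF hlin).obj i (M₁ ⧸ sfil I f n)) := fun n =>
    hArt (M₁ ⧸ sfil I f n) ⟨n + 1, fun a ha x => by
      obtain ⟨x, rfl⟩ := Submodule.mkQ_surjective _ x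
      rw [← map_smul, Submodule.mkQ_apply, Submodule.Quotient.mk_eq_zero]
      change f (a • x) ∈ fil I M₂ n
      rw [map_smul]
      exact Submodule.smul_mem_smul ha trivial⟩ i
  obtain ⟨w, hw1, hw2⟩ := exists_compatible
    (W := fun n => (baseCohF hlin).obj i (M₁ ⧸ sfil I f n))
    (V := fun n => (baseCohF hlin).obj i (M₂ ⧸ fil I M₂ n))
    (fun n m h => (baseCohF hlin).map i (tr (sfil I f) (sfil_antitone I f) h))
    (fun n m h => (baseCohF hlin).map i (tr (fil I M₂) (fil_antitone I M₂) h))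
    (fun n m k h h' x => map_tr_tr hlin i _ (sfil_antitone I f) h h' x)
    (fun n => (baseCohF hlin).map i (qf I f n))
    (fun n m h x => by
      rw [← CohF.map_comp, ← CohF.map_comp]
      exact CohF_map_congr _ _ (by ext x; rfl) _)
    y.1 (fun n m h => Lm_compat hlin i _ (fil_antitone I M₂) y h)
    (fun n => by
      refine (baseCohF hlin).ex₂' (qf I f n) (qg I g n) (qf_injective I f n)
        (qg_surjective I g hg n) (qfg_exact I f g hg hfg n) i (y.1 n) ?_
      have h := congrArg (fun z => z.1 n) hy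
      exact (Lmap_val hlin i (fil_antitone I M₂) (fil_antitone I M₃) g (cts_fil I g) y
        (m := n) (n := n) (map_mem_fil I g n)).symm.trans h)
  refine ⟨Lmap hlin i (sfil_antitone I f) (fil_antitone I M₁) LinearMap.id
    (cts_sfil_id I f hf) ⟨w, hw1⟩, ?_⟩
  rw [Lmap_comp hlin i (sfil_antitone I f) (fil_antitone I M₁) (fil_antitone I M₂) _ _ _ _
    (cts_sfil_fil I f)]
  apply Subtype.ext
  funext n
  exact (Lmap_val hlin i (sfil_antitone I f) (fil_antitone I M₂) f (cts_sfil_fil I f) ⟨w, hw1⟩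
    (m := n) (n := n) (fun _ hx => hx)).trans (hw2 n)

theorem lim_ex₃ (y : Lm hlin i (fil I M₃) (fil_antitone I M₃))
    (hy : kδ hlin I f g hf hg hfg i y = 0) :
    ∃ x, Lmap hlin i (fil_antitone I M₂) (fil_antitone I M₃) g (cts_fil I g) x = y := by
  have hfin : Module.Finite A M₁ := Module.Finite.of_injective f hf
  have hy' : connL hlin I f g hg hfg i y = 0 := by
    apply Lmap_id_injective hlin I f hf (i + 1)
    rw [map_zero]
    exact hy
  have hA : ∀ n, IsArtinian A ((baseCohF hlin).obj i (M₂ ⧸ fil I M₂ n)) := fun n =>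
    hArt (M₂ ⧸ fil I M₂ n) ⟨n + 1, fun a ha x => by
      obtain ⟨x, rfl⟩ := Submodule.mkQ_surjective _ x
      rw [← map_smul, Submodule.mkQ_apply, Submodule.Quotient.mk_eq_zero]
      exact Submodule.smul_mem_smul ha trivial⟩ i
  obtain ⟨w, hw1, hw2⟩ := exists_compatible
    (W := fun n => (baseCohF hlin).obj i (M₂ ⧸ fil I M₂ n))
    (V := fun n => (baseCohF hlin).obj i (M₃ ⧸ fil I M₃ n))
    (fun n m h => (baseCohF hlin).map i (tr (fil I M₂) (fil_antitone I M₂) h))
    (fun n m h => (baseCohF hlin).map i (tr (fil I M₃) (fil_antitone I M₃) h))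
    (fun n m k h h' x => map_tr_tr hlin i _ (fil_antitone I M₂) h h' x)
    (fun n => (baseCohF hlin).map i (qg I g n))
    (fun n m h x => by
      rw [← CohF.map_comp, ← CohF.map_comp]
      exact CohF_map_congr _ _ (by ext x; rfl) _)
    y.1 (fun n m h => Lm_compat hlin i _ (fil_antitone I M₃) y h)
    (fun n => by
      refine (baseCohF hlin).ex₃' (qf I f n) (qg I g n) (qf_injective I f n)
        (qg_surjective I g hg n) (qfg_exact I f g hg hfg n) i (y.1 n) ?_
      exact congrArg (fun z => z.1 n) hy')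
  refine ⟨⟨w, hw1⟩, ?_⟩
  apply Subtype.ext
  funext n
  exact (Lmap_val hlin i (fil_antitone I M₂) (fil_antitone I M₃) g (cts_fil I g) ⟨w, hw1⟩
    (m := n) (n := n) (map_mem_fil I g n)).trans (hw2 n)

theorem lim_ex₁ (y : Lm hlin (i + 1) (fil I M₁) (fil_antitone I M₁))
    (hy : Lmap hlin (i + 1) (fil_antitone I M₁) (fil_antitone I M₂) f (cts_fil I f) y = 0) :
    ∃ x, kδ hlin I f g hf hg hfg i x = y := by
  have hfin : Module.Finite A M₁ := Module.Finite.of_injective f hf
  have hfin3 : Module.Finite A M₃ := Module.Finite.of_surjective g hg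
  set z := Lmap hlin (i + 1) (fil_antitone I M₁) (sfil_antitone I f) LinearMap.id
    (cts_id_sfil I f) y with hz
  have hz0 : ∀ n, (baseCohF hlin).map (i + 1) (qf I f n) (z.1 n) = 0 := by
    intro n
    have h1 := Lmap_comp hlin (i + 1) (fil_antitone I M₁) (sfil_antitone I f)
      (fil_antitone I M₂) LinearMap.id (cts_id_sfil I f) f (cts_sfil_fil I f) (cts_fil I f) y
    have h2 := congrArg (fun t => t.1 n) (h1.trans hy)
    exact (Lmap_val hlin (i + 1) (sfil_antitone I f) (fil_antitone I M₂) f (cts_sfil_fil I f) z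
      (m := n) (n := n) (fun _ hx => hx)).symm.trans h2
  have hA : ∀ n, IsArtinian A ((baseCohF hlin).obj i (M₃ ⧸ fil I M₃ n)) := fun n =>
    hArt (M₃ ⧸ fil I M₃ n) ⟨n + 1, fun a ha x => by
      obtain ⟨x, rfl⟩ := Submodule.mkQ_surjective _ x
      rw [← map_smul, Submodule.mkQ_apply, Submodule.Quotient.mk_eq_zero]
      exact Submodule.smul_mem_smul ha trivial⟩ i
  obtain ⟨w, hw1, hw2⟩ := exists_compatible
    (W := fun n => (baseCohF hlin).obj i (M₃ ⧸ fil I M₃ n))
    (V := fun n => (baseCohF hlin).obj (i + 1) (M₁ ⧸ sfil I f n))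
    (fun n m h => (baseCohF hlin).map i (tr (fil I M₃) (fil_antitone I M₃) h))
    (fun n m h => (baseCohF hlin).map (i + 1) (tr (sfil I f) (sfil_antitone I f) h))
    (fun n m k h h' x => map_tr_tr hlin i _ (fil_antitone I M₃) h h' x)
    (fun n => (baseCohF hlin).conn (qf I f n) (qg I g n) (qf_injective I f n)
        (qg_surjective I g hg n) (qfg_exact I f g hg hfg n) i)
    (fun n m h x => by
      exact (base_conn_naturality hlin i (qf I f m) (qg I g m) (qf_injective I f m)
        (qg_surjective I g hg m) (qfg_exact I f g hg hfg m) (qf I f n) (qg I g n)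
        (qf_injective I f n) (qg_surjective I g hg n) (qfg_exact I f g hg hfg n)
        (tr (sfil I f) (sfil_antitone I f) h)
        (tr (fil I M₂) (fil_antitone I M₂) h)
        (tr (fil I M₃) (fil_antitone I M₃) h) (by ext x; rfl) (by ext x; rfl) x).symm)
    z.1 (fun n m h => Lm_compat hlin (i + 1) _ (sfil_antitone I f) z h)
    (fun n => (baseCohF hlin).ex₁' (qf I f n) (qg I g n) (qf_injective I f n)
        (qg_surjective I g hg n) (qfg_exact I f g hg hfg n) i (z.1 n) (hz0 n))
  refine ⟨⟨w, hw1⟩, ?_⟩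
  have h3 : connL hlin I f g hg hfg i ⟨w, hw1⟩ = z := by
    apply Subtype.ext
    funext n
    exact hw2 n
  rw [kδ, LinearMap.comp_apply, h3, hz]
  exact Lmap_id_id hlin I f hf (i + 1) y

omit hArt in
theorem lim_δ_g (y : Lm hlin i (fil I M₂) (fil_antitone I M₂)) :
    kδ hlin I f g hf hg hfg i
      (Lmap hlin i (fil_antitone I M₂) (fil_antitone I M₃) g (cts_fil I g) y) = 0 := by
  have h : connL hlin I f g hg hfg i
      (Lmap hlin i (fil_antitone I M₂) (fil_antitone I M₃) g (cts_fil I g) y) = 0 := by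
    apply Subtype.ext
    funext n
    change (baseCohF hlin).conn _ _ _ _ _ i _ = 0
    rw [Lmap_val hlin i (fil_antitone I M₂) (fil_antitone I M₃) g (cts_fil I g) y
        (m := n) (n := n) (map_mem_fil I g n)]
    exact (baseCohF hlin).conn_map (qf I f n) (qg I g n) _ _ _ i (y.1 n)
  rw [kδ, LinearMap.comp_apply, h, map_zero]

omit hArt in
theorem lim_f_δ (y : Lm hlin i (fil I M₃) (fil_antitone I M₃)) :
    Lmap hlin (i + 1) (fil_antitone I M₁) (fil_antitone I M₂) f (cts_fil I f)
      (kδ hlin I f g hf hg hfg i y) = 0 := by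
  have h1 := Lmap_comp hlin (i + 1) (fil_antitone I M₁) (sfil_antitone I f)
      (fil_antitone I M₂) LinearMap.id (cts_id_sfil I f) f (cts_sfil_fil I f) (cts_fil I f)
      (kδ hlin I f g hf hg hfg i y)
  rw [Lmap_kδ] at h1
  refine Eq.trans (Eq.symm h1) ?_
  apply Subtype.ext
  funext n
  refine (Lmap_val hlin (i + 1) (sfil_antitone I f) (fil_antitone I M₂) f (cts_sfil_fil I f) _
      (m := n) (n := n) (fun _ hx => hx)).trans ?_
  exact (baseCohF hlin).map_conn (qf I f n) (qg I g n) _ _ _ i (y.1 n)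

end

/-- **the cohomological functor** `M ↦ lim_n D^i(M/I^(n+1)M)` -/
noncomputable def limCohF [IsNoetherianRing A] (hArt : ArtHyp D I) : CohF.{u, u} A where
  F := limF hlin I
  map_smul_id := limF_smul_id hlin I
  δ {S} hS _ i := kδ hlin I S.f.hom S.g.hom ((ModuleCat.mono_iff_injective _).mp hS.mono_f)
    ((ModuleCat.epi_iff_surjective _).mp hS.epi_g)
    ((ShortComplex.ShortExact.moduleCat_exact_iff_function_exact _).mp hS.exact) i
  ex₂ {S} hS _ i x hx := lim_ex₂ hlin I S.f.hom S.g.hom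
    ((ModuleCat.mono_iff_injective _).mp hS.mono_f)
    ((ModuleCat.epi_iff_surjective _).mp hS.epi_g)
    ((ShortComplex.ShortExact.moduleCat_exact_iff_function_exact _).mp hS.exact) i hArt x hx
  ex₃ {S} hS _ i x hx := lim_ex₃ hlin I S.f.hom S.g.hom
    ((ModuleCat.mono_iff_injective _).mp hS.mono_f)
    ((ModuleCat.epi_iff_surjective _).mp hS.epi_g)
    ((ShortComplex.ShortExact.moduleCat_exact_iff_function_exact _).mp hS.exact) i hArt x hx
  ex₁ {S} hS _ i x hx := lim_ex₁ hlin I S.f.hom S.g.hom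
    ((ModuleCat.mono_iff_injective _).mp hS.mono_f)
    ((ModuleCat.epi_iff_surjective _).mp hS.epi_g)
    ((ShortComplex.ShortExact.moduleCat_exact_iff_function_exact _).mp hS.exact) i hArt x hx
  δ_g {S} _ _ i x := lim_δ_g hlin I S.f.hom S.g.hom _ _ _ i x
  f_δ {S} _ _ i x := lim_f_δ hlin I S.f.hom S.g.hom _ _ _ i x

/-- the canonical map `D^i(M) → lim_n D^i(M/I^(n+1)M)` -/
noncomputable def toLim (i : ℕ) (M : Type u) [AddCommGroup M] [Module A M] :
    (baseCohF hlin).obj i M →ₗ[A] Lm hlin i (fil I M) (fil_antitone I M) where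
  toFun x := ⟨fun n => (baseCohF hlin).map i (fil I M n).mkQ x, fun n => by
    rw [← CohF.map_comp]
    exact CohF_map_congr _ _ (by ext x; rfl) _⟩
  map_add' x y := by
    apply Subtype.ext
    funext n
    exact map_add _ _ _
  map_smul' a x := by
    apply Subtype.ext
    funext n
    exact map_smul _ _ _

theorem toLim_val (i : ℕ) (M : Type u) [AddCommGroup M] [Module A M]
    (x : (baseCohF hlin).obj i M) (n : ℕ) :
    (toLim hlin I i M x).1 n = (baseCohF hlin).map i (fil I M n).mkQ x := rfl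

theorem toLim_natural (i : ℕ) (f : M₁ →ₗ[A] M₂) (x : (baseCohF hlin).obj i M₁) :
    toLim hlin I i M₂ ((baseCohF hlin).map i f x) =
      Lmap hlin i (fil_antitone I M₁) (fil_antitone I M₂) f (cts_fil I f)
        (toLim hlin I i M₁ x) := by
  apply Subtype.ext
  funext n
  refine Eq.trans ?_ (Lmap_val hlin i (fil_antitone I M₁) (fil_antitone I M₂) f (cts_fil I f) _
    (m := n) (n := n) (map_mem_fil I f n)).symm
  rw [toLim_val, toLim_val, ← CohF.map_comp, ← CohF.map_comp]
  exact CohF_map_congr _ _ (by ext x; rfl) _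

theorem toLim_conn [IsNoetherianRing A] [Module.Finite A M₂] (f : M₁ →ₗ[A] M₂)
    (g : M₂ →ₗ[A] M₃) (hf : Function.Injective f) (hg : Function.Surjective g)
    (hfg : Function.Exact f g) (i : ℕ) (x : (baseCohF hlin).obj i M₃) :
    toLim hlin I (i + 1) M₁ ((baseCohF hlin).conn f g hf hg hfg i x) =
      kδ hlin I f g hf hg hfg i (toLim hlin I i M₃ x) := by
  apply Subtype.ext
  funext n
  obtain ⟨m, hm⟩ := cts_sfil_id I f hf n
  rw [kδ, LinearMap.comp_apply]
  refine Eq.trans ?_ (Lmap_val hlin (i + 1) (sfil_antitone I f) (fil_antitone I M₁) LinearMap.id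
    (cts_sfil_id I f hf) _ (m := m) (n := n) hm).symm
  have h1 : (connL hlin I f g hg hfg i (toLim hlin I i M₃ x)).1 m =
      (baseCohF hlin).map (i + 1) (sfil I f m).mkQ
        ((baseCohF hlin).conn f g hf hg hfg i x) := by
    rw [base_conn_naturality hlin i f g hf hg hfg (qf I f m) (qg I g m) (qf_injective I f m)
      (qg_surjective I g hg m) (qfg_exact I f g hg hfg m) (sfil I f m).mkQ (fil I M₂ m).mkQ
      (fil I M₃ m).mkQ (by ext x; rfl) (by ext x; rfl)]
    rfl
  rw [h1, toLim_val, ← CohF.map_comp]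
  exact CohF_map_congr _ _ (by ext x; rfl) _

/-- the canonical morphism of cohomological functors -/
noncomputable def limHom [IsNoetherianRing A] (hArt : ArtHyp D I) :
    CohHom (baseCohF hlin) (limCohF hlin I hArt) where
  θ i :=
    { app := fun M => ModuleCat.ofHom (toLim hlin I i M)
      naturality := by
        intro M N f
        apply ModuleCat.hom_ext
        apply LinearMap.ext
        intro x
        exact toLim_natural hlin I i f.hom x }
  comm {S} hS _ i x := toLim_conn hlin I S.f.hom S.g.hom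
    ((ModuleCat.mono_iff_injective _).mp hS.mono_f)
    ((ModuleCat.epi_iff_surjective _).mp hS.epi_g)
    ((ShortComplex.ShortExact.moduleCat_exact_iff_function_exact _).mp hS.exact) i x

theorem limHom_app [IsNoetherianRing A] (hArt : ArtHyp D I) (i : ℕ) (M : Type u)
    [AddCommGroup M] [Module A M] (x : (baseCohF hlin).obj i M) :
    (limHom hlin I hArt).app i M x = toLim hlin I i M x := rfl

/-- an element killing the transition maps kills the limit -/
theorem smul_lim_eq_zero (i : ℕ) (M : Type u) [AddCommGroup M] [Module A M] (a : A)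
    (h : ∀ n, ∃ (m : ℕ) (hnm : n ≤ m), ∀ x : (baseCohF hlin).obj i (M ⧸ fil I M m),
      a • (baseCohF hlin).map i (tr (fil I M) (fil_antitone I M) hnm) x = 0)
    (y : Lm hlin i (fil I M) (fil_antitone I M)) : a • y = 0 := by
  apply Subtype.ext
  funext n
  obtain ⟨m, hnm, hm⟩ := h n
  change a • y.1 n = 0
  rw [← Lm_compat hlin i _ (fil_antitone I M) y hnm]
  exact hm _

/-- if `M` is killed by a power of `I` then `toLim` is bijective -/
theorem toLim_bijective_of_torsion (i : ℕ) (M : Type u) [AddCommGroup M] [Module A M] (k : ℕ)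
    (hk : ∀ a ∈ I ^ k, ∀ x : M, a • x = 0) : Function.Bijective (toLim hlin I i M) := by
  have hbot : ∀ n, k ≤ n → fil I M n = ⊥ := by
    intro n hn
    rw [fil, eq_bot_iff, Submodule.smul_le]
    intro a ha x _
    exact hk a (Ideal.pow_le_pow_right (by omega) ha) x
  have hb : Function.Bijective ((baseCohF hlin).map i (fil I M k).mkQ) := by
    have := (baseCohF hlin).bijective_map_equiv i
      (Submodule.quotEquivOfEqBot (fil I M k) (hbot k le_rfl)).symm
    refine (congrArg Function.Bijective ?_).mp this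
    funext x
    exact CohF_map_congr _ _ (by ext x; rfl) _
  constructor
  · rw [injective_iff_map_eq_zero]
    intro x hx
    apply hb.1
    rw [map_zero]
    exact congrArg (fun z => z.1 k) hx
  · intro y
    obtain ⟨x, hx⟩ := hb.2 (y.1 k)
    refine ⟨x, ?_⟩
    apply Subtype.ext
    funext n
    rw [toLim_val]
    rcases le_total n k with h | h
    · rw [← Lm_compat hlin i _ (fil_antitone I M) y h, ← hx, ← CohF.map_comp]
      exact CohF_map_congr _ _ (by ext x; rfl) _
    · have hb' : Function.Injective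
          ((baseCohF hlin).map i (tr (fil I M) (fil_antitone I M) h)) := by
        let e : (M ⧸ fil I M n) ≃ₗ[A] (M ⧸ fil I M k) :=
          Submodule.quotEquivOfEq _ _ (by rw [hbot n h, hbot k le_rfl])
        have := ((baseCohF hlin).bijective_map_equiv i e).1
        refine (congrArg Function.Injective ?_).mp this
        funext x
        exact CohF_map_congr _ _ (by ext x; rfl) _
      apply hb'
      rw [Lm_compat hlin i _ (fil_antitone I M) y h, ← hx, ← CohF.map_comp]
      exact CohF_map_congr _ _ (by ext x; rfl) _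

end LES

end Groth.Agent.FormalA.KLim
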