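import Groth.Prelude.Def_Wider
import Mathlib.RingTheory.Filtration
import Mathlib.Algebra.Category.ModuleCat.EnoughInjectives

/-!
A vanishing consequence of the Mayer-Vietoris sequence for local cohomology, deduced by dimension
shifting from an abstract interface (`Shift`).
-/

set_option autoImplicit false
universe u

namespace Groth.Agent.FormalA.LCMayerAbs

open LocCoh CategoryTheory

variable {R : Type u} [CommRing R]

/-- `m` is killed by a power of `J`. -/
def Tors (J : Ideal R) {M : Type u} [AddCommGroup M] [Module R M] (m : M) : Prop :=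
  ∃ n : ℕ, ∀ a ∈ J ^ n, a • m = 0

/-- Interface: dimension shifting for local cohomology along `0 → M → E → M' → 0`, `E` injective. -/
structure Shift (J : Ideal R) : Prop where
  zero : ∀ (M : Type u) [AddCommGroup M] [Module R M],
    Subsingleton (H J 0 M) → ∀ m : M, Tors J m → m = 0
  one : ∀ (M E M' : Type u) [AddCommGroup M] [Module R M] [AddCommGroup E] [Module R E]
    [AddCommGroup M'] [Module R M'] (f : M →ₗ[R] E) (g : E →ₗ[R] M'), Module.Injective R E →
    Function.Injective f → Function.Surjective g → Function.Exact f g →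
    (Subsingleton (H J 1 M) ↔ ∀ y : M', Tors J y → ∃ x : E, Tors J x ∧ g x = y)
  succ : ∀ (M E M' : Type u) [AddCommGroup M] [Module R M] [AddCommGroup E] [Module R E]
    [AddCommGroup M'] [Module R M'] (f : M →ₗ[R] E) (g : E →ₗ[R] M'), Module.Injective R E →
    Function.Injective f → Function.Surjective g → Function.Exact f g → ∀ n : ℕ,
    (Subsingleton (H J (n + 2) M) ↔ Subsingleton (H J (n + 1) M'))

theorem Tors.mono {I J : Ideal R} (h : I ≤ J) {M : Type u} [AddCommGroup M] [Module R M] {m : M}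
    (hm : Tors J m) : Tors I m := by
  obtain ⟨n, hn⟩ := hm
  exact ⟨n, fun a ha => hn a (Ideal.pow_right_mono h n ha)⟩

theorem Tors.map {J : Ideal R} {M N : Type u} [AddCommGroup M] [Module R M] [AddCommGroup N]
    [Module R N] (f : M →ₗ[R] N) {m : M} (hm : Tors J m) : Tors J (f m) := by
  obtain ⟨n, hn⟩ := hm
  exact ⟨n, fun a ha => by rw [← map_smul, hn a ha, map_zero]⟩

theorem Tors.add {J : Ideal R} {M : Type u} [AddCommGroup M] [Module R M] {m m' : M}
    (hm : Tors J m) (hm' : Tors J m') : Tors J (m + m') := by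
  obtain ⟨n, hn⟩ := hm
  obtain ⟨n', hn'⟩ := hm'
  refine ⟨max n n', fun x hx => ?_⟩
  rw [smul_add, hn x (Ideal.pow_le_pow_right (le_max_left _ _) hx),
    hn' x (Ideal.pow_le_pow_right (le_max_right _ _) hx), add_zero]

theorem Tors.neg {J : Ideal R} {M : Type u} [AddCommGroup M] [Module R M] {m : M}
    (hm : Tors J m) : Tors J (-m) := by
  obtain ⟨n, hn⟩ := hm
  exact ⟨n, fun a ha => by rw [smul_neg, hn a ha, neg_zero]⟩

theorem Tors.sub {J : Ideal R} {M : Type u} [AddCommGroup M] [Module R M] {m m' : M}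
    (hm : Tors J m) (hm' : Tors J m') : Tors J (m - m') := by
  rw [sub_eq_add_neg]; exact hm.add hm'.neg

/-- Being torsion for `b` and `c` is the same as being torsion for `b ⊔ c`. -/
theorem Tors.sup {b c : Ideal R} {M : Type u} [AddCommGroup M] [Module R M] {m : M}
    (hb : Tors b m) (hc : Tors c m) : Tors (b ⊔ c) m := by
  obtain ⟨n, hn⟩ := hb
  obtain ⟨n', hn'⟩ := hc
  refine ⟨n + n', fun x hx => ?_⟩
  have h := Ideal.sup_pow_add_le_pow_sup_pow (I := b) (J := c) (n := n) (m := n') hx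
  obtain ⟨y, hy, z, hz, rfl⟩ := Submodule.mem_sup.1 h
  rw [add_smul, hn y hy, hn' z hz, add_zero]

/-- For an injective module, the `b ⊓ c`-torsion is the sum of the `b`- and the `c`-torsion. -/
theorem exists_add_of_injective [IsNoetherianRing R] (b c : Ideal R) (E : Type u) [AddCommGroup E]
    [Module R E] (hE : Module.Injective R E) (x : E) (hx : Tors (b ⊓ c) x) :
    ∃ y z : E, Tors b y ∧ Tors c z ∧ x = y + z := by
  obtain ⟨n, hn⟩ := hx
  -- Artin–Rees: some `b ^ m ⊓ c ^ m` is contained in `(b ⊓ c) ^ n`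
  obtain ⟨m, hm⟩ : ∃ m : ℕ, b ^ m ⊓ c ^ m ≤ (b ⊓ c) ^ n := by
    obtain ⟨k, hk⟩ := Ideal.exists_pow_inf_eq_pow_smul b (M := R) (c ^ n)
    refine ⟨k + n, ?_⟩
    have h1 := hk (k + n) (by omega)
    have h2 : b ^ (k + n) ⊓ c ^ (k + n) ≤ b ^ (k + n) • ⊤ ⊓ c ^ n := by
      refine inf_le_inf ?_ (Ideal.pow_le_pow_right (by omega))
      simp
    refine h2.trans ?_
    rw [h1, Nat.add_sub_cancel_left]
    have h3 : b ^ n • (b ^ k • (⊤ : Submodule R R) ⊓ c ^ n) ≤ b ^ n * c ^ n := by
      rw [← smul_eq_mul]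
      exact smul_mono_right _ inf_le_right
    refine h3.trans ?_
    rw [← mul_pow]
    exact Ideal.pow_right_mono Ideal.mul_le_inf n
  -- the map `R/(b^m ⊓ c^m) → R/b^m × R/c^m`
  let φ : (R ⧸ (b ^ m ⊓ c ^ m)) →ₗ[R] (R ⧸ b ^ m) × (R ⧸ c ^ m) :=
    (Submodule.factor (inf_le_left : b ^ m ⊓ c ^ m ≤ b ^ m)).prod
      (Submodule.factor (inf_le_right : b ^ m ⊓ c ^ m ≤ c ^ m))
  have hφ : Function.Injective φ := by
    rw [← LinearMap.ker_eq_bot, eq_bot_iff]
    intro q hq
    obtain ⟨r, rfl⟩ := Submodule.Quotient.mk_surjective _ q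
    rw [LinearMap.mem_ker] at hq
    have h1 : (Submodule.Quotient.mk r : R ⧸ b ^ m) = 0 := congrArg Prod.fst hq
    have h2 : (Submodule.Quotient.mk r : R ⧸ c ^ m) = 0 := congrArg Prod.snd hq
    rw [Submodule.Quotient.mk_eq_zero] at h1 h2
    rw [Submodule.mem_bot, Submodule.Quotient.mk_eq_zero]
    exact ⟨h1, h2⟩
  let ψ : (R ⧸ (b ^ m ⊓ c ^ m)) →ₗ[R] E :=
    Submodule.liftQ _ (LinearMap.toSpanSingleton R E x) (by
      intro r hr
      rw [LinearMap.mem_ker, LinearMap.toSpanSingleton_apply]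
      exact hn r (hm hr))
  obtain ⟨h, hh⟩ := hE.out φ hφ ψ
  refine ⟨h (1, 0), h (0, 1), ⟨m, ?_⟩, ⟨m, ?_⟩, ?_⟩
  · intro a ha
    rw [← map_smul, Prod.smul_mk, smul_zero]
    have : a • (1 : R ⧸ b ^ m) = 0 := by
      rw [Algebra.smul_def, mul_one]
      exact Ideal.Quotient.eq_zero_iff_mem.2 ha
    rw [this, Prod.mk_zero_zero, map_zero]
  · intro a ha
    rw [← map_smul, Prod.smul_mk, smul_zero]
    have : a • (1 : R ⧸ c ^ m) = 0 := by
      rw [Algebra.smul_def, mul_one]
      exact Ideal.Quotient.eq_zero_iff_mem.2 ha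
    rw [this, Prod.mk_zero_zero, map_zero]
  · rw [← map_add, Prod.mk_add_mk, add_zero, zero_add]
    have h1 := hh (Submodule.Quotient.mk 1)
    have h2 : ψ (Submodule.Quotient.mk 1) = x := by
      change ψ (Submodule.mkQ _ 1) = x
      rw [Submodule.mkQ_apply, Submodule.liftQ_apply, LinearMap.toSpanSingleton_apply, one_smul]
    rw [h2] at h1
    rw [← h1]
    rfl

/-- Every module embeds into an injective one. -/
theorem exists_embedding (M : Type u) [AddCommGroup M] [Module R M] :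
    ∃ (E : Type u) (_ : AddCommGroup E) (_ : Module R E) (_ : Module.Injective R E) (f : M →ₗ[R] E),
      Function.Injective f := by
  let E := Injective.under (ModuleCat.of R M)
  refine ⟨E, inferInstance, inferInstance, ?_, (Injective.ι (ModuleCat.of R M)).hom, ?_⟩
  · rw [Module.injective_iff_injective_object]
    exact (inferInstance : CategoryTheory.Injective (Injective.under (ModuleCat.of R M)))
  · exact (ModuleCat.mono_iff_injective _).1 inferInstance

/-- The Mayer-Vietoris vanishing, abstract form. -/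
theorem subsingleton_sup [IsNoetherianRing R] (b c : Ideal R) (hb : Shift b) (hc : Shift c)
    (hbc : Shift (b ⊓ c)) (hs : Shift (b ⊔ c)) (n : ℕ) :
    ∀ (M : Type u) [AddCommGroup M] [Module R M], Subsingleton (H b (n + 1) M) →
      Subsingleton (H c (n + 1) M) →
      ((n = 0 ∧ ∀ x : M, Tors (b ⊓ c) x → ∃ y z : M, Tors b y ∧ Tors c z ∧ x = y + z) ∨
        (n ≠ 0 ∧ Subsingleton (H (b ⊓ c) n M))) →
      Subsingleton (H (b ⊔ c) (n + 1) M) := by
  induction n with
  | zero =>
    intro M _ _ h1 h2 h3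
    obtain ⟨-, h3⟩ | h3 := h3
    swap
    · exact absurd rfl h3.1
    obtain ⟨E, _, _, hE, f, hf⟩ := exists_embedding (R := R) M
    have hex : Function.Exact f (LinearMap.range f).mkQ := LinearMap.exact_map_mkQ_range f
    have hg : Function.Surjective (LinearMap.range f).mkQ := Submodule.mkQ_surjective _
    rw [hb.one M E _ f _ hE hf hg hex] at h1
    rw [hc.one M E _ f _ hE hf hg hex] at h2
    rw [hs.one M E _ f _ hE hf hg hex]
    intro y hy
    obtain ⟨x1, hx1, hgx1⟩ := h1 y (hy.mono le_sup_left)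
    obtain ⟨x2, hx2, hgx2⟩ := h2 y (hy.mono le_sup_right)
    obtain ⟨w, hw⟩ := (hex (x1 - x2)).1 (by rw [map_sub, hgx1, hgx2, sub_self])
    have hwt : Tors (b ⊓ c) w := by
      obtain ⟨k, hk⟩ := (hx1.mono (inf_le_left : b ⊓ c ≤ b)).sub (hx2.mono (inf_le_right : b ⊓ c ≤ c))
      refine ⟨k, fun a ha => hf ?_⟩
      rw [map_smul, map_zero, hw]
      exact hk a ha
    obtain ⟨y1, y2, hy1, hy2, hw12⟩ := h3 w hwt
    refine ⟨x1 - f y1, (hx1.sub (hy1.map f)).sup ?_, ?_⟩
    · have : x1 - f y1 = x2 + f y2 := by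
        have h4 : x1 - x2 = f y1 + f y2 := by rw [← hw, hw12, map_add]
        rw [sub_eq_iff_eq_add] at h4
        rw [h4]; abel
      rw [this]
      exact hx2.add (hy2.map f)
    · rw [map_sub, hgx1, hex.apply_apply_eq_zero, sub_zero]
  | succ n ih =>
    intro M _ _ h1 h2 h3
    obtain ⟨h3, -⟩ | ⟨-, h3⟩ := h3
    · omega
    obtain ⟨E, _, _, hE, f, hf⟩ := exists_embedding (R := R) M
    have hex : Function.Exact f (LinearMap.range f).mkQ := LinearMap.exact_map_mkQ_range f
    have hg : Function.Surjective (LinearMap.range f).mkQ := Submodule.mkQ_surjective _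
    rw [hb.succ M E _ f _ hE hf hg hex] at h1
    rw [hc.succ M E _ f _ hE hf hg hex] at h2
    rw [hs.succ M E _ f _ hE hf hg hex]
    refine ih _ h1 h2 ?_
    rcases n with _ | n
    · left
      refine ⟨rfl, fun x hx => ?_⟩
      rw [hbc.one M E _ f _ hE hf hg hex] at h3
      obtain ⟨x', hx', rfl⟩ := h3 x hx
      obtain ⟨y, z, hy, hz, rfl⟩ := exists_add_of_injective b c E hE x' hx'
      exact ⟨_, _, hy.map _, hz.map _, map_add _ _ _⟩
    · right
      refine ⟨by omega, ?_⟩
      rwa [hbc.succ M E _ f _ hE hf hg hex] at h3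

/-- The Mayer-Vietoris vanishing. -/
theorem subsingleton_sup' [IsNoetherianRing R] (b c : Ideal R) (hb : Shift b) (hc : Shift c)
    (hbc : Shift (b ⊓ c)) (hs : Shift (b ⊔ c)) (n : ℕ)
    (M : Type u) [AddCommGroup M] [Module R M] (h1 : Subsingleton (H b (n + 1) M))
    (h2 : Subsingleton (H c (n + 1) M)) (h3 : Subsingleton (H (b ⊓ c) n M)) :
    Subsingleton (H (b ⊔ c) (n + 1) M) := by
  refine subsingleton_sup b c hb hc hbc hs n M h1 h2 ?_
  by_cases hn : n = 0
  · subst hn
    refine Or.inl ⟨rfl, fun x hx => ⟨0, 0, ⟨0, fun a _ => smul_zero a⟩, ⟨0, fun a _ => smul_zero a⟩, ?_⟩⟩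
    rw [hbc.zero M h3 x hx, add_zero]
  · exact Or.inr ⟨hn, h3⟩

end Groth.Agent.FormalA.LCMayerAbs
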