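import Groth.Agent.FormalA.LCMayerAbs
import Groth.Agent.Localalg.LCAbs

/-!
The interface `Shift` from a realisation of local cohomology as derived functors of `Γ_J`.
-/

set_option autoImplicit false
universe u

open CategoryTheory Limits

namespace Groth.Agent.FormalA.LCMayerShift

open LocCoh Groth.Agent.Localalg.LCAbs Groth.Agent.Localalg.Gam Groth.Agent.Localalg.DeltaFun
  Groth.Agent.FormalA.LCMayerAbs

variable {R : Type u} [CommRing R]

theorem tors_iff {J : Ideal R} {M : Type u} [AddCommGroup M] [Module R M] (m : M) :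
    Tors J m ↔ m ∈ gam J M := Iff.rfl

theorem shift_of_LC (J : Ideal R) (T : LC J)
    (hT : ∀ (n : ℕ) (M : ModuleCat.{u} R), Nonempty (T.obj n M ≅ (localCohomology J n).obj M)) :
    Shift J := by
  have hz : ∀ (n : ℕ) (M : Type u) [AddCommGroup M] [Module R M],
      Subsingleton (H J n M) ↔ IsZero (T.obj n (ModuleCat.of R M)) := by
    intro n M _ _
    obtain ⟨e⟩ := hT n (ModuleCat.of R M)
    rw [e.isZero_iff]
    exact (ModuleCat.isZero_iff_subsingleton).symm
  have hses : ∀ (M E M' : Type u) [AddCommGroup M] [Module R M] [AddCommGroup E] [Module R E]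
      [AddCommGroup M'] [Module R M'] (f : M →ₗ[R] E) (g : E →ₗ[R] M'), Function.Injective f →
      Function.Surjective g → ∀ h : Function.Exact f g,
      (ShortComplex.mk (ModuleCat.ofHom f) (ModuleCat.ofHom g)
        (by ext x; exact h.apply_apply_eq_zero x)).ShortExact := by
    intro M E M' _ _ _ _ _ _ f g hf hg h
    have : Mono (ModuleCat.ofHom f) := (ModuleCat.mono_iff_injective _).2 hf
    have : Epi (ModuleCat.ofHom g) := (ModuleCat.epi_iff_surjective _).2 hg
    exact { exact := (ShortComplex.ShortExact.moduleCat_exact_iff_function_exact _).2 h }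
  constructor
  · intro M _ _ h m hm
    rw [hz] at h
    have h1 : IsZero ((gamFunctor J).obj (ModuleCat.of R M)) := (T.zero.app (ModuleCat.of R M)).isZero_iff.1 h
    have h2 : Subsingleton (gam J M) := (ModuleCat.isZero_iff_subsingleton).1 h1
    exact congrArg Subtype.val (Subsingleton.elim (⟨m, hm⟩ : gam J M) 0)
  · intro M E M' _ _ _ _ _ _ f g hE hf hg hfg
    have hS := hses M E M' f g hf hg hfg
    have hEi : Injective (ModuleCat.of R E) := Module.injective_object_of_injective_module R E
    rw [hz]
    constructor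
    · intro h y hy
      have h1 : Epi ((T.D.T 0).map (ModuleCat.ofHom g)) :=
        (T.D.exact₃ hS 0).epi_f (h.eq_of_tgt _ _)
      have h2 : Epi ((gamFunctor J).map (ModuleCat.ofHom g)) := by
        have h3 : (gamFunctor J).map (ModuleCat.ofHom g) =
            T.zero.inv.app _ ≫ (T.D.T 0).map (ModuleCat.ofHom g) ≫ T.zero.hom.app _ := by
          rw [T.zero.hom.naturality, Iso.inv_hom_id_app_assoc]
        rw [h3]
        infer_instance
      obtain ⟨x, hx⟩ := (ModuleCat.epi_iff_surjective _).1 h2 ⟨y, hy⟩
      exact ⟨x.1, x.2, congrArg Subtype.val hx⟩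
    · intro h
      refine T.isZero_one hS (T.eff _ 0) ?_
      rintro ⟨y, hy⟩
      obtain ⟨x, hx, hxy⟩ := h y hy
      exact ⟨⟨x, hx⟩, Subtype.ext hxy⟩
  · intro M E M' _ _ _ _ _ _ f g hE hf hg hfg n
    have hS := hses M E M' f g hf hg hfg
    have hEi : Injective (ModuleCat.of R E) := Module.injective_object_of_injective_module R E
    rw [hz, hz]
    exact (T.shiftIso hS (n + 1) (T.eff _ _) (T.eff _ _)).isZero_iff.symm

end Groth.Agent.FormalA.LCMayerShift
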