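import Mathlib.Algebra.Module.LocalizedModule.Basic
import Mathlib.Algebra.Module.LocalizedModule.Exact
import Mathlib.RingTheory.Localization.Basic

set_option autoImplicit false

/-!
# Localization of a module at varying submonoids

`res h : LocalizedModule S N →ₗ[A] LocalizedModule T N` for `h : S ≤ T`, and
`lmap S φ : LocalizedModule S N →ₗ[A] LocalizedModule S N'` for `φ : N →ₗ[A] N'`.
-/

namespace Groth.Agent.FormalA.LocSub

open LocalizedModule

variable {A : Type*} [CommRing A] {N N' N'' : Type*} [AddCommGroup N] [Module A N]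
  [AddCommGroup N'] [Module A N'] [AddCommGroup N''] [Module A N'']
  {S T U : Submonoid A}

/-- The restriction map between localizations. -/
noncomputable def res (h : S ≤ T) : LocalizedModule S N →ₗ[A] LocalizedModule T N :=
  IsLocalizedModule.liftOfLE S T h (mkLinearMap S N) (mkLinearMap T N)

@[simp]
theorem res_mk (h : S ≤ T) (n : N) (s : S) :
    res h (mk n s : LocalizedModule S N) = (mk n (⟨s.1, h s.2⟩ : T) : LocalizedModule T N) := by
  rw [res, IsLocalizedModule.mk_eq_mk', IsLocalizedModule.mk_eq_mk',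
    IsLocalizedModule.liftOfLE_mk']

theorem res_res (h : S ≤ T) (h' : T ≤ U) (x : LocalizedModule S N) :
    res h' (res h x) = res (h.trans h') x := by
  induction x using LocalizedModule.induction_on with
  | _ m s => simp

theorem res_rfl (x : LocalizedModule S N) : res le_rfl x = x := by
  induction x using LocalizedModule.induction_on with
  | _ m s => simp

/-- Functoriality of localization in the module. -/
noncomputable def lmap (S : Submonoid A) (φ : N →ₗ[A] N') :
    LocalizedModule S N →ₗ[A] LocalizedModule S N' :=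
  IsLocalizedModule.map S (mkLinearMap S N) (mkLinearMap S N') φ

@[simp]
theorem lmap_mk (φ : N →ₗ[A] N') (n : N) (s : S) : lmap S φ (mk n s) = mk (φ n) s :=
  IsLocalizedModule.map_LocalizedModules S φ n s

theorem lmap_comp (φ : N →ₗ[A] N') (ψ : N' →ₗ[A] N'') (x : LocalizedModule S N) :
    lmap S ψ (lmap S φ x) = lmap S (ψ ∘ₗ φ) x := by
  induction x using LocalizedModule.induction_on with
  | _ m s => simp

theorem lmap_id (x : LocalizedModule S N) : lmap S (LinearMap.id) x = x := by
  induction x using LocalizedModule.induction_on with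
  | _ m s => simp

theorem lmap_add (φ ψ : N →ₗ[A] N') (x : LocalizedModule S N) :
    lmap S (φ + ψ) x = lmap S φ x + lmap S ψ x := by
  simp [lmap]

theorem res_lmap (h : S ≤ T) (φ : N →ₗ[A] N') (x : LocalizedModule S N) :
    res h (lmap S φ x) = lmap T φ (res h x) := by
  induction x using LocalizedModule.induction_on with
  | _ m s => simp

theorem lmap_injective (φ : N →ₗ[A] N') (h : Function.Injective φ) :
    Function.Injective (lmap S φ) :=
  IsLocalizedModule.map_injective S _ _ φ h

theorem lmap_surjective (φ : N →ₗ[A] N') (h : Function.Surjective φ) :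
    Function.Surjective (lmap S φ) :=
  IsLocalizedModule.map_surjective S _ _ φ h

theorem lmap_exact (φ : N →ₗ[A] N') (ψ : N' →ₗ[A] N'') (h : Function.Exact φ ψ) :
    Function.Exact (lmap S φ) (lmap S ψ) :=
  IsLocalizedModule.map_exact S (mkLinearMap S N) (mkLinearMap S N') (mkLinearMap S N'') φ ψ h

theorem mk_eq_zero_iff (n : N) (s : S) : mk n s = 0 ↔ ∃ u ∈ S, u • n = 0 := by
  rw [← LocalizedModule.zero_mk s, LocalizedModule.mk_eq]
  constructor
  · rintro ⟨u, hu⟩
    refine ⟨u * s, S.mul_mem u.2 s.2, ?_⟩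
    rw [mul_smul]
    simpa [Submonoid.smul_def] using hu
  · rintro ⟨u, hu, h⟩
    refine ⟨⟨u, hu⟩, ?_⟩
    change u • (s : A) • n = u • (s : A) • (0 : N)
    rw [smul_zero, smul_zero, smul_comm, h, smul_zero]

theorem mkLinearMap_eq_zero_iff (n : N) : mkLinearMap S N n = 0 ↔ ∃ u ∈ S, u • n = 0 :=
  mk_eq_zero_iff n 1

theorem exists_eq_mk (x : LocalizedModule S N) : ∃ (n : N) (s : S), x = mk n s := by
  induction x using LocalizedModule.induction_on with
  | _ m s => exact ⟨m, s, rfl⟩

theorem smul_eq_zero_of_mem {s : A} (hs : s ∈ S) {x : LocalizedModule S N} (h : s • x = 0) : x = 0 :=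
  IsLocalizedModule.smul_injective (mkLinearMap S N) ⟨s, hs⟩ (by
    change s • x = s • (0 : LocalizedModule S N)
    rw [h, smul_zero])

theorem mk_smul_self (n : N) (s : S) : (s : A) • mk n s = mkLinearMap S N n := by
  rw [LocalizedModule.smul'_mk]
  exact LocalizedModule.mk_cancel s n

theorem res_mkLinearMap (h : S ≤ T) (n : N) : res h (mkLinearMap S N n) = mkLinearMap T N n := by
  rw [mkLinearMap_apply, res_mk]
  rfl

theorem lmap_mkLinearMap (φ : N →ₗ[A] N') (n : N) :
    lmap S φ (mkLinearMap S N n) = mkLinearMap S N' (φ n) := by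
  rw [mkLinearMap_apply, lmap_mk]
  rfl

theorem res_bijective_sup (S T : Submonoid A) (hS : ∀ s ∈ S, Function.Bijective fun n : N => s • n) :
    Function.Bijective (res (le_sup_right : T ≤ S ⊔ T) : LocalizedModule T N →ₗ[A] _) := by
  constructor
  · rw [injective_iff_map_eq_zero]
    intro x hx
    obtain ⟨n, t, rfl⟩ := exists_eq_mk x
    rw [res_mk, mk_eq_zero_iff] at hx
    obtain ⟨u, hu, h⟩ := hx
    obtain ⟨s, hs, t', ht', rfl⟩ := Submonoid.mem_sup.1 hu
    rw [mk_eq_zero_iff]
    refine ⟨t', ht', (hS s hs).1 ?_⟩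
    simpa [mul_smul] using h
  · intro x
    obtain ⟨n, ⟨u, hu⟩, rfl⟩ := exists_eq_mk x
    obtain ⟨s, hs, t', ht', rfl⟩ := Submonoid.mem_sup.1 hu
    obtain ⟨n', rfl⟩ := (hS s hs).2 n
    refine ⟨mk n' ⟨t', ht'⟩, ?_⟩
    rw [res_mk, LocalizedModule.mk_eq]
    refine ⟨1, ?_⟩
    simp only [one_smul, Submonoid.smul_def]
    rw [mul_comm, mul_smul]

end Groth.Agent.FormalA.LocSub
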