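import Groth.Agent.FormalA.SecMod
import Mathlib.RingTheory.Filtration
import Mathlib.RingTheory.Finiteness.Basic
import Mathlib.RingTheory.AdicCompletion.Basic

/-!
# Compatible families of sections of `M/I^(n+1)M` over the complement of `V(𝔞)`
-/

set_option autoImplicit false
universe u

namespace Groth.Agent.FormalA.NFam

open LocalizedModule Groth.Agent.FormalA.LocSub Groth.Agent.FormalA.SecMod

variable {A : Type u} [CommRing A] (I 𝔞 : Ideal A)

section Q

variable (M N P : Type u) [AddCommGroup M] [Module A M] [AddCommGroup N] [Module A N]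
  [AddCommGroup P] [Module A P]

/-- `M / I^(n+1) M`. -/
def Q (n : ℕ) : Type u := M ⧸ (I ^ (n + 1) • (⊤ : Submodule A M))

instance (n : ℕ) : AddCommGroup (Q I M n) :=
  inferInstanceAs (AddCommGroup (M ⧸ (I ^ (n + 1) • (⊤ : Submodule A M))))

instance (n : ℕ) : Module A (Q I M n) :=
  inferInstanceAs (Module A (M ⧸ (I ^ (n + 1) • (⊤ : Submodule A M))))

/-- the projection -/
def pr (n : ℕ) : M →ₗ[A] Q I M n := (I ^ (n + 1) • (⊤ : Submodule A M)).mkQ

variable {M N P}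

theorem pr_surjective (n : ℕ) : Function.Surjective (pr I M n) := Submodule.mkQ_surjective _

theorem pr_eq_zero_iff {n : ℕ} {x : M} :
    pr I M n x = 0 ↔ x ∈ I ^ (n + 1) • (⊤ : Submodule A M) :=
  Submodule.Quotient.mk_eq_zero _

/-- maps out of `Q` -/
def lift {n : ℕ} (φ : M →ₗ[A] N) (h : ∀ x ∈ I ^ (n + 1) • (⊤ : Submodule A M), φ x = 0) :
    Q I M n →ₗ[A] N :=
  Submodule.liftQ _ φ h

theorem lift_pr {n : ℕ} (φ : M →ₗ[A] N) (h : ∀ x ∈ I ^ (n + 1) • (⊤ : Submodule A M), φ x = 0)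
    (x : M) : lift I φ h (pr I M n x) = φ x := rfl

theorem hom_ext {n : ℕ} {φ ψ : Q I M n →ₗ[A] N} (h : ∀ x, φ (pr I M n x) = ψ (pr I M n x)) :
    φ = ψ := by
  refine LinearMap.ext fun x => ?_
  obtain ⟨x, rfl⟩ := pr_surjective I n x
  exact h x

theorem pow_smul_le {m n : ℕ} (h : n ≤ m) :
    I ^ (m + 1) • (⊤ : Submodule A M) ≤ I ^ (n + 1) • (⊤ : Submodule A M) :=
  Submodule.smul_mono_left (Ideal.pow_le_pow_right (Nat.succ_le_succ h))

variable (M) in
/-- the transition maps -/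
def tr {m n : ℕ} (h : n ≤ m) : Q I M m →ₗ[A] Q I M n :=
  lift I (pr I M n) fun _ hx => (pr_eq_zero_iff I).2 (pow_smul_le I h hx)

@[simp]
theorem tr_pr {m n : ℕ} (h : n ≤ m) (x : M) : tr I M h (pr I M m x) = pr I M n x := lift_pr I _ _ _

theorem tr_tr {k m n : ℕ} (h : n ≤ m) (h' : m ≤ k) : tr I M h ∘ₗ tr I M h' = tr I M (h.trans h') :=
  hom_ext I fun x => by rw [LinearMap.comp_apply, tr_pr, tr_pr, tr_pr]

theorem tr_self (n : ℕ) : tr I M (le_refl n) = LinearMap.id :=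
  hom_ext I fun x => by rw [tr_pr, LinearMap.id_apply]

/-- functoriality of `M/I^(n+1)M` -/
def qmap (φ : M →ₗ[A] N) (n : ℕ) : Q I M n →ₗ[A] Q I N n :=
  lift I (pr I N n ∘ₗ φ) (by
    intro x hx
    refine (pr_eq_zero_iff I).2 ?_
    have h1 : φ x ∈ Submodule.map φ (I ^ (n + 1) • (⊤ : Submodule A M)) := ⟨x, hx, rfl⟩
    rw [Submodule.map_smul''] at h1
    exact (smul_mono_right _ le_top : _ ≤ I ^ (n + 1) • (⊤ : Submodule A N)) h1)

@[simp]
theorem qmap_pr (φ : M →ₗ[A] N) (n : ℕ) (x : M) : qmap I φ n (pr I M n x) = pr I N n (φ x) :=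
  lift_pr I _ _ _

theorem tr_qmap (φ : M →ₗ[A] N) {m n : ℕ} (h : n ≤ m) :
    tr I N h ∘ₗ qmap I φ m = qmap I φ n ∘ₗ tr I M h :=
  hom_ext I fun x => by
    rw [LinearMap.comp_apply, LinearMap.comp_apply, qmap_pr, tr_pr, tr_pr, qmap_pr]

theorem qmap_comp (φ : M →ₗ[A] N) (ψ : N →ₗ[A] P) (n : ℕ) :
    qmap I ψ n ∘ₗ qmap I φ n = qmap I (ψ ∘ₗ φ) n :=
  hom_ext I fun x => by
    rw [LinearMap.comp_apply, qmap_pr, qmap_pr, qmap_pr, LinearMap.comp_apply]

end Q

section Sys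

variable {G : ℕ → Type u} [∀ n, AddCommGroup (G n)] [∀ n, Module A (G n)]
  (τ : ∀ n, G (n + 1) →ₗ[A] G n) (V : Set (PrimeSpectrum A))

/-- The limit of sections of an inverse system. -/
def lim : Submodule A (∀ n : ℕ, sec (G n) V) where
  carrier := {y | ∀ n, map V (τ n) (y (n + 1)) = y n}
  add_mem' := by
    intro x y hx hy n
    rw [Pi.add_apply, map_add, hx n, hy n]
    rfl
  zero_mem' := by
    intro n
    rw [Pi.zero_apply, map_zero]
    rfl
  smul_mem' := by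
    intro c x hx n
    rw [Pi.smul_apply, map_smul, hx n]
    rfl

end Sys

variable (M N P : Type u) [AddCommGroup M] [Module A M] [AddCommGroup N] [Module A N]
  [AddCommGroup P] [Module A P]

/-- Compatible families of sections over `D 𝔞`. -/
def F : Type u := lim (A := A) (G := Q I M) (fun n => tr I M (Nat.le_succ n)) (D 𝔞)

instance : AddCommGroup (F I 𝔞 M) :=
  inferInstanceAs (AddCommGroup (lim (A := A) (G := Q I M) (fun n => tr I M (Nat.le_succ n)) (D 𝔞)))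

instance : Module A (F I 𝔞 M) :=
  inferInstanceAs (Module A (lim (A := A) (G := Q I M) (fun n => tr I M (Nat.le_succ n)) (D 𝔞)))

variable {M N P}
variable {I 𝔞}

/-- the components of a family -/
def F.at (y : F I 𝔞 M) (n : ℕ) : sec (Q I M n) (D 𝔞) := y.1 n

theorem F.compat' (y : F I 𝔞 M) (n : ℕ) :
    map (D 𝔞) (tr I M (Nat.le_succ n)) (y.at (n + 1)) = y.at n := y.2 n

theorem F.compat (y : F I 𝔞 M) {m n : ℕ} (h : n ≤ m) : map (D 𝔞) (tr I M h) (y.at m) = y.at n := by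
  induction m, h using Nat.le_induction with
  | base => rw [tr_self, SecMod.map_id]
  | succ m h ih => rw [← ih, ← y.compat' m, map_map, tr_tr]

theorem F.ext {x y : F I 𝔞 M} (h : ∀ n, x.at n = y.at n) : x = y := Subtype.ext (funext h)

/-- constructor -/
def F.mk (y : ∀ n, sec (Q I M n) (D 𝔞))
    (hy : ∀ n, map (D 𝔞) (tr I M (Nat.le_succ n)) (y (n + 1)) = y n) : F I 𝔞 M := ⟨y, hy⟩

@[simp]
theorem F.at_mk (y : ∀ n, sec (Q I M n) (D 𝔞))
    (hy : ∀ n, map (D 𝔞) (tr I M (Nat.le_succ n)) (y (n + 1)) = y n) (n : ℕ) :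
    (F.mk y hy).at n = y n := rfl

@[simp]
theorem F.at_add (x y : F I 𝔞 M) (n : ℕ) : (x + y).at n = x.at n + y.at n := rfl

@[simp]
theorem F.at_sub (x y : F I 𝔞 M) (n : ℕ) : (x - y).at n = x.at n - y.at n := rfl

@[simp]
theorem F.at_zero (n : ℕ) : (0 : F I 𝔞 M).at n = 0 := rfl

@[simp]
theorem F.at_smul (c : A) (y : F I 𝔞 M) (n : ℕ) : (c • y).at n = c • y.at n := rfl

variable (I 𝔞)

variable (M) in
/-- The canonical map. -/
noncomputable def ιF : M →ₗ[A] F I 𝔞 M where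
  toFun m := F.mk (fun n => ι _ _ (pr I M n m)) fun n => by
    rw [map_ι, tr_pr]
  map_add' x y := F.ext fun n => by rw [F.at_mk, F.at_add, F.at_mk, F.at_mk, map_add, map_add]
  map_smul' c x := F.ext fun n => by
    rw [F.at_mk, RingHom.id_apply, F.at_smul, F.at_mk, map_smul, map_smul]

@[simp]
theorem ιF_at (m : M) (n : ℕ) : (ιF I 𝔞 M m).at n = ι _ _ (pr I M n m) := rfl

/-- Functoriality. -/
noncomputable def Fmap (φ : M →ₗ[A] N) : F I 𝔞 M →ₗ[A] F I 𝔞 N where
  toFun y := F.mk (fun n => map _ (qmap I φ n) (y.at n)) fun n => by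
    rw [map_map, tr_qmap, ← map_map, y.compat' n]
  map_add' x y := F.ext fun n => by
    rw [F.at_mk, F.at_add, F.at_add, F.at_mk, F.at_mk, map_add]
  map_smul' c x := F.ext fun n => by
    rw [F.at_mk, RingHom.id_apply, F.at_smul, F.at_smul, F.at_mk, map_smul]

@[simp]
theorem Fmap_at (φ : M →ₗ[A] N) (y : F I 𝔞 M) (n : ℕ) :
    (Fmap I 𝔞 φ y).at n = map _ (qmap I φ n) (y.at n) := rfl

theorem Fmap_ιF (φ : M →ₗ[A] N) (m : M) : Fmap I 𝔞 φ (ιF I 𝔞 M m) = ιF I 𝔞 N (φ m) :=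
  F.ext fun n => by rw [Fmap_at, ιF_at, map_ι, qmap_pr, ιF_at]

theorem Fmap_comp (φ : M →ₗ[A] N) (ψ : N →ₗ[A] P) (y : F I 𝔞 M) :
    Fmap I 𝔞 ψ (Fmap I 𝔞 φ y) = Fmap I 𝔞 (ψ ∘ₗ φ) y :=
  F.ext fun n => by rw [Fmap_at, Fmap_at, map_map, qmap_comp, Fmap_at]

theorem Fmap_id (y : F I 𝔞 M) : Fmap I 𝔞 LinearMap.id y = y :=
  F.ext fun n => by
    have : qmap I (LinearMap.id : M →ₗ[A] M) n = LinearMap.id :=
      hom_ext I fun x => by rw [qmap_pr, LinearMap.id_apply, LinearMap.id_apply]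
    rw [Fmap_at, this, SecMod.map_id]

theorem Fmap_smul (c : A) (y : F I 𝔞 M) : Fmap I 𝔞 (c • (LinearMap.id : M →ₗ[A] M)) y = c • y :=
  F.ext fun n => by
    have : qmap I (c • (LinearMap.id : M →ₗ[A] M)) n = c • LinearMap.id :=
      hom_ext I fun x => by
        rw [qmap_pr, LinearMap.smul_apply, LinearMap.id_apply, LinearMap.smul_apply,
          LinearMap.id_apply, map_smul]
    rw [Fmap_at, this, map_smul_id, F.at_smul]

theorem qmap_zero (n : ℕ) : qmap I (0 : M →ₗ[A] N) n = 0 :=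
  hom_ext I fun x => by rw [qmap_pr, LinearMap.zero_apply, LinearMap.zero_apply, map_zero]

theorem sec_map_zero {V : Set (PrimeSpectrum A)} (x : sec M V) : map V (0 : M →ₗ[A] N) x = 0 := by
  refine ext_sec fun p => ?_
  rw [map_apply]
  obtain ⟨m, s, hm⟩ := exists_eq_mk (x.1 p)
  rw [hm, lmap_mk, LinearMap.zero_apply, LocalizedModule.zero_mk]
  rfl

theorem Fmap_zero (y : F I 𝔞 M) : Fmap I 𝔞 (0 : M →ₗ[A] N) y = 0 :=
  F.ext fun n => by rw [Fmap_at, qmap_zero, sec_map_zero, F.at_zero]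

section ArtinRees

variable [IsNoetherianRing A] [Module.Finite A N]

/-- Artin-Rees for an injective map. -/
theorem exists_artin_rees (φ : M →ₗ[A] N) (h : Function.Injective φ) :
    ∃ c : ℕ, ∀ (n : ℕ) (x : M), φ x ∈ I ^ (n + c + 1) • (⊤ : Submodule A N) →
      x ∈ I ^ (n + 1) • (⊤ : Submodule A M) := by
  obtain ⟨c, hc⟩ := Ideal.exists_pow_inf_eq_pow_smul I (LinearMap.range φ)
  refine ⟨c, fun n x hx => ?_⟩
  have h1 : φ x ∈ I ^ (n + c + 1) • (⊤ : Submodule A N) ⊓ LinearMap.range φ := ⟨hx, x, rfl⟩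
  rw [hc (n + c + 1) (by omega)] at h1
  have h2 : φ x ∈ I ^ (n + 1) • (LinearMap.range φ) := by
    have h3 : n + c + 1 - c = n + 1 := by omega
    rw [h3] at h1
    exact (smul_mono_right _ inf_le_right : _ ≤ I ^ (n + 1) • (LinearMap.range φ)) h1
  rw [LinearMap.range_eq_map, ← Submodule.map_smul''] at h2
  obtain ⟨x', hx', hxx⟩ := h2
  rwa [← h hxx]

/-- The induced map backwards: `ker (M → N/I^(n+c+1)N)`-quotient to `M/I^(n+1)M`. -/
theorem exists_back (φ : M →ₗ[A] N) (h : Function.Injective φ) :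
    ∃ c : ℕ, ∀ n : ℕ, ∃ β : LinearMap.range (qmap I φ (n + c)) →ₗ[A] Q I M n,
      ∀ x : Q I M (n + c), β ⟨qmap I φ (n + c) x, x, rfl⟩ = tr I M (Nat.le_add_right n c) x := by
  obtain ⟨c, hc⟩ := exists_artin_rees I φ h
  refine ⟨c, fun n => ?_⟩
  let e := (qmap I φ (n + c)).quotKerEquivRange
  have hker : LinearMap.ker (qmap I φ (n + c)) ≤ LinearMap.ker (tr I M (Nat.le_add_right n c)) := by
    intro x hx
    obtain ⟨x, rfl⟩ := pr_surjective I _ x
    rw [LinearMap.mem_ker, qmap_pr, pr_eq_zero_iff] at hx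
    rw [LinearMap.mem_ker, tr_pr, pr_eq_zero_iff]
    exact hc n x hx
  refine ⟨(Submodule.liftQ _ (tr I M (Nat.le_add_right n c)) hker) ∘ₗ e.symm.toLinearMap, ?_⟩
  intro x
  have h2 : e (Submodule.Quotient.mk x) = ⟨qmap I φ (n + c) x, x, rfl⟩ :=
    Subtype.ext (LinearMap.quotKerEquivRange_apply_mk _ _)
  rw [← h2, LinearMap.comp_apply, LinearEquiv.coe_coe, LinearEquiv.symm_apply_apply]
  exact Submodule.liftQ_apply _ _ _

theorem Fmap_injective (φ : M →ₗ[A] N) (h : Function.Injective φ) :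
    Function.Injective (Fmap I 𝔞 φ) := by
  rw [injective_iff_map_eq_zero]
  intro y hy
  obtain ⟨c, hc⟩ := exists_back I φ h
  refine F.ext fun n => ?_
  obtain ⟨β, hβ⟩ := hc n
  have h1 : map (D 𝔞) (qmap I φ (n + c)) (y.at (n + c)) = 0 := by
    rw [← Fmap_at, hy, F.at_zero]
  have h2 : map (D 𝔞) (LinearMap.range (qmap I φ (n + c))).subtype
      (map (D 𝔞) (qmap I φ (n + c)).rangeRestrict (y.at (n + c))) = 0 := by
    rw [map_map, LinearMap.subtype_comp_codRestrict]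
    exact h1
  have h3 : map (D 𝔞) (qmap I φ (n + c)).rangeRestrict (y.at (n + c)) = 0 :=
    map_injective (LinearMap.range (qmap I φ (n + c))).subtype (Submodule.subtype_injective _)
      (by rw [h2, _root_.map_zero])
  have h4 : β ∘ₗ (qmap I φ (n + c)).rangeRestrict = tr I M (Nat.le_add_right n c) :=
    LinearMap.ext hβ
  have h5 := congrArg (map (D 𝔞) β) h3
  rw [map_map, h4, y.compat, _root_.map_zero] at h5
  exact h5

/-- exactness of `range (qmap φ) → Q N → Q P` -/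
theorem range_exact (φ : M →ₗ[A] N) (ψ : N →ₗ[A] P)
    (h' : Function.Exact φ ψ) (h'' : Function.Surjective ψ) (n : ℕ) :
    Function.Exact (LinearMap.range (qmap I φ n)).subtype (qmap I ψ n) := by
  intro z
  constructor
  · intro hz
    obtain ⟨z, rfl⟩ := pr_surjective I _ z
    rw [qmap_pr, pr_eq_zero_iff] at hz
    have h2 : (⊤ : Submodule A P) = Submodule.map ψ ⊤ := by
      rw [← LinearMap.range_eq_map, LinearMap.range_eq_top.2 h'']
    rw [h2, ← Submodule.map_smul''] at hz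
    obtain ⟨w, hw, hwz⟩ := hz
    have h3 : ψ (z - w) = 0 := by rw [_root_.map_sub, hwz, sub_self]
    obtain ⟨x, hx⟩ := (h' _).1 h3
    refine ⟨⟨qmap I φ n (pr I M n x), ⟨_, rfl⟩⟩, ?_⟩
    refine (qmap_pr I φ n x).trans ?_
    rw [hx, _root_.map_sub, sub_eq_self, pr_eq_zero_iff]
    exact hw
  · rintro ⟨⟨_, x, rfl⟩, rfl⟩
    rw [Submodule.subtype_apply, ← LinearMap.comp_apply, qmap_comp, h'.linearMap_comp_eq_zero,
      qmap_zero, LinearMap.zero_apply]

theorem exists_trRange (φ : M →ₗ[A] N) {m n : ℕ} (hmn : n ≤ m) :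
    ∃ τ : LinearMap.range (qmap I φ m) →ₗ[A] LinearMap.range (qmap I φ n),
      ∀ x, τ ⟨qmap I φ m x, x, rfl⟩ = ⟨qmap I φ n (tr I M hmn x), _, rfl⟩ := by
  refine ⟨((tr I N hmn) ∘ₗ (LinearMap.range (qmap I φ m)).subtype).codRestrict _ ?_, ?_⟩
  · rintro ⟨_, x, rfl⟩
    refine ⟨tr I M hmn x, ?_⟩
    exact (LinearMap.congr_fun (tr_qmap I φ hmn) x).symm
  · intro x
    refine Subtype.ext ?_
    exact LinearMap.congr_fun (tr_qmap I φ hmn) x

theorem Fmap_exact (φ : M →ₗ[A] N) (ψ : N →ₗ[A] P) (h : Function.Injective φ)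
    (h' : Function.Exact φ ψ) (h'' : Function.Surjective ψ) (y : F I 𝔞 N)
    (hy : Fmap I 𝔞 ψ y = 0) : ∃ x, Fmap I 𝔞 φ x = y := by
  obtain ⟨c, hc⟩ := exists_back I φ h
  choose β hβ using hc
  have h1 : ∀ n, ∃ z : sec (LinearMap.range (qmap I φ n)) (D 𝔞),
      map (D 𝔞) (LinearMap.range (qmap I φ n)).subtype z = y.at n := fun n =>
    map_exact _ _ (Submodule.subtype_injective _) (range_exact I φ ψ h' h'' n) (y.at n)
      (by rw [← Fmap_at, hy, F.at_zero])
  choose z hz using h1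
  have hle : ∀ n, n + c ≤ n + 1 + c := fun n => by omega
  refine ⟨F.mk (fun n => map (D 𝔞) (β n) (z (n + c))) ?_, ?_⟩
  · intro n
    obtain ⟨τ, hτ⟩ := exists_trRange I φ (hle n)
    have hτ' : (LinearMap.range (qmap I φ (n + c))).subtype ∘ₗ τ = tr I N (hle n) ∘ₗ
        (LinearMap.range (qmap I φ (n + 1 + c))).subtype := by
      refine LinearMap.ext ?_
      rintro ⟨_, x, rfl⟩
      rw [LinearMap.comp_apply, hτ]
      exact (LinearMap.congr_fun (tr_qmap I φ (hle n)) x).symm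
    have h2 : map (D 𝔞) τ (z (n + 1 + c)) = z (n + c) := by
      refine map_injective (LinearMap.range (qmap I φ (n + c))).subtype
        (Submodule.subtype_injective _) ?_
      rw [map_map, hτ', ← map_map, hz, hz, y.compat]
    have h3 : tr I M (Nat.le_succ n) ∘ₗ β (n + 1) = β n ∘ₗ τ := by
      refine LinearMap.ext ?_
      rintro ⟨_, x, rfl⟩
      rw [LinearMap.comp_apply, LinearMap.comp_apply, hτ, hβ, hβ, ← LinearMap.comp_apply,
        ← LinearMap.comp_apply, tr_tr, tr_tr]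
    rw [map_map, h3, ← map_map, h2]
  · refine F.ext fun n => ?_
    have h5 : qmap I φ n ∘ₗ β n = tr I N (Nat.le_add_right n c) ∘ₗ
        (LinearMap.range (qmap I φ (n + c))).subtype := by
      refine LinearMap.ext ?_
      rintro ⟨_, x, rfl⟩
      rw [LinearMap.comp_apply, LinearMap.comp_apply, hβ]
      exact (LinearMap.congr_fun (tr_qmap I φ (Nat.le_add_right n c)) x).symm
    rw [Fmap_at, F.at_mk, map_map, h5, ← map_map, hz, y.compat]

end ArtinRees

end Groth.Agent.FormalA.NFam
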