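import Groth.Agent.FormalA.NFam
import Groth.Agent.FormalA.CechLC
import Groth.Agent.FormalA.AdicFin
import Groth.Agent.Localalg.LCInst
import Groth.Prelude.Def_Wider
import Mathlib.RingTheory.AdicCompletion.Functoriality

/-!
# Finiteness of sections over `D J` and of the module of compatible families

* `exists_theta`: `coker (N → Γ(D J, N~))` embeds in `H^1_J(N)`;
* `finite_sec`: `Γ(D J, N~)` is finite when `N` and `H^1_J(N)` are;
* `finite_F`: for `I = (f)`, `A` `f`-adically complete, `f` regular on `M` and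
  `H^1_𝔞(M/fM)` finite, the module `F I 𝔞 M` of compatible families is finite.
-/

set_option autoImplicit false
universe u

open CategoryTheory
open Groth.Agent.Localalg.DeltaFun Groth.Agent.Localalg.Gam Groth.Agent.Localalg.LCAbs

namespace Groth.Agent.FormalA.NFin

open LocalizedModule Groth.Agent.FormalA.LocSub Groth.Agent.FormalA.SecMod
  Groth.Agent.FormalA.CechSub Groth.Agent.FormalA.CechLC

variable {A : Type u} [CommRing A]

section Basic

variable (N : Type u) [AddCommGroup N] [Module A N] (g : A)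

/-- The basic open set. -/
abbrev DD (g : A) : Set (PrimeSpectrum A) := D (Ideal.span {g})

theorem mem_DD {g : A} {p : PrimeSpectrum A} : p ∈ DD g ↔ g ∉ p.asIdeal := by
  rw [mem_D, Ideal.span_singleton_le_iff_mem]

theorem smul_bijective : Function.Bijective fun x : sec N (DD g) => g • x := by
  constructor
  · intro x y hxy
    rw [← sub_eq_zero]
    have h1 : g • (x - y) = 0 := by
      rw [smul_sub, sub_eq_zero]; exact hxy
    refine ext_sec fun p => ?_
    exact smul_eq_zero_of_mem (S := p.1.asIdeal.primeCompl) (mem_DD.1 p.2)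
      (congrFun (congrArg Subtype.val h1) p)
  · intro y
    have h1 : ∀ p : DD g, ∃ x : LocalizedModule p.1.asIdeal.primeCompl N, g • x = y.1 p := by
      intro p
      obtain ⟨n, s, hns⟩ := exists_eq_mk (y.1 p)
      refine ⟨mk n (s * ⟨g, mem_DD.1 p.2⟩), ?_⟩
      rw [hns, LocalizedModule.smul'_mk, LocalizedModule.mk_eq]
      exact ⟨1, by
        rw [one_smul, one_smul, Submonoid.smul_def, Submonoid.smul_def, Submonoid.coe_mul,
          smul_smul]⟩
    choose x hx using h1
    refine ⟨⟨x, fun p => ?_⟩, ext_sec hx⟩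
    obtain ⟨a, b, hb, hab⟩ := y.2 p
    refine ⟨a, b * g, fun hh => (p.1.isPrime.mem_or_mem hh).elim hb (mem_DD.1 p.2), ?_⟩
    intro q hq
    rw [mul_smul, hx q]
    exact hab q fun hh => hq (Ideal.mul_mem_right _ _ hh)

instance isLocalizedModule [IsNoetherianRing A] :
    IsLocalizedModule (Submonoid.powers g) (ι N (DD g)) where
  map_units := by
    rintro ⟨_, k, rfl⟩
    have h : IsUnit (algebraMap A (Module.End A (sec N (DD g))) g) := by
      rw [Module.End.isUnit_iff]
      exact smul_bijective N g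
    simpa using h.pow k
  surj := by
    intro y
    obtain ⟨k, hk⟩ := exists_pow_smul (J := Ideal.span {g}) y
    obtain ⟨m, hm⟩ := hk (g ^ k) (Ideal.pow_mem_pow (Ideal.mem_span_singleton_self g) k)
    exact ⟨(m, ⟨g ^ k, k, rfl⟩), hm⟩
  exists_of_eq := by
    intro x y hxy
    have h1 : ι N (DD g) (x - y) = 0 := by rw [map_sub, sub_eq_zero]; exact hxy
    obtain ⟨k, hk⟩ := (ι_eq_zero_iff (J := Ideal.span {g}) _).1 h1
    refine ⟨⟨g ^ k, k, rfl⟩, ?_⟩
    have := hk (g ^ k) (Ideal.pow_mem_pow (Ideal.mem_span_singleton_self g) k)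
    rw [smul_sub, sub_eq_zero] at this
    exact this

end Basic

section Theta

variable [IsNoetherianRing A] (N : Type u) [AddCommGroup N] [Module A N] {n : ℕ} (g : Fin n → A)

omit [IsNoetherianRing A] in
theorem DD_subset (i : Fin n) : DD (g i) ⊆ D (Ideal.span (Set.range g)) := by
  intro p hp hle
  exact mem_DD.1 hp (hle (Ideal.subset_span ⟨i, rfl⟩))

/-- A section, as a Čech zero-cochain. -/
noncomputable def toC0 : sec N (D (Ideal.span (Set.range g))) →ₗ[A] C0 (PS g) N :=
  LinearMap.pi fun i =>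
    (IsLocalizedModule.iso (Submonoid.powers (g i)) (ι N (DD (g i)))).symm.toLinearMap ∘ₗ
      res (DD_subset g i)

theorem iso_toC0 (s : sec N (D (Ideal.span (Set.range g)))) (i : Fin n) :
    IsLocalizedModule.iso (Submonoid.powers (g i)) (ι N (DD (g i))) (toC0 N g s i) =
      res (DD_subset g i) s :=
  LinearEquiv.apply_symm_apply _ _

theorem iso_mkLinearMap (g : A) (m : N) :
    IsLocalizedModule.iso (Submonoid.powers g) (ι N (DD g)) (mkLinearMap _ _ m) =
      ι N (DD g) m :=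
  IsLocalizedModule.iso_mk_one _ _ _

theorem iso_mk (g : A) (m : N) (s : Submonoid.powers g) :
    (s : A) • IsLocalizedModule.iso (Submonoid.powers g) (ι N (DD g)) (mk m s) = ι N (DD g) m := by
  rw [← map_smul, mk_smul_self, iso_mkLinearMap]

theorem d0_toC0 (s : sec N (D (Ideal.span (Set.range g)))) : d0 (PS g) (toC0 N g s) = 0 := by
  funext i j
  rw [d0_apply]
  obtain ⟨a, u, hau⟩ := exists_eq_mk (toC0 N g s i)
  obtain ⟨b, v, hbv⟩ := exists_eq_mk (toC0 N g s j)
  have h1 := iso_mk N (g i) a u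
  rw [← hau, iso_toC0] at h1
  have h2 := iso_mk N (g j) b v
  rw [← hbv, iso_toC0] at h2
  rw [hau, hbv, res_mk, res_mk]
  refine sub_eq_zero.2 ?_
  have h3 : ι N (DD (g i * g j)) ((u : A) • b - (v : A) • a) = 0 := by
    refine ext_sec fun p => ?_
    have hpi : p.1 ∈ DD (g i) := mem_DD.2 fun hh => mem_DD.1 p.2 (Ideal.mul_mem_right _ _ hh)
    have hpj : p.1 ∈ DD (g j) := mem_DD.2 fun hh => mem_DD.1 p.2 (Ideal.mul_mem_left _ _ hh)
    have h4 := congrFun (congrArg Subtype.val h1) ⟨p.1, hpi⟩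
    have h5 := congrFun (congrArg Subtype.val h2) ⟨p.1, hpj⟩
    change (u : A) • s.1 _ = mkLinearMap _ _ a at h4
    change (v : A) • s.1 _ = mkLinearMap _ _ b at h5
    rw [ι_apply, map_sub, map_smul, map_smul, ← h4, ← h5, smul_comm, sub_self]
    rfl
  obtain ⟨k, hk⟩ := (ι_eq_zero_iff (J := Ideal.span {g i * g j}) _).1 h3
  have h6 := hk ((g i * g j) ^ k) (Ideal.pow_mem_pow (Ideal.mem_span_singleton_self _) k)
  rw [smul_sub, sub_eq_zero] at h6
  rw [LocalizedModule.mk_eq]
  refine ⟨⟨(g i * g j) ^ k, ?_⟩, ?_⟩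
  · rw [mul_pow]
    exact mul_mem ((le12 (PS g) i j) ⟨k, rfl⟩) ((le22 (PS g) i j) ⟨k, rfl⟩)
  · exact h6

theorem toC0_ι (m : N) : toC0 N g (ι N _ m) = ε (PS g) m := by
  funext i
  apply (IsLocalizedModule.iso (Submonoid.powers (g i)) (ι N (DD (g i)))).injective
  rw [iso_toC0, ε_apply, iso_mkLinearMap]
  rfl

omit [IsNoetherianRing A] in
theorem exists_mem_DD (p : D (Ideal.span (Set.range g))) : ∃ i, p.1 ∈ DD (g i) := by
  by_contra hcon
  push Not at hcon
  refine p.2 (show Ideal.span (Set.range g) ≤ p.1.asIdeal from ?_)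
  rw [Ideal.span_le]
  rintro _ ⟨i, rfl⟩
  by_contra h
  exact hcon i (mem_DD.2 h)

theorem toC0_injective : Function.Injective (toC0 N g) := by
  intro s t hst
  refine ext_sec fun p => ?_
  obtain ⟨i, hi⟩ := exists_mem_DD g p
  have h1 := iso_toC0 N g s i
  rw [hst, iso_toC0] at h1
  exact (congrFun (congrArg Subtype.val h1) ⟨p.1, hi⟩).symm

/-- The cokernel of `N → Γ(D J, N~)` embeds in `H^1_J(N)`. -/
theorem exists_theta' : ∃ θ : sec N (D (Ideal.span (Set.range g))) →ₗ[A]
    LocCoh.H (Ideal.span (Set.range g)) 1 N, LinearMap.ker θ = LinearMap.range (ι N _) := by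
  obtain ⟨e⟩ := H0'_equiv g (lc (Ideal.span (Set.range g))) rfl (ModuleCat.of A N)
  let ψ : sec N (D (Ideal.span (Set.range g))) →ₗ[A] LinearMap.ker (d0 (N := N) (PS g)) :=
    (toC0 N g).codRestrict _ (d0_toC0 N g)
  let θ := e.toLinearMap ∘ₗ (Submodule.mkQ _) ∘ₗ ψ
  refine ⟨θ, ?_⟩
  ext s
  have h1 : θ s = 0 ↔ ψ s ∈ (LinearMap.range (ε (N := N) (PS g))).submoduleOf
      (LinearMap.ker (d0 (N := N) (PS g))) := by
    rw [← Submodule.Quotient.mk_eq_zero]
    exact e.map_eq_zero_iff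
  have h2 : ψ s ∈ (LinearMap.range (ε (N := N) (PS g))).submoduleOf
      (LinearMap.ker (d0 (N := N) (PS g))) ↔ s ∈ LinearMap.range (ι N _) := by
    constructor
    · rintro ⟨m, hm⟩
      refine ⟨m, toC0_injective N g ?_⟩
      rw [toC0_ι]
      exact hm
    · rintro ⟨m, rfl⟩
      exact ⟨m, (toC0_ι N g m).symm⟩
  exact h1.trans h2

end Theta

section Finite

variable [IsNoetherianRing A] (N : Type u) [AddCommGroup N] [Module A N] (J : Ideal A)

/-- The cokernel of `N → Γ(D J, N~)` embeds in `H^1_J(N)`. -/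
theorem exists_theta : ∃ θ : sec N (D J) →ₗ[A] LocCoh.H J 1 N,
    LinearMap.ker θ = LinearMap.range (ι N _) := by
  obtain ⟨n, g, rfl⟩ := Submodule.fg_iff_exists_fin_generating_family.1
    (IsNoetherian.noetherian J)
  exact exists_theta' N g

theorem finite_sec [Module.Finite A N] (h : Module.Finite A (LocCoh.H J 1 N)) :
    Module.Finite A (sec N (D J)) := by
  obtain ⟨θ, hθ⟩ := exists_theta N J
  have h1 : Module.Finite A (LinearMap.range θ) := inferInstance
  have h2 : Module.Finite A (LinearMap.ker θ) := by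
    rw [hθ]
    infer_instance
  have h3 : Module.Finite A (sec N (D J) ⧸ LinearMap.ker θ) :=
    Module.Finite.equiv θ.quotKerEquivRange.symm
  exact Module.Finite.of_submodule_quotient (LinearMap.ker θ)

end Finite

section Fam

open Groth.Agent.FormalA.NFam

variable {I 𝔞 : Ideal A} {M : Type u} [AddCommGroup M] [Module A M]

variable (I 𝔞 M) in
/-- The component maps are linear. -/
noncomputable def atL (n : ℕ) : F I 𝔞 M →ₗ[A] sec (Q I M n) (D 𝔞) where
  toFun y := y.at n
  map_add' _ _ := rfl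
  map_smul' _ _ := rfl

@[simp]
theorem atL_apply (n : ℕ) (y : F I 𝔞 M) : atL I 𝔞 M n y = y.at n := rfl

theorem smul_Q {n : ℕ} {b : A} (hb : b ∈ I ^ (n + 1)) (q : Q I M n) : b • q = 0 := by
  obtain ⟨x, rfl⟩ := pr_surjective I _ q
  rw [← map_smul, pr_eq_zero_iff]
  exact Submodule.smul_mem_smul hb trivial

theorem smul_sec_Q {n : ℕ} {b : A} (hb : b ∈ I ^ (n + 1)) {V : Set (PrimeSpectrum A)}
    (s : sec (Q I M n) V) : b • s = 0 := by
  refine ext_sec fun p => ?_
  obtain ⟨q, t, hq⟩ := exists_eq_mk (s.1 p)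
  change b • s.1 p = 0
  rw [hq, LocalizedModule.smul'_mk, smul_Q hb, LocalizedModule.zero_mk]

theorem at_eq_zero_of_mem {n : ℕ} {x : F I 𝔞 M}
    (hx : x ∈ I ^ (n + 1) • (⊤ : Submodule A (F I 𝔞 M))) : x.at n = 0 := by
  induction hx using Submodule.smul_induction_on' with
  | smul r hr y _ => rw [F.at_smul, smul_sec_Q hr]
  | add x _ y _ hx hy => rw [F.at_add, hx, hy, add_zero]

instance isHausdorff : IsHausdorff I (F I 𝔞 M) where
  haus' x hx := F.ext fun n => by
    rw [at_eq_zero_of_mem (SModEq.zero.1 (hx (n + 1)))]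
    rfl

variable [IsNoetherianRing A] [Module.Finite A M]

theorem exists_smul_of_at_zero {f : A} (hreg : IsSMulRegular M f) (y : F (Ideal.span {f}) 𝔞 M)
    (hy : y.at 0 = 0) : ∃ z, f • z = y := by
  let K : Submodule A M := Ideal.span {f} • ⊤
  let φ : M →ₗ[A] M := f • LinearMap.id
  have hφ : Function.Injective φ := hreg
  have hex : Function.Exact φ K.mkQ := by
    intro x
    rw [Submodule.mkQ_apply, Submodule.Quotient.mk_eq_zero]
    constructor
    · intro hx
      rw [show K = _ from Submodule.ideal_span_singleton_smul f ⊤] at hx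
      obtain ⟨z, _, hz⟩ := hx
      exact ⟨z, hz⟩
    · rintro ⟨z, rfl⟩
      exact Submodule.smul_mem_smul (Ideal.mem_span_singleton_self f) trivial
  obtain ⟨z, hz⟩ := Fmap_exact (Ideal.span {f}) 𝔞 φ K.mkQ hφ hex (Submodule.mkQ_surjective _) y (by
    refine F.ext fun n => ?_
    rw [Fmap_at]
    let β : Q (Ideal.span {f}) M 0 →ₗ[A] Q (Ideal.span {f}) (M ⧸ K) n :=
      lift _ (pr _ _ n ∘ₗ K.mkQ) (by
        intro x hx
        have : K.mkQ x = 0 := by
          rw [Submodule.mkQ_apply, Submodule.Quotient.mk_eq_zero]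
          rwa [zero_add, pow_one] at hx
        rw [LinearMap.comp_apply, this, map_zero])
    have h1 : qmap (Ideal.span {f}) K.mkQ n = β ∘ₗ tr _ _ (Nat.zero_le n) :=
      hom_ext _ fun x => by rw [qmap_pr, LinearMap.comp_apply, tr_pr]; rfl
    rw [h1, ← map_map, y.compat, hy, map_zero]
    rfl)
  exact ⟨z, by rw [← hz, Fmap_smul]⟩

theorem finite_F {f : A} [IsAdicComplete (Ideal.span {f}) A] (hreg : IsSMulRegular M f)
    (h : Module.Finite A (sec (Q (Ideal.span {f}) M 0) (D 𝔞))) :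
    Module.Finite A (F (Ideal.span {f}) 𝔞 M) := by
  have h1 : Module.Finite A (LinearMap.range (atL (Ideal.span {f}) 𝔞 M 0)) := inferInstance
  obtain ⟨k, g, hg⟩ := Module.Finite.exists_fin' A (LinearMap.range (atL (Ideal.span {f}) 𝔞 M 0))
  obtain ⟨φ, hφ⟩ := Module.projective_lifting_property
    (atL (Ideal.span {f}) 𝔞 M 0).rangeRestrict g (LinearMap.surjective_rangeRestrict _)
  have := AdicFin.isPrecomplete_of_finite (Ideal.span {f}) (M := Fin k → A)
  refine Module.Finite.of_surjective φ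
    (surjective_of_mkQ_comp_surjective (I := Ideal.span {f}) ?_)
  intro y
  obtain ⟨y, rfl⟩ := Submodule.mkQ_surjective _ y
  obtain ⟨v, hv⟩ := hg ((atL (Ideal.span {f}) 𝔞 M 0).rangeRestrict y)
  refine ⟨v, ?_⟩
  rw [LinearMap.comp_apply, ← sub_eq_zero, ← map_sub, Submodule.mkQ_apply,
    Submodule.Quotient.mk_eq_zero]
  have h2 : (φ v - y).at 0 = 0 := by
    rw [F.at_sub, sub_eq_zero]
    have := LinearMap.congr_fun hφ v
    rw [hv] at this
    exact congrArg Subtype.val this
  obtain ⟨z, hz⟩ := exists_smul_of_at_zero hreg _ h2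
  rw [← hz]
  exact Submodule.smul_mem_smul (Ideal.mem_span_singleton_self f) trivial

omit [IsNoetherianRing A] [Module.Finite A M] in
theorem subsingleton_localized {Q : Type u} [AddCommGroup Q] [Module A Q] [Module.Finite A Q]
    {f : A} (p : PrimeSpectrum A) (hf : f ∈ p.asIdeal)
    (h : ∀ q : Q, ∃ b ∉ p.asIdeal, ∃ q' : Q, b • q = f • q') :
    ¬ Module.annihilator A Q ≤ p.asIdeal := by
  rw [← Module.mem_support_iff_of_finite, Module.notMem_support_iff]
  have h1 : (⊤ : Submodule (Localization p.asIdeal.primeCompl)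
      (LocalizedModule p.asIdeal.primeCompl Q)) = ⊥ := by
    have : Module.Finite (Localization p.asIdeal.primeCompl)
        (LocalizedModule p.asIdeal.primeCompl Q) := inferInstance
    refine Submodule.eq_bot_of_le_smul_of_le_jacobson_bot
      (IsLocalRing.maximalIdeal (Localization.AtPrime p.asIdeal)) ⊤ Module.Finite.fg_top ?_
      (IsLocalRing.jacobson_eq_maximalIdeal ⊥ bot_ne_top).ge
    intro x _
    obtain ⟨q, s, rfl⟩ := exists_eq_mk x
    obtain ⟨b, hb, q', hq'⟩ := h q
    have h2 : (mk q s : LocalizedModule p.asIdeal.primeCompl Q) =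
        algebraMap A (Localization p.asIdeal.primeCompl) f • mk q' (s * ⟨b, hb⟩) := by
      rw [algebraMap_smul, LocalizedModule.smul'_mk, ← hq', LocalizedModule.mk_eq]
      refine ⟨1, ?_⟩
      rw [one_smul, one_smul, Submonoid.smul_def, Submonoid.smul_def, Submonoid.coe_mul,
        mul_smul]
    rw [h2]
    refine Submodule.smul_mem_smul ?_ trivial
    exact (IsLocalization.AtPrime.to_map_mem_maximal_iff (Localization.AtPrime p.asIdeal)
      p.asIdeal f).2 hf
  exact (Submodule.subsingleton_iff _).1 (subsingleton_of_bot_eq_top h1.symm)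

theorem exists_ideal {f : A} [IsAdicComplete (Ideal.span {f}) A] (hreg : IsSMulRegular M f)
    (h : Module.Finite A (sec (Q (Ideal.span {f}) M 0) (D 𝔞))) :
    ∃ J : Ideal A, (∀ p ∈ D 𝔞, f ∈ p.asIdeal → ¬ J ≤ p.asIdeal) ∧
      ∀ b ∈ J, ∀ y : F (Ideal.span {f}) 𝔞 M, ∃ m : M, ιF (Ideal.span {f}) 𝔞 M m = b • y := by
  have := finite_F hreg h
  refine ⟨Module.annihilator A (F (Ideal.span {f}) 𝔞 M ⧸
    LinearMap.range (ιF (Ideal.span {f}) 𝔞 M)), ?_, ?_⟩
  · intro p hp hfp
    refine subsingleton_localized p hfp ?_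
    intro q
    obtain ⟨y, rfl⟩ := Submodule.mkQ_surjective _ q
    obtain ⟨k, hk⟩ := exists_pow_smul (y.at 0)
    obtain ⟨b, hb, hbp⟩ := exists_mem_of_mem_D hp
    obtain ⟨m0, hm0⟩ := hk (b ^ k) (Ideal.pow_mem_pow hb k)
    obtain ⟨m, rfl⟩ := pr_surjective (Ideal.span {f}) 0 m0
    obtain ⟨z, hz⟩ := exists_smul_of_at_zero hreg (b ^ k • y - ιF _ 𝔞 M m) (by
      rw [F.at_sub, F.at_smul, hm0, ιF_at, sub_self])
    refine ⟨b ^ k, fun hh => hbp (p.isPrime.mem_of_pow_mem _ hh), Submodule.mkQ _ z, ?_⟩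
    rw [← map_smul, ← map_smul, hz, map_sub]
    refine (sub_eq_self.2 ?_).symm
    rw [Submodule.mkQ_apply, Submodule.Quotient.mk_eq_zero]
    exact ⟨m, rfl⟩
  · intro b hb y
    have h1 := Module.mem_annihilator.1 hb (Submodule.mkQ _ y)
    rw [← map_smul, Submodule.mkQ_apply, Submodule.Quotient.mk_eq_zero] at h1
    exact h1

omit [IsNoetherianRing A] in
theorem finite_H_of_equiv {N N' : Type u} [AddCommGroup N] [Module A N] [AddCommGroup N']
    [Module A N'] (e : N ≃ₗ[A] N') (J : Ideal A) (i : ℕ) (h : Module.Finite A (LocCoh.H J i N)) :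
    Module.Finite A (LocCoh.H J i N') :=
  Module.Finite.equiv ((localCohomology J i).mapIso e.toModuleIso).toLinearEquiv

theorem exists_ideal_of_finite_H {f : A} [IsAdicComplete (Ideal.span {f}) A]
    (hreg : IsSMulRegular M f)
    (h : Module.Finite A (LocCoh.H 𝔞 1 (M ⧸ (Ideal.span {f} • (⊤ : Submodule A M))))) :
    ∃ J : Ideal A, (∀ p ∈ D 𝔞, f ∈ p.asIdeal → ¬ J ≤ p.asIdeal) ∧
      ∀ b ∈ J, ∀ y : F (Ideal.span {f}) 𝔞 M, ∃ m : M, ιF (Ideal.span {f}) 𝔞 M m = b • y := by
  refine exists_ideal hreg ?_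
  have h1 : Module.Finite A (Q (Ideal.span {f}) M 0) :=
    Module.Finite.of_surjective (pr (Ideal.span {f}) M 0) (pr_surjective _ _)
  refine finite_sec _ _ (finite_H_of_equiv ?_ 𝔞 1 h)
  exact Submodule.quotEquivOfEq _ _ (by rw [zero_add, pow_one])

end Fam

end Groth.Agent.FormalA.NFin
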