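import Mathlib

/-!
# `I`-adic null sequences in a module

`nul I M` is the `A`-module of sequences `x : ℕ → M` tending to `0` for the `I`-adic topology,
`nulW I M n ≤ nul I M` the submodule of those with entries in `I^n M`; `P I` the functor
`M ↦ nul I M`; `π I M k : nul I M → M` the `k`-th component and `e I M k : M → nul I M` the
sequence with one entry.
-/

set_option autoImplicit false
set_option linter.unusedVariables false
universe u
open CategoryTheory

namespace Groth.Agent.FormalA.NullSeq

variable {A : Type u} [CommRing A] (I : Ideal A)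

/-- `I`-adic null sequences. -/
def nul (M : Type u) [AddCommGroup M] [Module A M] : Submodule A (ℕ → M) where
  carrier := {x | ∀ n : ℕ, ∃ N : ℕ, ∀ k ≥ N, x k ∈ (I ^ n • ⊤ : Submodule A M)}
  add_mem' {x y} hx hy n := by
    obtain ⟨N, hN⟩ := hx n
    obtain ⟨N', hN'⟩ := hy n
    exact ⟨max N N', fun k hk => add_mem (hN k (le_trans (le_max_left _ _) hk))
      (hN' k (le_trans (le_max_right _ _) hk))⟩
  zero_mem' n := ⟨0, fun k _ => zero_mem _⟩
  smul_mem' a x hx n := by
    obtain ⟨N, hN⟩ := hx n
    exact ⟨N, fun k hk => Submodule.smul_mem _ a (hN k hk)⟩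

variable (M : Type u) [AddCommGroup M] [Module A M]

/-- null sequences with entries in `I^n M`. -/
def nulW (n : ℕ) : Submodule A (nul I M) where
  carrier := {x | ∀ k : ℕ, x.1 k ∈ (I ^ n • ⊤ : Submodule A M)}
  add_mem' {x y} hx hy k := add_mem (hx k) (hy k)
  zero_mem' k := zero_mem _
  smul_mem' a x hx k := Submodule.smul_mem _ a (hx k)

/-- the `k`-th component -/
def π (k : ℕ) : nul I M →ₗ[A] M := (LinearMap.proj k).comp (nul I M).subtype

/-- the sequence with only one entry -/
def e (k : ℕ) : M →ₗ[A] nul I M where
  toFun m := ⟨fun j => if j = k then m else 0, fun n => ⟨k + 1, fun j hj => by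
    change (if j = k then m else 0) ∈ _
    rw [if_neg (by omega)]
    exact zero_mem _⟩⟩
  map_add' m m' := Subtype.ext (funext fun j => by
    change (if j = k then m + m' else 0) = (if j = k then m else 0) + (if j = k then m' else 0)
    split_ifs <;> simp)
  map_smul' a m := Subtype.ext (funext fun j => by
    change (if j = k then a • m else 0) = a • (if j = k then m else 0)
    split_ifs <;> simp)

variable {M}

@[simp]
theorem π_apply (k : ℕ) (x : nul I M) : π I M k x = x.1 k := rfl

theorem e_apply (k j : ℕ) (m : M) : (e I M k m).1 j = if j = k then m else 0 := rfl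

theorem π_e (k : ℕ) (m : M) : π I M k (e I M k m) = m := by
  rw [π_apply, e_apply, if_pos rfl]

theorem π_e_of_ne {j k : ℕ} (h : j ≠ k) (m : M) : π I M j (e I M k m) = 0 := by
  rw [π_apply, e_apply, if_neg h]

variable {N : Type u} [AddCommGroup N] [Module A N]

/-- functoriality -/
def nulMap (f : M →ₗ[A] N) : nul I M →ₗ[A] nul I N where
  toFun x := ⟨fun k => f (x.1 k), fun n => by
    obtain ⟨K, hK⟩ := x.2 n
    refine ⟨K, fun k hk => ?_⟩
    have h1 : Submodule.map f (I ^ n • ⊤ : Submodule A M) ≤ (I ^ n • ⊤ : Submodule A N) := by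
      rw [Submodule.map_smul'']
      exact smul_mono_right _ le_top
    exact h1 ⟨_, hK k hk, rfl⟩⟩
  map_add' x y := Subtype.ext (funext fun k => map_add f _ _)
  map_smul' a x := Subtype.ext (funext fun k => map_smul f _ _)

@[simp]
theorem nulMap_apply (f : M →ₗ[A] N) (x : nul I M) (k : ℕ) : (nulMap I f x).1 k = f (x.1 k) := rfl

/-- The functor of null sequences. -/
def P : ModuleCat.{u} A ⥤ ModuleCat.{u} A where
  obj M := ModuleCat.of A (nul I M)
  map f := ModuleCat.ofHom (nulMap I f.hom)
  map_id M := rfl
  map_comp f g := rfl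

theorem P_map_apply {M N : ModuleCat.{u} A} (f : M ⟶ N) (x : nul I M) (k : ℕ) :
    (((P I).map f).hom x).1 k = f.hom (x.1 k) := rfl

/-- the components as a natural transformation -/
def πN (k : ℕ) : P I ⟶ 𝟭 (ModuleCat.{u} A) where
  app M := ModuleCat.ofHom (π I M k)
  naturality M N f := rfl

/-- the inclusions as a natural transformation -/
def eN (k : ℕ) : 𝟭 (ModuleCat.{u} A) ⟶ P I where
  app M := ModuleCat.ofHom (e I M k)
  naturality M N f := by
    ext m
    refine Subtype.ext (funext fun j => ?_)
    change (if j = k then f.hom m else 0) = f.hom (if j = k then m else 0)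
    split_ifs
    · rfl
    · rw [map_zero]

end Groth.Agent.FormalA.NullSeq
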