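import Groth.Agent.FormalA.TowSub
import Groth.Agent.FormalA.NullSeq

/-!
# The towers of null sequences

`nulTw I : ModuleCat A ⥤ Tw A`, `M ↦ (W_n(M))_n` (null sequences with entries in `I^n M`);
`qTw I : M ↦ (P(M) / W_n(M))_n`; the short exact sequence `0 → W_n(M) → P(M) → P(M)/W_n(M) → 0`
(`nulSC`), functorial in `M` (`nulSCMap`).
-/

set_option autoImplicit false
set_option linter.unusedVariables false
universe u
open CategoryTheory Limits Opposite

namespace Groth.Agent.FormalA.NulTow

open TowBasic NullSeq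

variable {A : Type u} [CommRing A] (I : Ideal A)

theorem nulW_antitone (M : ModuleCat.{u} A) :
    Antitone (nulW I M : ℕ → Submodule A ((P I).obj M)) := fun m n h x hx k =>
  (Submodule.smul_mono_left (Ideal.pow_le_pow_right h) :
    (I ^ n • ⊤ : Submodule A M) ≤ (I ^ m • ⊤ : Submodule A M)) (hx k)

theorem map_mem {M N : ModuleCat.{u} A} (f : M ⟶ N) (n : ℕ) (x : (P I).obj M)
    (hx : x ∈ (nulW I M n : Submodule A ((P I).obj M))) :
    ((P I).map f).hom x ∈ (nulW I N n : Submodule A ((P I).obj N)) := fun k => by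
  have h1 : Submodule.map f.hom (I ^ n • ⊤ : Submodule A M) ≤ (I ^ n • ⊤ : Submodule A N) := by
    rw [Submodule.map_smul'']
    exact smul_mono_right _ le_top
  exact h1 ⟨_, hx k, rfl⟩

/-- the tower `W_n(M)` -/
def nulTw : ModuleCat.{u} A ⥤ Tw A where
  obj M := subTw (M := (P I).obj M) (nulW I M) (nulW_antitone I M)
  map {M N} f := subTwMap _ _ _ _ ((P I).map f) (map_mem I f)
  map_id M := rfl
  map_comp f g := rfl

/-- the tower `P(M) / W_n(M)` -/
def qTw : ModuleCat.{u} A ⥤ Tw A where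
  obj M := quotTw (M := (P I).obj M) (nulW I M) (nulW_antitone I M)
  map {M N} f := quotTwMap _ _ _ _ ((P I).map f) (map_mem I f)
  map_id M := by
    ext n x
    obtain ⟨x, rfl⟩ := Submodule.mkQ_surjective _ x
    rfl
  map_comp f g := by
    ext n x
    obtain ⟨x, rfl⟩ := Submodule.mkQ_surjective _ x
    rfl

/-- the short exact sequence `0 → W_n(M) → P(M) → P(M)/W_n(M) → 0` -/
def nulSC (M : ModuleCat.{u} A) : ShortComplex (Tw A) :=
  subSC (M := (P I).obj M) (nulW I M) (nulW_antitone I M)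

theorem nulSC_shortExact (M : ModuleCat.{u} A) : (nulSC I M).ShortExact :=
  subSC_shortExact (M := (P I).obj M) (nulW I M) (nulW_antitone I M)

theorem nulSC_X₁ (M : ModuleCat.{u} A) : (nulSC I M).X₁ = (nulTw I).obj M := rfl
theorem nulSC_X₂ (M : ModuleCat.{u} A) : (nulSC I M).X₂ = constTw ((P I).obj M) := rfl
theorem nulSC_X₃ (M : ModuleCat.{u} A) : (nulSC I M).X₃ = (qTw I).obj M := rfl

/-- functoriality -/
def nulSCMap {M N : ModuleCat.{u} A} (f : M ⟶ N) : nulSC I M ⟶ nulSC I N :=
  subSCMap _ _ _ _ ((P I).map f) (map_mem I f)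

end Groth.Agent.FormalA.NulTow
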