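import Groth.Agent.FormalA.NulTow
import Groth.Prelude.Def_Formal2

/-!
# The null sequence trick

Let `T` be a delta functor on `A`-modules, `Z : TowK T` the derived limit data.  If the derived
limits `K^i` of the tower `W_n(M)` of null sequences vanish for `i ≤ t + 1` and classes of
`T^j(P M)` with constant components `z` have `z = 0` (`j ≤ t`), then `T^j(M) → lim_n T^j(M/I^{n+1}M)`
is bijective for `j ≤ t` and `R¹lim T^0(M/I^{n+1}M) = 0` if `1 ≤ t`.
-/

set_option autoImplicit false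
set_option linter.unusedVariables false
universe u
open CategoryTheory Limits Opposite
open Groth.Agent.Localalg.DeltaFun

namespace Groth.Agent.FormalA.NullTrick

open TowBasic NullSeq NulTow

variable {A : Type u} [CommRing A] (I : Ideal A) (M : ModuleCat.{u} A)

/-- the `k`-th component -/
def pp (k : ℕ) : (P I).obj M ⟶ M := (πN I k).app M

/-- the `k`-th inclusion -/
def ee (k : ℕ) : M ⟶ (P I).obj M := (eN I k).app M

/-- the endomorphism `x ↦ e_k (x_j)` of `P(M)` -/
def sh (k j : ℕ) : (P I).obj M ⟶ (P I).obj M := pp I M j ≫ ee I M k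

theorem e_mem (k n : ℕ) (m : M) (hm : m ∈ (I ^ n • ⊤ : Submodule A M)) :
    (ee I M k).hom m ∈ (nulW I M n : Submodule A ((P I).obj M)) := fun i => by
  change (if i = k then m else 0) ∈ (I ^ n • ⊤ : Submodule A M)
  split_ifs
  · exact hm
  · exact zero_mem _

theorem sh_mem (k j n : ℕ) (x : (P I).obj M) (hx : x ∈ (nulW I M n : Submodule A ((P I).obj M))) :
    (sh I M k j).hom x ∈ (nulW I M n : Submodule A ((P I).obj M)) :=
  e_mem I M k n _ (hx j)

/-- the induced endomorphism of the tower `P(M)/W_n(M)` -/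
def qsh (k j : ℕ) : (qTw I).obj M ⟶ (qTw I).obj M :=
  quotTwMap (M := (P I).obj M) (M' := (P I).obj M) (nulW I M) (nulW_antitone I M) (nulW I M)
    (nulW_antitone I M) (sh I M k j) (sh_mem I M k j)

/-- the projection `P(M) → P(M)/W_n(M)` of constant tower -/
abbrev pr : constTw ((P I).obj M) ⟶ (qTw I).obj M := (nulSC I M).g

theorem pr_app_surjective (n : ℕ) : Function.Surjective ((pr I M).app (op n)).hom :=
  Submodule.mkQ_surjective _

theorem pr_qsh (k j : ℕ) :
    pr I M ≫ qsh I M k j = (Functor.const ℕᵒᵖ).map (sh I M k j) ≫ pr I M := rfl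

theorem sh_comp_self (k j k' : ℕ) : sh I M k j ≫ sh I M k' k = sh I M k' j := by
  ext x
  refine Subtype.ext (funext fun i => ?_)
  change (if i = k' then (if k = k then x.1 j else 0) else 0) = if i = k' then x.1 j else 0
  rw [if_pos rfl]

theorem sh_comp_of_ne (k j k' j' : ℕ) (h : j' ≠ k) : sh I M k j ≫ sh I M k' j' = 0 := by
  ext x
  refine Subtype.ext (funext fun i => ?_)
  change (if i = k' then (if j' = k then x.1 j else 0) else 0) = (0 : M)
  rw [if_neg h]
  exact ite_self _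

theorem qsh_app_comp_self (k j k' n : ℕ) :
    (qsh I M k j).app (op n) ≫ (qsh I M k' k).app (op n) = (qsh I M k' j).app (op n) := by
  ext x
  obtain ⟨x, rfl⟩ := pr_app_surjective I M n x
  exact congrArg (fun t => ((pr I M).app (op n)).hom (t.hom x)) (sh_comp_self I M k j k')

theorem qsh_app_comp_of_ne (k j k' j' n : ℕ) (h : j' ≠ k) :
    (qsh I M k j).app (op n) ≫ (qsh I M k' j').app (op n) = 0 := by
  ext x
  obtain ⟨x, rfl⟩ := pr_app_surjective I M n x
  have h1 := congrArg (fun t => ((pr I M).app (op n)).hom (t.hom x)) (sh_comp_of_ne I M k j k' j' h)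
  refine h1.trans ?_
  exact map_zero _

theorem e_sh (k k' : ℕ) : ee I M k ≫ sh I M k' k = ee I M k' := by
  ext x
  refine Subtype.ext (funext fun i => ?_)
  change (if i = k' then (if k = k then x else 0) else 0) = if i = k' then x else 0
  rw [if_pos rfl]

theorem sh_π (k j : ℕ) : sh I M k j ≫ pp I M k = pp I M j := by
  ext x
  change (if k = k then x.1 j else 0) = x.1 j
  rw [if_pos rfl]

theorem e_π (k : ℕ) : ee I M k ≫ pp I M k = 𝟙 M := by
  ext x
  change (if k = k then x else 0) = x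
  rw [if_pos rfl]

/-- `M/I^{n+1}M → P(M)/W_{n+1}(M)` induced by `e_0` -/
def ebar' (n : ℕ) : ModuleCat.of A (Formal2.quotPow A I M n) ⟶
    ModuleCat.of A (((P I).obj M) ⧸ (nulW I M (n + 1) : Submodule A ((P I).obj M))) :=
  ModuleCat.ofHom (Submodule.mapQ (I ^ (n + 1) • ⊤ : Submodule A M)
    (nulW I M (n + 1) : Submodule A ((P I).obj M)) (ee I M 0).hom
    (fun m hm => e_mem I M 0 (n + 1) m hm))

/-- `M/I^{n+1}M → P(M)/W_{n+1}(M)` induced by `e_0` -/
def ebar (n : ℕ) : ModuleCat.of A (Formal2.quotPow A I M n) ⟶ ((qTw I).obj M).obj (op (n + 1)) :=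
  ebar' I M n

/-- `P(M)/W_{n+1}(M) → M/I^{n+1}M` induced by `π_0` -/
def pbar' (n : ℕ) : ModuleCat.of A (((P I).obj M) ⧸ (nulW I M (n + 1) :
    Submodule A ((P I).obj M))) ⟶ ModuleCat.of A (Formal2.quotPow A I M n) :=
  ModuleCat.ofHom (Submodule.mapQ (nulW I M (n + 1) : Submodule A ((P I).obj M))
    (I ^ (n + 1) • ⊤ : Submodule A M) (pp I M 0).hom (fun x hx => hx 0))

/-- `P(M)/W_{n+1}(M) → M/I^{n+1}M` induced by `π_0` -/
def pbar (n : ℕ) : ((qTw I).obj M).obj (op (n + 1)) ⟶ ModuleCat.of A (Formal2.quotPow A I M n) :=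
  pbar' I M n

/-- the projection `M → M/I^{n+1}M` -/
abbrev qπ (n : ℕ) : M ⟶ ModuleCat.of A (Formal2.quotPow A I M n) :=
  ModuleCat.ofHom (Formal2.quotPowπ A I M n)

/-- the transition map of `M/I^{n+1}M` -/
abbrev qt (n : ℕ) : ModuleCat.of A (Formal2.quotPow A I M (n + 1)) ⟶
    ModuleCat.of A (Formal2.quotPow A I M n) :=
  ModuleCat.ofHom (Formal2.quotPowTrans A I M n)

theorem e_pr (n : ℕ) : ee I M 0 ≫ (pr I M).app (op (n + 1)) = qπ I M n ≫ ebar I M n := rfl

theorem pr_pbar (n : ℕ) :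
    (pr I M).app (op (n + 1)) ≫ pbar I M n = pp I M 0 ≫ qπ I M n := rfl

theorem ebar_pbar (n : ℕ) : ebar I M n ≫ pbar I M n = 𝟙 _ := by
  ext x
  exact congrArg (fun t => (qπ I M n).hom (t.hom x)) (e_π I M 0)

theorem ebar_tr (n : ℕ) : ebar I M (n + 1) ≫ tr ((qTw I).obj M) (n + 1) = qt I M n ≫ ebar I M n := by
  ext x
  rfl

theorem tr_pbar (n : ℕ) : tr ((qTw I).obj M) (n + 1) ≫ pbar I M n = pbar I M (n + 1) ≫ qt I M n := by
  ext x
  obtain ⟨x, rfl⟩ := Submodule.mkQ_surjective _ x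
  rfl

section

variable (G : ModuleCat.{u} A ⥤ ModuleCat.{u} A)

theorem gcomp {X Y Y' : ModuleCat.{u} A} (f : X ⟶ Y) (g : Y ⟶ Y') (x : G.obj X) :
    (G.map g).hom ((G.map f).hom x) = (G.map (f ≫ g)).hom x := by
  rw [G.map_comp]
  rfl

end

variable {I M}
variable {T : DeltaFunctor (ModuleCat.{u} A) (ModuleCat.{u} A)} (Z : TowK T)

/-- components of an element of a product -/
def cp {i : ℕ} {N : Tw A} (x : ((piDelta T).T i).obj N) (n : ℕ) :
    (T.T i).obj (N.obj (op n)) := x n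

/-- element of a product from its components -/
def mk {i : ℕ} {N : Tw A} (x : ∀ n : ℕ, (T.T i).obj (N.obj (op n))) :
    ((piDelta T).T i).obj N := x

theorem kcomp (i : ℕ) {X Y Y' : Tw A} (f : X ⟶ Y) (g : Y ⟶ Y') (x : (Z.K.T i).obj X) :
    ((Z.K.T i).map g).hom (((Z.K.T i).map f).hom x) = ((Z.K.T i).map (f ≫ g)).hom x := by
  rw [(Z.K.T i).map_comp]
  rfl

theorem injective_pr {i : ℕ} (hK : ∀ x : (Z.K.T i).obj ((nulTw I).obj M), x = 0) :
    Function.Injective ((Z.K.T i).map (pr I M)).hom := by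
  rw [injective_iff_map_eq_zero]
  intro x hx
  obtain ⟨y, rfl⟩ := of_exact (Z.K.exact₂ (nulSC_shortExact I M) i) x hx
  have h1 : y = 0 := hK y
  rw [h1]
  exact map_zero _

theorem surjective_pr {i : ℕ} (hK : ∀ x : (Z.K.T (i + 1)).obj ((nulTw I).obj M), x = 0) :
    Function.Surjective ((Z.K.T i).map (pr I M)).hom := fun x =>
  of_exact (Z.K.exact₃ (nulSC_shortExact I M) i) x (hK _)

/-- `K^i(P(M)) → ∏ T^i(P(M)/W_n)` -/
theorem p_pr_cst (i : ℕ) (z : (T.T i).obj ((P I).obj M)) (n : ℕ) :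
    cp (((Z.p.app i).app ((qTw I).obj M)).hom
      (((Z.K.T i).map (pr I M)).hom (Z.cst _ i z))) n =
      ((T.T i).map ((pr I M).app (op n))).hom z := by
  have h1 := congrArg (fun t => t.hom (Z.cst _ i z)) ((Z.p.app i).naturality (pr I M))
  have h2 := congrFun h1 n
  refine h2.trans ?_
  exact congrArg (fun t => ((T.T i).map ((pr I M).app (op n))).hom t) (Z.p_cst _ i z n)

theorem cst_qsh (i k j : ℕ) (z : (T.T i).obj ((P I).obj M)) :
    ((Z.K.T i).map (qsh I M k j)).hom (((Z.K.T i).map (pr I M)).hom (Z.cst _ i z)) =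
      ((Z.K.T i).map (pr I M)).hom (Z.cst _ i (((T.T i).map (sh I M k j)).hom z)) := by
  rw [kcomp, pr_qsh, ← kcomp, Z.cst_naturality]

theorem d_naturality (i : ℕ) {X Y : Tw A} (f : X ⟶ Y) (x : ((piDelta T).T i).obj X) :
    ((Z.K.T (i + 1)).map f).hom (((Z.d i).app X).hom x) =
      ((Z.d i).app Y).hom (mk fun n => ((T.T i).map (f.app (op n))).hom (cp x n)) :=
  (congrArg (fun t => t.hom x) ((Z.d i).naturality f)).symm

/-- a class on `P(M)` dying in all the `P(M)/W_n(M)` -/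
theorem p_eq_zero_of_forall {i : ℕ} (κ : (Z.K.T i).obj ((qTw I).obj M))
    (h : ∀ n, cp (((Z.p.app i).app ((qTw I).obj M)).hom κ) (n + 1) = 0) :
    ((Z.p.app i).app ((qTw I).obj M)).hom κ = 0 := by
  funext n
  cases n with
  | succ n => exact h n
  | zero =>
    have h1 := congrFun (Z.p_ex i ((qTw I).obj M) κ) 0
    have h2 := sub_eq_zero.mp h1
    refine h2.trans ?_
    refine (congrArg (fun t => ((T.T i).map (tr ((qTw I).obj M) 0)).hom t) (h 0)).trans ?_
    exact map_zero _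

/-- **injectivity** -/
theorem eq_zero_of_forall {t : ℕ}
    (hK : ∀ i ≤ t + 1, ∀ x : (Z.K.T i).obj ((nulTw I).obj M), x = 0)
    (hconst : ∀ j ≤ t, ∀ (z : (T.T j).obj M) (ξ : (T.T j).obj ((P I).obj M)),
      (∀ k, ((T.T j).map ((πN I k).app M)).hom ξ = z) → z = 0)
    (j : ℕ) (hj : j ≤ t) (z : (T.T j).obj M)
    (hz : ∀ n, ((T.T j).map (qπ I M n)).hom z = 0) : z = 0 := by
  let z0 : (T.T j).obj ((P I).obj M) := ((T.T j).map (ee I M 0)).hom z
  let κ := ((Z.K.T j).map (pr I M)).hom (Z.cst _ j z0)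
  have hinj := injective_pr Z (hK j (by omega))
  have hz0 : ((T.T j).map (pp I M 0)).hom z0 = z := by
    change ((T.T j).map (pp I M 0)).hom (((T.T j).map (ee I M 0)).hom z) = z
    rw [gcomp, e_π, (T.T j).map_id]
    rfl
  have hκ : ((Z.p.app j).app ((qTw I).obj M)).hom κ = 0 := by
    apply p_eq_zero_of_forall
    intro n
    refine (p_pr_cst Z j z0 (n + 1)).trans ?_
    change ((T.T j).map ((pr I M).app (op (n + 1)))).hom (((T.T j).map (ee I M 0)).hom z) = 0
    rw [gcomp, e_pr, ← gcomp, hz n]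
    exact map_zero _
  cases j with
  | zero =>
    have h1 : κ = 0 := Z.p_inj _ (hκ.trans (map_zero _).symm)
    have h2 : Z.cst _ 0 z0 = 0 := hinj (h1.trans (map_zero _).symm)
    have h3 : z0 = 0 := (Z.cst_bijective _ 0).1 (h2.trans (map_zero _).symm)
    rw [← hz0, h3]
    exact map_zero _
  | succ i =>
    obtain ⟨η, hη⟩ := Z.ex_K i _ κ hκ
    let x : ((piDelta T).T i).obj ((qTw I).obj M) := mk fun n =>
      ∑ k ∈ Finset.range (n + 1), ((T.T i).map ((qsh I M k 0).app (op n))).hom (cp η n)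
    obtain ⟨ξ', hξ'⟩ := surjective_pr Z (hK (i + 2) (by omega)) (((Z.d i).app ((qTw I).obj M)).hom x)
    obtain ⟨ξ, rfl⟩ := (Z.cst_bijective _ (i + 1)).2 ξ'
    refine hconst (i + 1) hj z ξ fun k => ?_
    have key : ((T.T (i + 1)).map (sh I M 0 k)).hom ξ = z0 := by
      apply (Z.cst_bijective _ (i + 1)).1
      apply hinj
      rw [← cst_qsh, hξ', d_naturality]
      have h1 : z0 = ((T.T (i + 1)).map (sh I M 0 0)).hom z0 := by
        change ((T.T (i + 1)).map (ee I M 0)).hom z =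
          ((T.T (i + 1)).map (sh I M 0 0)).hom (((T.T (i + 1)).map (ee I M 0)).hom z)
        rw [gcomp, e_sh]
      rw [h1, ← cst_qsh]
      have h2 : ((Z.K.T (i + 1)).map (pr I M)).hom (Z.cst _ (i + 1) z0) =
        ((Z.d i).app ((qTw I).obj M)).hom η := hη.symm
      rw [h2]
      refine Eq.trans ?_ (d_naturality Z i (qsh I M 0 0) η).symm
      rw [← sub_eq_zero, ← map_sub]
      refine Z.d_eq_zero_of_finite i _ k _ fun n hn => ?_
      change ((T.T i).map ((qsh I M 0 k).app (op n))).hom (∑ k ∈ Finset.range (n + 1),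
        ((T.T i).map ((qsh I M k 0).app (op n))).hom (cp η n)) -
          ((T.T i).map ((qsh I M 0 0).app (op n))).hom (cp η n) = 0
      rw [map_sum, Finset.sum_eq_single k, gcomp, qsh_app_comp_self, sub_self]
      · intro k' _ hk'
        rw [gcomp, qsh_app_comp_of_ne I M _ _ _ _ _ hk'.symm]
        have := T.additive i
        rw [(T.T i).map_zero]
        rfl
      · intro hk
        rw [Finset.mem_range] at hk
        omega
    have h4 := congrArg ((T.T (i + 1)).map (pp I M 0)).hom key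
    rw [hz0, gcomp, sh_π] at h4
    exact h4

/-- **surjectivity** -/
theorem exists_forall {t : ℕ}
    (hK : ∀ i ≤ t + 1, ∀ x : (Z.K.T i).obj ((nulTw I).obj M), x = 0)
    (j : ℕ) (hj : j ≤ t) (y : ∀ n, (T.T j).obj (ModuleCat.of A (Formal2.quotPow A I M n)))
    (hy : ∀ n, ((T.T j).map (qt I M n)).hom (y (n + 1)) = y n) :
    ∃ z : (T.T j).obj M, ∀ n, ((T.T j).map (qπ I M n)).hom z = y n := by
  let Y : ((piDelta T).T j).obj ((qTw I).obj M) := mk fun n => match n with
    | 0 => ((T.T j).map (tr ((qTw I).obj M) 0)).hom (((T.T j).map (ebar I M 0)).hom (y 0))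
    | n + 1 => ((T.T j).map (ebar I M n)).hom (y n)
  have hY : ((oneSub (T.T j)).app ((qTw I).obj M)).hom Y = 0 := by
    funext n
    change cp Y n - ((T.T j).map (tr ((qTw I).obj M) n)).hom (cp Y (n + 1)) = 0
    cases n with
    | zero => exact sub_self _
    | succ n =>
      change ((T.T j).map (ebar I M n)).hom (y n) -
        ((T.T j).map (tr ((qTw I).obj M) (n + 1))).hom (((T.T j).map (ebar I M (n + 1))).hom
          (y (n + 1))) = 0
      rw [gcomp, ebar_tr, ← gcomp, hy, sub_self]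
  obtain ⟨κ, hκ⟩ := Z.ex_p j _ Y hY
  obtain ⟨ξ', rfl⟩ := surjective_pr Z (hK (j + 1) (by omega)) κ
  obtain ⟨ξ, rfl⟩ := (Z.cst_bijective _ j).2 ξ'
  refine ⟨((T.T j).map (pp I M 0)).hom ξ, fun n => ?_⟩
  have h1 := (p_pr_cst Z j ξ (n + 1)).symm.trans (congrFun hκ (n + 1))
  have h2 : ((T.T j).map ((pr I M).app (op (n + 1)))).hom ξ =
    ((T.T j).map (ebar I M n)).hom (y n) := h1
  have h3 := congrArg ((T.T j).map (pbar I M n)).hom h2
  rw [gcomp, gcomp, ebar_pbar, (T.T j).map_id, pr_pbar] at h3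
  rw [gcomp]
  exact h3

/-- **R¹lim** -/
theorem exists_sub {t : ℕ} (ht : 1 ≤ t)
    (hK : ∀ i ≤ t + 1, ∀ x : (Z.K.T i).obj ((nulTw I).obj M), x = 0)
    (hconst : ∀ j ≤ t, ∀ (z : (T.T j).obj M) (ξ : (T.T j).obj ((P I).obj M)),
      (∀ k, ((T.T j).map ((πN I k).app M)).hom ξ = z) → z = 0)
    (η : ∀ n, (T.T 0).obj (ModuleCat.of A (Formal2.quotPow A I M n))) :
    ∃ γ : ∀ n, (T.T 0).obj (ModuleCat.of A (Formal2.quotPow A I M n)),
      ∀ n, η n = γ n - ((T.T 0).map (qt I M n)).hom (γ (n + 1)) := by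
  let Y : ((piDelta T).T 0).obj ((qTw I).obj M) := mk fun n => match n with
    | 0 => 0
    | n + 1 => ((T.T 0).map (ebar I M n)).hom (η n)
  obtain ⟨ξ', hξ'⟩ := surjective_pr Z (hK 2 (by omega)) (((Z.d 0).app ((qTw I).obj M)).hom Y)
  obtain ⟨ξ, rfl⟩ := (Z.cst_bijective _ 1).2 ξ'
  let z : (T.T 1).obj M := ((T.T 1).map (pp I M 0)).hom ξ
  have hp : ((Z.p.app 1).app ((qTw I).obj M)).hom (((Z.K.T 1).map (pr I M)).hom
      (Z.cst _ 1 ξ)) = 0 := by
    refine (congrArg (fun t => ((Z.p.app 1).app ((qTw I).obj M)).hom t) hξ').trans ?_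
    exact Z.p_d 0 _ Y
  have hz : z = 0 := by
    refine eq_zero_of_forall Z hK hconst 1 ht z fun n => ?_
    have h1 := (p_pr_cst Z 1 ξ (n + 1)).symm.trans (congrFun hp (n + 1))
    have h2 : ((T.T 1).map ((pr I M).app (op (n + 1)))).hom ξ = 0 := h1
    have h3 := congrArg ((T.T 1).map (pbar I M n)).hom h2
    rw [gcomp, pr_pbar, ← gcomp] at h3
    exact h3.trans (map_zero _)
  have hsh : ((T.T 1).map (sh I M 0 0)).hom ξ = 0 := by
    change ((T.T 1).map (pp I M 0 ≫ ee I M 0)).hom ξ = 0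
    rw [← gcomp]
    refine (congrArg (fun t => ((T.T 1).map (ee I M 0)).hom t) hz).trans ?_
    exact map_zero _
  have hd : ((Z.d 0).app ((qTw I).obj M)).hom Y = 0 := by
    have h1 := congrArg ((Z.K.T 1).map (qsh I M 0 0)).hom hξ'
    rw [cst_qsh, hsh, map_zero, map_zero, d_naturality] at h1
    rw [h1]
    congr 1
    funext n
    cases n with
    | zero => exact (map_zero _).symm
    | succ n =>
      change ((T.T 0).map (ebar I M n)).hom (η n) = ((T.T 0).map ((qsh I M 0 0).app (op (n + 1)))).hom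
        (((T.T 0).map (ebar I M n)).hom (η n))
      rw [gcomp]
      congr 3
      ext x
      exact (congrArg (fun t => ((pr I M).app (op (n + 1))).hom (t.hom x)) (e_sh I M 0 0)).symm
  obtain ⟨γ, hγ⟩ := Z.ex_d 0 _ Y hd
  refine ⟨fun n => ((T.T 0).map (pbar I M n)).hom (cp γ (n + 1)), fun n => ?_⟩
  have h1 : cp γ (n + 1) - ((T.T 0).map (tr ((qTw I).obj M) (n + 1))).hom (cp γ (n + 1 + 1)) =
    ((T.T 0).map (ebar I M n)).hom (η n) := congrFun hγ (n + 1)
  have h2 := congrArg ((T.T 0).map (pbar I M n)).hom h1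
  rw [map_sub, gcomp, gcomp, ebar_pbar, (T.T 0).map_id, tr_pbar, ← gcomp] at h2
  exact h2.symm

end Groth.Agent.FormalA.NullTrick
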