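import Mathlib.RingTheory.Support
import Mathlib.RingTheory.Nakayama
import Mathlib.RingTheory.Noetherian.Basic
import Mathlib.RingTheory.LocalRing.MaximalIdeal.Basic
import Mathlib.RingTheory.Localization.AtPrime.Basic
import Mathlib.Algebra.Module.LocalizedModule.Submodule

/-!
# Lifting a local generator modulo a regular element

`M` finite over a Noetherian ring, `f` regular on `M`, `φ : M → N` with `f N = 0` whose kernel is
`f M` and whose cokernel is zero up to `I`-power torsion.  If `N_p` is free of rank one over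
`(A/f)_p` at a prime `p` containing `f` but not `I`, then `M` is free of rank one near `p`.
-/

set_option autoImplicit false

namespace Groth.Agent.FormalA.PicAlg491

variable {A : Type*} [CommRing A]

/-- Nakayama at a prime. -/
theorem exists_notMem_smul_eq_zero {X : Type*} [AddCommGroup X] [Module A X] [Module.Finite A X]
    (f : A) (p : Ideal A) [p.IsPrime] (hfp : f ∈ p)
    (h : ∀ x : X, ∃ c : A, c ∉ p ∧ ∃ y : X, c • x = f • y) :
    ∃ g : A, g ∉ p ∧ ∀ x : X, g • x = 0 := by
  have hsub : Subsingleton (LocalizedModule p.primeCompl X) := by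
    have hle : (⊤ : Submodule (Localization.AtPrime p) (LocalizedModule p.primeCompl X)) ≤
        IsLocalRing.maximalIdeal (Localization.AtPrime p) • ⊤ := by
      rintro z -
      induction z using LocalizedModule.induction_on with | _ x s
      obtain ⟨c, hc, y, hy⟩ := h x
      have h1 : (LocalizedModule.mk x s : LocalizedModule p.primeCompl X) =
          algebraMap A (Localization.AtPrime p) f •
            LocalizedModule.mk y (⟨c, hc⟩ * s : p.primeCompl) := by
        rw [algebraMap_smul, LocalizedModule.smul'_mk, ← hy]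
        have := LocalizedModule.mk_cancel_common_left (S := p.primeCompl) ⟨c, hc⟩ s x
        rw [← this]
        rfl
      rw [h1]
      refine Submodule.smul_mem_smul ?_ trivial
      rw [IsLocalization.AtPrime.to_map_mem_maximal_iff (Localization.AtPrime p) p]
      exact hfp
    have := Submodule.eq_bot_of_le_smul_of_le_jacobson_bot _ _ (Module.Finite.fg_top) hle
      (IsLocalRing.maximalIdeal_le_jacobson _)
    exact (Submodule.subsingleton_iff _).1 (subsingleton_of_bot_eq_top this.symm)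
  have h2 : (⟨p, inferInstance⟩ : PrimeSpectrum A) ∉ Module.support A X :=
    Module.notMem_support_iff.2 hsub
  rw [Module.mem_support_iff_of_finite] at h2
  obtain ⟨g, hg, hgp⟩ := SetLike.not_le_iff_exists.1 h2
  exact ⟨g, hgp, fun x => Module.mem_annihilator.1 hg x⟩

variable [IsNoetherianRing A] {M N : Type*} [AddCommGroup M] [Module A M] [Module.Finite A M]
  [AddCommGroup N] [Module A N]

theorem exists_gen (f : A) (hreg : IsSMulRegular M f) (I : Ideal A) (φ : M →ₗ[A] N)
    (hker : ∀ x, φ x = 0 → ∃ k : ℕ, ∀ a ∈ I ^ k, ∃ y, a • x = f • y)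
    (hcok : ∀ y, ∃ k : ℕ, ∀ a ∈ I ^ k, ∃ x, φ x = a • y)
    (p : Ideal A) [p.IsPrime] (hfp : f ∈ p) (hIp : ¬ I ≤ p)
    (n₀ : N) (h1 : ∀ y : N, ∃ c : A, c ∉ p ∧ ∃ a : A, c • y = a • n₀)
    (h2 : ∀ a : A, a • n₀ = 0 → ∃ c : A, c ∉ p ∧ ∃ b, c * a = f * b) :
    ∃ (t : M) (g : A), g ∉ p ∧ (∀ x : M, ∃ a : A, g • x = a • t) ∧
      ∀ a : A, a • t = 0 → g * a = 0 := by
  obtain ⟨h, hI, hhp⟩ := SetLike.not_le_iff_exists.1 hIp
  have hpow : ∀ m : ℕ, h ^ m ∉ p := fun m hm => hhp (Ideal.IsPrime.mem_of_pow_mem ‹_› m hm)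
  have hmul : ∀ {a b : A}, a ∉ p → b ∉ p → a * b ∉ p := fun ha hb hab =>
    (Ideal.IsPrime.mem_or_mem ‹_› hab).elim ha hb
  obtain ⟨k₀, hk₀⟩ := hcok n₀
  obtain ⟨t, ht⟩ := hk₀ (h ^ k₀) (Ideal.pow_mem_pow hI _)
  -- the cokernel
  obtain ⟨g₁, hg₁, hC⟩ := exists_notMem_smul_eq_zero (X := M ⧸ Submodule.span A {t}) f p hfp (by
    intro z
    obtain ⟨x, rfl⟩ := Submodule.Quotient.mk_surjective _ z
    obtain ⟨c, hc, a, ha⟩ := h1 (φ x)
    obtain ⟨k₁, hk₁⟩ := hker ((h ^ k₀ * c) • x - a • t) (by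
      rw [map_sub, map_smul, map_smul, ht, mul_smul, ha, ← mul_smul, ← mul_smul, mul_comm, sub_self])
    obtain ⟨y, hy⟩ := hk₁ (h ^ k₁) (Ideal.pow_mem_pow hI _)
    refine ⟨h ^ k₁ * (h ^ k₀ * c), hmul (hpow _) (hmul (hpow _) hc), Submodule.Quotient.mk y, ?_⟩
    rw [← Submodule.Quotient.mk_smul, ← Submodule.Quotient.mk_smul, Submodule.Quotient.eq,
      Submodule.mem_span_singleton]
    refine ⟨h ^ k₁ * a, ?_⟩
    rw [← hy, smul_sub, mul_smul, mul_smul]
    abel)
  -- the kernel
  let K : Ideal A := LinearMap.ker (LinearMap.toSpanSingleton A M t)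
  have hK : ∀ a, a ∈ K ↔ a • t = 0 := fun a => by
    rw [LinearMap.mem_ker, LinearMap.toSpanSingleton_apply]
  obtain ⟨g₂, hg₂, hK2⟩ := exists_notMem_smul_eq_zero (X := K) f p hfp (by
    rintro ⟨a, ha⟩
    rw [hK] at ha
    obtain ⟨c, hc, b, hb⟩ := h2 (h ^ k₀ * a) (by
      rw [mul_comm, mul_smul, ← ht, ← map_smul, ha, map_zero])
    refine ⟨c * h ^ k₀, hmul hc (hpow _), ⟨b, ?_⟩, ?_⟩
    · rw [hK]
      apply hreg
      change f • (b • t) = f • (0 : M)
      rw [smul_zero, ← mul_smul, ← hb, mul_smul, mul_smul, ha, smul_zero, smul_zero]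
    · apply Subtype.ext
      change c * h ^ k₀ * a = f * b
      rw [← hb]
      ring)
  refine ⟨t, g₁ * g₂, hmul hg₁ hg₂, fun x => ?_, fun a ha => ?_⟩
  · have := hC (Submodule.Quotient.mk x)
    rw [← Submodule.Quotient.mk_smul, Submodule.Quotient.mk_eq_zero,
      Submodule.mem_span_singleton] at this
    obtain ⟨a, ha⟩ := this
    exact ⟨g₂ * a, by rw [mul_comm, mul_smul, ← ha, mul_smul]⟩
  · have := congrArg Subtype.val (hK2 ⟨a, (hK a).2 ha⟩)
    change g₂ * a = 0 at this
    rw [mul_assoc, this, mul_zero]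

end Groth.Agent.FormalA.PicAlg491
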