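import Groth.Agent.FormalA.EulerPoly
import Mathlib.RingTheory.Ideal.Quotient.Operations
import Mathlib.RingTheory.Noetherian.Nilpotent

/-!
# The graded ring of an invertible module on a punctured spectrum: algebraic core

`M : ℤ → Submodule A B` plays the role of `Γ(U, L^{⊗ i})` inside `B = ∏ Γ(W_j, O)`.
-/

set_option autoImplicit false
set_option linter.unusedSectionVars false

universe u v

namespace Groth.Agent.FormalA.PicCore

open LinearMap EulerThree EulerPoly

/-- The graded data attached to an invertible module `L` on the punctured spectrum of `A` together with a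
trivialization of `L` on the punctured spectrum of `A/fA`. -/
structure GData (A : Type u) [CommRing A] [IsLocalRing A] (f : A) (B : Type u) [CommRing B]
    [Algebra A B] (M : ℤ → Submodule A B) where
  fmem : f ∈ IsLocalRing.maximalIdeal A
  inj : Function.Injective (algebraMap A B)
  freg : ∀ x : B, f • x = 0 → x = 0
  mul_mem : ∀ {i j : ℤ} {x y : B}, x ∈ M i → y ∈ M j → x * y ∈ M (i + j)
  mem_zero : ∀ x : B, x ∈ M 0 ↔ ∃ a, algebraMap A B a = x
  loc : ∀ p : Ideal A, p.IsPrime → p ≠ IsLocalRing.maximalIdeal A →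
    ∃ s ∈ M 1, ∃ t ∈ M (-1), ∃ a : A, a ∉ p ∧ s * t = algebraMap A B a
  /-- the reductions modulo `f` -/
  φ : ∀ i, M i →ₗ[A] (A ⧸ Ideal.span {f})
  φmul : ∀ i j k (_ : i + j = k) (x : M i) (y : M j) (z : M k), (x : B) * y = z →
    φ k z = φ i x * φ j y
  φzero : ∀ (a : A) (x : M 0), algebraMap A B a = x → φ 0 x = Ideal.Quotient.mk _ a
  φker : ∀ i (x : M i), φ i x = 0 → ∃ y : M i, x = f • y

namespace GData

variable {A : Type u} [CommRing A] [IsLocalRing A] {f : A} {B : Type u} [CommRing B]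
  [Algebra A B] {M : ℤ → Submodule A B} (G : GData A f B M)

include G in
lemma one_mem : (1 : B) ∈ M 0 := (G.mem_zero 1).mpr ⟨1, map_one _⟩

include G in
lemma mul_mem' {i j k : ℤ} (h : i + j = k) {x y : B} (hx : x ∈ M i) (hy : y ∈ M j) : x * y ∈ M k :=
  h ▸ G.mul_mem hx hy

include G in
lemma pow_mem {i : ℤ} {x : B} (hx : x ∈ M i) (n : ℕ) : x ^ n ∈ M (n * i) := by
  induction n with
  | zero => simpa using G.one_mem
  | succ n ih =>
    rw [pow_succ]
    exact G.mul_mem' (by push_cast; ring) ih hx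

lemma φ_fmul (i : ℤ) (x : M i) : G.φ i (f • x) = 0 := by
  rw [map_smul]
  obtain ⟨y, hy⟩ := Ideal.Quotient.mk_surjective (G.φ i x)
  rw [← hy]
  change Ideal.Quotient.mk _ (f * y) = 0
  rw [Ideal.Quotient.eq_zero_iff_mem]
  exact Ideal.mul_mem_right _ _ (Ideal.mem_span_singleton_self f)

/-- The opposite grading. -/
def neg : GData A f B (fun i => M (-i)) where
  fmem := G.fmem
  inj := G.inj
  freg := G.freg
  mul_mem := fun {i j x y} hx hy => G.mul_mem' (by ring) hx hy
  mem_zero := fun x => by rw [neg_zero]; exact G.mem_zero x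
  loc := fun p hp hpm => by
    obtain ⟨s, hs, t, ht, a, ha, h⟩ := G.loc p hp hpm
    exact ⟨t, ht, s, by simpa using hs, a, ha, by rw [mul_comm]; exact h⟩
  φ := fun i => G.φ (-i)
  φmul := fun i j k hk x y z h => G.φmul (-i) (-j) (-k) (by rw [← hk]; ring) x y z h
  φzero := fun a x h => by
    have e : G.φ (-0) x = G.φ 0 ⟨x, by simpa using x.2⟩ := by
      have : ∀ (j : ℤ) (hj : j = 0) (x : M j), G.φ j x = G.φ 0 ⟨x, by rw [← hj]; exact x.2⟩ := by
        intro j hj x
        subst hj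
        rfl
      exact this _ neg_zero x
    rw [e]
    exact G.φzero a ⟨x, by simpa using x.2⟩ h
  φker := fun i x hx => G.φker (-i) x hx

/-- `s` of degree one is good at `p`. -/
def Good (_G : GData A f B M) (s : M 1) (p : Ideal A) : Prop :=
  ∃ t ∈ M (-1), ∃ a : A, a ∉ p ∧ (s : B) * t = algebraMap A B a

lemma good_add_of_bad {s t : M 1} {p : Ideal A} (hs : G.Good s p) (ht : ¬ G.Good t p) :
    G.Good (s + t) p := by
  obtain ⟨r, hr, a, ha, h⟩ := hs
  obtain ⟨b, hb⟩ := (G.mem_zero ((t : B) * r)).mp (G.mul_mem' (by ring) t.2 hr)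
  have hbp : b ∈ p := by
    by_contra hbp
    exact ht ⟨r, hr, b, hbp, hb.symm⟩
  refine ⟨r, hr, a + b, fun hab => ha ?_, ?_⟩
  · have := p.sub_mem hab hbp
    rwa [add_sub_cancel_right] at this
  · rw [map_add, hb, ← h]
    push_cast
    ring

lemma good_smul {s : M 1} {p : Ideal A} [p.IsPrime] (hs : G.Good s p) {c : A} (hc : c ∉ p) :
    G.Good (c • s) p := by
  obtain ⟨r, hr, a, ha, h⟩ := hs
  refine ⟨r, hr, c * a, fun hab => ?_, ?_⟩
  · rcases (inferInstance : p.IsPrime).mem_or_mem hab with h' | h'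
    · exact hc h'
    · exact ha h'
  · rw [map_mul, ← h, Submodule.coe_smul, Algebra.smul_def]
    ring

lemma not_good_smul {s : M 1} {p : Ideal A} {c : A} (hc : c ∈ p) :
    ¬ G.Good (c • s) p := by
  rintro ⟨r, hr, a, ha, h⟩
  obtain ⟨b, hb⟩ := (G.mem_zero ((s : B) * r)).mp (G.mul_mem' (by ring) s.2 hr)
  apply ha
  have : a = c * b := by
    apply G.inj
    rw [← h, map_mul, hb, Submodule.coe_smul, Algebra.smul_def]
    ring
  rw [this]
  exact Ideal.mul_mem_right _ _ hc

include G in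
lemma exists_good_finset (n : ℕ) : ∀ Z : Finset (Ideal A), Z.card = n →
    (∀ p ∈ Z, p.IsPrime ∧ p ≠ IsLocalRing.maximalIdeal A) → ∃ s : M 1, ∀ p ∈ Z, G.Good s p := by
  classical
  induction n with
  | zero =>
    intro Z hZ _
    rw [Finset.card_eq_zero] at hZ
    subst hZ
    exact ⟨0, fun p hp => absurd hp (Finset.notMem_empty p)⟩
  | succ n ih =>
    intro Z hZ hp
    have hne : Z.Nonempty := by rw [← Finset.card_pos, hZ]; omega
    obtain ⟨p, hpZ, hmin⟩ := Z.exists_minimal hne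
    have hpp := (hp p hpZ).1
    obtain ⟨s, hs⟩ := ih (Z.erase p) (by rw [Finset.card_erase_of_mem hpZ, hZ]; rfl)
      (fun q hq => hp q (Finset.mem_of_mem_erase hq))
    by_cases hsp : G.Good s p
    · refine ⟨s, fun q hq => ?_⟩
      by_cases hqp : q = p
      · rw [hqp]; exact hsp
      · exact hs q (Finset.mem_erase.mpr ⟨hqp, hq⟩)
    · obtain ⟨s₀, hs₀, t, ht, a, ha, h⟩ := G.loc p hpp (hp p hpZ).2
      have hgood₀ : G.Good ⟨s₀, hs₀⟩ p := ⟨t, ht, a, ha, h⟩
      -- an element in all other primes but not in `p`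
      have hc : ∃ c : A, c ∉ p ∧ ∀ q ∈ Z.erase p, c ∈ q := by
        have h1 : ¬ (∏ q ∈ Z.erase p, q) ≤ p := by
          intro hle
          obtain ⟨q, hq, hqp⟩ := (Ideal.IsPrime.prod_le hpp).mp hle
          have h2 := hmin (Finset.mem_of_mem_erase hq) hqp
          exact (Finset.ne_of_mem_erase hq) (le_antisymm hqp h2)
        obtain ⟨c, hc, hcp⟩ := Set.not_subset.mp h1
        exact ⟨c, hcp, fun q hq => (Ideal.prod_le_inf.trans (Finset.inf_le hq)) hc⟩
      obtain ⟨c, hcp, hcq⟩ := hc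
      refine ⟨c • ⟨s₀, hs₀⟩ + s, fun q hq => ?_⟩
      by_cases hqp : q = p
      · rw [hqp]
        exact G.good_add_of_bad (G.good_smul hgood₀ hcp) hsp
      · have hq' := Finset.mem_erase.mpr ⟨hqp, hq⟩
        rw [add_comm]
        exact G.good_add_of_bad (hs q hq') (G.not_good_smul (hcq q hq'))

include G in
lemma exists_good (Z : Set (Ideal A)) (hZ : Z.Finite)
    (h : ∀ p ∈ Z, p.IsPrime ∧ p ≠ IsLocalRing.maximalIdeal A) : ∃ s : M 1, ∀ p ∈ Z, G.Good s p := by
  obtain ⟨s, hs⟩ := G.exists_good_finset hZ.toFinset.card hZ.toFinset rfl (by simpa using h)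
  exact ⟨s, by simpa using hs⟩

include G in
/-- Local invertibility in all degrees. -/
lemma loc_nat (n : ℕ) (Z : Set (Ideal A)) (hZ : Z.Finite)
    (h : ∀ p ∈ Z, p.IsPrime ∧ p ≠ IsLocalRing.maximalIdeal A) :
    ∃ x ∈ M n, ∀ p ∈ Z, ∃ y ∈ M (-n), ∃ a : A, a ∉ p ∧ x * y = algebraMap A B a := by
  obtain ⟨s, hs⟩ := G.exists_good Z hZ h
  refine ⟨s ^ n, by simpa using G.pow_mem s.2 n, fun p hp => ?_⟩
  obtain ⟨t, ht, a, ha, hst⟩ := hs p hp
  refine ⟨t ^ n, by simpa using G.pow_mem ht n, a ^ n, fun h' => ha ((h p hp).1.mem_of_pow_mem n h'), ?_⟩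
  rw [← mul_pow, hst, map_pow]

include G in
lemma loc_int (i : ℤ) (Z : Set (Ideal A)) (hZ : Z.Finite)
    (h : ∀ p ∈ Z, p.IsPrime ∧ p ≠ IsLocalRing.maximalIdeal A) :
    ∃ x ∈ M i, ∀ p ∈ Z, ∃ y ∈ M (-i), ∃ a : A, a ∉ p ∧ x * y = algebraMap A B a := by
  obtain ⟨n, rfl | rfl⟩ := i.eq_nat_or_neg
  · exact G.loc_nat n Z hZ h
  · exact G.neg.loc_nat n Z hZ h

variable [IsNoetherianRing A]

include G in
/-- A nonzero element of `M i` is not killed outside the closed point. -/
lemma eq_zero_of_forall (i : ℤ) (x : B) (hx : x ∈ M i)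
    (h : ∀ p ∈ associatedPrimes A A, ∃ a : A, a ∉ p ∧ a • x = 0) : x = 0 := by
  -- `x y = 0` for all `y` of degree `- i`
  have h1 : ∀ y ∈ M (-i), x * y = 0 := by
    intro y hy
    obtain ⟨b, hb⟩ := (G.mem_zero (x * y)).mp (G.mul_mem' (by ring) hx hy)
    by_contra hne
    have hb0 : b ≠ 0 := by
      rintro rfl
      exact hne (by rw [← hb, map_zero])
    obtain ⟨P, hP, hP'⟩ := exists_le_isAssociatedPrime_of_isNoetherianRing A b hb0
    obtain ⟨a, ha, hax⟩ := h P hP
    apply ha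
    apply hP'
    rw [Submodule.mem_colon_singleton, Submodule.mem_bot]
    apply G.inj
    rw [smul_eq_mul, map_mul, hb, map_zero, ← mul_assoc, ← Algebra.smul_def, hax, zero_mul]
  -- the annihilator of `x` is not contained in any prime different from the maximal ideal
  let I : Ideal A := (⊥ : Submodule A B).colon {x}
  have hI : ∀ a, a ∈ I ↔ a • x = 0 := by
    intro a
    rw [Submodule.mem_colon_singleton, Submodule.mem_bot]
  have h2 : ∀ q : Ideal A, q.IsPrime → I ≤ q → q = IsLocalRing.maximalIdeal A := by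
    intro q hq hle
    by_contra hqm
    obtain ⟨x', hx', hx''⟩ := G.loc_int i {q} (Set.finite_singleton q) (by
      intro q' hq'; rw [Set.mem_singleton_iff] at hq'; rw [hq']; exact ⟨hq, hqm⟩)
    obtain ⟨y, hy, b, hb, hxy⟩ := hx'' q rfl
    apply hb
    apply hle
    rw [hI, Algebra.smul_def, ← hxy, mul_comm x' y, mul_assoc, mul_comm x' x, ← mul_assoc, mul_comm y x,
      h1 y hy, zero_mul]
  have h3 : f ∈ I.radical := by
    rw [Ideal.radical_eq_sInf, Submodule.mem_sInf]
    rintro q ⟨hq, hqp⟩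
    rw [h2 q hqp hq]
    exact G.fmem
  obtain ⟨n, hn⟩ := h3
  rw [hI] at hn
  clear h1 h2 hI
  induction n with
  | zero => simpa using hn
  | succ n ih =>
    rw [pow_succ', mul_smul] at hn
    exact ih (G.freg _ hn)

include G in
lemma reg_pow (n : ℕ) (x : B) (h : f ^ n • x = 0) : x = 0 := by
  induction n with
  | zero => simpa using h
  | succ n ih =>
    rw [pow_succ', mul_smul] at h
    exact ih (G.freg _ h)

include G in
lemma reg_pow_A (n : ℕ) (b : A) (h : f ^ n * b = 0) : b = 0 := by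
  apply G.inj
  rw [map_zero]
  apply G.reg_pow n
  rw [Algebra.smul_def, ← map_mul, h, map_zero]

include G in
lemma not_mem_ass_max : IsLocalRing.maximalIdeal A ∉ associatedPrimes A A := by
  rintro ⟨-, b, hb⟩
  have h1 := G.fmem
  rw [hb] at h1
  obtain ⟨n, hn⟩ := h1
  have h2 : f ^ n * b = 0 := by
    have := (Submodule.mem_colon_singleton).mp hn
    simpa using this
  have h3 := G.reg_pow_A n b h2
  have h4 : (1 : A) ∈ IsLocalRing.maximalIdeal A := by
    rw [hb, h3]
    apply Ideal.le_radical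
    rw [Submodule.mem_colon_singleton, smul_zero]
    exact Submodule.zero_mem _
  exact (Ideal.ne_top_iff_one _).mp (IsLocalRing.maximalIdeal.isMaximal A).ne_top h4

include G in
/-- The twists are finite modules. -/
lemma finite (i : ℤ) : Module.Finite A (M i) := by
  obtain ⟨t, ht, ht'⟩ := G.loc_int (-i) (associatedPrimes A A) (associatedPrimes.finite A A) (by
    intro p hp
    refine ⟨IsAssociatedPrime.isPrime hp, ?_⟩
    rintro rfl
    exact G.not_mem_ass_max hp)
  let u : M i →ₗ[A] M 0 :=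
    { toFun := fun x => ⟨x * t, G.mul_mem' (by ring) x.2 ht⟩
      map_add' := fun x y => Subtype.ext (by push_cast; ring)
      map_smul' := fun a x => Subtype.ext (by simp [Algebra.smul_def, mul_assoc]) }
  have hu : Function.Injective u := by
    rw [← LinearMap.ker_eq_bot, LinearMap.ker_eq_bot']
    intro x hx
    apply Subtype.ext
    refine G.eq_zero_of_forall i x x.2 (fun p hp => ?_)
    obtain ⟨y, hy, a, ha, h⟩ := ht' p hp
    refine ⟨a, ha, ?_⟩
    have hx' : (x : B) * t = 0 := congrArg Subtype.val hx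
    rw [Algebra.smul_def, ← h, mul_comm t y, mul_assoc, mul_comm t, hx', mul_zero]
  let v : A →ₗ[A] M 0 := (Algebra.linearMap A B).codRestrict (M 0)
    (fun a => (G.mem_zero _).mpr ⟨a, rfl⟩)
  have hv : Function.Surjective v := by
    intro x
    obtain ⟨a, ha⟩ := (G.mem_zero x).mp x.2
    exact ⟨a, Subtype.ext ha⟩
  have : IsNoetherian A (M 0) := isNoetherian_of_surjective v (LinearMap.range_eq_top.mpr hv)
  have : IsNoetherian A (M i) := isNoetherian_of_injective u hu
  infer_instance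

/-- The tower of twists starting in degree `-k`. -/
noncomputable def tower (k : ℤ) : Tower A f (M 1)
    (fun s => Function.surjInv Ideal.Quotient.mk_surjective (G.φ 1 s)) :=
  letI := fun i => G.finite i
  { K := fun i => M (i - k)
    N := A ⧸ Ideal.span {f}
    μ := fun i s =>
      { toFun := fun x => ⟨s * x, G.mul_mem' (by push_cast; ring) s.2 x.2⟩
        map_add' := fun x y => Subtype.ext (by push_cast; ring)
        map_smul' := fun a x => Subtype.ext (by simp) }
    comm := fun i s t x => Subtype.ext (by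
      change (t : B) * (s * x) = s * (t * x)
      ring)
    φ := fun i => G.φ (i - k)
    φμ := fun i s x => by
      refine (G.φmul 1 (i - k) _ (by push_cast; ring) s x _ rfl).trans ?_
      have h := Function.surjInv_eq (f := Ideal.Quotient.mk (Ideal.span {f}))
        Ideal.Quotient.mk_surjective (G.φ 1 s)
      conv_lhs => rw [← h]
      rfl
    fN := fun y => by
      obtain ⟨y, rfl⟩ := Ideal.Quotient.mk_surjective y
      change Ideal.Quotient.mk _ (f * y) = 0
      rw [Ideal.Quotient.eq_zero_iff_mem]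
      exact Ideal.mul_mem_right _ _ (Ideal.mem_span_singleton_self f) }

lemma tower_goodAt (k : ℤ) (s : M 1) (p : Ideal A) (h : G.Good s p) : (G.tower k).GoodAt s p := by
  obtain ⟨t, ht, a, ha, hst⟩ := h
  intro i
  constructor
  · intro y
    change M ((i + 1 : ℕ) - k) at y
    refine ⟨a, ha, ⟨t * (y : B), ?_⟩, ?_⟩
    · exact G.mul_mem' (by push_cast; ring) ht y.2
    · refine Subtype.ext ?_
      change (s : B) * (t * (y : B)) = a • (y : B)
      rw [← mul_assoc, hst, Algebra.smul_def]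
  · intro x hx
    refine ⟨a, ha, ?_⟩
    change M ((i : ℕ) - k) at x
    have hx' : (s : B) * (x : B) = 0 := congrArg Subtype.val hx
    refine Subtype.ext ?_
    change a • (x : B) = 0
    rw [Algebra.smul_def, ← hst, mul_comm (s : B) t, mul_assoc, hx', mul_zero]

lemma eps_not_mem (s : M 1) (p : Ideal A) (h : G.Good s p) (hf : f ∈ p) :
    Function.surjInv Ideal.Quotient.mk_surjective (G.φ 1 s) ∉ p := by
  obtain ⟨t, ht, a, ha, hst⟩ := h
  intro hm
  apply ha
  have h1 : G.φ 0 ⟨(s : B) * t, G.mul_mem' (by ring) s.2 ht⟩ = Ideal.Quotient.mk _ a :=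
    G.φzero a _ hst.symm
  rw [G.φmul 1 (-1) 0 (by ring) s ⟨t, ht⟩ _ rfl] at h1
  have h2 := Function.surjInv_eq (f := Ideal.Quotient.mk (Ideal.span {f}))
        Ideal.Quotient.mk_surjective (G.φ 1 s)
  obtain ⟨b, hb⟩ := Ideal.Quotient.mk_surjective (G.φ (-1) ⟨t, ht⟩)
  rw [← h2, ← hb, ← map_mul, Ideal.Quotient.eq] at h1
  have h3 : Ideal.span {f} ≤ p := by
    rw [Ideal.span_singleton_le_iff_mem]; exact hf
  have h4 := h3 h1
  have h5 := p.sub_mem (p.mul_mem_right b hm) h4
  simpa using h5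

/-- `1` is in the image of `φ i` outside the closed point. -/
lemma exists_notMem_range (i : ℤ) (p : Ideal A) (hp : p.IsPrime)
    (hpm : p ≠ IsLocalRing.maximalIdeal A) :
    ∃ a : A, a ∉ p ∧ Ideal.Quotient.mk (Ideal.span {f}) a ∈ range (G.φ i) := by
  obtain ⟨x, hx, hx'⟩ := G.loc_int i {p} (Set.finite_singleton p) (by
      intro q' hq'; rw [Set.mem_singleton_iff] at hq'; rw [hq']; exact ⟨hp, hpm⟩)
  obtain ⟨y, hy, a, ha, h⟩ := hx' p rfl
  refine ⟨a, ha, ?_⟩
  have h1 : G.φ 0 ⟨x * y, G.mul_mem' (by ring) hx hy⟩ = Ideal.Quotient.mk _ a :=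
    G.φzero a _ h.symm
  rw [G.φmul i (-i) 0 (by ring) ⟨x, hx⟩ ⟨y, hy⟩ _ rfl] at h1
  obtain ⟨b, hb⟩ := Ideal.Quotient.mk_surjective (G.φ (-i) ⟨y, hy⟩)
  refine ⟨b • ⟨x, hx⟩, ?_⟩
  rw [map_smul, ← h1, ← hb, mul_comm]
  rfl

lemma length_coker (i : ℤ) : Module.length A ((A ⧸ Ideal.span {f}) ⧸ range (G.φ i)) < ⊤ := by
  refine length_lt_top_of_zeroAt _ (fun p hp hpm => ?_)
  obtain ⟨a, ha, h⟩ := G.exists_notMem_range i p hp hpm
  intro x
  obtain ⟨x, rfl⟩ := Submodule.Quotient.mk_surjective _ x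
  obtain ⟨x, rfl⟩ := Ideal.Quotient.mk_surjective x
  refine ⟨a, ha, ?_⟩
  rw [← Submodule.Quotient.mk_smul, Submodule.Quotient.mk_eq_zero]
  have : a • Ideal.Quotient.mk (Ideal.span {f}) x = x • Ideal.Quotient.mk (Ideal.span {f}) a := by
    change Ideal.Quotient.mk (Ideal.span {f}) (a * x) = Ideal.Quotient.mk (Ideal.span {f}) (x * a)
    rw [mul_comm]
  rw [this]
  exact Submodule.smul_mem _ _ h

lemma tower_fin (k : ℤ) (i : ℕ) : (G.tower k).Fin i := by
  refine ⟨?_, ?_, G.length_coker (i - k)⟩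
  · have : ker (LinearMap.lsmul A ((G.tower k).K i) f) = ⊥ := by
      rw [LinearMap.ker_eq_bot']
      intro x hx
      exact Subtype.ext (G.freg _ (congrArg Subtype.val hx))
    rw [h0, this, Module.length_bot]
    exact WithTop.top_pos
  · have : (range (LinearMap.lsmul A ((G.tower k).K i) f)).submoduleOf (ker ((G.tower k).φ i)) = ⊤ := by
      rw [eq_top_iff]
      rintro ⟨x, hx⟩ -
      obtain ⟨y, hy⟩ := G.φker (i - k) x hx
      exact ⟨y, hy.symm⟩
    rw [h1, this]
    have : Subsingleton (ker ((G.tower k).φ i) ⧸ (⊤ : Submodule A (ker ((G.tower k).φ i)))) :=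
      Submodule.Quotient.subsingleton_iff.mpr rfl
    rw [Module.length_eq_zero]
    exact WithTop.top_pos

/-- The length of the cokernel of `φ i`. -/
noncomputable def d (i : ℤ) : ℤ := ((Module.length A ((A ⧸ Ideal.span {f}) ⧸ range (G.φ i))).toNat : ℤ)

lemma tower_P (k : ℤ) (i : ℕ) : (G.tower k).P i = G.d (i - k) := by
  have e0 : h0 (LinearMap.lsmul A ((G.tower k).K i) f) = 0 := by
    have : ker (LinearMap.lsmul A ((G.tower k).K i) f) = ⊥ := by
      rw [LinearMap.ker_eq_bot']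
      intro x hx
      exact Subtype.ext (G.freg _ (congrArg Subtype.val hx))
    rw [h0, this, Module.length_bot]
  have e1 : h1 (LinearMap.lsmul A ((G.tower k).K i) f) ((G.tower k).φ i) = 0 := by
    have : (range (LinearMap.lsmul A ((G.tower k).K i) f)).submoduleOf (ker ((G.tower k).φ i)) = ⊤ := by
      rw [eq_top_iff]
      rintro ⟨x, hx⟩ -
      obtain ⟨y, hy⟩ := G.φker (i - k) x hx
      exact ⟨y, hy.symm⟩
    rw [h1, this]
    have : Subsingleton (ker ((G.tower k).φ i) ⧸ (⊤ : Submodule A (ker ((G.tower k).φ i)))) :=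
      Submodule.Quotient.subsingleton_iff.mpr rfl
    rw [Module.length_eq_zero]
  rw [Tower.P, chi, e0, e1]
  simp only [ENat.toNat_zero, Nat.cast_zero, sub_zero, zero_add]
  rfl

/-- The cokernel lengths grow polynomially. -/
theorem isPoly (k : ℤ) : IsPoly (fun i : ℕ => G.d (i - k)) := by
  have : IsPoly (G.tower k).P := by
    refine Tower.isPoly (f := f) (fun s p => p.IsPrime ∧ G.Good s p) (fun s p h hf => G.eps_not_mem s p h.2 hf)
      (fun Z hZ hZ' => ?_) ⊥ (G.tower k) (fun s p _ h => G.tower_goodAt k s p h.2)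
      (fun i => G.tower_fin k i) (fun p _ _ h => absurd bot_le h) (fun p _ _ h => absurd bot_le h)
    obtain ⟨s, hs⟩ := G.exists_good Z hZ hZ'
    exact ⟨s, fun p hp => ⟨(hZ' p hp).1, hs p hp⟩⟩
  convert this using 1
  funext i
  exact (G.tower_P k i).symm

lemma d_eq_zero_iff (i : ℤ) : G.d i = 0 ↔ Function.Surjective (G.φ i) := by
  rw [← LinearMap.range_eq_top, ← Submodule.Quotient.subsingleton_iff]
  constructor
  · intro h
    have h1 : (Module.length A ((A ⧸ Ideal.span {f}) ⧸ range (G.φ i))).toNat = 0 := by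
      unfold d at h
      exact_mod_cast h
    rw [ENat.toNat_eq_zero] at h1
    rcases h1 with h1 | h1
    · rwa [Module.length_eq_zero_iff] at h1
    · exact absurd h1 (G.length_coker i).ne
  · intro h
    rw [d, Module.length_eq_zero]
    rfl

lemma d_zero : G.d 0 = 0 := by
  rw [d_eq_zero_iff]
  intro y
  obtain ⟨y, rfl⟩ := Ideal.Quotient.mk_surjective y
  exact ⟨⟨algebraMap A B y, (G.mem_zero _).mpr ⟨y, rfl⟩⟩, G.φzero y _ rfl⟩

lemma d_nonneg (i : ℤ) : 0 ≤ G.d i := Int.natCast_nonneg _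

/-- If `d 1 = d (-1) = 0` then the line bundle is trivial. -/
theorem exists_mul_eq_one (h₁ : G.d 1 = 0) (h₂ : G.d (-1) = 0) :
    ∃ s ∈ M 1, ∃ t ∈ M (-1), s * t = 1 := by
  rw [d_eq_zero_iff] at h₁ h₂
  obtain ⟨s, hs⟩ := h₁ 1
  obtain ⟨t, ht⟩ := h₂ 1
  obtain ⟨a, ha⟩ := (G.mem_zero ((s : B) * t)).mp (G.mul_mem' (by ring) s.2 t.2)
  have h1 : G.φ 0 ⟨(s : B) * t, G.mul_mem' (by ring) s.2 t.2⟩ = Ideal.Quotient.mk _ a :=
    G.φzero a _ ha
  rw [G.φmul 1 (-1) 0 (by ring) s t _ rfl, hs, ht, mul_one] at h1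
  have h3 : IsUnit a := by
    by_contra hu
    have h4 : (1 : A) - a ∈ Ideal.span {f} := by
      rw [← Ideal.Quotient.eq, map_one]; exact h1
    have h5 : Ideal.span {f} ≤ IsLocalRing.maximalIdeal A := by
      rw [Ideal.span_singleton_le_iff_mem]; exact G.fmem
    have h6 := (IsLocalRing.maximalIdeal A).add_mem (h5 h4) ((IsLocalRing.mem_maximalIdeal a).mpr hu)
    rw [sub_add_cancel] at h6
    exact (Ideal.ne_top_iff_one _).mp (IsLocalRing.maximalIdeal.isMaximal A).ne_top h6
  obtain ⟨b, hb⟩ := h3.exists_right_inv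
  refine ⟨s, s.2, b • t, (M (-1)).smul_mem _ t.2, ?_⟩
  rw [mul_smul_comm, ← ha, Algebra.smul_def, ← map_mul, mul_comm b a, hb, map_one]

include G in
/-- The torsion case. -/
theorem exists_mul_eq_one_of_torsion (n : ℕ) (g : B) (hg : g ∈ M (n + 1)) (g' : B)
    (hg' : g' ∈ M (-(n + 1))) (hgg : g * g' = 1) :
    ∃ s ∈ M 1, ∃ t ∈ M (-1), s * t = 1 := by
  have hφ : G.φ (n + 1) ⟨g, hg⟩ * G.φ (-(n + 1)) ⟨g', hg'⟩ = 1 := by
    rw [← G.φmul (n + 1) (-(n + 1)) 0 (by ring) ⟨g, hg⟩ ⟨g', hg'⟩ ⟨1, G.one_mem⟩ hgg]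
    exact G.φzero 1 _ (map_one _)
  -- multiplication by elements of `A/f` preserves submodules
  have hstab : ∀ (N : Submodule A (A ⧸ Ideal.span {f})) (c x : A ⧸ Ideal.span {f}), x ∈ N → c * x ∈ N := by
    intro N c x hx
    obtain ⟨c, rfl⟩ := Ideal.Quotient.mk_surjective c
    exact N.smul_mem c hx
  have hrange : ∀ i : ℤ, range (G.φ (i + (n + 1))) = range (G.φ i) := by
    intro i
    apply le_antisymm
    · rintro _ ⟨y, rfl⟩
      have h1 : (y : B) * g' ∈ M i := G.mul_mem' (by ring) y.2 hg'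
      have h2 : G.φ (i + (n + 1)) y = G.φ (n + 1) ⟨g, hg⟩ * G.φ i ⟨_, h1⟩ := by
        refine G.φmul (n + 1) i _ (by ring) ⟨g, hg⟩ ⟨_, h1⟩ y ?_
        change g * ((y : B) * g') = y
        rw [mul_comm (y : B), ← mul_assoc, hgg, one_mul]
      rw [h2]
      exact hstab _ _ _ ⟨_, rfl⟩
    · rintro _ ⟨y, rfl⟩
      have h1 : (y : B) * g ∈ M (i + (n + 1)) := G.mul_mem' rfl y.2 hg
      have h2 : G.φ i y = G.φ (-(n + 1)) ⟨g', hg'⟩ * G.φ (i + (n + 1)) ⟨_, h1⟩ := by
        refine G.φmul (-(n + 1)) (i + (n + 1)) _ (by ring) ⟨g', hg'⟩ ⟨_, h1⟩ y ?_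
        change g' * ((y : B) * g) = y
        rw [mul_comm (y : B), ← mul_assoc, mul_comm g', hgg, one_mul]
      rw [h2]
      exact hstab _ _ _ ⟨_, rfl⟩
  have hper : ∀ i : ℤ, G.d (i + (n + 1)) = G.d i := by
    intro i
    unfold d
    rw [hrange]
  have hP := G.isPoly 0
  have hconst := const_of_isPoly_of_periodic hP (N := n + 1) (Nat.succ_pos n) (fun i => by
    have := hper (i - 0)
    rw [← this]
    congr 1)
  have hd : ∀ i : ℕ, G.d i = 0 := by
    intro i
    have := hconst i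
    simp only [sub_zero, Nat.cast_zero] at this
    rw [this, G.d_zero]
  refine G.exists_mul_eq_one (by simpa using hd 1) ?_
  rw [← hper (-1)]
  have := hd n
  rw [← this]
  congr 1
  ring

end GData

end Groth.Agent.FormalA.PicCore
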