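import Groth.Agent.FormalA.PicGeom
import Groth.Agent.FormalA.PicCore

/-!
# Twisted sections of a line bundle, as families of functions
-/

set_option autoImplicit false
set_option linter.unusedSectionVars false

universe u

open CategoryTheory CategoryTheory.Limits AlgebraicGeometry Opposite TopologicalSpace

namespace Groth.Agent.FormalA.PicCech

open Groth.Agent.Fdesc.LocGen PicGeom

variable {A : Type u} [CommRing A] {Y : Scheme.{u}}

/-- A finite cover of `Y` by basic opens over which `L` has a generator. -/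
structure Cov (ρ : A ≃+* Γ(Y, ⊤)) (L : Y.Modules) where
  /-- index set -/
  J : Type u
  [fin : Finite J]
  /-- the functions -/
  h : J → A
  cover : ⨆ j, D (ρ : A →+* Γ(Y, ⊤)) (h j) = ⊤
  /-- the generators -/
  e : ∀ j, Γ(L, D (ρ : A →+* Γ(Y, ⊤)) (h j))
  gen : ∀ j, IsGen (e j)

attribute [instance] Cov.fin

namespace Cov

variable {ρ : A ≃+* Γ(Y, ⊤)} {L : Y.Modules} (C : Cov ρ L)

/-- The opens of the cover. -/
noncomputable abbrev W (j : C.J) : Y.Opens := D (ρ : A →+* Γ(Y, ⊤)) (C.h j)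

lemma exists_c (j k : C.J) : ∃ c : (Γ(Y, C.W j ⊓ C.W k))ˣ,
    res L inf_le_right (C.e k) = (c : Γ(Y, C.W j ⊓ C.W k)) • res L inf_le_left (C.e j) := by
  obtain ⟨a, ha, h⟩ := ((C.gen j).res (inf_le_left : C.W j ⊓ C.W k ≤ C.W j)).exists_unit
    ((C.gen k).res inf_le_right)
  exact ⟨ha.unit, h⟩

/-- The transition functions. -/
noncomputable def c (j k : C.J) : (Γ(Y, C.W j ⊓ C.W k))ˣ := (C.exists_c j k).choose

lemma hc (j k : C.J) : res L inf_le_right (C.e k) =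
    (C.c j k : Γ(Y, C.W j ⊓ C.W k)) • res L inf_le_left (C.e j) := (C.exists_c j k).choose_spec

lemma hc' (j k : C.J) {V : Y.Opens} (hV : V ≤ C.W j ⊓ C.W k) :
    res L (hV.trans inf_le_right) (C.e k) =
      ores hV (C.c j k : Γ(Y, C.W j ⊓ C.W k)) • res L (hV.trans inf_le_left) (C.e j) := by
  have := congrArg (res L hV) (C.hc j k)
  rwa [res_smul, res_res, res_res] at this

/-- restriction of units -/
noncomputable def ur {U V : Y.Opens} (h : V ≤ U) (x : (Γ(Y, U))ˣ) : (Γ(Y, V))ˣ :=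
  Units.map (ores h : Γ(Y, U) →* Γ(Y, V)) x

lemma coe_ur {U V : Y.Opens} (h : V ≤ U) (x : (Γ(Y, U))ˣ) : (ur h x : Γ(Y, V)) = ores h x := rfl

lemma ores_zpow {U V : Y.Opens} (h : V ≤ U) (x : (Γ(Y, U))ˣ) (i : ℤ) :
    ores h ((x ^ i : (Γ(Y, U))ˣ) : Γ(Y, U)) = ((ur h x ^ i : (Γ(Y, V))ˣ) : Γ(Y, V)) := by
  rw [← coe_ur, ur, map_zpow]; rfl

lemma cocycle (j k l : C.J) {V : Y.Opens} (hjk : V ≤ C.W j ⊓ C.W k) (hkl : V ≤ C.W k ⊓ C.W l)
    (hjl : V ≤ C.W j ⊓ C.W l) : ur hjl (C.c j l) = ur hjk (C.c j k) * ur hkl (C.c k l) := by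
  apply Units.ext
  have h1 := C.hc' j l hjl
  rw [C.hc' k l hkl, C.hc' j k hjk, smul_smul] at h1
  have h2 := ((C.gen j).res (hjl.trans inf_le_left)).ext h1
  rw [Units.val_mul, coe_ur, coe_ur, coe_ur, ← h2, mul_comm]

lemma c_self (j : C.J) {V : Y.Opens} (h : V ≤ C.W j ⊓ C.W j) : ur h (C.c j j) = 1 := by
  have := C.cocycle j j j h h h
  have h2 : ur h (C.c j j) * 1 = ur h (C.c j j) * ur h (C.c j j) := by rw [mul_one]; exact this
  exact (mul_left_cancel h2).symm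

/-- The ambient ring: functions on the members of the cover. -/
def B : Type u := ∀ j, Γ(Y, C.W j)

noncomputable instance : CommRing C.B := inferInstanceAs (CommRing (∀ j, Γ(Y, C.W j)))

noncomputable instance : Algebra A C.B :=
  RingHom.toAlgebra (RingHom.pi (fun j => al (ρ : A →+* Γ(Y, ⊤)) (C.W j)) : A →+* ∀ j, Γ(Y, C.W j))

lemma algebraMap_apply (a : A) (j : C.J) : algebraMap A C.B a j = al (ρ : A →+* Γ(Y, ⊤)) (C.W j) a := rfl

lemma smul_apply (a : A) (x : C.B) (j : C.J) :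
    (a • x) j = al (ρ : A →+* Γ(Y, ⊤)) (C.W j) a * x j := by
  rw [Algebra.smul_def]; rfl

lemma mul_apply (x y : C.B) (j : C.J) : (x * y) j = x j * y j := rfl

lemma add_apply (x y : C.B) (j : C.J) : (x + y) j = x j + y j := rfl

/-- Sections of `L^{⊗ i}`. -/
noncomputable def M (i : ℤ) : Submodule A C.B where
  carrier := {x | ∀ j k, ores (inf_le_left : C.W j ⊓ C.W k ≤ C.W j) (x j) =
    ((C.c j k ^ i : (Γ(Y, C.W j ⊓ C.W k))ˣ) : Γ(Y, C.W j ⊓ C.W k)) * ores inf_le_right (x k)}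
  zero_mem' := fun j k => by
    change ores _ (0 : Γ(Y, C.W j)) = _ * ores _ (0 : Γ(Y, C.W k))
    rw [map_zero, map_zero, mul_zero]
  add_mem' := fun {x y} hx hy j k => by
    rw [add_apply, add_apply, map_add, map_add, hx, hy, mul_add]
  smul_mem' := fun a x hx j k => by
    rw [smul_apply, smul_apply, map_mul, map_mul, ores_al, ores_al, hx, mul_left_comm]

lemma mem_M (i : ℤ) (x : C.B) : x ∈ C.M i ↔
    ∀ j k, ores (inf_le_left : C.W j ⊓ C.W k ≤ C.W j) (x j) =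
      ((C.c j k ^ i : (Γ(Y, C.W j ⊓ C.W k))ˣ) : Γ(Y, C.W j ⊓ C.W k)) * ores inf_le_right (x k) :=
  Iff.rfl

lemma mul_mem {i j : ℤ} {x y : C.B} (hx : x ∈ C.M i) (hy : y ∈ C.M j) : x * y ∈ C.M (i + j) := by
  intro k l
  rw [mul_apply, mul_apply, map_mul, map_mul, hx, hy, zpow_add, Units.val_mul]
  ring

lemma mem_zero (x : C.B) : x ∈ C.M 0 ↔ ∃ a, algebraMap A C.B a = x := by
  constructor
  · intro hx
    have h1 : ∀ j k, ores (inf_le_left : C.W j ⊓ C.W k ≤ C.W j) (x j) = ores inf_le_right (x k) := by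
      intro j k
      have := hx j k
      rwa [zpow_zero, Units.val_one, one_mul] at this
    obtain ⟨t, ht⟩ := ores_glue C.W (V := ⊤) (fun _ => le_top) C.cover.ge x h1
    refine ⟨ρ.symm t, funext fun j => ?_⟩
    rw [algebraMap_apply, ← ht j]
    simp [al]
  · rintro ⟨a, rfl⟩ j k
    rw [zpow_zero, Units.val_one, one_mul, algebraMap_apply, algebraMap_apply, ores_al, ores_al]

lemma injective_algebraMap : Function.Injective (algebraMap A C.B) := by
  rw [injective_iff_map_eq_zero]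
  intro a ha
  apply ρ.injective
  rw [map_zero]
  refine ores_ext C.W (V := ⊤) (fun _ => le_top) C.cover.ge (fun j => ?_)
  rw [map_zero]
  exact congrFun ha j

variable [CompactSpace Y] [QuasiSeparatedSpace Y]

lemma smul_eq_zero {f : A} (hf : ∀ a : A, f * a = 0 → a = 0) (x : C.B) (hx : f • x = 0) : x = 0 := by
  funext j
  have := congrFun hx j
  rw [smul_apply] at this
  exact eq_zero_of_al_mul_eq_zero ρ hf _ _ this

lemma isCompact_W_inf (j k : C.J) : IsCompact ((C.W j ⊓ C.W k : Y.Opens) : Set Y) := by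
  have := isCompact_D (ρ : A →+* Γ(Y, ⊤)) (C.h j * C.h k)
  rwa [D_mul] at this

/-- There are sections of all twists generating over a given member of the cover. -/
lemma exists_section (i : ℤ) (l : C.J) : ∃ (n : ℕ) (x : C.B), x ∈ C.M i ∧
    x l = al (ρ : A →+* Γ(Y, ⊤)) (C.W l) (C.h l) ^ n := by
  classical
  let r : A →+* Γ(Y, ⊤) := ρ
  choose n x' hx' using fun j : C.J => exists_ores_eq r (C.h j) (C.h l)
    ((C.c j l ^ i : (Γ(Y, C.W j ⊓ C.W l))ˣ) : Γ(Y, C.W j ⊓ C.W l))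
  obtain ⟨N, hN⟩ : ∃ N, ∀ j, n j ≤ N := by
    obtain ⟨N, hN⟩ := (Set.finite_range n).bddAbove
    exact ⟨N, fun j => hN ⟨j, rfl⟩⟩
  obtain ⟨y, hy⟩ : ∃ y : ∀ j, Γ(Y, C.W j), ∀ j, ores (inf_le_left : C.W j ⊓ C.W l ≤ C.W j) (y j) =
      al r _ (C.h l) ^ N * ((C.c j l ^ i : (Γ(Y, C.W j ⊓ C.W l))ˣ) : Γ(Y, C.W j ⊓ C.W l)) := by
    refine ⟨fun j => al r (C.W j) (C.h l) ^ (N - n j) * x' j, fun j => ?_⟩
    change ores inf_le_left (al r (C.W j) (C.h l) ^ (N - n j) * x' j) = _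
    rw [map_mul, map_pow, ores_al, hx' j, ← mul_assoc, ← pow_add, Nat.sub_add_cancel (hN j)]
  obtain ⟨d, hd0⟩ : ∃ d : ∀ j k, Γ(Y, C.W j ⊓ C.W k), ∀ j k, d j k = ores inf_le_left (y j) -
    ((C.c j k ^ i : (Γ(Y, C.W j ⊓ C.W k))ˣ) : Γ(Y, C.W j ⊓ C.W k)) * ores inf_le_right (y k) :=
    ⟨fun j k => _, fun j k => rfl⟩
  have hd : ∀ j k, ores (inf_le_left : (C.W j ⊓ C.W k) ⊓ C.W l ≤ C.W j ⊓ C.W k) (d j k) = 0 := by
    intro j k
    have hjl : (C.W j ⊓ C.W k) ⊓ C.W l ≤ C.W j ⊓ C.W l := inf_le_inf_right _ inf_le_left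
    have hkl : (C.W j ⊓ C.W k) ⊓ C.W l ≤ C.W k ⊓ C.W l := inf_le_inf_right _ inf_le_right
    have h1 := congrArg (ores hjl) (hy j)
    have h2 := congrArg (ores hkl) (hy k)
    rw [ores_ores, map_mul, map_pow, ores_al, ores_zpow] at h1 h2
    rw [hd0, map_sub, map_mul, ores_ores, ores_ores, ores_zpow, h1, h2,
      C.cocycle j k l inf_le_left hkl hjl, mul_zpow, Units.val_mul]
    ring
  choose m hm using fun jk : C.J × C.J => exists_pow_mul_eq_zero r (C.W jk.1 ⊓ C.W jk.2)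
    (C.isCompact_W_inf jk.1 jk.2) (C.h l) (d jk.1 jk.2) (hd jk.1 jk.2)
  obtain ⟨Q, hQ⟩ : ∃ Q, ∀ j, m j ≤ Q := by
    obtain ⟨Q, hQ⟩ := (Set.finite_range m).bddAbove
    exact ⟨Q, fun j => hQ ⟨j, rfl⟩⟩
  refine ⟨Q + N, fun j => al r (C.W j) (C.h l) ^ Q * y j, ?_, ?_⟩
  · intro j k
    have h1 : al r _ (C.h l) ^ Q * d j k = 0 := by
      rw [← Nat.sub_add_cancel (hQ (j, k)), pow_add, mul_assoc, hm (j, k), mul_zero]
    rw [hd0, mul_sub, sub_eq_zero] at h1
    change ores inf_le_left (al r (C.W j) (C.h l) ^ Q * y j) = _ *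
      ores inf_le_right (al r (C.W k) (C.h l) ^ Q * y k)
    rw [map_mul, map_mul, map_pow, map_pow, ores_al, ores_al, h1]
    ring
  · have h1 := congrArg (ores (le_inf le_rfl le_rfl : C.W l ≤ C.W l ⊓ C.W l)) (hy l)
    rw [ores_ores, ores_refl, map_mul, map_pow, ores_al, ores_zpow, C.c_self, one_zpow,
      Units.val_one, mul_one] at h1
    change al r (C.W l) (C.h l) ^ Q * y l = _
    rw [h1, ← pow_add]

end Cov

end Groth.Agent.FormalA.PicCech
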