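import Groth.Agent.FormalA.PicCech
import Groth.Agent.Fdesc.LocGenTensor
import Groth.Agent.Fdesc.LocGenPullback

/-!
# Reduction of twisted sections to a closed subscheme on which the line bundle is trivial
-/

set_option autoImplicit false
set_option linter.unusedSectionVars false

universe u

open CategoryTheory CategoryTheory.Limits AlgebraicGeometry Opposite TopologicalSpace

namespace Groth.Agent.FormalA.PicCech

open Groth.Agent.Fdesc.LocGen PicGeom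

variable {A : Type u} [CommRing A] {Y Y₀ : Scheme.{u}}

/-- Pullback of functions. -/
noncomputable def gs (g : Y₀ ⟶ Y) (V : Y.Opens) : Γ(Y, V) →+* Γ(Y₀, g ⁻¹ᵁ V) := (g.app V).hom

lemma ores_gs (g : Y₀ ⟶ Y) {U V : Y.Opens} (h : V ≤ U) (a : Γ(Y, U)) :
    ores (g.preimage_mono h) (gs g U a) = gs g V (ores h a) := by
  have := congr($(g.naturality (homOfLE h).op) a)
  exact this.symm

lemma gs_pullSec (g : Y₀ ⟶ Y) {M : Y.Modules} {U : Y.Opens} (a : Γ(Y, U)) (m : Γ(M, U)) :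
    pullSec g (a • m) = gs g U a • pullSec g m := pullSec_smul g a m

namespace Cov

variable {ρ : A ≃+* Γ(Y, ⊤)} {L : Y.Modules} (C : Cov ρ L)

/-- A nowhere vanishing twisted section trivializes the line bundle. -/
theorem nonempty_iso {s t : C.B} (hs : s ∈ C.M 1) (hst : s * t = 1) :
    Nonempty (L ≅ Coh.structureModule Y) := by
  have hst' : ∀ j, s j * t j = 1 := fun j => congrFun hst j
  obtain ⟨m, hm⟩ := res_glue L C.W (V := ⊤) (fun _ => le_top) C.cover.ge (fun j => s j • C.e j) (by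
    intro j k
    have h1 := hs j k
    rw [zpow_one] at h1
    rw [res_smul, res_smul, h1, C.hc j k, smul_smul, mul_comm])
  have hg : IsGen m := IsGen.of_cover C.W (fun _ => le_top) C.cover.ge (fun j => by
    rw [hm j]
    exact (C.gen j).unit_smul (IsUnit.of_mul_eq_one _ (hst' j)))
  have hiso : IsIso (homOf m) := (isIso_iff_isGen _).mpr (by rw [sec_homOf]; simpa using hg)
  exact ⟨(asIso (homOf m)).symm⟩

/-- A trivialization of a tensor power gives a unit section. -/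
theorem exists_of_tensorPow (n : ℕ) (h : Nonempty (CohB1.tensorPow L n ≅ Coh.structureModule Y)) :
    ∃ s ∈ C.M n, ∃ t ∈ C.M (-n), s * t = 1 := by
  obtain ⟨ψ⟩ := h
  have hE : IsGen (sec ψ.inv ⊤) := (isIso_iff_isGen ψ.inv).mp inferInstance
  choose v hv hvE using fun j => ((C.gen j).pow n).exists_unit (hE.res (le_top : C.W j ≤ ⊤))
  have key : ∀ j k, ores (inf_le_left : C.W j ⊓ C.W k ≤ C.W j) (v j) =
      ((C.c j k ^ (n : ℤ) : (Γ(Y, C.W j ⊓ C.W k))ˣ) : Γ(Y, C.W j ⊓ C.W k)) *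
        ores inf_le_right (v k) := by
    intro j k
    have h1 := congrArg (res _ (inf_le_left : C.W j ⊓ C.W k ≤ C.W j)) (hvE j)
    have h2 := congrArg (res _ (inf_le_right : C.W j ⊓ C.W k ≤ C.W k)) (hvE k)
    rw [res_res, res_smul, res_pow] at h1 h2
    rw [C.hc j k, smul_pow, smul_smul] at h2
    have h3 := (((C.gen j).res (inf_le_left : C.W j ⊓ C.W k ≤ C.W j)).pow n).ext (h1.symm.trans h2)
    rw [h3, zpow_natCast, Units.val_pow_eq_pow_val, mul_comm]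
  refine ⟨v, key, fun j => ((hv j).unit⁻¹ : (Γ(Y, C.W j))ˣ), ?_, ?_⟩
  · intro j k
    have h1 := key j k
    have e1 : ores (inf_le_left : C.W j ⊓ C.W k ≤ C.W j) (((hv j).unit⁻¹ : (Γ(Y, C.W j))ˣ) : Γ(Y, C.W j)) =
        (((ur (inf_le_left : C.W j ⊓ C.W k ≤ C.W j) (hv j).unit)⁻¹ : (Γ(Y, C.W j ⊓ C.W k))ˣ) :
          Γ(Y, C.W j ⊓ C.W k)) := by
      rw [← coe_ur, ur, ur, map_inv]
    have e2 : ores (inf_le_right : C.W j ⊓ C.W k ≤ C.W k) (((hv k).unit⁻¹ : (Γ(Y, C.W k))ˣ) : Γ(Y, C.W k)) =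
        (((ur (inf_le_right : C.W j ⊓ C.W k ≤ C.W k) (hv k).unit)⁻¹ : (Γ(Y, C.W j ⊓ C.W k))ˣ) :
          Γ(Y, C.W j ⊓ C.W k)) := by
      rw [← coe_ur, ur, ur, map_inv]
    rw [e1, e2, ← Units.val_mul]
    congr 1
    have h2 : ur (inf_le_left : C.W j ⊓ C.W k ≤ C.W j) (hv j).unit =
        C.c j k ^ (n : ℤ) * ur (inf_le_right : C.W j ⊓ C.W k ≤ C.W k) (hv k).unit := by
      apply Units.ext
      rw [Units.val_mul, coe_ur, coe_ur]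
      exact h1
    rw [h2, mul_inv, zpow_neg]
  · funext j
    exact (hv j).mul_val_inv

variable [CompactSpace Y] [QuasiSeparatedSpace Y]

/-- Local generation of the twists, at points covered by the cover. -/
lemma exists_loc {p : Ideal A} (hp : p.IsPrime) (l : C.J) (hl : C.h l ∉ p) :
    ∃ s ∈ C.M 1, ∃ t ∈ C.M (-1), ∃ a : A, a ∉ p ∧ s * t = algebraMap A C.B a := by
  obtain ⟨n, s, hs, hsl⟩ := C.exists_section 1 l
  obtain ⟨m, t, ht, htl⟩ := C.exists_section (-1) l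
  have hst : s * t ∈ C.M 0 := by
    have := C.mul_mem hs ht
    rwa [add_neg_cancel] at this
  obtain ⟨a, ha⟩ := (C.mem_zero _).mp hst
  refine ⟨s, hs, t, ht, a, fun hap => ?_, ha.symm⟩
  have h1 : al (ρ : A →+* Γ(Y, ⊤)) (C.W l) a = al (ρ : A →+* Γ(Y, ⊤)) (C.W l) (C.h l ^ (n + m)) := by
    have := congrFun ha l
    rw [algebraMap_apply, mul_apply, hsl, htl] at this
    rw [this, map_pow, pow_add]
  have h2 : al (ρ : A →+* Γ(Y, ⊤)) (C.W l) (a - C.h l ^ (n + m)) = 0 := by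
    rw [map_sub, h1, sub_self]
  obtain ⟨r, hr⟩ := exists_pow_mul_eq_zero_A ρ _ _ h2
  apply hl
  refine hp.mem_of_pow_mem (r + (n + m)) ?_
  rw [mul_sub, sub_eq_zero] at hr
  rw [pow_add, ← hr]
  exact Ideal.mul_mem_left _ _ hap

variable {A₀ : Type u} [CommRing A₀] [CompactSpace Y₀] [QuasiSeparatedSpace Y₀]

/-- Data for reducing to `Y₀`. -/
structure Red (C : Cov ρ L) (g : Y₀ ⟶ Y) (ρ₀ : A₀ ≃+* Γ(Y₀, ⊤)) (π : A →+* A₀) where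
  compat : ∀ a : A, (ρ₀ (π a) : Γ(Y₀, ⊤)) = gs g ⊤ (ρ a)
  /-- the generator -/
  e₀ : Γ((Scheme.Modules.pullback g).obj L, ⊤)
  gen₀ : IsGen e₀

namespace Red

variable {C} {g : Y₀ ⟶ Y} {ρ₀ : A₀ ≃+* Γ(Y₀, ⊤)} {π : A →+* A₀} (R : C.Red g ρ₀ π)

include R in
lemma gs_al (V : Y.Opens) (a : A) :
    gs g V (al (ρ : A →+* Γ(Y, ⊤)) V a) = al (ρ₀ : A₀ →+* Γ(Y₀, ⊤)) (g ⁻¹ᵁ V) (π a) := by
  have h1 := ores_gs g (le_top : V ≤ ⊤) (ρ a)
  rw [← R.compat a] at h1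
  exact h1.symm

include R in
lemma preimage_W (j : C.J) : g ⁻¹ᵁ (C.W j) = D (ρ₀ : A₀ →+* Γ(Y₀, ⊤)) (π (C.h j)) := by
  change g ⁻¹ᵁ (Y.basicOpen (ρ (C.h j))) = Y₀.basicOpen (ρ₀ (π (C.h j)))
  rw [Scheme.preimage_basicOpen, R.compat]
  rfl

lemma exists_γ (j : C.J) : ∃ γ : (Γ(Y₀, g ⁻¹ᵁ (C.W j)))ˣ,
    res _ (le_top : g ⁻¹ᵁ (C.W j) ≤ ⊤) R.e₀ = (γ : Γ(Y₀, g ⁻¹ᵁ (C.W j))) • pullSec g (C.e j) := by
  obtain ⟨a, ha, h⟩ := ((C.gen j).pullSec g).exists_unit (R.gen₀.res (le_top : g ⁻¹ᵁ (C.W j) ≤ ⊤))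
  exact ⟨ha.unit, h⟩

/-- The comparison units. -/
noncomputable def γ (j : C.J) : (Γ(Y₀, g ⁻¹ᵁ (C.W j)))ˣ := (R.exists_γ j).choose

lemma hγ (j : C.J) : res _ (le_top : g ⁻¹ᵁ (C.W j) ≤ ⊤) R.e₀ =
    (R.γ j : Γ(Y₀, g ⁻¹ᵁ (C.W j))) • pullSec g (C.e j) := (R.exists_γ j).choose_spec

/-- pullback of units -/
noncomputable def ug (g : Y₀ ⟶ Y) {V : Y.Opens} (x : (Γ(Y, V))ˣ) : (Γ(Y₀, g ⁻¹ᵁ V))ˣ :=
  Units.map (gs g V : Γ(Y, V) →* Γ(Y₀, g ⁻¹ᵁ V)) x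

lemma coe_ug {V : Y.Opens} (x : (Γ(Y, V))ˣ) : (ug g x : Γ(Y₀, g ⁻¹ᵁ V)) = gs g V x := rfl

lemma gs_zpow {V : Y.Opens} (x : (Γ(Y, V))ˣ) (i : ℤ) :
    gs g V ((x ^ i : (Γ(Y, V))ˣ) : Γ(Y, V)) = ((ug g x ^ i : (Γ(Y₀, g ⁻¹ᵁ V))ˣ) : Γ(Y₀, g ⁻¹ᵁ V)) := by
  rw [← coe_ug, ug, map_zpow]; rfl

lemma γ_rel (j k : C.J) : ur (g.preimage_mono (inf_le_left : C.W j ⊓ C.W k ≤ C.W j)) (R.γ j) =
    ur (g.preimage_mono (inf_le_right : C.W j ⊓ C.W k ≤ C.W k)) (R.γ k) * ug g (C.c j k) := by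
  apply Units.ext
  have h1 := congrArg (res _ (g.preimage_mono (inf_le_left : C.W j ⊓ C.W k ≤ C.W j))) (R.hγ j)
  have h2 := congrArg (res _ (g.preimage_mono (inf_le_right : C.W j ⊓ C.W k ≤ C.W k))) (R.hγ k)
  rw [res_res, res_smul, res_pullSec g (inf_le_left : C.W j ⊓ C.W k ≤ C.W j)] at h1
  rw [res_res, res_smul, res_pullSec g (inf_le_right : C.W j ⊓ C.W k ≤ C.W k)] at h2
  rw [C.hc j k, gs_pullSec, smul_smul] at h2
  have h3 := (((C.gen j).res (inf_le_left : C.W j ⊓ C.W k ≤ C.W j)).pullSec g).ext (h1.symm.trans h2)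
  rw [Units.val_mul, coe_ug, coe_ur, coe_ur]
  exact h3

/-- The local expression of the reduction. -/
noncomputable def loc (i : ℤ) (x : C.B) (j : C.J) : Γ(Y₀, g ⁻¹ᵁ (C.W j)) :=
  gs g _ (x j) * ((R.γ j ^ (-i) : (Γ(Y₀, g ⁻¹ᵁ (C.W j)))ˣ) : Γ(Y₀, g ⁻¹ᵁ (C.W j)))

lemma loc_rel (i : ℤ) (x : C.B) (hx : x ∈ C.M i) (j k : C.J) :
    ores (g.preimage_mono (inf_le_left : C.W j ⊓ C.W k ≤ C.W j)) (R.loc i x j) =
      ores (g.preimage_mono (inf_le_right : C.W j ⊓ C.W k ≤ C.W k)) (R.loc i x k) := by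
  rw [loc, loc, map_mul, map_mul, ores_gs g (inf_le_left : C.W j ⊓ C.W k ≤ C.W j),
    ores_gs g (inf_le_right : C.W j ⊓ C.W k ≤ C.W k), ores_zpow, ores_zpow, R.γ_rel, hx j k, map_mul,
    gs_zpow, mul_zpow, Units.val_mul]
  have h1 : ((ug g (C.c j k) ^ i : (Γ(Y₀, g ⁻¹ᵁ (C.W j ⊓ C.W k)))ˣ) : Γ(Y₀, g ⁻¹ᵁ (C.W j ⊓ C.W k))) *
      ((ug g (C.c j k) ^ (-i) : (Γ(Y₀, g ⁻¹ᵁ (C.W j ⊓ C.W k)))ˣ) : Γ(Y₀, g ⁻¹ᵁ (C.W j ⊓ C.W k))) = 1 := by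
    rw [← Units.val_mul, ← zpow_add, add_neg_cancel, zpow_zero, Units.val_one]
  linear_combination (gs g (C.W j ⊓ C.W k) (ores inf_le_right (x k)) *
    ((ur (g.preimage_mono (inf_le_right : C.W j ⊓ C.W k ≤ C.W k)) (R.γ k) ^ (-i) :
      (Γ(Y₀, g ⁻¹ᵁ (C.W j ⊓ C.W k)))ˣ) : Γ(Y₀, g ⁻¹ᵁ (C.W j ⊓ C.W k)))) * h1

lemma cover₀ : (⊤ : Y₀.Opens) ≤ ⨆ j, g ⁻¹ᵁ (C.W j) := by
  rw [← Scheme.Hom.preimage_iSup, C.cover]
  exact le_rfl

lemma exists_loc_eq (i : ℤ) (x : C.B) (hx : x ∈ C.M i) :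
    ∃ b : A₀, ∀ j, al (ρ₀ : A₀ →+* Γ(Y₀, ⊤)) (g ⁻¹ᵁ (C.W j)) b = R.loc i x j := by
  obtain ⟨t, ht⟩ := ores_glue (fun j => g ⁻¹ᵁ (C.W j)) (V := ⊤) (fun _ => le_top)
    (cover₀ (C := C)) (R.loc i x) (R.loc_rel i x hx)
  refine ⟨ρ₀.symm t, fun j => ?_⟩
  rw [← ht j]
  simp [al]

include R in
lemma al_ext {a b : A₀} (h : ∀ j, al (ρ₀ : A₀ →+* Γ(Y₀, ⊤)) (g ⁻¹ᵁ (C.W j)) a =
    al (ρ₀ : A₀ →+* Γ(Y₀, ⊤)) (g ⁻¹ᵁ (C.W j)) b) : a = b := by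
  apply ρ₀.injective
  exact ores_ext (fun j => g ⁻¹ᵁ (C.W j)) (V := ⊤) (fun _ => le_top) (cover₀ (C := C)) h

/-- The reduction of a twisted section. -/
noncomputable def φf (i : ℤ) (x : C.M i) : A₀ := (R.exists_loc_eq i x x.2).choose

lemma al_φf (i : ℤ) (x : C.M i) (j : C.J) :
    al (ρ₀ : A₀ →+* Γ(Y₀, ⊤)) (g ⁻¹ᵁ (C.W j)) (R.φf i x) = R.loc i x j :=
  (R.exists_loc_eq i x x.2).choose_spec j

lemma φf_add (i : ℤ) (x y : C.M i) : R.φf i (x + y) = R.φf i x + R.φf i y := by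
  refine R.al_ext fun j => ?_
  rw [map_add, al_φf, al_φf, al_φf, loc, loc, loc, Submodule.coe_add, add_apply, map_add, add_mul]

lemma φf_smul (i : ℤ) (a : A) (x : C.M i) : R.φf i (a • x) = π a * R.φf i x := by
  refine R.al_ext fun j => ?_
  rw [map_mul, al_φf, al_φf, loc, loc, Submodule.coe_smul, smul_apply, map_mul, mul_assoc, R.gs_al]

lemma φf_mul (i j k : ℤ) (hk : i + j = k) (x : C.M i) (y : C.M j) (z : C.M k) (h : (x : C.B) * y = z) :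
    R.φf k z = R.φf i x * R.φf j y := by
  refine R.al_ext fun l => ?_
  rw [map_mul, al_φf, al_φf, al_φf, loc, loc, loc, ← h, mul_apply, map_mul, ← hk, neg_add, zpow_add,
    Units.val_mul]
  ring

lemma φf_zero (a : A) (x : C.M 0) (h : algebraMap A C.B a = x) : R.φf 0 x = π a := by
  refine R.al_ext fun j => ?_
  rw [al_φf, loc, ← h, neg_zero, zpow_zero, Units.val_one, mul_one, algebraMap_apply, R.gs_al]

include R in
lemma exists_eq_smul_of_gs_eq_zero {f : A} (hker : ∀ a, π a = 0 → ∃ b, a = f * b) (j : C.J)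
    (x : Γ(Y, C.W j)) (hx : gs g _ x = 0) : ∃ y, x = al (ρ : A →+* Γ(Y, ⊤)) (C.W j) f * y := by
  obtain ⟨n, a, ha⟩ := exists_al_eq ρ (C.h j) x
  have h1 : al (ρ₀ : A₀ →+* Γ(Y₀, ⊤)) (g ⁻¹ᵁ (C.W j)) (π a) = 0 := by
    rw [← R.gs_al, ha, map_mul, hx, mul_zero]
  have h2 : al (ρ₀ : A₀ →+* Γ(Y₀, ⊤)) (D (ρ₀ : A₀ →+* Γ(Y₀, ⊤)) (π (C.h j))) (π a) = 0 := by
    have := congrArg (ores (R.preimage_W j).ge) h1
    rwa [ores_al, map_zero] at this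
  obtain ⟨m, hm⟩ := exists_pow_mul_eq_zero_A ρ₀ _ _ h2
  rw [← map_pow, ← map_mul] at hm
  obtain ⟨b, hb⟩ := hker _ hm
  have hu : IsUnit (al (ρ : A →+* Γ(Y, ⊤)) (C.W j) (C.h j)) := isUnit_al _ le_rfl
  obtain ⟨u, hu'⟩ := hu.pow (m + n)
  have h3 : (u : Γ(Y, C.W j)) * x = al (ρ : A →+* Γ(Y, ⊤)) (C.W j) f * al (ρ : A →+* Γ(Y, ⊤)) (C.W j) b := by
    rw [← map_mul, ← hb, map_mul, map_pow, ha, hu', pow_add, mul_assoc]
  refine ⟨((u⁻¹ : (Γ(Y, C.W j))ˣ) : Γ(Y, C.W j)) * al (ρ : A →+* Γ(Y, ⊤)) (C.W j) b, ?_⟩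
  rw [mul_left_comm, ← h3, Units.inv_mul_cancel_left]

lemma φf_ker {f : A} (hf : ∀ a : A, f * a = 0 → a = 0)
    (hker : ∀ a, π a = 0 → ∃ b, a = f * b) (i : ℤ) (x : C.M i) (hx : R.φf i x = 0) :
    ∃ y : C.M i, x = f • y := by
  have h1 : ∀ j, ∃ y, (x : C.B) j = al (ρ : A →+* Γ(Y, ⊤)) (C.W j) f * y := by
    intro j
    refine R.exists_eq_smul_of_gs_eq_zero hker j _ ?_
    have h2 := R.al_φf i x j
    rw [hx, map_zero, loc] at h2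
    exact (Units.isUnit _).mul_left_eq_zero.mp h2.symm
  choose y hy using h1
  have hyM : (y : C.B) ∈ C.M i := by
    intro j k
    have h2 := x.2 j k
    rw [hy j, hy k, map_mul, map_mul, ores_al, ores_al, mul_left_comm] at h2
    rw [← sub_eq_zero, ← mul_sub] at h2
    rw [← sub_eq_zero]
    have hD : C.W j ⊓ C.W k = D (ρ : A →+* Γ(Y, ⊤)) (C.h j * C.h k) := (D_mul _ _ _).symm
    have h3 := congrArg (ores hD.ge) h2
    rw [map_zero, map_mul, ores_al] at h3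
    have h4 := eq_zero_of_al_mul_eq_zero ρ hf _ _ h3
    have h5 := congrArg (ores hD.le) h4
    rwa [ores_ores, map_zero, ores_refl] at h5
  refine ⟨⟨y, hyM⟩, Subtype.ext (funext fun j => ?_)⟩
  rw [hy j]
  exact (smul_apply C f y j).symm

end Red

end Cov

end Groth.Agent.FormalA.PicCech
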