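import Groth.Agent.Fdesc.LocGenPullback
import Mathlib.AlgebraicGeometry.Morphisms.QuasiSeparated
import Mathlib.AlgebraicGeometry.Noetherian

/-!
# Functions on basic opens of a scheme with `Γ(Y, ⊤) = A`

`D ρ h` is the basic open of `h : A` in `Y`, for `ρ : A →+* Γ(Y, ⊤)`.
-/

set_option autoImplicit false
set_option linter.unusedSectionVars false

universe u

open CategoryTheory CategoryTheory.Limits AlgebraicGeometry Opposite TopologicalSpace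

namespace Groth.Agent.FormalA.PicGeom

open Groth.Agent.Fdesc.LocGen

variable {A : Type u} [CommRing A] {Y : Scheme.{u}}

/-- Functions on `V` from elements of `A`. -/
noncomputable def al (ρ : A →+* Γ(Y, ⊤)) (V : Y.Opens) : A →+* Γ(Y, V) := (ores le_top).comp ρ

lemma ores_al (ρ : A →+* Γ(Y, ⊤)) {U V : Y.Opens} (h : V ≤ U) (a : A) :
    ores h (al ρ U a) = al ρ V a := by
  simp [al]

/-- The basic open of `h : A`. -/
noncomputable abbrev D (ρ : A →+* Γ(Y, ⊤)) (h : A) : Y.Opens := Y.basicOpen (ρ h)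

lemma D_mul (ρ : A →+* Γ(Y, ⊤)) (h k : A) : D ρ (h * k) = D ρ h ⊓ D ρ k := by
  simp only [D, map_mul, Scheme.basicOpen_mul]

lemma D_one (ρ : A →+* Γ(Y, ⊤)) : D ρ 1 = ⊤ := by
  simp only [D, map_one]
  exact Y.basicOpen_of_isUnit isUnit_one

lemma basicOpen_al (ρ : A →+* Γ(Y, ⊤)) (V : Y.Opens) (h : A) :
    Y.basicOpen (al ρ V h) = V ⊓ D ρ h :=
  Y.basicOpen_res (ρ h) (homOfLE le_top).op

lemma isUnit_al (ρ : A →+* Γ(Y, ⊤)) {V : Y.Opens} {h : A} (hV : V ≤ D ρ h) : IsUnit (al ρ V h) := by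
  have h1 : IsUnit (ores (Y.basicOpen_le (ρ h)) (ρ h)) := Y.toRingedSpace.isUnit_res_basicOpen _
  have h2 : al ρ V h = ores hV (ores (Y.basicOpen_le (ρ h)) (ρ h)) := by
    rw [ores_ores]; rfl
  rw [h2]
  exact h1.map _

lemma isCompact_D [CompactSpace Y] (ρ : A →+* Γ(Y, ⊤)) (h : A) : IsCompact (D ρ h : Set Y) :=
  AlgebraicGeometry.isCompact_basicOpen Y (U := ⊤) isCompact_univ (ρ h)

lemma isQuasiSeparated_opens [QuasiSeparatedSpace Y] (V : Y.Opens) :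
    IsQuasiSeparated (V : Set Y) :=
  isQuasiSeparated_univ.of_subset (Set.subset_univ _)

variable [CompactSpace Y] [QuasiSeparatedSpace Y]

/-- A function on a quasi-compact open which vanishes on a smaller one is killed by a power. -/
lemma exists_pow_mul_eq_zero (ρ : A →+* Γ(Y, ⊤)) (V : Y.Opens) (hV : IsCompact (V : Set Y)) (h : A)
    (x : Γ(Y, V)) (hx : ores (inf_le_left : V ⊓ D ρ h ≤ V) x = 0) :
    ∃ n : ℕ, al ρ V h ^ n * x = 0 := by
  refine exists_pow_mul_eq_zero_of_res_basicOpen_eq_zero_of_isCompact Y hV x (al ρ V h) ?_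
  change ores (Y.basicOpen_le _) x = 0
  have h1 : ores (Y.basicOpen_le (al ρ V h)) x =
      ores (basicOpen_al ρ V h).le (ores inf_le_left x) := by
    rw [ores_ores]
  rw [h1, hx, map_zero]

/-- A function on a small basic open extends after multiplication by a power. -/
lemma exists_ores_eq (ρ : A →+* Γ(Y, ⊤)) (a h : A) (y : Γ(Y, D ρ a ⊓ D ρ h)) :
    ∃ (n : ℕ) (x : Γ(Y, D ρ a)), ores inf_le_left x = al ρ _ h ^ n * y := by
  obtain ⟨n, x, hx⟩ := exists_eq_pow_mul_of_isCompact_of_isQuasiSeparated Y (D ρ a)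
    (isCompact_D ρ a) (isQuasiSeparated_opens _) (al ρ (D ρ a) h)
    (ores (basicOpen_al ρ (D ρ a) h).le y)
  refine ⟨n, x, ?_⟩
  have h1 : ores (basicOpen_al ρ (D ρ a) h).ge (ores (Y.basicOpen_le (al ρ (D ρ a) h)) x) =
      ores (basicOpen_al ρ (D ρ a) h).ge (ores (Y.basicOpen_le (al ρ (D ρ a) h)) (al ρ (D ρ a) h) ^ n *
        ores (basicOpen_al ρ (D ρ a) h).le y) := congrArg _ hx
  rw [ores_ores, map_mul, map_pow, ores_ores, ores_ores, ores_refl, ores_al] at h1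
  exact h1

variable (ρ : A ≃+* Γ(Y, ⊤))

lemma exists_pow_mul_eq_zero_A (h a : A) (ha : al (ρ : A →+* Γ(Y, ⊤)) (D (ρ : A →+* Γ(Y, ⊤)) h) a = 0) :
    ∃ n : ℕ, h ^ n * a = 0 := by
  obtain ⟨n, hn⟩ := exists_pow_mul_eq_zero_of_res_basicOpen_eq_zero_of_isCompact Y
    (U := ⊤) isCompact_univ (ρ a) (ρ h) ha
  refine ⟨n, ρ.injective ?_⟩
  rw [map_mul, map_pow, hn, map_zero]

lemma exists_al_eq (h : A) (y : Γ(Y, D (ρ : A →+* Γ(Y, ⊤)) h)) :
    ∃ (n : ℕ) (a : A), al (ρ : A →+* Γ(Y, ⊤)) _ a = al (ρ : A →+* Γ(Y, ⊤)) _ h ^ n * y := by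
  obtain ⟨n, x, hx⟩ := exists_eq_pow_mul_of_isCompact_of_isQuasiSeparated Y ⊤
    isCompact_univ isQuasiSeparated_univ (ρ h) y
  refine ⟨n, ρ.symm x, ?_⟩
  have : al (ρ : A →+* Γ(Y, ⊤)) (D (ρ : A →+* Γ(Y, ⊤)) h) (ρ.symm x) = ores (Y.basicOpen_le (ρ h)) x := by
    simp [al]
    rfl
  rw [this]
  exact hx

/-- A regular element of `A` acts regularly on functions on basic opens. -/
lemma eq_zero_of_al_mul_eq_zero {f : A} (hf : ∀ a : A, f * a = 0 → a = 0) (h : A)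
    (y : Γ(Y, D (ρ : A →+* Γ(Y, ⊤)) h)) (hy : al (ρ : A →+* Γ(Y, ⊤)) _ f * y = 0) : y = 0 := by
  obtain ⟨n, a, ha⟩ := exists_al_eq ρ h y
  have h1 : al (ρ : A →+* Γ(Y, ⊤)) (D (ρ : A →+* Γ(Y, ⊤)) h) (f * a) = 0 := by
    rw [map_mul, ha, mul_left_comm, hy, mul_zero]
  obtain ⟨m, hm⟩ := exists_pow_mul_eq_zero_A ρ h _ h1
  rw [mul_left_comm] at hm
  have h2 := hf _ hm
  have h3 : al (ρ : A →+* Γ(Y, ⊤)) (D (ρ : A →+* Γ(Y, ⊤)) h) h ^ m *
      (al (ρ : A →+* Γ(Y, ⊤)) (D (ρ : A →+* Γ(Y, ⊤)) h) h ^ n * y) = 0 := by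
    rw [← ha, ← map_pow, ← map_mul, h2, map_zero]
  have hu : IsUnit (al (ρ : A →+* Γ(Y, ⊤)) (D (ρ : A →+* Γ(Y, ⊤)) h) h) := isUnit_al _ le_rfl
  have h4 := (hu.pow m).mul_right_eq_zero.mp h3
  exact (hu.pow n).mul_right_eq_zero.mp h4

end Groth.Agent.FormalA.PicGeom
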