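import Groth.Agent.FormalA.EulerPoly

/-!
# Polynomials of at most linear growth
-/

set_option autoImplicit false

namespace Groth.Agent.FormalA.PicGrowth

open EulerPoly fwdDiff

/-- eventually positive -/
def EvPos (Q : ℕ → ℤ) : Prop := ∃ n₀, ∀ n, n₀ ≤ n → 1 ≤ Q n

lemma EvPos.tendsto {Q : ℕ → ℤ} (h : EvPos (Δ_[1] Q)) (M : ℤ) : ∃ n₀, ∀ n, n₀ ≤ n → M ≤ Q n := by
  obtain ⟨n₀, h₀⟩ := h
  have key : ∀ j : ℕ, Q n₀ + j ≤ Q (n₀ + j) := by
    intro j
    induction j with
    | zero => simp
    | succ j ih =>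
      have := h₀ (n₀ + j) (Nat.le_add_right _ _)
      simp only [fwdDiff] at this
      push_cast
      rw [show n₀ + (j + 1) = n₀ + j + 1 by ring]
      linarith
  refine ⟨n₀ + (M - Q n₀).toNat, fun n hn => ?_⟩
  obtain ⟨j, rfl⟩ : ∃ j, n = n₀ + j := ⟨n - n₀, by omega⟩
  have h1 := key j
  have h2 : (M - Q n₀).toNat ≤ j := by omega
  have h3 : M - Q n₀ ≤ (M - Q n₀).toNat := Int.self_le_toNat _
  have h4 : ((M - Q n₀).toNat : ℤ) ≤ j := by exact_mod_cast h2
  linarith

lemma EvPos.of_diff {Q : ℕ → ℤ} (h : EvPos (Δ_[1] Q)) : EvPos Q := h.tendsto 1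

lemma EvPos.of_iterate {Q : ℕ → ℤ} (k : ℕ) (h : EvPos (Δ_[1]^[k] Q)) : EvPos Q := by
  induction k generalizing Q with
  | zero => exact h
  | succ k ih =>
    rw [Function.iterate_succ_apply] at h
    exact (ih h).of_diff

lemma fwdDiff_neg' (Q : ℕ → ℤ) : Δ_[1] (-Q) = -Δ_[1] Q := by
  funext n
  simp [fwdDiff]
  ring

lemma fwdDiff_iter_neg' (k : ℕ) (Q : ℕ → ℤ) : Δ_[1]^[k] (-Q) = -Δ_[1]^[k] Q := by
  induction k generalizing Q with
  | zero => rfl
  | succ k ih => rw [Function.iterate_succ_apply, fwdDiff_neg', ih, Function.iterate_succ_apply]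

/-- A nonnegative polynomial of at most linear growth has vanishing second difference. -/
theorem second_diff_eq_zero {P : ℕ → ℤ} (hP : IsPoly P) (h0 : ∀ n, 0 ≤ P n) (C : ℤ)
    (hC : ∀ n : ℕ, P n ≤ C * n + C) : Δ_[1] (Δ_[1] P) = 0 := by
  have hpos : ¬ EvPos (Δ_[1] (Δ_[1] P)) := by
    intro h
    obtain ⟨n₀, h₀⟩ := h.tendsto (C + 1)
    have key : ∀ j : ℕ, P n₀ + (C + 1) * j ≤ P (n₀ + j) := by
      intro j
      induction j with
      | zero => simp
      | succ j ih =>
        have := h₀ (n₀ + j) (Nat.le_add_right _ _)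
        simp only [fwdDiff] at this
        push_cast
        rw [show n₀ + (j + 1) = n₀ + j + 1 by ring]
        linarith
    have h1 := key (C * n₀ + C + 1 - P n₀).toNat
    have h2 := hC (n₀ + (C * n₀ + C + 1 - P n₀).toNat)
    push_cast at h1 h2
    have h3 : C * n₀ + C + 1 - P n₀ ≤ ((C * n₀ + C + 1 - P n₀).toNat : ℤ) := Int.self_le_toNat _
    linarith
  have hneg : ¬ EvPos (Δ_[1] (Δ_[1] (-P))) := by
    intro h
    obtain ⟨n₀, h₀⟩ := (h.of_diff).tendsto 1
    have h1 := h0 n₀
    have h2 := h₀ n₀ le_rfl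
    simp only [Pi.neg_apply] at h2
    linarith
  obtain ⟨k, hk⟩ := hP
  have key : ∀ k : ℕ, Δ_[1]^[k] (Δ_[1] (Δ_[1] P)) = 0 → Δ_[1] (Δ_[1] P) = 0 := by
    intro k
    induction k with
    | zero => exact id
    | succ k ih =>
      intro h
      apply ih
      rw [Function.iterate_succ_apply'] at h
      have hconst : ∀ n, (Δ_[1]^[k] (Δ_[1] (Δ_[1] P))) n = (Δ_[1]^[k] (Δ_[1] (Δ_[1] P))) 0 := by
        intro n
        induction n with
        | zero => rfl
        | succ n ihn =>
          have := congrFun h n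
          simp only [fwdDiff, Pi.zero_apply] at this
          linarith
      rcases lt_trichotomy ((Δ_[1]^[k] (Δ_[1] (Δ_[1] P))) 0) 0 with hb | hb | hb
      · exfalso
        apply hneg
        apply EvPos.of_iterate k
        refine ⟨0, fun n _ => ?_⟩
        rw [fwdDiff_neg', fwdDiff_neg', fwdDiff_iter_neg', Pi.neg_apply, hconst n]
        linarith
      · funext n
        rw [hconst n, hb]
        rfl
      · exfalso
        apply hpos
        apply EvPos.of_iterate k
        refine ⟨0, fun n _ => ?_⟩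
        rw [hconst n]
        linarith
  apply key k
  rw [← Function.iterate_succ_apply, ← Function.iterate_succ_apply, Function.iterate_succ_apply',
    Function.iterate_succ_apply', hk]
  funext n
  simp [fwdDiff]

/-- A nonnegative polynomial with a zero and at most linear growth vanishes. -/
theorem eq_zero_of_growth {d : ℤ → ℤ} (hP : IsPoly (fun i : ℕ => d (i - 1))) (h0 : ∀ n, 0 ≤ d n)
    (hz : d 0 = 0) (C : ℤ) (hC : ∀ n : ℕ, d (n + 1) ≤ C * (n + 1)) : d 1 = 0 ∧ d (-1) = 0 := by
  have h1 := second_diff_eq_zero hP (fun n => h0 _) (max C (d (-1))) (fun n => by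
    have hm : 0 ≤ max C (d (-1)) := le_max_of_le_right (h0 _)
    rcases n with _ | n
    · simp
    · rcases n with _ | n
      · have e : (((0 : ℕ) + 1 : ℕ) : ℤ) - 1 = 0 := by norm_num
        rw [e, hz]
        push_cast
        nlinarith
      · have h2 := hC n
        have e : ((n + 1 + 1 : ℕ) : ℤ) - 1 = (n : ℤ) + 1 := by push_cast; ring
        rw [e]
        refine h2.trans ?_
        have h3 : C ≤ max C (d (-1)) := le_max_left _ _
        have h4 : C * ((n : ℤ) + 1) ≤ max C (d (-1)) * ((n : ℤ) + 1) :=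
          mul_le_mul_of_nonneg_right h3 (by positivity)
        push_cast
        nlinarith)
  have h2 := congrFun h1 0
  simp only [fwdDiff, Pi.zero_apply] at h2
  norm_num [hz] at h2
  have h3 := h0 1
  have h4 := h0 (-1)
  constructor <;> linarith

end Groth.Agent.FormalA.PicGrowth
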