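import Groth.Agent.FormalA.PicFib
import Groth.Agent.Pi1A.DepthPunctured
import Mathlib.AlgebraicGeometry.Noetherian

/-!
# Punctured spectra: functions and covers
-/

set_option autoImplicit false
set_option linter.unusedSectionVars false

universe u

open CategoryTheory CategoryTheory.Limits AlgebraicGeometry Opposite TopologicalSpace

namespace Groth.Agent.FormalA.PicPunct

open Groth.Agent.Fdesc.LocGen PicGeom PicCech

section

variable {A : Type u} [CommRing A]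

/-- The functions on an open subscheme of `Spec A` coming from `A`. -/
noncomputable def rU (U : (Spec (CommRingCat.of A)).Opens) : A →+* Γ((U : Scheme.{u}), ⊤) :=
  (U.ι.appTop).hom.comp (Scheme.ΓSpecIso (CommRingCat.of A)).inv.hom

lemma bijective_rU [IsLocalRing A] (hA : (2 : ℕ∞) ≤ LocCoh.depth A A)
    (U : (Spec (CommRingCat.of A)).Opens) (hU : U = FEt.puncturedSpec A) :
    Function.Bijective (rU U) := by
  have h1 : Function.Bijective (Scheme.ΓSpecIso (CommRingCat.of A)).inv.hom :=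
    ConcreteCategory.bijective_of_isIso (Scheme.ΓSpecIso (CommRingCat.of A)).inv
  have h2 := Groth.Agent.Pi1A.DepthPunctured.bijective_res_puncturedSpec A hA
    (𝟙 (Spec (CommRingCat.of A))) ⊤
  have h3 : Function.Bijective (U.ι.appTop).hom := by
    rw [Scheme.Opens.ι_appTop]
    have e : (U.ι ''ᵁ ⊤ : (Spec (CommRingCat.of A)).Opens) =
        ⊤ ⊓ (𝟙 (Spec (CommRingCat.of A))) ⁻¹ᵁ (FEt.puncturedSpec A) := by
      rw [← hU]; simp
    have key : ∀ (W W' : (Spec (CommRingCat.of A)).Opens) (hW : W = W') (h : W ≤ ⊤) (h' : W' ≤ ⊤),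
        Function.Bijective ((Spec (CommRingCat.of A)).presheaf.map (homOfLE h').op).hom →
        Function.Bijective ((Spec (CommRingCat.of A)).presheaf.map (homOfLE h).op).hom := by
      rintro W _ rfl h h' H
      exact H
    exact key _ _ e _ _ h2
  exact h3.comp h1

/-- The functions on the punctured spectrum of a ring of depth `≥ 2`. -/
noncomputable def rho [IsLocalRing A] (hA : (2 : ℕ∞) ≤ LocCoh.depth A A)
    (U : (Spec (CommRingCat.of A)).Opens) (hU : U = FEt.puncturedSpec A) :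
    A ≃+* Γ((U : Scheme.{u}), ⊤) := RingEquiv.ofBijective (rU U) (bijective_rU hA U hU)

lemma coe_rho [IsLocalRing A] (hA : (2 : ℕ∞) ≤ LocCoh.depth A A)
    (U : (Spec (CommRingCat.of A)).Opens) (hU : U = FEt.puncturedSpec A) :
    ((rho hA U hU : A ≃+* Γ((U : Scheme.{u}), ⊤)) : A →+* Γ((U : Scheme.{u}), ⊤)) = rU U := rfl

lemma compat {A₀ : Type u} [CommRing A₀] (π : A →+* A₀) (U : (Spec (CommRingCat.of A)).Opens) (a : A) :
    rU ((Spec.map (CommRingCat.ofHom π)) ⁻¹ᵁ U) (π a) =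
      gs (Spec.map (CommRingCat.ofHom π) ∣_ U) ⊤ (rU U a) := by
  have h1 : ((Spec.map (CommRingCat.ofHom π) ∣_ U) ≫ U.ι).appTop =
      (((Spec.map (CommRingCat.ofHom π)) ⁻¹ᵁ U).ι ≫ Spec.map (CommRingCat.ofHom π)).appTop := by
    rw [morphismRestrict_ι]
  rw [Scheme.Hom.comp_appTop, Scheme.Hom.comp_appTop] at h1
  have h2 := congr($h1 ((Scheme.ΓSpecIso (CommRingCat.of A)).inv a))
  have h3 := congr($(Scheme.ΓSpecIso_inv_naturality (CommRingCat.ofHom π)) a)
  change _ = (Spec.map (CommRingCat.ofHom π) ∣_ U).appTop (U.ι.appTop ((Scheme.ΓSpecIso (CommRingCat.of A)).inv a))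
  refine Eq.trans ?_ h2.symm
  change _ = ((Spec.map (CommRingCat.ofHom π)) ⁻¹ᵁ U).ι.appTop ((Spec.map (CommRingCat.ofHom π)).appTop ((Scheme.ΓSpecIso (CommRingCat.of A)).inv a))
  exact congrArg (fun z => (((Spec.map (CommRingCat.ofHom π)) ⁻¹ᵁ U).ι.appTop).hom z) h3

lemma D_rU (U : (Spec (CommRingCat.of A)).Opens) (h : A) :
    D (rU U) h = U.ι ⁻¹ᵁ (show (Spec (CommRingCat.of A)).Opens from PrimeSpectrum.basicOpen h) := by
  have h1 := basicOpen_eq_of_affine (R := CommRingCat.of A) h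
  have h2 : (show (Spec (CommRingCat.of A)).Opens from PrimeSpectrum.basicOpen h) =
      (Spec (CommRingCat.of A)).basicOpen ((Scheme.ΓSpecIso (CommRingCat.of A)).inv h) := h1.symm
  rw [h2, Scheme.preimage_basicOpen]
  rfl

lemma mem_D_rU (U : (Spec (CommRingCat.of A)).Opens) (h : A) (x : (U : Scheme.{u})) :
    x ∈ D (rU U) h ↔ h ∉ (U.ι x).asIdeal := by
  rw [D_rU]
  exact Iff.rfl

lemma exists_D_le (U : (Spec (CommRingCat.of A)).Opens) (V : (U : Scheme.{u}).Opens)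
    (x : (U : Scheme.{u})) (hx : x ∈ V) : ∃ h : A, x ∈ D (rU U) h ∧ D (rU U) h ≤ V := by
  have hmem : U.ι x ∈ U.ι ''ᵁ V := ⟨x, hx, rfl⟩
  obtain ⟨_, ⟨h, rfl⟩, hxh, hh⟩ := PrimeSpectrum.isTopologicalBasis_basic_opens.exists_subset_of_mem_open
    (hmem : U.ι x ∈ ((U.ι ''ᵁ V : (Spec (CommRingCat.of A)).Opens) : Set _)) (U.ι ''ᵁ V).isOpen
  refine ⟨h, ?_, ?_⟩
  · rw [D_rU]
    exact hxh
  · rw [D_rU]
    have h1 : U.ι ⁻¹ᵁ (PrimeSpectrum.basicOpen h) ≤ U.ι ⁻¹ᵁ (U.ι ''ᵁ V) :=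
      U.ι.preimage_mono hh
    rwa [U.ι.preimage_image_eq] at h1

instance [IsNoetherianRing A] (U : (Spec (CommRingCat.of A)).Opens) : CompactSpace (U : Scheme.{u}) := by
  have : IsNoetherian (Spec (CommRingCat.of A)) := inferInstance
  have : NoetherianSpace (Spec (CommRingCat.of A)) := inferInstance
  exact isCompact_iff_compactSpace.mp (NoetherianSpace.isCompact (U : Set (Spec (CommRingCat.of A))))

instance (U : (Spec (CommRingCat.of A)).Opens) : QuasiSeparatedSpace (U : Scheme.{u}) := by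
  have : QuasiSeparatedSpace (Spec (CommRingCat.of A)) := inferInstance
  exact (quasiSeparated_iff_quasiSeparatedSpace U.ι).mp inferInstance

/-- Invertible modules have finite trivializing covers by basic opens. -/
lemma exists_cov [IsNoetherianRing A] (U : (Spec (CommRingCat.of A)).Opens)
    (ρ : A ≃+* Γ((U : Scheme.{u}), ⊤)) (hρ : (ρ : A →+* Γ((U : Scheme.{u}), ⊤)) = rU U)
    {L : (U : Scheme.{u}).Modules} (hL : PicF.IsInvertible L) :
    ∃ C : Cov ρ L, ∀ p : Spec (CommRingCat.of A), p ∈ U → ∃ j : C.J, C.h j ∉ p.asIdeal := by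
  classical
  rw [isInvertible_iff] at hL
  have key : ∀ x : (U : Scheme.{u}), ∃ (h : A) (e : Γ(L, D (ρ : A →+* Γ((U : Scheme.{u}), ⊤)) h)),
      x ∈ D (ρ : A →+* Γ((U : Scheme.{u}), ⊤)) h ∧ IsGen e := by
    intro x
    obtain ⟨V, e, hx, he⟩ := hL x
    obtain ⟨h, hxh, hh⟩ := exists_D_le U V x hx
    rw [← hρ] at hxh hh
    exact ⟨h, res L hh e, hxh, he.res hh⟩
  choose h e hx he using key
  obtain ⟨t, ht⟩ := isCompact_univ.elim_finite_subcover
    (fun x => (D (ρ : A →+* Γ((U : Scheme.{u}), ⊤)) (h x) : Set (U : Scheme.{u})))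
    (fun x => (D (ρ : A →+* Γ((U : Scheme.{u}), ⊤)) (h x)).isOpen)
    (fun x _ => Set.mem_iUnion.mpr ⟨x, hx x⟩)
  have hcover : ⨆ j : {x // x ∈ t}, D (ρ : A →+* Γ((U : Scheme.{u}), ⊤)) (h j) = ⊤ := by
    rw [eq_top_iff]
    intro x _
    obtain ⟨y, hy, hxy⟩ := Set.mem_iUnion₂.mp (ht (Set.mem_univ x))
    exact Opens.mem_iSup.mpr ⟨⟨y, hy⟩, hxy⟩
  refine ⟨{ J := {x // x ∈ t}, h := fun j => h j, cover := hcover, e := fun j => e j,
            gen := fun j => he j }, fun p hp => ?_⟩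
  have hx : (⟨p, hp⟩ : (U : Scheme.{u})) ∈
      ⨆ j : {x // x ∈ t}, D (ρ : A →+* Γ((U : Scheme.{u}), ⊤)) (h j) := by
    rw [hcover]; trivial
  obtain ⟨j, hj⟩ := Opens.mem_iSup.mp hx
  refine ⟨j, ?_⟩
  rw [hρ] at hj
  exact (mem_D_rU U _ _).mp hj

end

end Groth.Agent.FormalA.PicPunct
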