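import Groth.Agent.CurvesC.Gen
import Mathlib.AlgebraicGeometry.Modules.Tilde

/-!
# Maps of associated sheaves which are isomorphisms over an open

* `bijective_of_basis`: bijectivity on sections over a basis stable under intersections;
* `isIso_restrict_tilde`: `φ~` is an isomorphism over `U` as soon as kernel and cokernel of `φ` are
  `h`-power torsion for every `h` with `D(h) ≤ U`;
* `exists_elt`: a local generator of `N~` near `x` comes from an element of `N`.
-/

set_option autoImplicit false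
universe u
open CategoryTheory CategoryTheory.Limits AlgebraicGeometry TopologicalSpace Opposite

namespace Groth.Agent.FormalA.PicTilde491
open Groth.Agent.CurvesC.Gen

section Cover

variable {X : Scheme.{u}}

/-- Bijectivity on sections can be checked on a basis. -/
theorem bijective_of_basis {M N : X.Modules} (f : M ⟶ N) (B : Set X.Opens)
    (hB : ∀ U ∈ B, ∀ V ∈ B, U ⊓ V ∈ B) (hf : ∀ U ∈ B, Function.Bijective (f.app U)) (W : X.Opens)
    (hW : ∀ x ∈ W, ∃ V ∈ B, x ∈ V ∧ V ≤ W) : Function.Bijective (f.app W) := by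
  classical
  let ι := {V : X.Opens // V ∈ B ∧ V ≤ W}
  have hcov : W ≤ ⨆ i : ι, i.1 := by
    intro x hx
    obtain ⟨V, hV, hxV, hVW⟩ := hW x hx
    exact (le_iSup (fun i : ι => i.1) ⟨V, hV, hVW⟩) hxV
  have nat : ∀ {V W : X.Opens} (hVW : V ≤ W) (m : Γ(M, W)),
      f.app V (M.presheaf.map (homOfLE hVW).op m) = N.presheaf.map (homOfLE hVW).op (f.app W m) :=
    fun hVW m => congr($(f.mapPresheaf.naturality (homOfLE hVW).op) m)
  constructor
  · intro a b hab
    apply section_ext M (fun i : ι => i.1) (fun i => i.2.2) hcov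
    intro i
    apply (hf i.1 i.2.1).1
    rw [nat, nat]
    exact congrArg _ hab
  · intro m
    choose a ha using fun i : ι => (hf i.1 i.2.1).2 (N.presheaf.map (homOfLE i.2.2).op m)
    obtain ⟨σ, hσ, -⟩ := exists_glue M (fun i : ι => i.1) (fun i => i.2.2) hcov a (by
      intro i j
      apply (hf _ (hB _ i.2.1 _ j.2.1)).1
      rw [nat, nat, ha, ha, map_map_section, map_map_section])
    refine ⟨σ, ?_⟩
    apply section_ext N (fun i : ι => i.1) (fun i => i.2.2) hcov
    intro i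
    rw [← nat, hσ, ha]

end Cover

section Loc

variable {R : Type*} [CommRing R] (h : R) {X Y X' Y' : Type*} [AddCommGroup X] [AddCommGroup Y]
  [AddCommGroup X'] [AddCommGroup Y'] [Module R X] [Module R Y] [Module R X'] [Module R Y']
  (f : X →ₗ[R] X') (g : Y →ₗ[R] Y') [IsLocalizedModule (.powers h) f]
  [IsLocalizedModule (.powers h) g] (φ : X →ₗ[R] Y) (F : X' →ₗ[R] Y')

theorem bijective_loc (comm : ∀ x, F (f x) = g (φ x))
    (hker : ∀ x : X, φ x = 0 → ∃ n : ℕ, h ^ n • x = 0)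
    (hcok : ∀ y : Y, ∃ (n : ℕ) (x : X), φ x = h ^ n • y) : Function.Bijective F := by
  have hunitX : ∀ s ∈ Submonoid.powers h, Function.Bijective (fun x : X' => s • x) := fun s hs =>
    (Module.End.isUnit_iff _).1 (IsLocalizedModule.map_units f ⟨s, hs⟩)
  have hunitY : ∀ s ∈ Submonoid.powers h, Function.Bijective (fun x : Y' => s • x) := fun s hs =>
    (Module.End.isUnit_iff _).1 (IsLocalizedModule.map_units g ⟨s, hs⟩)
  constructor
  · rw [injective_iff_map_eq_zero]
    intro x' hx'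
    obtain ⟨⟨x, s⟩, hs⟩ := IsLocalizedModule.surj (.powers h) f x'
    change (s : R) • x' = f x at hs
    have h1 : g (φ x) = 0 := by rw [← comm, ← hs, map_smul, hx', smul_zero]
    obtain ⟨c, hc⟩ := (IsLocalizedModule.eq_zero_iff (.powers h) g).1 h1
    change (c : R) • φ x = 0 at hc
    rw [← map_smul] at hc
    obtain ⟨n, hn⟩ := hker _ hc
    have h2 : f x = 0 := by
      rw [IsLocalizedModule.eq_zero_iff (.powers h) f]
      refine ⟨⟨h ^ n * c, Submonoid.mul_mem _ ⟨n, rfl⟩ c.2⟩, ?_⟩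
      change (h ^ n * (c : R)) • x = 0
      rw [mul_smul]
      exact hn
    apply (hunitX s s.2).1
    change (s : R) • x' = (s : R) • (0 : X')
    rw [hs, h2, smul_zero]
  · intro y'
    obtain ⟨⟨y, s⟩, hs⟩ := IsLocalizedModule.surj (.powers h) g y'
    change (s : R) • y' = g y at hs
    obtain ⟨n, x, hx⟩ := hcok y
    have hmem : h ^ n * (s : R) ∈ Submonoid.powers h := Submonoid.mul_mem _ ⟨n, rfl⟩ s.2
    obtain ⟨x', hx'⟩ := (hunitX _ hmem).2 (f x)
    refine ⟨x', (hunitY _ hmem).1 ?_⟩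
    change (h ^ n * (s : R)) • F x' = (h ^ n * (s : R)) • y'
    change (h ^ n * (s : R)) • x' = f x at hx'
    rw [← map_smul, hx', comm, hx, map_smul, mul_smul, hs]

end Loc

section Tilde

variable {R : CommRingCat.{u}}

theorem tilde_app_toOpen {X Y : ModuleCat.{u} R} (φ : X ⟶ Y) (U : (Spec R).Opens) (x : X) :
    (tilde.map φ).app U ((tilde.toOpen X U).hom x) = (tilde.toOpen Y U).hom (φ.hom x) :=
  congr($(tilde.toOpen_map_app φ U) x)

theorem app_bijective {X Y : ModuleCat.{u} R} (φ : X ⟶ Y) (h : R)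
    (hker : ∀ x : X, φ.hom x = 0 → ∃ n : ℕ, h ^ n • x = 0)
    (hcok : ∀ y : Y, ∃ (n : ℕ) (x : X), φ.hom x = h ^ n • y) :
    Function.Bijective ((tilde.map φ).app (PrimeSpectrum.basicOpen h)) :=
  bijective_loc h (tilde.toOpen X (PrimeSpectrum.basicOpen h)).hom
    (tilde.toOpen Y (PrimeSpectrum.basicOpen h)).hom φ.hom
    ((modulesSpecToSheaf.map (tilde.map φ)).1.app (.op (PrimeSpectrum.basicOpen h))).hom
    (fun x => tilde_app_toOpen φ _ x) hker hcok

theorem isIso_restrict_tilde {X Y : ModuleCat.{u} R} (φ : X ⟶ Y) (U : (Spec R).Opens)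
    (hker : ∀ h : R, PrimeSpectrum.basicOpen h ≤ U → ∀ x : X, φ.hom x = 0 → ∃ n : ℕ, h ^ n • x = 0)
    (hcok : ∀ h : R, PrimeSpectrum.basicOpen h ≤ U →
      ∀ y : Y, ∃ (n : ℕ) (x : X), φ.hom x = h ^ n • y) :
    IsIso ((Scheme.Modules.restrictFunctor U.ι).map (tilde.map φ)) := by
  rw [isIso_restrict_iff]
  intro V hV
  refine bijective_of_basis _ {W | ∃ h : R, W = PrimeSpectrum.basicOpen h ∧
    PrimeSpectrum.basicOpen h ≤ U} ?_ ?_ V ?_
  · rintro _ ⟨a, rfl, ha⟩ _ ⟨b, rfl, hb⟩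
    refine ⟨a * b, (PrimeSpectrum.basicOpen_mul a b).symm, ?_⟩
    rw [PrimeSpectrum.basicOpen_mul]
    exact inf_le_left.trans ha
  · rintro _ ⟨a, rfl, ha⟩
    exact app_bijective φ a (hker a ha) (hcok a ha)
  · intro x hx
    obtain ⟨_, ⟨_, ⟨a, rfl⟩, rfl⟩, hxa, haV⟩ :=
      PrimeSpectrum.isBasis_basic_opens.exists_subset_of_mem_open hx V.2
    exact ⟨_, ⟨a, rfl, le_trans (fun y hy => haV hy) hV⟩, hxa, haV⟩

/-- A local generator of `N~` near `x` comes from an element of `N`. -/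
theorem exists_elt {N : ModuleCat.{u} R} {W : (Spec R).Opens} {s : Γ(tilde N, W)}
    (hs : IsGen (tilde N) W s) (x : Spec R) (hx : x ∈ W) :
    ∃ n : N, (∀ y : N, ∃ c : R, c ∉ x.asIdeal ∧ ∃ a : R, c • y = a • n) ∧
      ∀ a : R, a • n = 0 → ∃ c : R, c ∉ x.asIdeal ∧ c * a = 0 := by
  obtain ⟨_, ⟨_, ⟨g, rfl⟩, rfl⟩, hxg, hgW⟩ :=
    PrimeSpectrum.isBasis_basic_opens.exists_subset_of_mem_open hx W.2
  have hgW' : (PrimeSpectrum.basicOpen g : (Spec R).Opens) ≤ W := hgW
  obtain ⟨σ, hs'⟩ : ∃ σ : Γ(tilde N, PrimeSpectrum.basicOpen g),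
      IsGen (tilde N) (PrimeSpectrum.basicOpen g) σ := ⟨_, hs.mono hgW'⟩
  have hgx : g ∉ x.asIdeal := hxg
  obtain ⟨T, hT⟩ : ∃ T : N →ₗ[R] Γ(tilde N, PrimeSpectrum.basicOpen g),
      IsLocalizedModule (.powers g) T :=
    ⟨(tilde.toOpen N (PrimeSpectrum.basicOpen g)).hom,
      inferInstanceAs (IsLocalizedModule (.powers g)
        (tilde.toOpen N (PrimeSpectrum.basicOpen g)).hom)⟩
  obtain ⟨⟨n, t⟩, hn⟩ := IsLocalizedModule.surj (.powers g) T σ
  obtain ⟨t, k, rfl⟩ := t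
  change (g ^ k) • σ = T n at hn
  have hpow : ∀ m : ℕ, g ^ m ∉ x.asIdeal := fun m h => hgx (x.isPrime.mem_of_pow_mem m h)
  refine ⟨n, fun y => ?_, fun a ha => ?_⟩
  · obtain ⟨r, hr⟩ := hs'.exists_eq (T y)
    obtain ⟨⟨a, _, l, rfl⟩, ha⟩ := IsLocalization.surj (.powers g) r
    have h2 : (g ^ l) • (r • σ) = a • σ := by
      rw [← algebraMap_smul Γ(Spec R, PrimeSpectrum.basicOpen g) (g ^ l), smul_smul, mul_comm,
        ha, algebraMap_smul]
    have h1 : T (g ^ (k + l) • y) = T (a • n) := by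
      rw [map_smul, map_smul, ← hr, ← hn, pow_add, mul_smul, h2, ← mul_smul, ← mul_smul, mul_comm]
    obtain ⟨⟨_, m, rfl⟩, hm⟩ := (IsLocalizedModule.eq_iff_exists (.powers g) T).1 h1
    change g ^ m • g ^ (k + l) • y = g ^ m • a • n at hm
    refine ⟨g ^ m * g ^ (k + l), ?_, g ^ m * a, ?_⟩
    · rw [← pow_add]
      exact hpow _
    · rw [mul_smul, hm, mul_smul]
  · have h1 : algebraMap R Γ(Spec R, PrimeSpectrum.basicOpen g) (a * g ^ k) • σ =
        (0 : Γ(Spec R, PrimeSpectrum.basicOpen g)) • σ := by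
      rw [algebraMap_smul, zero_smul, mul_smul, hn, ← map_smul, ha, map_zero]
    have h3 := hs'.injective h1
    rw [IsLocalization.map_eq_zero_iff (.powers g)] at h3
    obtain ⟨⟨_, m, rfl⟩, hm⟩ := h3
    refine ⟨g ^ m * g ^ k, ?_, ?_⟩
    · rw [← pow_add]
      exact hpow _
    · change g ^ m * (a * g ^ k) = 0 at hm
      rw [← hm]
      ring

end Tilde

end Groth.Agent.FormalA.PicTilde491
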