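import Groth.Agent.FormalA.PicTilde491
import Groth.Agent.FormalA.PicAlg491
import Groth.Agent.Ega1.TildePullback
import Groth.Agent.Ega1.QcqsPush
import Groth.Prelude.Def_Formal2
import Groth.Prelude.Def_FEt

/-!
# From algebra to the extension of an invertible module on a punctured spectrum

`exists_extension`: let `A` be Noetherian local, `f ∈ 𝔪`, `L₀` an invertible module on
`U₀ = U ∩ Spec(A/f)`, isomorphic to the restriction of `N~`, and `φ : M → N` a map from a finite
module on which `f` is regular whose kernel is `f M` and whose cokernel is `0` up to `𝔪`-power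
torsion.  Then `L₀` is the pullback of an invertible module on an open `U' ⊆ U` containing `U₀`.
-/

set_option autoImplicit false
universe u
open CategoryTheory CategoryTheory.Limits AlgebraicGeometry TopologicalSpace Opposite
open scoped TensorProduct

namespace Groth.Agent.FormalA.PicTrans491
open Groth.Agent.CurvesC.Gen PicTilde491 PicAlg491

section Gen

variable {X : Scheme.{u}}

theorem isIso_ofSec {L : X.Modules} (σ : Γ(L, ⊤)) (h : IsGen L ⊤ σ) : IsIso (ofSec σ) := by
  rw [Scheme.Modules.Hom.isIso_iff_isIso_app]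
  intro V
  rw [← bijective_iff_isIso_app]
  have h2 : (fun a : Γ(X, V) => a • L.presheaf.map (homOfLE le_top).op σ) = (ofSec σ).app V := by
    funext a
    rw [← sec_ofSec, ← app_eq_smul]
  exact h2 ▸ h V le_top

theorem isInvertible_of_isGen {L : X.Modules}
    (h : ∀ x : X, ∃ U : X.Opens, x ∈ U ∧ ∃ e : Γ(L, U), IsGen L U e) : PicF.IsInvertible L := by
  intro x
  obtain ⟨U, hx, e, he⟩ := h x
  have hle : U.ι ''ᵁ ⊤ ≤ U := by simp
  have h1 : IsGen (L.restrict U.ι) ⊤
      (show Γ(L.restrict U.ι, ⊤) from L.presheaf.map (homOfLE hle).op e) := by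
    rw [isGen_restrict_iff]
    exact he.mono hle
  have := isIso_ofSec _ h1
  exact ⟨U, hx, ⟨(@asIso _ _ _ _ _ this).symm⟩⟩

theorem isGen_of_iso {L L' : X.Modules} (i : L ≅ L') {V : X.Opens} {s : Γ(L, V)} (hs : IsGen L V s) :
    IsGen L' V (i.hom.app V s) := by
  intro W hW
  have h1 : Function.Bijective (i.hom.app W) := by
    rw [bijective_iff_isIso_app]
    exact Scheme.Modules.Hom.isIso_iff_isIso_app.1 inferInstance W
  have h2 : (fun a : Γ(X, W) => a • L'.presheaf.map (homOfLE hW).op (i.hom.app V s)) =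
      (i.hom.app W) ∘ (fun a : Γ(X, W) => a • L.presheaf.map (homOfLE hW).op s) := by
    funext a
    rw [Function.comp_apply, Scheme.Modules.Hom.app_smul]
    have : i.hom.app W (L.presheaf.map (homOfLE hW).op s) =
        L'.presheaf.map (homOfLE hW).op (i.hom.app V s) :=
      congr($(i.hom.mapPresheaf.naturality (homOfLE hW).op) s)
    rw [this]
  rw [h2]
  exact h1.comp (hs W hW)

/-- The locus where a module is free of rank one. -/
def invLocus (F : X.Modules) : X.Opens :=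
  ⟨{x | ∃ W : X.Opens, x ∈ W ∧ ∃ s : Γ(F, W), IsGen F W s}, by
    rw [isOpen_iff_forall_mem_open]
    rintro x ⟨W, hx, s, hs⟩
    exact ⟨W, fun y hy => ⟨W, hy, s, hs⟩, W.2, hx⟩⟩

theorem isInvertible_restrict_of_le (F : X.Modules) (V : X.Opens) (hV : V ≤ invLocus F) :
    PicF.IsInvertible (F.restrict V.ι) := by
  refine isInvertible_of_isGen fun y => ?_
  obtain ⟨W, hx, s, hs⟩ := hV y.2
  have hle : V.ι ''ᵁ (V.ι ⁻¹ᵁ W) ≤ W := V.ι.image_preimage_le W
  refine ⟨V.ι ⁻¹ᵁ W, hx,
    (show Γ(F.restrict V.ι, V.ι ⁻¹ᵁ W) from F.presheaf.map (homOfLE hle).op s), ?_⟩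
  rw [isGen_restrict_iff]
  exact hs.mono hle

end Gen

section Local

variable (A : Type u) [CommRing A] (M : Type u) [AddCommGroup M] [Module A M]

/-- If `A_g → M_g`, `1 ↦ t` is bijective then `D(g)` lies in the invertible locus of `M~`. -/
theorem mem_invLocus (x : Spec (CommRingCat.of A)) (t : M) (g : A) (hg : g ∉ x.asIdeal)
    (h1 : ∀ x : M, ∃ a : A, g • x = a • t) (h2 : ∀ a : A, a • t = 0 → g * a = 0) :
    x ∈ invLocus (tilde (R := CommRingCat.of A) (ModuleCat.of A M)) := by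
  let ψ : ModuleCat.of (CommRingCat.of A) A ⟶ ModuleCat.of (CommRingCat.of A) M :=
    ModuleCat.ofHom (LinearMap.toSpanSingleton A M t)
  let W : (Spec (CommRingCat.of A)).Opens := PrimeSpectrum.basicOpen g
  let s : Coh.structureModule (Spec (CommRingCat.of A)) ⟶
    tilde (R := CommRingCat.of A) (ModuleCat.of A M) := tilde.map ψ
  have hdvd : ∀ h : A, (PrimeSpectrum.basicOpen h : (Spec (CommRingCat.of A)).Opens) ≤ W →
      ∃ (j : ℕ) (b : A), h ^ j = b * g := by
    intro h hh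
    have h3 : h ∈ (Ideal.span {g}).radical := by
      have := (PrimeSpectrum.basicOpen_le_basicOpen_iff h g).1 hh
      exact this
    obtain ⟨j, hj⟩ := h3
    obtain ⟨b, hb⟩ := Ideal.mem_span_singleton'.1 hj
    exact ⟨j, b, hb.symm⟩
  have hiso : IsIso ((Scheme.Modules.restrictFunctor W.ι).map s) := by
    refine isIso_restrict_tilde ψ W (fun h hh a ha => ?_) (fun h hh y => ?_)
    · obtain ⟨j, b, hj⟩ := hdvd h hh
      refine ⟨j, ?_⟩
      change a • t = 0 at ha
      change h ^ j * a = 0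
      rw [hj, mul_assoc, h2 a ha, mul_zero]
    · obtain ⟨j, b, hj⟩ := hdvd h hh
      obtain ⟨a, ha⟩ := h1 y
      refine ⟨j, b * a, ?_⟩
      change (b * a) • t = h ^ j • y
      rw [hj, mul_smul, mul_smul, ha]
  rw [isIso_restrict_iff_isGen] at hiso
  exact ⟨W, hg, _, hiso⟩

end Local

section Main

variable {A : Type u} [CommRing A] [IsNoetherianRing A] [IsLocalRing A] (f : A)
  (hf : f ∈ IsLocalRing.maximalIdeal A)

local notation "q" => Formal2.specQuotMap A f
local notation "U" => FEt.puncturedSpec A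

include hf in
omit [IsNoetherianRing A] in
theorem mem_of_basicOpen_le (h : A)
    (hh : (PrimeSpectrum.basicOpen (Ideal.Quotient.mk (Ideal.span {f}) h) :
      (Spec (CommRingCat.of (A ⧸ Ideal.span {f}))).Opens) ≤ q ⁻¹ᵁ U) :
    h ∈ IsLocalRing.maximalIdeal A := by
  by_contra hcon
  have hle : Ideal.span {f} ≤ IsLocalRing.maximalIdeal A :=
    (Ideal.span_singleton_le_iff_mem _).2 hf
  have hu : IsUnit h := by
    rw [IsLocalRing.mem_maximalIdeal, mem_nonunits_iff, not_not] at hcon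
    exact hcon
  have : (Ideal.map (Ideal.Quotient.mk (Ideal.span {f})) (IsLocalRing.maximalIdeal A)).IsPrime :=
    Ideal.map_isPrime_of_surjective Ideal.Quotient.mk_surjective (by rwa [Ideal.mk_ker])
  let z : Spec (CommRingCat.of (A ⧸ Ideal.span {f})) :=
    (⟨Ideal.map (Ideal.Quotient.mk (Ideal.span {f})) (IsLocalRing.maximalIdeal A), this⟩ :
      PrimeSpectrum (A ⧸ Ideal.span {f}))
  have hz : z ∈ (PrimeSpectrum.basicOpen (Ideal.Quotient.mk (Ideal.span {f}) h) :
      (Spec (CommRingCat.of (A ⧸ Ideal.span {f}))).Opens) := by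
    change Ideal.Quotient.mk (Ideal.span {f}) h ∉ _
    intro hmem
    exact this.ne_top (Ideal.eq_top_of_isUnit_mem _ hmem (hu.map _))
  have h1 := hh hz
  apply h1
  change PrimeSpectrum.comap (Ideal.Quotient.mk (Ideal.span {f})) _ = IsLocalRing.closedPoint A
  apply PrimeSpectrum.ext
  change Ideal.comap _ (Ideal.map _ _) = _
  rw [Ideal.comap_map_of_surjective _ Ideal.Quotient.mk_surjective, ← RingHom.ker_eq_comap_bot,
    Ideal.mk_ker]
  exact sup_eq_left.2 hle


variable (M N : Type u) [AddCommGroup M] [Module A M] [AddCommGroup N] [Module A N]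
  [Module (A ⧸ Ideal.span {f}) N] [IsScalarTower A (A ⧸ Ideal.span {f}) N]

omit [IsNoetherianRing A] [IsLocalRing A] in
theorem exists_one_tmul (z : (A ⧸ Ideal.span {f}) ⊗[A] M) :
    ∃ x : M, z = (1 : A ⧸ Ideal.span {f}) ⊗ₜ[A] x := by
  induction z using TensorProduct.induction_on with
  | zero => exact ⟨0, (TensorProduct.tmul_zero _ _).symm⟩
  | tmul a x =>
    obtain ⟨a, rfl⟩ := Ideal.Quotient.mk_surjective a
    refine ⟨a • x, ?_⟩
    rw [← TensorProduct.smul_tmul]
    congr 1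
    rw [Algebra.smul_def, mul_one]
    rfl
  | add y z hy hz =>
    obtain ⟨a, rfl⟩ := hy
    obtain ⟨b, rfl⟩ := hz
    exact ⟨a + b, (TensorProduct.tmul_add _ _ _).symm⟩

omit [IsNoetherianRing A] [IsLocalRing A] in
theorem mk_smul (a : A) (n : N) : (Ideal.Quotient.mk (Ideal.span {f}) a) • n = a • n := by
  rw [← Ideal.Quotient.algebraMap_eq, algebraMap_smul]

omit [IsNoetherianRing A] [IsLocalRing A] in
theorem f_smul (n : N) : f • n = 0 := by
  rw [← mk_smul f N, Ideal.Quotient.eq_zero_iff_mem.2 (Ideal.mem_span_singleton_self f), zero_smul]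

include hf in
omit [IsNoetherianRing A] in
/-- `(M/fM)~ → N~` is an isomorphism over `U₀`. -/
theorem isIso_restrict (φ : M →ₗ[A] N)
    (hker : ∀ x, φ x = 0 → ∃ k : ℕ, ∀ a ∈ IsLocalRing.maximalIdeal A ^ k, ∃ y, a • x = f • y)
    (hcok : ∀ y, ∃ k : ℕ, ∀ a ∈ IsLocalRing.maximalIdeal A ^ k, ∃ x, φ x = a • y) :
    IsIso ((Scheme.Modules.restrictFunctor (q ⁻¹ᵁ U).ι).map (tilde.map
      (R := CommRingCat.of (A ⧸ Ideal.span {f}))
      (ModuleCat.ofHom (LinearMap.liftBaseChange (A ⧸ Ideal.span {f}) φ)))) := by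
  refine isIso_restrict_tilde _ _ (fun h hh z hz => ?_) (fun h hh y => ?_)
  · obtain ⟨h, rfl⟩ := Ideal.Quotient.mk_surjective h
    have hm := mem_of_basicOpen_le f hf h hh
    obtain ⟨x, rfl⟩ := exists_one_tmul f M z
    change LinearMap.liftBaseChange (A ⧸ Ideal.span {f}) φ ((1 : A ⧸ Ideal.span {f}) ⊗ₜ[A] x) = 0
      at hz
    rw [LinearMap.liftBaseChange_tmul, one_smul] at hz
    obtain ⟨k, hk⟩ := hker x hz
    obtain ⟨y, hy⟩ := hk (h ^ k) (Ideal.pow_mem_pow hm k)
    refine ⟨k, ?_⟩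
    change (Ideal.Quotient.mk (Ideal.span {f}) h ^ k) • ((1 : A ⧸ Ideal.span {f}) ⊗ₜ[A] x) = 0
    rw [← map_pow, TensorProduct.smul_tmul', smul_eq_mul, mul_one]
    have h1 : (Ideal.Quotient.mk (Ideal.span {f}) (h ^ k)) = (h ^ k) • (1 : A ⧸ Ideal.span {f}) := by
      rw [Algebra.smul_def, mul_one]
      rfl
    rw [h1, TensorProduct.smul_tmul, hy, ← TensorProduct.smul_tmul, f_smul f (A ⧸ Ideal.span {f}),
      TensorProduct.zero_tmul]
  · obtain ⟨h, rfl⟩ := Ideal.Quotient.mk_surjective h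
    have hm := mem_of_basicOpen_le f hf h hh
    obtain ⟨k, hk⟩ := hcok y
    obtain ⟨x, hx⟩ := hk (h ^ k) (Ideal.pow_mem_pow hm k)
    refine ⟨k, (1 : A ⧸ Ideal.span {f}) ⊗ₜ[A] x, ?_⟩
    change LinearMap.liftBaseChange (A ⧸ Ideal.span {f}) φ ((1 : A ⧸ Ideal.span {f}) ⊗ₜ[A] x) = _
    rw [LinearMap.liftBaseChange_tmul, one_smul, hx]
    change _ = (Ideal.Quotient.mk (Ideal.span {f}) h ^ k) • (y : N)
    rw [← map_pow, mk_smul]

include hf in
/-- **Translation.** -/
theorem exists_extension [Module.Finite A M] (hreg : IsSMulRegular M f) (φ : M →ₗ[A] N)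
    (hker : ∀ x, φ x = 0 → ∃ k : ℕ, ∀ a ∈ IsLocalRing.maximalIdeal A ^ k, ∃ y, a • x = f • y)
    (hcok : ∀ y, ∃ k : ℕ, ∀ a ∈ IsLocalRing.maximalIdeal A ^ k, ∃ x, φ x = a • y)
    (L₀ : (↑(Formal2.specQuotMap A f ⁻¹ᵁ FEt.puncturedSpec A) : Scheme.{u}).Modules)
    (hL₀ : PicF.IsInvertible L₀)
    (e₀ : (tilde (R := CommRingCat.of (A ⧸ Ideal.span {f})) (ModuleCat.of _ N)).restrict
      (Formal2.specQuotMap A f ⁻¹ᵁ FEt.puncturedSpec A).ι ≅ L₀) :
    ∃ (U' : (Spec (CommRingCat.of A)).Opens) (_ : U' ≤ FEt.puncturedSpec A)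
      (h : Formal2.specQuotMap A f ⁻¹ᵁ FEt.puncturedSpec A ≤ Formal2.specQuotMap A f ⁻¹ᵁ U')
      (L : (↑U' : Scheme.{u}).Modules), PicF.IsInvertible L ∧
        Nonempty ((Scheme.Modules.pullback ((Formal2.specQuotMap A f).resLE U' _ h)).obj L ≅ L₀) := by
  let F : (Spec (CommRingCat.of A)).Modules := tilde (R := CommRingCat.of A) (ModuleCat.of A M)
  let U' : (Spec (CommRingCat.of A)).Opens := FEt.puncturedSpec A ⊓ invLocus F
  have h : q ⁻¹ᵁ U ≤ q ⁻¹ᵁ U' := by
    intro x hx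
    refine ⟨hx, ?_⟩
    -- a generator of `N~` near `x`
    obtain ⟨V, hxV, s, hs⟩ := exists_isGen hL₀ ⟨x, hx⟩
    have hs1 := (isGen_restrict_iff (q ⁻¹ᵁ U).ι _ V _).1 (isGen_of_iso e₀.symm hs)
    obtain ⟨n₀, hn1, hn2⟩ := exists_elt hs1 x ⟨⟨x, hx⟩, hxV, rfl⟩
    have hmem : ∀ c : A, c ∈ (q x).asIdeal ↔ Ideal.Quotient.mk (Ideal.span {f}) c ∈ x.asIdeal :=
      fun c => Iff.rfl
    have hIp : ¬ IsLocalRing.maximalIdeal A ≤ (q x).asIdeal := by
      intro hle
      exact hx (PrimeSpectrum.ext ((IsLocalRing.maximalIdeal.isMaximal A).eq_of_le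
        (q x).isPrime.ne_top hle).symm)
    have hfp : f ∈ (q x).asIdeal := by
      rw [hmem, Ideal.Quotient.eq_zero_iff_mem.2 (Ideal.mem_span_singleton_self f)]
      exact zero_mem _
    obtain ⟨t, g, hg, hg1, hg2⟩ := exists_gen f hreg (IsLocalRing.maximalIdeal A) φ hker hcok
      (q x).asIdeal hfp hIp n₀ (by
        intro y
        obtain ⟨c, hc, a, ha⟩ := hn1 y
        obtain ⟨c, rfl⟩ := Ideal.Quotient.mk_surjective c
        obtain ⟨a, rfl⟩ := Ideal.Quotient.mk_surjective a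
        refine ⟨c, hc, a, ?_⟩
        have ha' : (Ideal.Quotient.mk (Ideal.span {f}) c) • y =
          (Ideal.Quotient.mk (Ideal.span {f}) a) • (show N from n₀) := ha
        rw [mk_smul, mk_smul] at ha'
        exact ha') (by
        intro a ha
        obtain ⟨c, hc, hca⟩ := hn2 (Ideal.Quotient.mk (Ideal.span {f}) a) (by
          change (Ideal.Quotient.mk (Ideal.span {f}) a) • (show N from n₀) = 0
          rw [mk_smul]
          exact ha)
        obtain ⟨c, rfl⟩ := Ideal.Quotient.mk_surjective c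
        have hca' : Ideal.Quotient.mk (Ideal.span {f}) (c * a) = 0 := by
          rw [map_mul]
          exact hca
        rw [Ideal.Quotient.eq_zero_iff_mem, Ideal.mem_span_singleton] at hca'
        obtain ⟨b, hb⟩ := hca'
        exact ⟨c, hc, b, hb⟩)
    exact mem_invLocus A M (q x) t g hg hg1 hg2
  have hinv : PicF.IsInvertible (F.restrict U'.ι) :=
    isInvertible_restrict_of_le F U' inf_le_right
  refine ⟨U', inf_le_left, h, F.restrict U'.ι, hinv, ⟨?_⟩⟩
  have hiso := isIso_restrict f hf M N φ hker hcok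
  refine (Scheme.Modules.pullback _).mapIso
      ((Scheme.Modules.restrictFunctorIsoPullback U'.ι).app F) ≪≫
    (Scheme.Modules.pullbackComp _ _).app F ≪≫
    (Scheme.Modules.pullbackCongr (Scheme.Hom.resLE_comp_ι _ _)).app F ≪≫
    (Scheme.Modules.pullbackComp _ _).symm.app F ≪≫
    (Scheme.Modules.pullback _).mapIso
      (Ega1.TildePullback.pullbackTildeIso A (A ⧸ Ideal.span {f}) M) ≪≫
    ((Scheme.Modules.restrictFunctorIsoPullback (q ⁻¹ᵁ U).ι).app _).symm ≪≫
    (@asIso _ _ _ _ _ hiso) ≪≫ e₀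

end Main

end Groth.Agent.FormalA.PicTrans491
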