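import Groth.Agent.FormalA.LocSub
import Mathlib.RingTheory.Spectrum.Prime.Noetherian
import Mathlib.RingTheory.Spectrum.Prime.Topology
import Mathlib.RingTheory.Noetherian.Basic
import Mathlib.Algebra.Module.Torsion.Basic

/-!
# Sections of `M~` over a subset of the spectrum, as a submodule of a product of localizations

`sec M V` is the `A`-module of families `(f p ∈ M_p)_{p ∈ V}` which are locally fractions.
-/

set_option autoImplicit false
universe u

namespace Groth.Agent.FormalA.SecMod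

open LocalizedModule Groth.Agent.FormalA.LocSub

variable {A : Type u} [CommRing A]

/-- Families of germs over `V` which are locally fractions. -/
def sec (M : Type u) [AddCommGroup M] [Module A M] (V : Set (PrimeSpectrum A)) :
    Submodule A (∀ p : V, LocalizedModule p.1.asIdeal.primeCompl M) where
  carrier := {f | ∀ p : V, ∃ (a : M) (b : A), b ∉ p.1.asIdeal ∧
    ∀ q : V, b ∉ q.1.asIdeal → b • f q = mkLinearMap q.1.asIdeal.primeCompl M a}
  add_mem' := by
    intro f g hf hg p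
    obtain ⟨a, b, hb, h⟩ := hf p
    obtain ⟨a', b', hb', h'⟩ := hg p
    refine ⟨b' • a + b • a', b * b', ?_, ?_⟩
    · exact fun hh => (p.1.isPrime.mem_or_mem hh).elim hb hb'
    · intro q hq
      have h1 : b ∉ q.1.asIdeal := fun hh => hq (Ideal.mul_mem_right _ _ hh)
      have h2 : b' ∉ q.1.asIdeal := fun hh => hq (Ideal.mul_mem_left _ _ hh)
      rw [map_add, map_smul, map_smul, ← h q h1, ← h' q h2, Pi.add_apply, smul_add, mul_smul,
        mul_smul, smul_comm b b']
  zero_mem' := by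
    intro p
    refine ⟨0, 1, ?_, ?_⟩
    · exact (Ideal.ne_top_iff_one _).1 p.1.isPrime.ne_top
    · intro q _
      simp
  smul_mem' := by
    intro c f hf p
    obtain ⟨a, b, hb, h⟩ := hf p
    refine ⟨c • a, b, hb, ?_⟩
    intro q hq
    rw [Pi.smul_apply, smul_comm, h q hq, map_smul]

variable {M N P : Type u} [AddCommGroup M] [Module A M] [AddCommGroup N] [Module A N]
  [AddCommGroup P] [Module A P] {V : Set (PrimeSpectrum A)}

theorem mem_sec {f : ∀ p : V, LocalizedModule p.1.asIdeal.primeCompl M} :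
    f ∈ sec M V ↔ ∀ p : V, ∃ (a : M) (b : A), b ∉ p.1.asIdeal ∧
      ∀ q : V, b ∉ q.1.asIdeal → b • f q = mkLinearMap q.1.asIdeal.primeCompl M a := Iff.rfl

/-- The canonical map from the module to the sections. -/
noncomputable def ι (M : Type u) [AddCommGroup M] [Module A M] (V : Set (PrimeSpectrum A)) :
    M →ₗ[A] sec M V where
  toFun m := ⟨fun p => mkLinearMap _ M m, fun p => ⟨m, 1,
    (Ideal.ne_top_iff_one _).1 p.1.isPrime.ne_top, fun q _ => one_smul _ _⟩⟩
  map_add' x y := Subtype.ext (funext fun p => map_add _ _ _)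
  map_smul' c x := Subtype.ext (funext fun p => map_smul _ _ _)

@[simp]
theorem ι_apply (m : M) (p : V) : (ι M V m).1 p = mkLinearMap p.1.asIdeal.primeCompl M m := rfl

theorem ext_sec {x y : sec M V} (h : ∀ p : V, x.1 p = y.1 p) : x = y := Subtype.ext (funext h)

/-- Functoriality of sections in the module. -/
noncomputable def map (V : Set (PrimeSpectrum A)) (φ : M →ₗ[A] N) : sec M V →ₗ[A] sec N V where
  toFun x := ⟨fun p => lmap _ φ (x.1 p), fun p => by
    obtain ⟨a, b, hb, h⟩ := x.2 p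
    refine ⟨φ a, b, hb, fun q hq => ?_⟩
    rw [← map_smul, h q hq, lmap_mkLinearMap]⟩
  map_add' x y := Subtype.ext (funext fun p => (lmap p.1.asIdeal.primeCompl φ).map_add (x.1 p) (y.1 p))
  map_smul' c x := Subtype.ext (funext fun p => (lmap p.1.asIdeal.primeCompl φ).map_smul c (x.1 p))

@[simp]
theorem map_apply (φ : M →ₗ[A] N) (x : sec M V) (p : V) :
    (map V φ x).1 p = lmap p.1.asIdeal.primeCompl φ (x.1 p) := rfl

theorem map_ι (φ : M →ₗ[A] N) (m : M) : map V φ (ι M V m) = ι N V (φ m) :=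
  ext_sec fun p => by rw [map_apply, ι_apply, ι_apply, lmap_mkLinearMap]

theorem map_map (φ : M →ₗ[A] N) (ψ : N →ₗ[A] P) (x : sec M V) :
    map V ψ (map V φ x) = map V (ψ ∘ₗ φ) x :=
  ext_sec fun p => by rw [map_apply, map_apply, map_apply, lmap_comp]

theorem map_id (x : sec M V) : map V LinearMap.id x = x :=
  ext_sec fun p => by rw [map_apply, lmap_id]

theorem map_smul_id (c : A) (x : sec M V) : map V (c • (LinearMap.id : M →ₗ[A] M)) x = c • x :=
  ext_sec fun p => by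
    rw [map_apply]
    change lmap _ _ (x.1 p) = c • x.1 p
    obtain ⟨m, s, h⟩ := exists_eq_mk (x.1 p)
    rw [h, lmap_mk, LocalizedModule.smul'_mk]
    rfl

theorem map_injective (φ : M →ₗ[A] N) (h : Function.Injective φ) :
    Function.Injective (map V φ) := by
  intro x y hxy
  refine ext_sec fun p => lmap_injective φ h ?_
  exact congrFun (congrArg Subtype.val hxy) p

theorem map_exact (φ : M →ₗ[A] N) (ψ : N →ₗ[A] P) (h : Function.Injective φ)
    (h' : Function.Exact φ ψ) (y : sec N V) (hy : map V ψ y = 0) : ∃ x, map V φ x = y := by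
  have h1 : ∀ p : V, ∃ x, lmap p.1.asIdeal.primeCompl φ x = y.1 p := by
    intro p
    have h2 : lmap p.1.asIdeal.primeCompl ψ (y.1 p) = 0 := congrFun (congrArg Subtype.val hy) p
    exact (lmap_exact φ ψ h' _).1 h2
  choose x hx using h1
  refine ⟨⟨x, ?_⟩, ext_sec hx⟩
  intro p
  obtain ⟨a, b, hb, hab⟩ := y.2 p
  have h3 : mkLinearMap p.1.asIdeal.primeCompl P (ψ a) = 0 := by
    rw [← lmap_mkLinearMap, ← hab p hb, map_smul, ← hx p]
    have := (lmap_exact φ ψ h' (S := p.1.asIdeal.primeCompl)).apply_apply_eq_zero (x p)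
    rw [this, smul_zero]
  obtain ⟨c, hc, h4⟩ := (mkLinearMap_eq_zero_iff _).1 h3
  rw [← map_smul] at h4
  obtain ⟨a', ha'⟩ := (h' _).1 h4
  refine ⟨a', c * b, fun hh => (p.1.isPrime.mem_or_mem hh).elim hc hb, ?_⟩
  intro q hq
  have h5 : b ∉ q.1.asIdeal := fun hh => hq (Ideal.mul_mem_left _ _ hh)
  refine lmap_injective φ h ?_
  rw [map_smul, hx q, mul_smul, hab q h5, lmap_mkLinearMap, ha', map_smul]

/-- Restriction of sections. -/
noncomputable def res {V W : Set (PrimeSpectrum A)} (h : W ⊆ V) : sec M V →ₗ[A] sec M W where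
  toFun x := ⟨fun p => x.1 ⟨p.1, h p.2⟩, fun p => by
    obtain ⟨a, b, hb, hab⟩ := x.2 ⟨p.1, h p.2⟩
    exact ⟨a, b, hb, fun q hq => hab ⟨q.1, h q.2⟩ hq⟩⟩
  map_add' x y := rfl
  map_smul' c x := rfl

/-- The complement of the zero locus. -/
abbrev D (J : Ideal A) : Set (PrimeSpectrum A) := (PrimeSpectrum.zeroLocus (J : Set A))ᶜ

theorem mem_D {J : Ideal A} {p : PrimeSpectrum A} : p ∈ D J ↔ ¬ J ≤ p.asIdeal := Iff.rfl

theorem exists_mem_of_mem_D {J : Ideal A} {p : PrimeSpectrum A} (hp : p ∈ D J) :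
    ∃ b ∈ J, b ∉ p.asIdeal := SetLike.not_le_iff_exists.1 hp

/-- A section over `D J` killed by `J` is zero. -/
theorem eq_zero_of_forall_smul {J J' : Ideal A} (hJ : D J ⊆ D J') (x : sec M (D J))
    (h : ∀ b ∈ J', b • x = 0) : x = 0 := by
  refine ext_sec fun p => ?_
  obtain ⟨b, hb, hbp⟩ := exists_mem_of_mem_D (hJ p.2)
  exact smul_eq_zero_of_mem (S := p.1.asIdeal.primeCompl) hbp (congrFun (congrArg Subtype.val (h b hb)) p)

theorem zeroLocus_pow (J : Ideal A) (k : ℕ) (hk : k ≠ 0) : D (J ^ k) = D J := by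
  rw [D, D, PrimeSpectrum.zeroLocus_pow _ hk]

section Noeth

variable [IsNoetherianRing A]

theorem exists_pow_le_of_D_subset {J J' : Ideal A} (h : D J ⊆ D J') : ∃ k : ℕ, J ^ k ≤ J' := by
  have h1 : J ≤ J'.radical := by
    rw [← PrimeSpectrum.zeroLocus_subset_zeroLocus_iff]
    exact Set.compl_subset_compl.1 h
  obtain ⟨k, hk⟩ := Ideal.exists_radical_pow_le_of_fg J' (IsNoetherian.noetherian _)
  exact ⟨k, (Ideal.pow_right_mono h1 k).trans hk⟩

theorem ι_eq_zero_iff {J : Ideal A} (m : M) :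
    ι M (D J) m = 0 ↔ ∃ k : ℕ, ∀ b ∈ J ^ k, b • m = 0 := by
  constructor
  · intro h
    have h1 : D J ⊆ D (Ideal.torsionOf A M m) := by
      intro p hp
      have h2 : mkLinearMap p.asIdeal.primeCompl M m = 0 := congrFun (congrArg Subtype.val h) ⟨p, hp⟩
      obtain ⟨c, hc, h4⟩ := (mkLinearMap_eq_zero_iff _).1 h2
      exact fun hle => hc (hle ((Ideal.mem_torsionOf_iff _ _).2 h4))
    obtain ⟨k, hk⟩ := exists_pow_le_of_D_subset h1
    exact ⟨k, fun b hb => (Ideal.mem_torsionOf_iff _ _).1 (hk hb)⟩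
  · rintro ⟨k, hk⟩
    by_cases hk0 : k = 0
    · subst hk0
      have : m = 0 := by simpa using hk 1 (by simp)
      rw [this, map_zero]
    refine eq_zero_of_forall_smul (J' := J ^ k) ?_ _ ?_
    · rw [zeroLocus_pow _ _ hk0]
    · intro b hb
      rw [← map_smul, hk b hb, map_zero]

/-- Sections over `D J` are, up to multiplication by a power of `J`, elements of the module. -/
theorem exists_pow_smul {J : Ideal A} (y : sec M (D J)) :
    ∃ k : ℕ, ∀ b ∈ J ^ k, ∃ m : M, b • y = ι M (D J) m := by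
  let K : Ideal A :=
    { carrier := {b | ∃ m : M, b • y = ι M (D J) m}
      add_mem' := by
        rintro b b' ⟨m, hm⟩ ⟨m', hm'⟩
        exact ⟨m + m', by rw [add_smul, hm, hm', map_add]⟩
      zero_mem' := ⟨0, by rw [zero_smul, map_zero]⟩
      smul_mem' := by
        rintro c b ⟨m, hm⟩
        exact ⟨c • m, by rw [smul_eq_mul, mul_smul, hm, map_smul]⟩ }
  suffices h : D J ⊆ D K by
    obtain ⟨k, hk⟩ := exists_pow_le_of_D_subset h
    exact ⟨k, fun b hb => hk hb⟩
  -- local fractions, on basic opens contained in `D J`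
  have hloc : ∀ p : D J, ∃ (a : M) (b : A), b ∈ J ∧ b ∉ p.1.asIdeal ∧
      ∀ q : D J, b ∉ q.1.asIdeal → b • y.1 q = mkLinearMap q.1.asIdeal.primeCompl M a := by
    intro p
    obtain ⟨a, b, hb, h⟩ := y.2 p
    obtain ⟨c, hc, hcp⟩ := exists_mem_of_mem_D p.2
    refine ⟨c • a, c * b, Ideal.mul_mem_right _ _ hc,
      fun hh => (p.1.isPrime.mem_or_mem hh).elim hcp hb, ?_⟩
    intro q hq
    have h1 : b ∉ q.1.asIdeal := fun hh => hq (Ideal.mul_mem_left _ _ hh)
    rw [mul_smul, h q h1, map_smul]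
  choose a b hbJ hbp hab using hloc
  -- finitely many suffice
  have hcomp : IsCompact (D J) := by
    exact TopologicalSpace.NoetherianSpace.isCompact _
  obtain ⟨t, ht⟩ := hcomp.elim_finite_subcover
    (fun p : D J => (PrimeSpectrum.basicOpen (b p) : Set (PrimeSpectrum A)))
    (fun p => (PrimeSpectrum.basicOpen (b p)).2)
    (fun p hp => Set.mem_iUnion.2 ⟨⟨p, hp⟩, hbp ⟨p, hp⟩⟩)
  intro p hp
  -- show `b p ^ (k+1) ∈ K`
  have hc : ∀ i : D J, ∃ k : ℕ, (b ⟨p, hp⟩ * b i) ^ k • (b ⟨p, hp⟩ • a i - b i • a ⟨p, hp⟩) = 0 := by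
    intro i
    have h1 : b ⟨p, hp⟩ * b i ∈
        (Ideal.torsionOf A M (b ⟨p, hp⟩ • a i - b i • a ⟨p, hp⟩)).radical := by
      rw [← Ideal.span_singleton_le_iff_mem, ← PrimeSpectrum.zeroLocus_subset_zeroLocus_iff]
      intro q hq
      by_contra hq'
      have h2 : b ⟨p, hp⟩ * b i ∉ q.asIdeal := by
        intro hh
        exact hq' (by simpa [PrimeSpectrum.mem_zeroLocus] using hh)
      have h3 : b ⟨p, hp⟩ ∉ q.asIdeal := fun hh => h2 (Ideal.mul_mem_right _ _ hh)
      have h4 : b i ∉ q.asIdeal := fun hh => h2 (Ideal.mul_mem_left _ _ hh)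
      have hqD : q ∈ D J := fun hle => h4 (hle (hbJ i))
      have h5 := hab ⟨p, hp⟩ ⟨q, hqD⟩ h3
      have h6 := hab i ⟨q, hqD⟩ h4
      have h7 : mkLinearMap q.asIdeal.primeCompl M
          (b ⟨p, hp⟩ • a i - b i • a ⟨p, hp⟩) = 0 := by
        rw [map_sub, map_smul, map_smul]
        rw [← h5, ← h6, smul_comm, sub_self]
      obtain ⟨c, hc, h8⟩ := (mkLinearMap_eq_zero_iff _).1 h7
      exact hc (hq ((Ideal.mem_torsionOf_iff _ _).2 h8))
    obtain ⟨k, hk⟩ := h1
    exact ⟨k, (Ideal.mem_torsionOf_iff _ _).1 hk⟩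
  choose k hk using hc
  let n := t.sup k
  have hmain : b ⟨p, hp⟩ ^ n • (b ⟨p, hp⟩ • y - ι M (D J) (a ⟨p, hp⟩)) = 0 := by
    refine ext_sec fun q => ?_
    obtain ⟨i, hi, hqi⟩ : ∃ i ∈ t, q.1 ∈ (PrimeSpectrum.basicOpen (b i) : Set (PrimeSpectrum A)) := by
      simpa using ht q.2
    have h4 : b i ∉ q.1.asIdeal := hqi
    have h6 := hab i q h4
    have hkn : k i ≤ n := Finset.le_sup hi
    have h9 : (b ⟨p, hp⟩ * b i) ^ n • (b ⟨p, hp⟩ • a i - b i • a ⟨p, hp⟩) = 0 := by
      obtain ⟨j, hj⟩ := Nat.exists_eq_add_of_le hkn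
      rw [hj, pow_add, mul_comm, mul_smul, hk i, smul_zero]
    have h10 : b i ^ (n + 1) • (b ⟨p, hp⟩ ^ n • (b ⟨p, hp⟩ • y.1 q -
        mkLinearMap q.1.asIdeal.primeCompl M (a ⟨p, hp⟩))) = 0 := by
      have h11 := congrArg (mkLinearMap q.1.asIdeal.primeCompl M) h9
      rw [map_smul, map_sub, map_smul, map_smul, map_zero, ← h6] at h11
      rw [← h11, pow_succ, mul_pow, mul_smul, mul_smul, smul_comm (b i) (b ⟨p, hp⟩ ^ n), smul_sub,
        smul_comm (b i) (b ⟨p, hp⟩), smul_comm (b i ^ n)]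
    refine smul_eq_zero_of_mem (S := q.1.asIdeal.primeCompl) (s := b i ^ (n + 1)) ?_ h10
    exact pow_mem (show b i ∈ q.1.asIdeal.primeCompl from h4) _
  refine fun hle => ?_
  have h12 : b ⟨p, hp⟩ ^ (n + 1) ∈ K := by
    refine ⟨b ⟨p, hp⟩ ^ n • a ⟨p, hp⟩, ?_⟩
    rw [smul_sub, sub_eq_zero] at hmain
    rw [pow_succ, mul_smul, hmain, map_smul]
  exact hbp ⟨p, hp⟩ (p.isPrime.mem_of_pow_mem _ (hle h12))

end Noeth

end Groth.Agent.FormalA.SecMod
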