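import Groth.Prelude.Def_Formal2
import Groth.Agent.FormalA.HUBasic

/-!
# The functor from `A`-modules to abelian sheaves on `Spec A`

`tAb A : ModuleCat A ⥤ CohTop.Ab (Spec A)` sends `M` to the abelian sheaf underlying `M~`.
It is exact.
-/

universe u

open CategoryTheory TopologicalSpace Opposite CategoryTheory.Limits AlgebraicGeometry

namespace Groth.Agent.FormalA.TildeAb

variable (A : Type u) [CommRing A]

/-- `Spec A` as a topological space. -/
noncomputable abbrev SpT : TopCat.{u} := (Spec (CommRingCat.of A)).toTopCat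

/-- The abelian sheaf attached to an `A`-module. -/
noncomputable def tAb : ModuleCat.{u} A ⥤ CohTop.Ab (SpT A) :=
  tilde.functor (CommRingCat.of A) ⋙ SheafOfModules.toSheaf _

theorem tAb_additive (R : CommRingCat.{u}) :
    (tilde.functor R ⋙ SheafOfModules.toSheaf (Spec R).ringCatSheaf).Additive where
  map_add {M N f g} := by
    change (SheafOfModules.toSheaf _).map (tilde.map (f + g)) =
      (SheafOfModules.toSheaf _).map (tilde.map f) + (SheafOfModules.toSheaf _).map (tilde.map g)
    rw [tilde.map_add]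
    rfl

instance : (tAb A).Additive := tAb_additive (CommRingCat.of A)

variable {A}

/-- Sections of `M~` over an open of `Spec A`, as an `A`-module. -/
noncomputable abbrev sec (M : ModuleCat.{u} A) (U : (Spec (CommRingCat.of A)).Opens) :
    ModuleCat.{u} A :=
  (modulesSpecToSheaf.obj (tilde (R := CommRingCat.of A) M)).obj.obj (op U)

/-- Restriction of sections. -/
noncomputable abbrev secRes (M : ModuleCat.{u} A) {U V : (Spec (CommRingCat.of A)).Opens}
    (h : V ≤ U) : sec M U ⟶ sec M V :=
  (modulesSpecToSheaf.obj (tilde (R := CommRingCat.of A) M)).obj.map (homOfLE h).op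

/-- Functoriality of sections in the module. -/
noncomputable abbrev secMap {M N : ModuleCat.{u} A} (φ : M ⟶ N)
    (U : (Spec (CommRingCat.of A)).Opens) : sec M U ⟶ sec N U :=
  (modulesSpecToSheaf.map (tilde.map (R := CommRingCat.of A) φ)).hom.app (op U)

/-- The canonical map `M → Γ(U, M~)`. -/
noncomputable abbrev toSec (M : ModuleCat.{u} A) (U : (Spec (CommRingCat.of A)).Opens) :
    M ⟶ sec M U :=
  tilde.toOpen (R := CommRingCat.of A) M U

example (M : ModuleCat.{u} A) (U : (Spec (CommRingCat.of A)).Opens) :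
  (((tAb A).obj M).obj.obj (op U) : Type u) = (sec M U : Type u) := rfl

theorem tAb_map_app {M N : ModuleCat.{u} A} (φ : M ⟶ N)
    (U : (Spec (CommRingCat.of A)).Opens) (x : sec M U) :
    ((tAb A).map φ).hom.app (op U) x = secMap φ U x := rfl

theorem tAb_obj_map (M : ModuleCat.{u} A) {U V : (Spec (CommRingCat.of A)).Opens} (h : V ≤ U)
    (x : sec M U) :
    ((tAb A).obj M).obj.map (homOfLE h).op x = secRes M h x := rfl

theorem toSec_res (M : ModuleCat.{u} A) {U V : (Spec (CommRingCat.of A)).Opens} (h : V ≤ U) :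
    toSec M U ≫ secRes M h = toSec M V :=
  tilde.toOpen_res (R := CommRingCat.of A) M U V (homOfLE h)

theorem toSec_res_apply (M : ModuleCat.{u} A) {U V : (Spec (CommRingCat.of A)).Opens}
    (h : V ≤ U) (m : M) : secRes M h (toSec M U m) = toSec M V m :=
  congrArg (fun t => t.hom m) (toSec_res M h)

theorem toSec_map {M N : ModuleCat.{u} A} (φ : M ⟶ N)
    (U : (Spec (CommRingCat.of A)).Opens) : toSec M U ≫ secMap φ U = φ ≫ toSec N U :=
  tilde.toOpen_map_app (R := CommRingCat.of A) φ U

theorem toSec_map_apply {M N : ModuleCat.{u} A} (φ : M ⟶ N)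
    (U : (Spec (CommRingCat.of A)).Opens) (m : M) :
    secMap φ U (toSec M U m) = toSec N U (φ m) :=
  congrArg (fun t => t.hom m) (toSec_map φ U)

theorem secRes_map {M N : ModuleCat.{u} A} (φ : M ⟶ N)
    {U V : (Spec (CommRingCat.of A)).Opens} (h : V ≤ U) (x : sec M U) :
    secMap φ V (secRes M h x) = secRes N h (secMap φ U x) :=
  congrArg (fun t => t.hom x)
    ((modulesSpecToSheaf.map (tilde.map (R := CommRingCat.of A) φ)).hom.naturality (homOfLE h).op)

theorem secMap_comp_apply {M N P : ModuleCat.{u} A} (φ : M ⟶ N) (ψ : N ⟶ P)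
    (U : (Spec (CommRingCat.of A)).Opens) (x : sec M U) :
    secMap (φ ≫ ψ) U x = secMap ψ U (secMap φ U x) := by
  unfold secMap
  rw [tilde.map_comp, Functor.map_comp]
  rfl

theorem secRes_res (M : ModuleCat.{u} A) {U V W : (Spec (CommRingCat.of A)).Opens}
    (h : V ≤ U) (h' : W ≤ V) (x : sec M U) :
    secRes M h' (secRes M h x) = secRes M (h'.trans h) x := by
  unfold secRes
  rw [← ConcreteCategory.comp_apply, ← Functor.map_comp]
  rfl

theorem secRes_self (M : ModuleCat.{u} A) {U : (Spec (CommRingCat.of A)).Opens}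
    (h : U ≤ U) (x : sec M U) : secRes M h x = x :=
  congrArg (fun t => t.hom x)
    ((modulesSpecToSheaf.obj (tilde (R := CommRingCat.of A) M)).obj.map_id (op U))

theorem isLocalizedModule_toOpen (R : CommRingCat.{u}) (M : ModuleCat.{u} R) (f : R) :
    IsLocalizedModule.Away f (tilde.toOpen M (PrimeSpectrum.basicOpen f)).hom :=
  inferInstance

instance (M : ModuleCat.{u} A) (f : A) :
    IsLocalizedModule (Submonoid.powers f) (toSec M (PrimeSpectrum.basicOpen f)).hom :=
  isLocalizedModule_toOpen (CommRingCat.of A) M f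

/-- On basic opens the map on sections is the localized map. -/
theorem secMap_basicOpen {M N : ModuleCat.{u} A} (φ : M ⟶ N) (f : A) :
    (secMap φ (PrimeSpectrum.basicOpen f)).hom =
      IsLocalizedModule.map (Submonoid.powers f) (toSec M (PrimeSpectrum.basicOpen f)).hom
        (toSec N (PrimeSpectrum.basicOpen f)).hom φ.hom := by
  apply IsLocalizedModule.ext (Submonoid.powers f) (toSec M (PrimeSpectrum.basicOpen f)).hom
    (IsLocalizedModule.map_units (toSec N (PrimeSpectrum.basicOpen f)).hom)
  rw [IsLocalizedModule.map_comp]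
  exact congrArg ModuleCat.Hom.hom (toSec_map φ (PrimeSpectrum.basicOpen f))

/-- Two sections agreeing on all basic opens inside `U` agree. -/
theorem sec_ext (M : ModuleCat.{u} A) (U : (Spec (CommRingCat.of A)).Opens) (s t : sec M U)
    (h : ∀ (f : A) (hf : PrimeSpectrum.basicOpen f ≤ U), secRes M hf s = secRes M hf t) :
    s = t := by
  apply TopCat.Presheaf.IsSheaf.section_ext
    (modulesSpecToSheaf.obj (tilde (R := CommRingCat.of A) M)).2
  intro x hxU
  obtain ⟨a, ⟨_, ⟨r, rfl⟩, rfl⟩, hxr, hrU⟩ :=
    PrimeSpectrum.isBasis_basic_opens.exists_subset_of_mem_open hxU U.2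
  exact ⟨_, hrU, hxr, h r hrU⟩

theorem secMap_injective {M N : ModuleCat.{u} A} (φ : M ⟶ N) (hφ : Function.Injective φ)
    (U : (Spec (CommRingCat.of A)).Opens) : Function.Injective (secMap φ U) := by
  intro s t hst
  apply sec_ext
  intro f hf
  have h1 : secMap φ _ (secRes M hf s) = secMap φ _ (secRes M hf t) := by
    rw [secRes_map, secRes_map, hst]
  have h2 : Function.Injective (secMap φ (PrimeSpectrum.basicOpen f)) := by
    have := IsLocalizedModule.map_injective (Submonoid.powers f)
      (toSec M (PrimeSpectrum.basicOpen f)).hom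
        (toSec N (PrimeSpectrum.basicOpen f)).hom φ.hom hφ
    rw [← secMap_basicOpen] at this
    exact this
  exact h2 h1

theorem secMap_surjective_basicOpen {M N : ModuleCat.{u} A} (φ : M ⟶ N)
    (hφ : Function.Surjective φ) (f : A) :
    Function.Surjective (secMap φ (PrimeSpectrum.basicOpen f)) := by
  have := IsLocalizedModule.map_surjective (Submonoid.powers f)
      (toSec M (PrimeSpectrum.basicOpen f)).hom
        (toSec N (PrimeSpectrum.basicOpen f)).hom φ.hom hφ
  rw [← secMap_basicOpen] at this
  exact this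

attribute [local instance 3000] HUBasic.hasSheafify HUBasic.hasExt

theorem mono_tAb_map {M N : ModuleCat.{u} A} (φ : M ⟶ N) (hφ : Function.Injective φ) :
    Mono ((tAb A).map φ) := by
  have : Mono ((sheafToPresheaf _ _).map ((tAb A).map φ)) := by
    have : ∀ U, Mono (((sheafToPresheaf _ _).map ((tAb A).map φ)).app U) := by
      intro U
      rw [AddCommGrpCat.mono_iff_injective]
      exact secMap_injective φ hφ U.unop
    exact NatTrans.mono_of_mono_app _
  exact (sheafToPresheaf _ _).mono_of_mono_map this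

theorem epi_tAb_map {M N : ModuleCat.{u} A} (φ : M ⟶ N) (hφ : Function.Surjective φ) :
    Epi ((tAb A).map φ) := by
  have : TopCat.Presheaf.IsLocallySurjective ((tAb A).map φ).hom := by
    rw [TopCat.Presheaf.isLocallySurjective_iff]
    intro U t x hx
    obtain ⟨a, ⟨_, ⟨r, rfl⟩, rfl⟩, hxr, hrU⟩ :=
      PrimeSpectrum.isBasis_basic_opens.exists_subset_of_mem_open hx U.2
    refine ⟨_, hrU, ?_, hxr⟩
    exact secMap_surjective_basicOpen φ hφ r (secRes N hrU t)
  exact (TopCat.Sheaf.isLocallySurjective_iff_epi _).1 this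

theorem secMap_exact_basicOpen {M N P : ModuleCat.{u} A} (φ : M ⟶ N) (ψ : N ⟶ P)
    (h : Function.Exact φ ψ) (f : A) :
    Function.Exact (secMap φ (PrimeSpectrum.basicOpen f))
      (secMap ψ (PrimeSpectrum.basicOpen f)) := by
  have := IsLocalizedModule.map_exact (Submonoid.powers f)
      (toSec M (PrimeSpectrum.basicOpen f)).hom
        (toSec N (PrimeSpectrum.basicOpen f)).hom (toSec P (PrimeSpectrum.basicOpen f)).hom
        φ.hom ψ.hom h
  rw [← secMap_basicOpen, ← secMap_basicOpen] at this
  exact this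

theorem mono_app {X : TopCat.{u}} {F G : CohTop.Ab X} (φ : F ⟶ G) [Mono φ] (U : Opens X) :
    Function.Injective (φ.hom.app (op U)) := by
  have h1 : Mono ((sheafToPresheaf _ _).map φ) := inferInstance
  have h2 : Mono (((sheafToPresheaf _ _).map φ).app (op U)) := inferInstance
  exact (AddCommGrpCat.mono_iff_injective _).1 h2

/-- The functor `M ↦ M~` to abelian sheaves is exact. -/
theorem tAb_shortExact {S : ShortComplex (ModuleCat.{u} A)} (hS : S.ShortExact) :
    (S.map (tAb A)).ShortExact := by
  have hm : Mono ((tAb A).map S.f) :=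
    mono_tAb_map _ ((ModuleCat.mono_iff_injective _).1 hS.mono_f)
  have he : Epi ((tAb A).map S.g) :=
    epi_tAb_map _ ((ModuleCat.epi_iff_surjective _).1 hS.epi_g)
  have hex : Function.Exact S.f S.g := (ShortComplex.ShortExact.moduleCat_exact_iff_function_exact S).1 hS.exact
  refine ShortComplex.ShortExact.mk' ?_ hm he
  rw [ShortComplex.exact_iff_epi_toCycles]
  have : TopCat.Presheaf.IsLocallySurjective (S.map (tAb A)).toCycles.hom := by
    rw [TopCat.Presheaf.isLocallySurjective_iff]
    intro U t x hx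
    obtain ⟨a, ⟨_, ⟨r, rfl⟩, rfl⟩, hxr, hrU⟩ :=
      PrimeSpectrum.isBasis_basic_opens.exists_subset_of_mem_open hx U.2
    refine ⟨_, hrU, ?_, hxr⟩
    let t₂ : sec S.X₂ U := (S.map (tAb A)).iCycles.hom.app (op U) t
    have ht₂ : secMap S.g U t₂ = 0 := by
      have := (S.map (tAb A)).iCycles_g
      exact congrArg (fun φ => φ.hom.app (op U) t) this
    have ht₃ : secMap S.g _ (secRes S.X₂ hrU t₂) = 0 := by
      rw [secRes_map, ht₂, map_zero]
    obtain ⟨s, hs⟩ := (secMap_exact_basicOpen S.f S.g hex r _).1 ht₃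
    refine ⟨s, ?_⟩
    apply mono_app (S.map (tAb A)).iCycles
    have e1 : (S.map (tAb A)).iCycles.hom.app _ ((S.map (tAb A)).toCycles.hom.app _ s) =
        secMap S.f _ s := by
      have := (S.map (tAb A)).toCycles_i
      exact congrArg (fun φ => φ.hom.app (op (PrimeSpectrum.basicOpen r)) s) this
    refine e1.trans (hs.trans ?_)
    exact (congrArg (fun φ => φ.hom t)
      ((S.map (tAb A)).iCycles.hom.naturality (homOfLE hrU).op)).symm
  exact (TopCat.Sheaf.isLocallySurjective_iff_epi _).1 this

end Groth.Agent.FormalA.TildeAb
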