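import Groth.Agent.Ega1.ExtendAff2
import Groth.Agent.Ega4dA.SpecGen
import Groth.Agent.Ega2.QCohLocal
import Groth.Agent.Fdesc.LocGenPullback
import Groth.Agent.Smoothlim.TildePull
import Groth.Agent.CohqB.FiniteType2

/-!
# Restrictions of `tilde M` to opens of `Spec R`
-/

set_option autoImplicit false
universe u

open AlgebraicGeometry CategoryTheory CategoryTheory.Limits Opposite TopologicalSpace

namespace Groth.Agent.FormalA.TildeOpen

open Groth.Agent Groth.Agent.Fdesc.LocGen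

/-- If `P → G` has `g`-torsion kernel and cokernel, then `P → G → G_g` is a localization. -/
theorem isLocalizedModule_comp' {R : Type*} [CommRing R] (g : R) {P G G' : Type*}
    [AddCommGroup P] [Module R P]
    [AddCommGroup G] [Module R G] [AddCommGroup G'] [Module R G'] (φ : G →ₗ[R] G')
    [hN : IsLocalizedModule.Away g φ] (f : P →ₗ[R] G)
    (hk : ∀ x, f x = 0 → ∃ k : ℕ, g ^ k • x = 0)
    (h : ∀ m : G, ∃ (k : ℕ) (p : P), g ^ k • m = f p) :
    IsLocalizedModule.Away g (φ ∘ₗ f) := by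
  refine IsLocalizedModule.mk ?_ ?_ ?_
  · exact IsLocalizedModule.map_units φ
  · intro y
    obtain ⟨⟨m, ⟨_, n, rfl⟩⟩, hm⟩ := IsLocalizedModule.surj (Submonoid.powers g) φ y
    obtain ⟨k, p, hk⟩ := h m
    refine ⟨⟨p, ⟨g ^ (k + n), k + n, rfl⟩⟩, ?_⟩
    change g ^ (k + n) • y = φ (f p)
    have hm' : g ^ n • y = φ m := hm
    rw [pow_add, mul_smul, hm', ← hk, map_smul]
  · intro x₁ x₂ hx
    obtain ⟨⟨_, j, rfl⟩, hc⟩ := IsLocalizedModule.exists_of_eq (S := Submonoid.powers g) (f := φ) hx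
    have hc' : g ^ j • f x₁ = g ^ j • f x₂ := hc
    obtain ⟨k, hk⟩ := hk (g ^ j • (x₁ - x₂)) (by
      rw [map_smul, map_sub, smul_sub, hc', sub_self])
    refine ⟨⟨g ^ (k + j), k + j, rfl⟩, ?_⟩
    change g ^ (k + j) • x₁ = g ^ (k + j) • x₂
    rw [← sub_eq_zero, ← smul_sub, pow_add, mul_smul, hk]

variable {R : CommRingCat.{u}}

theorem map_app_bijective' {P G : ModuleCat.{u} R} (f : P ⟶ G) (g : R)
    (hk : ∀ x : P, f x = 0 → ∃ k : ℕ, g ^ k • x = 0)
    (h : ∀ m : G, ∃ (k : ℕ) (p : P), g ^ k • m = f p) :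
    Function.Bijective ((tilde.map f).app (PrimeSpectrum.basicOpen g)) := by
  have h1 : IsLocalizedModule.Away g (tilde.toOpen P (PrimeSpectrum.basicOpen g) ≫
      (modulesSpecToSheaf.map (tilde.map f)).1.app (.op (PrimeSpectrum.basicOpen g))).hom := by
    rw [tilde.toOpen_map_app]
    exact isLocalizedModule_comp' g (tilde.toOpen G (PrimeSpectrum.basicOpen g)).hom f.hom hk h
  have h2 := ModuleCat.isIso_of_isLocalizedModule_comp
    (inferInstance : IsLocalizedModule.Away g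
      (tilde.toOpen P (PrimeSpectrum.basicOpen g)).hom) h1
  exact ConcreteCategory.bijective_of_isIso
    ((modulesSpecToSheaf.map (tilde.map f)).1.app (.op (PrimeSpectrum.basicOpen g)))

/-- If `f` has `g i`-torsion kernel and cokernel for all `i`, then `f~ : P~ ⟶ G~` is an isomorphism
over every open `V ≤ ⋃ D(g i)`. -/
theorem isIso_restrict_map' {P G : ModuleCat.{u} R} (f : P ⟶ G)
    {ι : Type*} (g : ι → R) (V : (Spec R).Opens)
    (hV : V ≤ ⨆ i, PrimeSpectrum.basicOpen (g i))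
    (hk : ∀ (i : ι) (x : P), f x = 0 → ∃ k : ℕ, g i ^ k • x = 0)
    (h : ∀ (i : ι) (m : G), ∃ (k : ℕ) (p : P), g i ^ k • m = f p) :
    IsIso ((Scheme.Modules.restrictFunctor V.ι).map (tilde.map f)) := by
  refine Ega1.ExtendAff.isIso_restrict_of_basicOpen (tilde.map f) g V hV fun a i hai ↦ ?_
  obtain ⟨n, c, hc⟩ : ∃ n : ℕ, g i ∣ a ^ n := by
    simpa only [Ideal.mem_radical_iff, Ideal.mem_span_singleton] using
      (PrimeSpectrum.basicOpen_le_basicOpen_iff _ _).mp hai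
  refine map_app_bijective' f a (fun x hx => ?_) fun m ↦ ?_
  · obtain ⟨k, hk⟩ := hk i x hx
    exact ⟨n * k, by rw [pow_mul, hc, mul_pow, mul_comm, mul_smul, hk, smul_zero]⟩
  · obtain ⟨k, p, hk⟩ := h i m
    exact ⟨n * k, c ^ k • p, by rw [pow_mul, hc, mul_pow, mul_comm, mul_smul, hk, map_smul]⟩

/-- Invertible modules are coherent. -/
theorem isCoh_of_isInvertible {X : Scheme.{u}} {L : X.Modules} (hL : PicF.IsInvertible L) :
    Coh.IsCoh L := by
  have hq : Coh.IsQCoh L := Ega2.QCohLocal.isQCoh_of_isInvertible hL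
  refine ⟨hq, ?_⟩
  refine CohqB.FiniteType2.isFT_of_finite_sections _ fun x => ?_
  obtain ⟨V, e, hxV, he⟩ := (isInvertible_iff L).1 hL x
  obtain ⟨_, ⟨U, hU, rfl⟩, hx, hUV⟩ :=
    X.isBasis_affineOpens.exists_subset_of_mem_open hxV V.isOpen
  refine ⟨U, hx, hU, ?_⟩
  have h : Function.Bijective (fun a : Γ(X, U) => a • res L hUV e) := he U hUV
  let e' : Γ(X, U) ≃ₗ[Γ(X, U)] Γ(L, U) :=
    LinearEquiv.ofBijective (LinearMap.toSpanSingleton _ _ (res L hUV e)) h
  exact Module.Finite.equiv e'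

open Ega4dA.SpecGen in
/-- Generators of a module whose associated sheaf is invertible over `V`. -/
theorem exists_gen (N : ModuleCat.{u} R) (V : (Spec R).Opens)
    (hF : PicF.IsInvertible ((tilde N).restrict V.ι)) (y : Spec R) (hy : y ∈ V) :
    ∃ (a : R) (n : N), y ∈ (PrimeSpectrum.basicOpen a : (Spec R).Opens) ∧
      (PrimeSpectrum.basicOpen a : (Spec R).Opens) ≤ V ∧
      (∀ x : N, ∃ (k : ℕ) (r : R), a ^ k • x = r • n) ∧
      ∀ r : R, r • n = 0 → ∃ k : ℕ, a ^ k * r = 0 := by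
  obtain ⟨U, e, hyU, he⟩ := (isInvertible_iff _).1 hF ⟨y, hy⟩
  obtain ⟨e', rfl⟩ := (toRestrict (M := tilde N) V.ι (U := U)).surjective e
  rw [isGen_toRestrict_iff] at he
  obtain ⟨_, ⟨_, ⟨a, rfl⟩, rfl⟩, hya, haU⟩ :=
    PrimeSpectrum.isBasis_basic_opens.exists_subset_of_mem_open
      (show y ∈ ((V.ι ''ᵁ U : (Spec R).Opens) : Set _) from ⟨⟨y, hy⟩, hyU, rfl⟩) (V.ι ''ᵁ U).isOpen
  have haU' : (PrimeSpectrum.basicOpen a : (Spec R).Opens) ≤ V.ι ''ᵁ U := haU
  obtain ⟨k, n, hn⟩ := exists_pow_smul_eq_sec a (Fdesc.LocGen.res (tilde N) haU' e')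
  have hgen := he _ haU'
  have hu : ∀ n : ℕ, IsUnit (algebraMap R Γ(Spec R, PrimeSpectrum.basicOpen a) (a ^ n)) := by
    intro n
    rw [map_pow]
    exact (IsLocalization.Away.algebraMap_isUnit a).pow n
  refine ⟨a, n, hya, haU'.trans (V.ι_image_le U), fun x => ?_, fun r hr => ?_⟩
  · obtain ⟨t, ht⟩ := hgen.2 (sec _ x)
    obtain ⟨⟨r, ⟨_, j, rfl⟩⟩, hr⟩ := IsLocalization.surj (Submonoid.powers a) t
    simp only at hr ht
    have h1 : sec (PrimeSpectrum.basicOpen a) (a ^ (j + k) • x) =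
        sec (PrimeSpectrum.basicOpen a) (r • n) := by
      rw [sec_smul, sec_smul, ← hn, ← ht, ← algebraMap_smul' _ (a ^ (j + k)),
        ← algebraMap_smul' _ r, ← hr, ← algebraMap_smul' _ (a ^ k), smul_smul, smul_smul,
        pow_add, map_mul]
      congr 1
      ring
    obtain ⟨l, hl⟩ := (sec_eq_iff a _ _).1 h1
    exact ⟨l + (j + k), a ^ l * r, by rw [pow_add, mul_smul, hl, mul_smul]⟩
  · have h1 : sec (PrimeSpectrum.basicOpen a) (r • n) = 0 := by
      rw [hr]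
      exact (tilde.toOpen N _).hom.map_zero
    rw [sec_smul, ← hn, ← algebraMap_smul' _ r, ← algebraMap_smul' _ (a ^ k), smul_smul] at h1
    have h2 : algebraMap R Γ(Spec R, PrimeSpectrum.basicOpen a) r *
        algebraMap R Γ(Spec R, PrimeSpectrum.basicOpen a) (a ^ k) = 0 := by
      apply hgen.1
      simp only
      rw [h1, zero_smul]
    have h3 : algebraMap R Γ(Spec R, PrimeSpectrum.basicOpen a) r = 0 :=
      ((hu k).mul_left_eq_zero).mp h2
    obtain ⟨⟨_, l, rfl⟩, hl⟩ := (IsLocalization.map_eq_zero_iff (Submonoid.powers a)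
      Γ(Spec R, PrimeSpectrum.basicOpen a) r).1 h3
    exact ⟨l, hl⟩

end Groth.Agent.FormalA.TildeOpen
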