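import Mathlib
import Groth.Agent.Localalg.DeltaSeq

/-!
# Towers of modules

`Tw A = ℕᵒᵖ ⥤ ModuleCat A`.  Enough injectives; injective towers have split surjective transition
maps (`exists_section`).  For a delta functor `T` on `A`-modules, `piDelta T` is the delta functor
`N ↦ ∏_n T^i(N_n)` on towers, effaceable when `T` is, and `oneSub T` the endomorphism `1 - shift`.
-/

set_option autoImplicit false
set_option linter.unusedVariables false
universe u
open CategoryTheory Limits Opposite
open Groth.Agent.Localalg.DeltaFun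

namespace Groth.Agent.FormalA.TowBasic

variable (A : Type u) [CommRing A]

/-- Towers of `A`-modules. -/
abbrev Tw := ℕᵒᵖ ⥤ ModuleCat.{u} A

variable {A}

/-- the transition map `N_{n+1} ⟶ N_n` -/
abbrev tr (N : Tw A) (n : ℕ) : N.obj (op (n + 1)) ⟶ N.obj (op n) :=
  N.map (homOfLE (Nat.le_succ n)).op

section Cofree

variable (E : ℕ → ModuleCat.{u} A)

/-- The cofree tower on a sequence of modules. -/
def cof : Tw A where
  obj n := ModuleCat.of A (∀ m : {m : ℕ // m ≤ n.unop}, E m.1)
  map {n n'} f := ModuleCat.ofHom
    { toFun := fun x m => x ⟨m.1, m.2.trans (leOfHom f.unop)⟩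
      map_add' := fun x y => rfl
      map_smul' := fun a x => rfl }
  map_id n := rfl
  map_comp f g := rfl

variable {E}

/-- A map to the cofree tower. -/
def toCof {N : Tw A} (φ : ∀ m, N.obj (op m) ⟶ E m) : N ⟶ cof E where
  app n := ModuleCat.ofHom
    { toFun := fun x m => (φ m.1).hom ((N.map (homOfLE m.2).op).hom x)
      map_add' := fun x y => by
        funext m
        simp only [map_add]
        rfl
      map_smul' := fun a x => by
        funext m
        simp only [map_smul, RingHom.id_apply]
        rfl }
  naturality n n' f := by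
    ext x
    funext m
    change (φ m.1).hom ((N.map (homOfLE m.2).op).hom ((N.map f).hom x)) =
      (φ m.1).hom ((N.map (homOfLE (m.2.trans (leOfHom f.unop))).op).hom x)
    congr 1
    exact (congrArg (fun t => t.hom x) (N.map_comp f (homOfLE m.2).op)).symm

theorem toCof_app {N : Tw A} (φ : ∀ m, N.obj (op m) ⟶ E m) (n : ℕᵒᵖ) (x : N.obj n)
    (m : {m : ℕ // m ≤ n.unop}) :
    ((toCof φ).app n).hom x m = (φ m.1).hom ((N.map (homOfLE m.2).op).hom x) := rfl

/-- The components of a map to the cofree tower. -/
def ofCof {N : Tw A} (g : N ⟶ cof E) (m : ℕ) : N.obj (op m) ⟶ E m :=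
  g.app (op m) ≫ ModuleCat.ofHom (Y := E m)
    { toFun := fun x => x ⟨m, le_refl m⟩
      map_add' := fun x y => rfl
      map_smul' := fun a x => rfl }

theorem ofCof_apply {N : Tw A} (g : N ⟶ cof E) (m : ℕ) (x : N.obj (op m)) :
    (ofCof g m).hom x = (g.app (op m)).hom x ⟨m, le_refl m⟩ := rfl

theorem toCof_ofCof {N : Tw A} (g : N ⟶ cof E) : toCof (ofCof g) = g := by
  ext n x
  funext m
  rw [toCof_app, ofCof_apply]
  have h := g.naturality (homOfLE m.2).op
  have h2 := congrArg (fun t => t.hom x) h
  change (g.app (op m.1)).hom ((N.map (homOfLE m.2).op).hom x) =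
    ((cof E).map (homOfLE m.2).op).hom ((g.app n).hom x) at h2
  rw [h2]
  rfl

theorem comp_toCof {N N' : Tw A} (i : N' ⟶ N) (φ : ∀ m, N.obj (op m) ⟶ E m) :
    i ≫ toCof φ = toCof (fun m => i.app (op m) ≫ φ m) := by
  ext n x
  funext m
  change (φ m.1).hom ((N.map (homOfLE m.2).op).hom ((i.app n).hom x)) =
    (φ m.1).hom ((i.app (op m.1)).hom ((N'.map (homOfLE m.2).op).hom x))
  congr 1
  exact (congrArg (fun t => t.hom x) (i.naturality (homOfLE m.2).op)).symm

theorem injective_cof (hE : ∀ m, Injective (E m)) : Injective (cof E) where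
  factors {X Y} g i hi := by
    have hm : ∀ m, Mono (i.app (op m)) := fun m => inferInstance
    refine ⟨toCof fun m => Injective.factorThru (ofCof g m) (i.app (op m)), ?_⟩
    rw [comp_toCof]
    simp only [Injective.comp_factorThru]
    exact toCof_ofCof g

theorem mono_toCof {N : Tw A} (φ : ∀ m, N.obj (op m) ⟶ E m) (hφ : ∀ m, Mono (φ m)) :
    Mono (toCof φ) := by
  have : ∀ n, Mono ((toCof φ).app n) := by
    intro n
    rw [ModuleCat.mono_iff_injective]
    intro x y hxy
    have h1 := congrFun hxy ⟨n.unop, le_refl _⟩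
    erw [toCof_app, toCof_app] at h1
    have h2 : Function.Injective (φ n.unop).hom := (ModuleCat.mono_iff_injective _).mp (hφ _)
    have h3 := h2 h1
    have h4 : N.map (homOfLE (le_refl n.unop)).op = 𝟙 _ := N.map_id n
    change (N.map (homOfLE (le_refl n.unop)).op).hom x = (N.map (homOfLE (le_refl n.unop)).op).hom y at h3
    rw [h4] at h3
    exact h3
  exact NatTrans.mono_of_mono_app _

instance enoughInjectives : EnoughInjectives (Tw A) where
  presentation N := ⟨
    { J := cof fun m => Injective.under (N.obj (op m))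
      injective := injective_cof fun m => inferInstance
      f := toCof fun m => Injective.ι _
      mono := mono_toCof _ fun m => inferInstance }⟩

/-- the section of the transition map of a cofree tower -/
def cofSec (E : ℕ → ModuleCat.{u} A) (n : ℕ) : (cof E).obj (op n) ⟶ (cof E).obj (op (n + 1)) :=
  ModuleCat.ofHom
    { toFun := fun x m => if h : m.1 ≤ n then x ⟨m.1, h⟩ else 0
      map_add' := fun x y => by
        funext m
        change (if h : m.1 ≤ n then x ⟨m.1, h⟩ + y ⟨m.1, h⟩ else 0 : E m.1) =
          (if h : m.1 ≤ n then x ⟨m.1, h⟩ else 0 : E m.1) +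
            (if h : m.1 ≤ n then y ⟨m.1, h⟩ else 0 : E m.1)
        split_ifs <;> simp
      map_smul' := fun a x => by
        funext m
        change (if h : m.1 ≤ n then a • x ⟨m.1, h⟩ else 0 : E m.1) =
          a • (if h : m.1 ≤ n then x ⟨m.1, h⟩ else 0 : E m.1)
        split_ifs <;> simp }

theorem cofSec_tr (E : ℕ → ModuleCat.{u} A) (n : ℕ) : cofSec E n ≫ tr (cof E) n = 𝟙 _ := by
  ext x
  funext m
  change (if h : m.1 ≤ n then x ⟨m.1, h⟩ else 0) = x m
  rw [dif_pos m.2]

/-- Injective towers are termwise injective with split transition maps. -/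
theorem injective_obj (J : Tw A) [hJ : Injective J] (n : ℕ) : Injective (J.obj (op n)) := by
  let i : J ⟶ cof fun m => Injective.under (J.obj (op m)) := toCof fun m => Injective.ι _
  have hi : Mono i := mono_toCof _ fun m => inferInstance
  let r := Injective.factorThru (𝟙 J) i
  have hr : i ≫ r = 𝟙 J := Injective.comp_factorThru _ _
  have hinj : Injective ((cof fun m => Injective.under (J.obj (op m))).obj (op n)) := by
    have h1 : Injective (∏ᶜ fun m : {m : ℕ // m ≤ n} => Injective.under (J.obj (op m.1))) :=
      inferInstance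
    exact Injective.of_iso (ModuleCat.piIsoPi _) h1
  have R : Retract (J.obj (op n)) ((cof fun m => Injective.under (J.obj (op m))).obj (op n)) :=
    ⟨i.app (op n), r.app (op n), congrArg (fun t => NatTrans.app t (op n)) hr⟩
  exact R.injective

theorem exists_section (J : Tw A) [hJ : Injective J] (n : ℕ) :
    ∃ s : J.obj (op n) ⟶ J.obj (op (n + 1)), s ≫ tr J n = 𝟙 _ := by
  let i : J ⟶ cof fun m => Injective.under (J.obj (op m)) := toCof fun m => Injective.ι _
  have hi : Mono i := mono_toCof _ fun m => inferInstance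
  let r := Injective.factorThru (𝟙 J) i
  have hr : i ≫ r = 𝟙 J := Injective.comp_factorThru _ _
  refine ⟨i.app (op n) ≫ cofSec _ n ≫ r.app (op (n + 1)), ?_⟩
  have h1 : r.app (op (n + 1)) ≫ tr J n = tr (cof _) n ≫ r.app (op n) :=
    (r.naturality (homOfLE (Nat.le_succ n)).op).symm
  rw [Category.assoc, Category.assoc, h1, ← Category.assoc (cofSec _ n), cofSec_tr,
    Category.id_comp]
  exact congrArg (fun t => NatTrans.app t (op n)) hr

end Cofree

end Groth.Agent.FormalA.TowBasic
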