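import Groth.Agent.FormalA.NulTow
import Groth.Agent.FormalA.AlgCore

/-!
# The cohomological functor `M ↦ K^i((W_n(M))_n)`

`K^i` the derived limit of a delta functor `T` (`TowK T`), `W_n(M)` the null sequences with
entries in `I^n M`.  On finite modules over an `I`-adically complete Noetherian ring `A` it has
long exact sequences (`cohF Z : CohF A`): for `0 → M' → M → M'' → 0` with `M` finite the sequence
`0 → Ker_n → W_n(M) → W_n(M'') → 0` is exact and `W_n(M') → Ker_n` is a pro-isomorphism by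
Artin–Rees.
-/

set_option autoImplicit false
set_option linter.unusedVariables false
universe u
open CategoryTheory Limits Opposite
open Groth.Agent.Localalg.DeltaFun
open Groth.Agent.FormalA Groth.Agent.FormalA.TowBasic Groth.Agent.FormalA.NullSeq
open Groth.Agent.FormalA.NulTow

namespace Groth.Agent.FormalA.TowCohF

variable {A : Type u} [CommRing A] (I : Ideal A)

section Mod

variable {M N : Type u} [AddCommGroup M] [Module A M] [AddCommGroup N] [Module A N]

/-- lift without losing `I`-adic order -/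
theorem exists_lift [IsNoetherianRing A] [IsAdicComplete I A] [Module.Finite A N]
    (g : M →ₗ[A] N) (hg : Function.Surjective g) (y : N) :
    ∃ x : M, g x = y ∧ ∀ m : ℕ, y ∈ (I ^ m • ⊤ : Submodule A N) →
      x ∈ (I ^ m • ⊤ : Submodule A M) := by
  classical
  by_cases hy : y = 0
  · exact ⟨0, by rw [map_zero, hy], fun m _ => zero_mem _⟩
  have hK : (⨅ i : ℕ, I ^ i • ⊤ : Submodule A N) = ⊥ :=
    Ideal.iInf_pow_smul_eq_bot_of_le_jacobson I (IsAdicComplete.le_jacobson_bot I)
  have hex : ∃ m : ℕ, y ∉ (I ^ m • ⊤ : Submodule A N) := by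
    by_contra hcon
    push Not at hcon
    apply hy
    have : y ∈ (⨅ i : ℕ, I ^ i • ⊤ : Submodule A N) := by
      rw [Submodule.mem_iInf]
      exact hcon
    rwa [hK, Submodule.mem_bot] at this
  have hm0 : y ∉ (I ^ (Nat.find hex) • ⊤ : Submodule A N) := Nat.find_spec hex
  obtain ⟨m, hm⟩ : ∃ m, Nat.find hex = m + 1 := by
    rcases h0 : Nat.find hex with _ | m
    · exfalso
      rw [h0, pow_zero, Ideal.one_eq_top, Submodule.top_smul] at hm0
      exact hm0 Submodule.mem_top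
    · exact ⟨m, rfl⟩
  have hym : y ∈ (I ^ m • ⊤ : Submodule A N) := by
    by_contra hcon
    have := Nat.find_min' hex hcon
    omega
  have hmap : Submodule.map g (I ^ m • ⊤ : Submodule A M) = (I ^ m • ⊤ : Submodule A N) := by
    rw [Submodule.map_smul'', Submodule.map_top, LinearMap.range_eq_top.mpr hg]
  rw [← hmap] at hym
  obtain ⟨x, hx, hxy⟩ := hym
  refine ⟨x, hxy, fun k hk => ?_⟩
  have hkm : k ≤ m := by
    by_contra hcon
    have h1 : Nat.find hex ≤ k := by omega
    exact hm0 ((Submodule.smul_mono_left (Ideal.pow_le_pow_right h1)) hk)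
  exact (Submodule.smul_mono_left (Ideal.pow_le_pow_right hkm)) hx

/-- surjectivity on null sequences with entries in `I^n` -/
theorem exists_nul_lift [IsNoetherianRing A] [IsAdicComplete I A] [Module.Finite A N]
    (g : M →ₗ[A] N) (hg : Function.Surjective g) (y : nul I N) :
    ∃ x : nul I M, nulMap I g x = y ∧ ∀ m : ℕ, y ∈ nulW I N m → x ∈ nulW I M m := by
  choose x hx hx' using fun k => exists_lift I g hg (y.1 k)
  refine ⟨⟨x, fun n => ?_⟩, Subtype.ext (funext hx), fun m hm k => hx' k m (hm k)⟩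
  obtain ⟨K, hK⟩ := y.2 n
  exact ⟨K, fun k hk => hx' k n (hK k hk)⟩

/-- Artin–Rees for an injective map -/
theorem exists_artinRees [IsNoetherianRing A] [Module.Finite A M] (f : N →ₗ[A] M)
    (hf : Function.Injective f) :
    ∃ c : ℕ, ∀ (n : ℕ) (x : N), f x ∈ (I ^ (n + c) • ⊤ : Submodule A M) →
      x ∈ (I ^ n • ⊤ : Submodule A N) := by
  obtain ⟨c, hc⟩ := Ideal.exists_pow_inf_eq_pow_smul I (LinearMap.range f)
  refine ⟨c, fun n x hx => ?_⟩
  have h1 : f x ∈ (I ^ (n + c) • ⊤ ⊓ LinearMap.range f : Submodule A M) := ⟨hx, ⟨x, rfl⟩⟩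
  rw [hc (n + c) (by omega), Nat.add_sub_cancel] at h1
  have h2 : f x ∈ (I ^ n • LinearMap.range f : Submodule A M) :=
    (smul_mono_right _ inf_le_right : I ^ n • (I ^ c • ⊤ ⊓ LinearMap.range f) ≤
      (I ^ n • LinearMap.range f : Submodule A M)) h1
  rw [← Submodule.map_top f, ← Submodule.map_smul''] at h2
  obtain ⟨x', hx', he⟩ := h2
  rwa [← hf he]

end Mod

section Ker

variable (S : ShortComplex (ModuleCat.{u} A))

/-- the kernel of `W_n(M) → W_n(M'')` -/
def kerW (n : ℕ) : Submodule A ((P I).obj S.X₂) :=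
  (nulW I S.X₂ n : Submodule A ((P I).obj S.X₂)) ⊓ LinearMap.ker ((P I).map S.g).hom

theorem kerW_antitone : Antitone (kerW I S) := fun m n h =>
  inf_le_inf_right _ (nulW_antitone I S.X₂ h)

/-- the tower of the kernels -/
def kerTw : Tw A := subTw (M := (P I).obj S.X₂) (kerW I S) (kerW_antitone I S)

/-- the inclusion of the tower of kernels -/
def kι : kerTw I S ⟶ (nulTw I).obj S.X₂ :=
  subTwMap (M := (P I).obj S.X₂) (M' := (P I).obj S.X₂) (kerW I S) (kerW_antitone I S)
    (nulW I S.X₂) (nulW_antitone I S.X₂) (𝟙 _) (fun n x hx => hx.1)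

/-- the short complex `0 → Ker_n → W_n(M) → W_n(M'') → 0` -/
def kerSC : ShortComplex (Tw A) :=
  ShortComplex.mk (kι I S) ((nulTw I).map S.g) (by
    ext n x
    refine Subtype.ext ?_
    exact x.2.2)

/-- the comparison `W_n(M') → Ker_n` -/
def φ : (nulTw I).obj S.X₁ ⟶ kerTw I S :=
  subTwMap (M := (P I).obj S.X₁) (M' := (P I).obj S.X₂) (nulW I S.X₁) (nulW_antitone I S.X₁)
    (kerW I S) (kerW_antitone I S) ((P I).map S.f) (fun n x hx =>
      ⟨map_mem I S.f n x hx, by
        change ((P I).map S.g).hom (((P I).map S.f).hom x) = 0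
        refine Subtype.ext (funext fun k => ?_)
        exact congrArg (fun t => t.hom (x.1 k)) S.zero⟩)

theorem φ_kι : φ I S ≫ kι I S = (nulTw I).map S.f := rfl

variable {S}

theorem kerSC_shortExact [IsNoetherianRing A] [IsAdicComplete I A] (hS : S.ShortExact)
    (hf : Module.Finite A S.X₂) : (kerSC I S).ShortExact := by
  have hg : Function.Surjective S.g.hom := (ModuleCat.epi_iff_surjective _).mp hS.epi_g
  have hf3 : Module.Finite A S.X₃ := Module.Finite.of_surjective S.g.hom hg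
  apply shortExact_of_ev
  · intro n x y hxy
    exact Subtype.ext (congrArg (fun t : nulW I S.X₂ n => t.1) hxy)
  · intro n y
    obtain ⟨x, hx, hx'⟩ := exists_nul_lift I S.g.hom hg y.1
    exact ⟨⟨x, hx' n y.2⟩, Subtype.ext hx⟩
  · intro n x hx
    exact ⟨⟨x.1, x.2, congrArg (fun t : nulW I S.X₃ n => t.1) hx⟩, rfl⟩

variable {T : DeltaFunctor (ModuleCat.{u} A) (ModuleCat.{u} A)} (Z : TowK T)

theorem φ_bijective [IsNoetherianRing A] (hS : S.ShortExact) (hf : Module.Finite A S.X₂)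
    (i : ℕ) : Function.Bijective ((Z.K.T i).map (φ I S)).hom := by
  have hfi : Function.Injective S.f.hom := (ModuleCat.mono_iff_injective _).mp hS.mono_f
  obtain ⟨c, hc⟩ := exists_artinRees I S.f.hom hfi
  refine Z.bijective_of_proIso (φ I S) (fun n x y hxy => ?_) c (fun n y => ?_) i
  · refine Subtype.ext (Subtype.ext (funext fun k => hfi ?_))
    exact congrArg (fun t : kerW I S n => t.1.1 k) hxy
  · obtain ⟨y, hy⟩ := y
    have hker0 : ((P I).map S.g).hom y = 0 := hy.2
    have hker : ∀ k, S.g.hom (y.1 k) = 0 := fun k =>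
      congrArg (fun t : nul I S.X₃ => t.1 k) hker0
    choose x hx using fun k => of_exact hS.exact (y.1 k) (hker k)
    have hxn : ∀ k m, y.1 k ∈ (I ^ (m + c) • ⊤ : Submodule A S.X₂) →
        x k ∈ (I ^ m • ⊤ : Submodule A S.X₁) := fun k m h => hc m (x k) (by rwa [hx k])
    refine ⟨⟨⟨x, fun m => ?_⟩, fun k => hxn k n (hy.1 k)⟩, ?_⟩
    · obtain ⟨K, hK⟩ := y.2 (m + c)
      exact ⟨K, fun k hk => hxn k m (hK k hk)⟩
    · exact Subtype.ext (Subtype.ext (funext hx))

/-- `K^i(φ)` as an equivalence -/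
noncomputable def φE [IsNoetherianRing A] (hS : S.ShortExact) (hf : Module.Finite A S.X₂)
    (i : ℕ) : (Z.K.T i).obj ((nulTw I).obj S.X₁) ≃ₗ[A] (Z.K.T i).obj (kerTw I S) :=
  LinearEquiv.ofBijective ((Z.K.T i).map (φ I S)).hom (φ_bijective I Z hS hf i)

theorem φE_apply [IsNoetherianRing A] (hS : S.ShortExact) (hf : Module.Finite A S.X₂)
    (i : ℕ) (x : (Z.K.T i).obj ((nulTw I).obj S.X₁)) :
    φE I Z hS hf i x = ((Z.K.T i).map (φ I S)).hom x := rfl

/-- the connecting map -/
noncomputable def conn [IsNoetherianRing A] [IsAdicComplete I A] (hS : S.ShortExact)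
    (hf : Module.Finite A S.X₂) (i : ℕ) :
    (Z.K.T i).obj ((nulTw I).obj S.X₃) →ₗ[A] (Z.K.T (i + 1)).obj ((nulTw I).obj S.X₁) :=
  (φE I Z hS hf (i + 1)).symm.toLinearMap ∘ₗ (Z.K.δ (kerSC_shortExact I hS hf) i).hom

theorem φ_conn [IsNoetherianRing A] [IsAdicComplete I A] (hS : S.ShortExact)
    (hf : Module.Finite A S.X₂) (i : ℕ) (x : (Z.K.T i).obj ((nulTw I).obj S.X₃)) :
    ((Z.K.T (i + 1)).map (φ I S)).hom (conn I Z hS hf i x) =
      (Z.K.δ (kerSC_shortExact I hS hf) i).hom x :=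
  (φE I Z hS hf (i + 1)).apply_symm_apply _

theorem conn_eq_zero_iff [IsNoetherianRing A] [IsAdicComplete I A] (hS : S.ShortExact)
    (hf : Module.Finite A S.X₂) (i : ℕ) (x : (Z.K.T i).obj ((nulTw I).obj S.X₃)) :
    conn I Z hS hf i x = 0 ↔ (Z.K.δ (kerSC_shortExact I hS hf) i).hom x = 0 :=
  (φE I Z hS hf (i + 1)).symm.map_eq_zero_iff

theorem map_f_eq (i : ℕ) (x : (Z.K.T i).obj ((nulTw I).obj S.X₁)) :
    ((Z.K.T i).map ((nulTw I).map S.f)).hom x =
      ((Z.K.T i).map (kι I S)).hom (((Z.K.T i).map (φ I S)).hom x) := by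
  rw [← φ_kι, Functor.map_comp]
  rfl

end Ker

variable [IsNoetherianRing A] [IsAdicComplete I A]
  {T : DeltaFunctor (ModuleCat.{u} A) (ModuleCat.{u} A)}

/-- The cohomological functor `M ↦ K^i((W_n(M))_n)`. -/
noncomputable def cohF (Z : TowK T) : AlgCore.CohF.{u, u} A where
  F i := nulTw I ⋙ Z.K.T i
  map_smul_id i M a x := Z.lin i ((nulTw I).obj M) a x
  δ {S} hS hf i := conn I Z hS hf i
  ex₂ {S} hS hf i x hx := by
    obtain ⟨y, hy⟩ := of_exact (Z.K.exact₂ (kerSC_shortExact I hS hf) i) x hx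
    obtain ⟨z, hz⟩ := (φ_bijective I Z hS hf i).2 y
    refine ⟨z, ?_⟩
    refine (map_f_eq I Z i z).trans ?_
    rw [hz]
    exact hy
  ex₃ {S} hS hf i x hx :=
    of_exact (Z.K.exact₃ (kerSC_shortExact I hS hf) i) x ((conn_eq_zero_iff I Z hS hf i x).mp hx)
  ex₁ {S} hS hf i x hx := by
    have h1 : ((Z.K.T (i + 1)).map (kι I S)).hom (((Z.K.T (i + 1)).map (φ I S)).hom x) = 0 :=
      (map_f_eq I Z (i + 1) x).symm.trans hx
    obtain ⟨y, hy⟩ := of_exact (Z.K.exact₁ (kerSC_shortExact I hS hf) i) _ h1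
    refine ⟨y, (φ_bijective I Z hS hf (i + 1)).1 ?_⟩
    rw [φ_conn]
    exact hy
  δ_g {S} hS hf i x := by
    refine (conn_eq_zero_iff I Z hS hf i _).mpr ?_
    exact congrArg (fun t => t.hom x) (Z.K.zero₃ (kerSC_shortExact I hS hf) i)
  f_δ {S} hS hf i x := by
    refine (map_f_eq I Z (i + 1) _).trans ?_
    rw [φ_conn]
    exact congrArg (fun t => t.hom x) (Z.K.zero₁ (kerSC_shortExact I hS hf) i)

end Groth.Agent.FormalA.TowCohF
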