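import Groth.Agent.FormalA.TowPi
import Groth.Agent.Etrest.RDer1

/-!
# The derived limit of a delta functor along a tower, and the Milnor sequence

For an effaceable left exact `A`-linear delta functor `T` on `A`-modules, `TowK T` packages a delta functor
`K` on towers (the derived functors of `N ↦ lim_n T^0(N_n)`) with the long exact sequence
`⋯ → K^i(N) → ∏_n T^i(N_n) → ∏_n T^i(N_n) → K^{i+1}(N) → ⋯`.
-/

set_option autoImplicit false
set_option linter.unusedVariables false
universe u
open CategoryTheory Limits Opposite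
open Groth.Agent.Localalg.DeltaFun

namespace Groth.Agent.FormalA.TowBasic

variable {A : Type u} [CommRing A]

/-- derived limit data -/
structure TowK (T : DeltaFunctor (ModuleCat.{u} A) (ModuleCat.{u} A)) where
  /-- the derived limit -/
  K : DeltaFunctor (Tw A) (ModuleCat.{u} A)
  eff : K.Effaceable
  left : K.LeftExact
  /-- projection to the product -/
  p : DeltaHom K (piDelta T)
  /-- the connecting map -/
  d : ∀ n, (piDelta T).T n ⟶ K.T (n + 1)
  d_comm : ∀ {S : ShortComplex (Tw A)} (hS : S.ShortExact) (n : ℕ),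
    (d n).app S.X₃ ≫ K.δ hS (n + 1) = (piDelta T).δ hS n ≫ (d (n + 1)).app S.X₁
  p_inj : ∀ N, Function.Injective ((p.app 0).app N).hom
  p_ex : ∀ (n : ℕ) (N : Tw A) (y : (K.T n).obj N),
    ((oneSub (T.T n)).app N).hom (((p.app n).app N).hom y) = 0
  ex_p : ∀ (n : ℕ) (N : Tw A) (x : ((piDelta T).T n).obj N),
    ((oneSub (T.T n)).app N).hom x = 0 → ∃ y, ((p.app n).app N).hom y = x
  d_oneSub : ∀ (n : ℕ) (N : Tw A) (x : ((piDelta T).T n).obj N),
    ((d n).app N).hom (((oneSub (T.T n)).app N).hom x) = 0
  ex_d : ∀ (n : ℕ) (N : Tw A) (x : ((piDelta T).T n).obj N), ((d n).app N).hom x = 0 →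
    ∃ y, ((oneSub (T.T n)).app N).hom y = x
  p_d : ∀ (n : ℕ) (N : Tw A) (x : ((piDelta T).T n).obj N),
    ((p.app (n + 1)).app N).hom (((d n).app N).hom x) = 0
  ex_K : ∀ (n : ℕ) (N : Tw A) (x : (K.T (n + 1)).obj N), ((p.app (n + 1)).app N).hom x = 0 →
    ∃ y, ((d n).app N).hom y = x
  lin : ∀ (n : ℕ) (N : Tw A) (a : A) (x : (K.T n).obj N), ((K.T n).map (a • 𝟙 N)).hom x = a • x

section

variable (T : DeltaFunctor (ModuleCat.{u} A) (ModuleCat.{u} A))

theorem limF_exact (hT : T.LeftExact) {S : ShortComplex (Tw A)} (hS : S.ShortExact) :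
    (S.map (limF (T.T 0))).Exact ∧ Mono ((limF (T.T 0)).map S.f) := by
  have hinj := piDelta_leftExact T hT hS
  rw [ModuleCat.mono_iff_injective] at hinj
  constructor
  · apply exact_of
    rintro ⟨y, hy⟩ h0
    have h0' : ((piF (T.T 0)).map S.g).hom y = 0 := congrArg Subtype.val h0
    obtain ⟨x, hx⟩ : ∃ x : (piF (T.T 0)).obj S.X₁, ((piF (T.T 0)).map S.f).hom x = y :=
      of_exact ((piDelta T).exact₂ hS 0) y h0'
    have hy' : ((oneSub (T.T 0)).app S.X₂).hom y = 0 := hy
    have hz : ((oneSub (T.T 0)).app S.X₁).hom x = 0 := by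
      apply hinj
      refine Eq.trans ?_ (map_zero _).symm
      have h := congrArg (fun t => t.hom x) ((oneSub (T.T 0)).naturality S.f)
      change ((oneSub (T.T 0)).app S.X₂).hom (((piF (T.T 0)).map S.f).hom x) = _ at h
      rw [hx, hy'] at h
      exact h.symm
    exact ⟨⟨x, hz⟩, Subtype.ext hx⟩
  · rw [ModuleCat.mono_iff_injective]
    intro x y hxy
    exact Subtype.ext (hinj (congrArg Subtype.val hxy))

theorem preservesFiniteLimits_limF (hT : T.LeftExact) : PreservesFiniteLimits (limF (T.T 0)) :=
  ((Functor.preservesFiniteLimits_tfae (limF (T.T 0))).out 0 3).mp fun S hS => limF_exact T hT hS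

/-- The right derived functors of an additive functor on towers, as a delta functor. -/
noncomputable def ofRD (G : Tw A ⥤ ModuleCat.{u} A) [G.Additive] :
    DeltaFunctor (Tw A) (ModuleCat.{u} A) where
  T n := G.rightDerived n
  additive n := Etrest.RDer1.rightDerived_additive G n
  δ hS n := Etrest.RDer1.δ G hS n
  naturality hS hS' φ n := (Etrest.RDer1.δ_naturality G hS hS' φ n).symm
  zero₃ hS n := Etrest.RDer1.comp_δ G hS n
  zero₁ hS n := Etrest.RDer1.δ_comp G hS n
  exact₂ hS n := Etrest.RDer1.exact₂ G hS n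
  exact₃ hS n := Etrest.RDer1.exact₃ G hS n
  exact₁ hS n := Etrest.RDer1.exact₁ G hS n

theorem ofRD_effaceable (G : Tw A ⥤ ModuleCat.{u} A) [G.Additive] : (ofRD G).Effaceable :=
  fun J _ n => G.isZero_rightDerived_obj_injective_succ n J

/-- multiplication by `a` as an endomorphism of a delta functor, computed in the target -/
def smulHomTarget (K : DeltaFunctor (Tw A) (ModuleCat.{u} A)) (a : A) : DeltaHom K K where
  app n := a • 𝟙 (K.T n)
  comm {S} hS n := by
    change (a • 𝟙 _) ≫ K.δ hS n = K.δ hS n ≫ (a • 𝟙 _)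
    rw [Linear.smul_comp, Linear.comp_smul, Category.id_comp, Category.comp_id]

/-- multiplication by `a` as an endomorphism of a delta functor, computed in the source -/
def smulHomSource (K : DeltaFunctor (Tw A) (ModuleCat.{u} A)) (a : A) : DeltaHom K K where
  app n :=
    { app := fun N => (K.T n).map (a • 𝟙 N)
      naturality := fun N N' f => by
        rw [← Functor.map_comp, ← Functor.map_comp, Linear.smul_comp, Linear.comp_smul,
          Category.id_comp, Category.comp_id] }
  comm {S} hS n := by
    let φ : S ⟶ S :=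
      { τ₁ := a • 𝟙 _, τ₂ := a • 𝟙 _, τ₃ := a • 𝟙 _
        comm₁₂ := by simp
        comm₂₃ := by simp }
    exact K.naturality hS hS φ n

theorem lin_of_zero (K : DeltaFunctor (Tw A) (ModuleCat.{u} A)) (hK : K.Effaceable)
    (h : ∀ (N : Tw A) (a : A), (K.T 0).map (a • 𝟙 N) = a • 𝟙 _) (n : ℕ) (N : Tw A) (a : A)
    (x : (K.T n).obj N) : ((K.T n).map (a • 𝟙 N)).hom x = a • x := by
  have h1 := DeltaHom.ext_zero hK (smulHomSource K a) (smulHomTarget K a) (by
    ext N : 2
    exact h N a) n
  exact congrArg (fun t : K.T n ⟶ K.T n => (t.app N).hom x) h1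

variable {T}

theorem exists_towK (hT : T.Effaceable) (hl : T.LeftExact)
    (h0 : ∀ (M : ModuleCat.{u} A) (a : A), (T.T 0).map (a • 𝟙 M) = a • 𝟙 _) :
    Nonempty (TowK T) := by
  have hG := preservesFiniteLimits_limF T hl
  let G := limF (T.T 0)
  let K := ofRD G
  have hK : K.Effaceable := ofRD_effaceable G
  let e : K.T 0 ≅ G := G.rightDerivedZeroIsoSelf
  have hKl : K.LeftExact := by
    intro S hS
    have h1 := (limF_exact T hl hS).2
    have h2 : (K.T 0).map S.f = e.hom.app S.X₁ ≫ G.map S.f ≫ e.inv.app S.X₂ := by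
      rw [← Category.assoc, ← e.hom.naturality, Category.assoc, ← NatTrans.comp_app,
        e.hom_inv_id, NatTrans.id_app, Category.comp_id]
    rw [h2]
    have m1 : Mono (e.app S.X₁).hom := inferInstance
    have m3 : Mono (e.app S.X₂).inv := inferInstance
    exact mono_comp' m1 (mono_comp' h1 m3)
  let ι₀ : G ⟶ (piDelta T).T 0 := limι (T.T 0)
  obtain ⟨Φ, hΦ⟩ := exists_deltaHom K (piDelta T) hK (e.hom ≫ ι₀)
  let W : Seq (Tw A) (ModuleCat.{u} A) :=
    { T₁ := K
      T₂ := piDelta T
      T₃ := piDelta T
      eff₁ := hK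
      eff₂ := piDelta_effaceable T hT
      eff₃ := piDelta_effaceable T hT
      left₁ := hKl
      left₂ := piDelta_leftExact T hl
      left₃ := piDelta_leftExact T hl
      α := Φ
      β := oneSubHom T
      w₀ := fun N => by
        rw [hΦ, NatTrans.comp_app, Category.assoc]
        have : ι₀.app N ≫ ((oneSubHom T).app 0).app N = 0 := by
          ext x
          exact x.2
        rw [this, comp_zero]
      short := fun J _ => by
        have hmono : Mono ((Φ.app 0).app J) := by
          rw [hΦ, NatTrans.comp_app]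
          have m2 : Mono (ι₀.app J) := by
            rw [ModuleCat.mono_iff_injective]
            exact Subtype.val_injective
          have m1 : Mono (e.app J).hom := inferInstance
          exact mono_comp' m1 m2
        refine ShortComplex.ShortExact.mk' ?_ hmono ?_
        · apply exact_of
          intro y hy
          refine ⟨(e.inv.app J).hom ⟨y, hy⟩, ?_⟩
          rw [hΦ]
          change ((e.inv.app J) ≫ (e.hom.app J) ≫ ι₀.app J).hom ⟨y, hy⟩ = y
          rw [← Category.assoc, ← NatTrans.comp_app, e.inv_hom_id, NatTrans.id_app,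
            Category.id_comp]
          rfl
        · change Epi ((oneSub (T.T 0)).app J)
          rw [ModuleCat.epi_iff_surjective]
          exact oneSub_surjective (T.T 0) J }
  obtain ⟨d, hd1, hd2, hd3, hd4⟩ := W.exists_les
  refine ⟨
    { K := K
      eff := hK
      left := hKl
      p := Φ
      d := d
      d_comm := fun hS n => hd1 hS n
      p_inj := fun N => ?_
      p_ex := fun n N y => ?_
      ex_p := fun n N x hx => of_exact (hd2 n N) x hx
      d_oneSub := fun n N x => ?_
      ex_d := fun n N x hx => ?_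
      p_d := fun n N x => ?_
      ex_K := fun n N x hx => ?_
      lin := lin_of_zero K hK ?_ }⟩
  · have := W.row_zero_mono N
    exact (ModuleCat.mono_iff_injective _).mp this
  · exact congrArg (fun t => t.hom y) (W.w n N)
  · obtain ⟨w, -⟩ := hd3 n N
    exact congrArg (fun t => t.hom x) w
  · obtain ⟨w, h⟩ := hd3 n N
    exact of_exact h x hx
  · obtain ⟨w, -⟩ := hd4 n N
    exact congrArg (fun t => t.hom x) w
  · obtain ⟨w, h⟩ := hd4 n N
    exact of_exact h x hx
  · intro N a
    have hmono : Mono (e.hom.app N) := inferInstanceAs (Mono (e.app N).hom)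
    rw [← cancel_mono (e.hom.app N)]
    refine (e.hom.naturality (a • 𝟙 N)).trans ?_
    rw [Linear.smul_comp, Category.id_comp]
    have h1 : G.map (a • 𝟙 N) = a • 𝟙 _ := by
      ext x
      refine Subtype.ext ?_
      funext n
      exact congrArg (fun t => t.hom (x.1 n)) (h0 (N.obj (op n)) a)
    rw [h1, Linear.comp_smul, Category.comp_id]

end

end Groth.Agent.FormalA.TowBasic
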