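import Groth.Agent.FormalA.TowBasic

/-!
# Products over a tower of a delta functor, and the endomorphism `1 - shift`
-/

set_option autoImplicit false
set_option linter.unusedVariables false
universe u
open CategoryTheory Limits Opposite
open Groth.Agent.Localalg.DeltaFun

namespace Groth.Agent.FormalA.TowBasic

variable {A : Type u} [CommRing A]

section piF

variable (G : ModuleCat.{u} A ⥤ ModuleCat.{u} A)

/-- `N ↦ ∏_n G(N_n)` -/
def piF : Tw A ⥤ ModuleCat.{u} A where
  obj N := ModuleCat.of A (∀ n : ℕ, G.obj (N.obj (op n)))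
  map f := ModuleCat.ofHom
    { toFun := fun x n => (G.map (f.app (op n))).hom (x n)
      map_add' := fun x y => funext fun n => map_add _ _ _
      map_smul' := fun a x => funext fun n => map_smul _ _ _ }
  map_id N := by
    ext x n
    change (G.map (𝟙 _)).hom (x n) = x n
    rw [G.map_id]
    rfl
  map_comp f g := by
    ext x n
    change (G.map (f.app (op n) ≫ g.app (op n))).hom (x n) = (G.map (g.app (op n))).hom ((G.map (f.app (op n))).hom (x n))
    rw [G.map_comp]
    rfl

theorem piF_map_apply {N N' : Tw A} (f : N ⟶ N') (x : ∀ n : ℕ, G.obj (N.obj (op n))) (n : ℕ) :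
    ((piF G).map f).hom x n = (G.map (f.app (op n))).hom (x n) := rfl

instance [G.Additive] : (piF G).Additive where
  map_add {N N' f g} := by
    ext x
    funext n
    change (G.map (f.app (op n) + g.app (op n))).hom (x n) = (G.map (f.app (op n))).hom (x n) +
      (G.map (g.app (op n))).hom (x n)
    rw [G.map_add]
    rfl

/-- `1 - shift` -/
def oneSub : piF G ⟶ piF G where
  app N := ModuleCat.ofHom
    { toFun := fun x n => x n - (G.map (tr N n)).hom (x (n + 1))
      map_add' := fun x y => by
        funext n
        change x n + y n - (G.map (tr N n)).hom (x (n + 1) + y (n + 1)) = _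
        rw [map_add]
        exact add_sub_add_comm _ _ _ _
      map_smul' := fun a x => by
        funext n
        change a • x n - (G.map (tr N n)).hom (a • x (n + 1)) = _
        rw [map_smul]
        exact (smul_sub a _ _).symm }
  naturality N N' f := by
    ext x
    funext n
    change (G.map (f.app (op n))).hom (x n) - (G.map (tr N' n)).hom ((G.map (f.app (op (n + 1)))).hom (x (n + 1))) =
      (G.map (f.app (op n))).hom (x n - (G.map (tr N n)).hom (x (n + 1)))
    rw [map_sub]
    congr 1
    change (G.map (f.app (op (n + 1))) ≫ G.map (tr N' n)).hom (x (n + 1)) =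
      (G.map (tr N n) ≫ G.map (f.app (op n))).hom (x (n + 1))
    rw [← G.map_comp, ← G.map_comp, f.naturality]

theorem oneSub_app_apply (N : Tw A) (x : ∀ n : ℕ, G.obj (N.obj (op n))) (n : ℕ) :
    ((oneSub G).app N).hom x n = x n - (G.map (tr N n)).hom (x (n + 1)) := rfl

/-- `lim_n G(N_n)` -/
def limF : Tw A ⥤ ModuleCat.{u} A where
  obj N := ModuleCat.of A (LinearMap.ker ((oneSub G).app N).hom)
  map {N N'} f := ModuleCat.ofHom
    ((((piF G).map f).hom.comp (LinearMap.ker ((oneSub G).app N).hom).subtype).codRestrict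
      (LinearMap.ker ((oneSub G).app N').hom) (fun x => by
        rw [LinearMap.mem_ker]
        have h := congrArg (fun t => t.hom x.1) ((oneSub G).naturality f)
        refine h.trans ?_
        change ((piF G).map f).hom (((oneSub G).app N).hom x.1) = 0
        rw [x.2, map_zero]))
  map_id N := by
    ext x
    exact congrArg (fun t => t.hom x.1) ((piF G).map_id N)
  map_comp f g := by
    ext x
    exact congrArg (fun t => t.hom x.1) ((piF G).map_comp f g)

/-- the inclusion of the limit in the product -/
def limι : limF G ⟶ piF G where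
  app N := ModuleCat.ofHom (LinearMap.ker ((oneSub G).app N).hom).subtype
  naturality N N' f := rfl

instance [G.Additive] : (limF G).Additive where
  map_add {N N' f g} := by
    ext x
    refine Subtype.ext ?_
    exact congrArg (fun t => t.hom x.1) ((piF G).map_add (f := f) (g := g))

end piF

/-- evaluation of a short exact sequence of towers -/
theorem shortExact_ev {S : ShortComplex (Tw A)} (hS : S.ShortExact) (k : ℕ) :
    (S.map ((evaluation ℕᵒᵖ (ModuleCat.{u} A)).obj (op k))).ShortExact :=
  hS.map_of_exact _

/-- the transition maps, as a morphism of short complexes -/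
def trSC (S : ShortComplex (Tw A)) (k : ℕ) :
    S.map ((evaluation ℕᵒᵖ (ModuleCat.{u} A)).obj (op (k + 1))) ⟶
      S.map ((evaluation ℕᵒᵖ (ModuleCat.{u} A)).obj (op k)) where
  τ₁ := tr S.X₁ k
  τ₂ := tr S.X₂ k
  τ₃ := tr S.X₃ k
  comm₁₂ := S.f.naturality _
  comm₂₃ := S.g.naturality _

variable (T : DeltaFunctor (ModuleCat.{u} A) (ModuleCat.{u} A))

/-- The connecting map of `piDelta`. -/
def piδ {S : ShortComplex (Tw A)} (hS : S.ShortExact) (i : ℕ) :
    (piF (T.T i)).obj S.X₃ ⟶ (piF (T.T (i + 1))).obj S.X₁ := ModuleCat.ofHom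
  { toFun := fun x n => (T.δ (shortExact_ev hS n) i).hom (x n)
    map_add' := fun x y => funext fun n => map_add _ _ _
    map_smul' := fun a x => funext fun n => map_smul _ _ _ }

theorem piδ_apply {S : ShortComplex (Tw A)} (hS : S.ShortExact) (i : ℕ)
    (x : ∀ n : ℕ, (T.T i).obj (S.X₃.obj (op n))) (n : ℕ) :
    (piδ T hS i).hom x n = (T.δ (shortExact_ev hS n) i).hom (x n) := rfl

theorem exact_of {X Y Z : ModuleCat.{u} A} {f : X ⟶ Y} {g : Y ⟶ Z} (w : f ≫ g = 0)
    (h : ∀ y : Y, g.hom y = 0 → ∃ x : X, f.hom x = y) : (ShortComplex.mk f g w).Exact := by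
  rw [ShortComplex.moduleCat_exact_iff]
  exact h

theorem of_exact {X Y Z : ModuleCat.{u} A} {f : X ⟶ Y} {g : Y ⟶ Z} {w : f ≫ g = 0}
    (h : (ShortComplex.mk f g w).Exact) (y : Y) (hy : g.hom y = 0) : ∃ x : X, f.hom x = y := by
  rw [ShortComplex.moduleCat_exact_iff] at h
  exact h y hy

/-- `N ↦ ∏_n T^i(N_n)` as a delta functor on towers. -/
def piDelta : DeltaFunctor (Tw A) (ModuleCat.{u} A) where
  T i := piF (T.T i)
  additive i := inferInstance
  δ hS i := piδ T hS i
  naturality {S S'} hS hS' φ i := by
    ext x
    funext n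
    exact congrArg (fun t => t.hom (x n)) (T.naturality (shortExact_ev hS n) (shortExact_ev hS' n)
      (((evaluation ℕᵒᵖ (ModuleCat.{u} A)).obj (op n)).mapShortComplex.map φ) i)
  zero₃ {S} hS i := by
    ext x
    funext n
    exact congrArg (fun t => t.hom (x n)) (T.zero₃ (shortExact_ev hS n) i)
  zero₁ {S} hS i := by
    ext x
    funext n
    exact congrArg (fun t => t.hom (x n)) (T.zero₁ (shortExact_ev hS n) i)
  exact₂ {S} hS i := by
    apply exact_of
    intro y hy
    have h : ∀ n, ∃ x, ((T.T i).map (S.f.app (op n))).hom x = y n := fun n =>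
      of_exact (T.exact₂ (shortExact_ev hS n) i) (y n) (congrFun hy n)
    choose x hx using h
    exact ⟨x, funext hx⟩
  exact₃ {S} hS i := by
    apply exact_of
    intro y hy
    have h : ∀ n, ∃ x, ((T.T i).map (S.g.app (op n))).hom x = y n := fun n =>
      of_exact (T.exact₃ (shortExact_ev hS n) i) (y n) (congrFun hy n)
    choose x hx using h
    exact ⟨x, funext hx⟩
  exact₁ {S} hS i := by
    apply exact_of
    intro y hy
    have h : ∀ n, ∃ x, (T.δ (shortExact_ev hS n) i).hom x = y n := fun n =>
      of_exact (T.exact₁ (shortExact_ev hS n) i) (y n) (congrFun hy n)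
    choose x hx using h
    exact ⟨x, funext hx⟩

theorem piDelta_effaceable (hT : T.Effaceable) : (piDelta T).Effaceable := by
  intro J _ i
  have h : ∀ n : ℕ, Subsingleton ((T.T (i + 1)).obj (J.obj (op n))) := fun n => by
    have := injective_obj J n
    exact ModuleCat.subsingleton_of_isZero (hT (J.obj (op n)) i)
  have : Subsingleton ((piF (T.T (i + 1))).obj J) :=
    inferInstanceAs (Subsingleton (∀ n : ℕ, (T.T (i + 1)).obj (J.obj (op n))))
  exact @ModuleCat.isZero_of_subsingleton _ _ ((piF (T.T (i + 1))).obj J) this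

theorem piDelta_leftExact (hT : T.LeftExact) : (piDelta T).LeftExact := by
  intro S hS
  rw [ModuleCat.mono_iff_injective]
  intro x y hxy
  funext n
  have h := hT (shortExact_ev hS n)
  rw [ModuleCat.mono_iff_injective] at h
  exact h (congrFun hxy n)

/-- `1 - shift` as a morphism of delta functors. -/
def oneSubHom : DeltaHom (piDelta T) (piDelta T) where
  app i := oneSub (T.T i)
  comm {S} hS i := by
    ext x
    funext n
    refine (map_sub (T.δ (shortExact_ev hS n) i).hom (x n)
      (((T.T i).map (tr S.X₃ n)).hom (x (n + 1)))).trans ?_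
    refine congrArg (fun t => (T.δ (shortExact_ev hS n) i).hom (x n) - t) ?_
    exact congrArg (fun t => t.hom (x (n + 1)))
      (T.naturality (shortExact_ev hS (n + 1)) (shortExact_ev hS n) (trSC S n) i)

/-- on injective towers `1 - shift` is surjective. -/
theorem oneSub_surjective (G : ModuleCat.{u} A ⥤ ModuleCat.{u} A) (J : Tw A) [Injective J] :
    Function.Surjective ((oneSub G).app J).hom := by
  intro y
  choose s hs using exists_section J
  -- solve `x_{n+1} = s (x_n - y_n)`
  let x : ∀ n : ℕ, G.obj (J.obj (op n)) := fun n =>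
    Nat.rec (motive := fun n => G.obj (J.obj (op n))) 0 (fun n z => (G.map (s n)).hom (z - (show ∀ n : ℕ, G.obj (J.obj (op n)) from y) n)) n
  refine ⟨x, ?_⟩
  funext n
  change x n - (G.map (tr J n)).hom ((G.map (s n)).hom (x n - (show ∀ n : ℕ, G.obj (J.obj (op n)) from y) n)) = (show ∀ n : ℕ, G.obj (J.obj (op n)) from y) n
  have h1 : ∀ z, (G.map (tr J n)).hom ((G.map (s n)).hom z) = z := by
    intro z
    have h2 := congrArg (fun t => (G.map t).hom z) (hs n)
    simp only [G.map_id, G.map_comp] at h2
    exact h2
  rw [h1]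
  abel

end Groth.Agent.FormalA.TowBasic
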