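import Groth.Agent.FormalA.TowK

/-!
# Towers of submodules, pro-isomorphisms and constant towers
-/

set_option autoImplicit false
set_option linter.unusedVariables false
universe u
open CategoryTheory Limits Opposite
open Groth.Agent.Localalg.DeltaFun

namespace Groth.Agent.FormalA.TowBasic

variable {A : Type u} [CommRing A]

/-! ## exactness is pointwise -/

theorem exact_of_ev {S : ShortComplex (Tw A)}
    (h : ∀ n : ℕ, (S.map ((evaluation ℕᵒᵖ (ModuleCat.{u} A)).obj (op n))).Exact) : S.Exact := by
  rw [S.exact_iff_isZero_homology, Functor.isZero_iff]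
  intro n
  exact ((ShortComplex.exact_iff_isZero_homology _).mp (h n.unop)).of_iso
    (S.mapHomologyIso ((evaluation ℕᵒᵖ (ModuleCat.{u} A)).obj n)).symm

/-- short exactness of a sequence of towers, elementwise -/
theorem shortExact_of_ev {S : ShortComplex (Tw A)}
    (hf : ∀ n : ℕ, Function.Injective (S.f.app (op n)).hom)
    (hg : ∀ n : ℕ, Function.Surjective (S.g.app (op n)).hom)
    (h : ∀ (n : ℕ) (x : S.X₂.obj (op n)), (S.g.app (op n)).hom x = 0 →
      ∃ y, (S.f.app (op n)).hom y = x) : S.ShortExact := by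
  refine ShortComplex.ShortExact.mk' (exact_of_ev fun n => ?_) ?_ ?_
  · rw [ShortComplex.moduleCat_exact_iff]
    exact h n
  · have : ∀ n, Mono (S.f.app n) := fun n => by
      rw [ModuleCat.mono_iff_injective]; exact hf n.unop
    exact NatTrans.mono_of_mono_app _
  · have : ∀ n, Epi (S.g.app n) := fun n => by
      rw [ModuleCat.epi_iff_surjective]; exact hg n.unop
    exact NatTrans.epi_of_epi_app _

theorem shortExact_inj {S : ShortComplex (Tw A)} (hS : S.ShortExact) (n : ℕ) :
    Function.Injective (S.f.app (op n)).hom :=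
  (ModuleCat.mono_iff_injective _).mp (shortExact_ev hS n).mono_f

theorem shortExact_surj {S : ShortComplex (Tw A)} (hS : S.ShortExact) (n : ℕ) :
    Function.Surjective (S.g.app (op n)).hom :=
  (ModuleCat.epi_iff_surjective _).mp (shortExact_ev hS n).epi_g

theorem shortExact_ex {S : ShortComplex (Tw A)} (hS : S.ShortExact) (n : ℕ)
    (x : S.X₂.obj (op n)) (hx : (S.g.app (op n)).hom x = 0) : ∃ y, (S.f.app (op n)).hom y = x :=
  of_exact (shortExact_ev hS n).exact x hx

/-! ## the derived limit of a nilpotent tower -/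

section Nilp

variable (G : ModuleCat.{u} A ⥤ ModuleCat.{u} A)

/-- the shift on `∏_n G(N_n)` -/
def shiftEnd (N : Tw A) : Module.End A (∀ n : ℕ, G.obj (N.obj (op n))) where
  toFun x n := (G.map (tr N n)).hom (x (n + 1))
  map_add' x y := funext fun n => map_add _ _ _
  map_smul' a x := funext fun n => map_smul _ _ _

theorem shiftEnd_pow_apply (N : Tw A) (c : ℕ) (x : ∀ n : ℕ, G.obj (N.obj (op n))) (n : ℕ) :
    (shiftEnd G N ^ c) x n =
      (G.map (N.map (homOfLE (Nat.le_add_right n c)).op)).hom (x (n + c)) := by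
  induction c generalizing n with
  | zero =>
    change x n = (G.map (N.map (𝟙 _))).hom (x n)
    rw [N.map_id, G.map_id]
    rfl
  | succ c ih =>
    rw [pow_succ']
    change (G.map (tr N n)).hom ((shiftEnd G N ^ c) x (n + 1)) = _
    rw [ih]
    have key : ∀ (m m' : ℕ) (h : m = m') (h1 : n + 1 ≤ m) (h2 : n ≤ m'),
        (G.map (tr N n)).hom ((G.map (N.map (homOfLE h1).op)).hom (x m)) =
          (G.map (N.map (homOfLE h2).op)).hom (x m') := by
      intro m m' h h1 h2
      subst h
      change (G.map (N.map (homOfLE h1).op) ≫ G.map (tr N n)).hom (x m) = _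
      rw [← G.map_comp, ← N.map_comp]
      rfl
    exact key _ _ (by omega) _ _

theorem bijective_oneSub_of_nilp (N : Tw A) (c : ℕ)
    (h : ∀ n : ℕ, G.map (N.map (homOfLE (Nat.le_add_right n c)).op) = 0) :
    Function.Bijective ((oneSub G).app N).hom := by
  have h1 : shiftEnd G N ^ c = 0 := by
    ext x n
    rw [shiftEnd_pow_apply, h]
    rfl
  have h2 : IsUnit (1 - shiftEnd G N) := IsNilpotent.isUnit_one_sub ⟨c, h1⟩
  rw [Module.End.isUnit_iff] at h2
  exact h2

end Nilp

variable {T : DeltaFunctor (ModuleCat.{u} A) (ModuleCat.{u} A)}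

namespace TowK

variable (Z : TowK T)

theorem zero_of_bijective (N : Tw A)
    (h : ∀ i, Function.Bijective ((oneSub (T.T i)).app N).hom) (i : ℕ) (x : (Z.K.T i).obj N) :
    x = 0 := by
  have hp : ∀ i (x : (Z.K.T i).obj N), ((Z.p.app i).app N).hom x = 0 := by
    intro i x
    apply (h i).1
    exact (Z.p_ex i N x).trans (map_zero _).symm
  cases i with
  | zero => exact Z.p_inj N ((hp 0 x).trans (map_zero _).symm)
  | succ i =>
    obtain ⟨y, rfl⟩ := Z.ex_K i N x (hp _ x)
    obtain ⟨z, rfl⟩ := (h i).2 y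
    exact Z.d_oneSub i N z

/-- The derived limit of a tower with `N_{n+c} → N_n` zero vanishes. -/
theorem zero_of_nilp (N : Tw A) (c : ℕ)
    (h : ∀ n : ℕ, N.map (homOfLE (Nat.le_add_right n c)).op = 0) (i : ℕ)
    (x : (Z.K.T i).obj N) : x = 0 :=
  Z.zero_of_bijective N (fun i => bijective_oneSub_of_nilp (T.T i) N c
    (fun n => by rw [h n, Functor.map_zero])) i x

/-- An injective map of towers `X → Y` such that `Y_{n+c} → Y_n` factors through `X_n` induces
isomorphisms on derived limits. -/
theorem bijective_of_proIso {X Y : Tw A} (φ : X ⟶ Y)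
    (hφ : ∀ n : ℕ, Function.Injective (φ.app (op n)).hom) (c : ℕ)
    (h : ∀ (n : ℕ) (y : Y.obj (op (n + c))), ∃ x : X.obj (op n), (φ.app (op n)).hom x =
      (Y.map (homOfLE (Nat.le_add_right n c)).op).hom y) (i : ℕ) :
    Function.Bijective ((Z.K.T i).map φ).hom := by
  have hm : Mono φ := by
    have : ∀ n, Mono (φ.app n) := fun n => by
      rw [ModuleCat.mono_iff_injective]; exact hφ n.unop
    exact NatTrans.mono_of_mono_app _
  have hS := shortExact_cokernel φ
  have hC : ∀ n : ℕ, (cokernel φ).map (homOfLE (Nat.le_add_right n c)).op = 0 := by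
    intro n
    ext z
    obtain ⟨y, rfl⟩ := shortExact_surj hS (n + c) z
    obtain ⟨x, hx⟩ := h n y
    have h1 := congrArg (fun t => t.hom y)
      ((cokernel.π φ).naturality (homOfLE (Nat.le_add_right n c)).op)
    change ((cokernel.π φ).app (op n)).hom ((Y.map (homOfLE (Nat.le_add_right n c)).op).hom y) =
      ((cokernel φ).map (homOfLE (Nat.le_add_right n c)).op).hom
        (((cokernel.π φ).app (op (n + c))).hom y) at h1
    refine h1.symm.trans ?_
    rw [← hx]
    exact congrArg (fun t : X ⟶ cokernel φ => (t.app (op n)).hom x) (cokernel.condition φ)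
  have hz : ∀ i (x : (Z.K.T i).obj (cokernel φ)), x = 0 := fun i x =>
    Z.zero_of_nilp (cokernel φ) c hC i x
  constructor
  · rw [injective_iff_map_eq_zero]
    intro x hx
    cases i with
    | zero =>
      have := Z.left hS
      rw [ModuleCat.mono_iff_injective] at this
      exact this (hx.trans (map_zero _).symm)
    | succ i =>
      obtain ⟨y, rfl⟩ := of_exact (Z.K.exact₁ hS i) x hx
      rw [hz i y, map_zero]
  · intro y
    exact of_exact (Z.K.exact₂ hS i) y (hz i _)

end TowK

/-! ## constant towers -/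

/-- constant tower -/
abbrev constTw (M : ModuleCat.{u} A) : Tw A := (Functor.const ℕᵒᵖ).obj M

theorem tr_constTw (M : ModuleCat.{u} A) (n : ℕ) : tr (constTw M) n = 𝟙 M := rfl

theorem oneSub_const_surjective (G : ModuleCat.{u} A ⥤ ModuleCat.{u} A) (M : ModuleCat.{u} A) :
    Function.Surjective ((oneSub G).app (constTw M)).hom := by
  intro y
  let x : ∀ n : ℕ, G.obj M := fun n =>
    Nat.rec (motive := fun n => G.obj M) 0 (fun n z => z - (show ∀ n : ℕ, G.obj M from y) n) n
  refine ⟨x, ?_⟩
  funext n
  change x n - (G.map (𝟙 M)).hom (x n - (show ∀ n : ℕ, G.obj M from y) n) =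
    (show ∀ n : ℕ, G.obj M from y) n
  rw [G.map_id]
  change x n - (x n - (show ∀ n : ℕ, G.obj M from y) n) = _
  abel

theorem const_of_oneSub_const (G : ModuleCat.{u} A ⥤ ModuleCat.{u} A) (M : ModuleCat.{u} A)
    (x : ∀ n : ℕ, G.obj M) (h : ((oneSub G).app (constTw M)).hom x = 0) (n : ℕ) : x n = x 0 := by
  induction n with
  | zero => rfl
  | succ n ih =>
    have h1 := congrFun h n
    change x n - (G.map (𝟙 M)).hom (x (n + 1)) = 0 at h1
    rw [G.map_id] at h1
    change x n - x (n + 1) = 0 at h1
    rw [← ih]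
    exact (sub_eq_zero.mp h1).symm

namespace TowK

variable (Z : TowK T)

/-- the map `K^i(const M) → T^i(M)` is bijective. -/
theorem const_bijective (M : ModuleCat.{u} A) (i : ℕ) :
    Function.Bijective (fun x : (Z.K.T i).obj (constTw M) =>
      ((show ∀ n : ℕ, (T.T i).obj M from ((Z.p.app i).app (constTw M)).hom x) 0)) := by
  have hpinj : Function.Injective ((Z.p.app i).app (constTw M)).hom := by
    rw [injective_iff_map_eq_zero]
    intro x hx
    cases i with
    | zero => exact Z.p_inj _ (hx.trans (map_zero _).symm)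
    | succ i =>
      obtain ⟨y, rfl⟩ := Z.ex_K i _ x hx
      obtain ⟨z, rfl⟩ := oneSub_const_surjective (T.T i) M y
      exact Z.d_oneSub i _ z
  constructor
  · intro x y hxy
    apply hpinj
    funext n
    have h1 := const_of_oneSub_const (T.T i) M _ (Z.p_ex i (constTw M) x) n
    have h2 := const_of_oneSub_const (T.T i) M _ (Z.p_ex i (constTw M) y) n
    exact h1.trans (hxy.trans h2.symm)
  · intro t
    obtain ⟨y, hy⟩ := Z.ex_p i (constTw M) (fun _ => t) (by
      funext n
      change t - (((T.T i).map (𝟙 M)).hom t) = 0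
      rw [(T.T i).map_id]
      exact sub_self t)
    refine ⟨y, ?_⟩
    exact congrFun hy 0

/-- the canonical map `T^i(M) → K^i(const M)` -/
noncomputable def cst (M : ModuleCat.{u} A) (i : ℕ) : (T.T i).obj M →ₗ[A] (Z.K.T i).obj (constTw M) :=
  (LinearEquiv.ofBijective
    ((LinearMap.proj (R := A) (φ := fun _ : ℕ => (T.T i).obj M) 0).comp
      ((Z.p.app i).app (constTw M)).hom) (Z.const_bijective M i)).symm.toLinearMap

theorem cst_bijective (M : ModuleCat.{u} A) (i : ℕ) : Function.Bijective (Z.cst M i) :=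
  (LinearEquiv.ofBijective _ (Z.const_bijective M i)).symm.bijective

theorem p_cst (M : ModuleCat.{u} A) (i : ℕ) (x : (T.T i).obj M) (n : ℕ) :
    (show ∀ n : ℕ, (T.T i).obj M from ((Z.p.app i).app (constTw M)).hom (Z.cst M i x)) n = x := by
  have h1 := const_of_oneSub_const (T.T i) M _ (Z.p_ex i (constTw M) (Z.cst M i x)) n
  refine h1.trans ?_
  exact (LinearEquiv.ofBijective
    ((LinearMap.proj (R := A) (φ := fun _ : ℕ => (T.T i).obj M) 0).comp
      ((Z.p.app i).app (constTw M)).hom) (Z.const_bijective M i)).apply_symm_apply x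

theorem cst_naturality {M M' : ModuleCat.{u} A} (f : M ⟶ M') (i : ℕ) (x : (T.T i).obj M) :
    ((Z.K.T i).map ((Functor.const ℕᵒᵖ).map f)).hom (Z.cst M i x) =
      Z.cst M' i (((T.T i).map f).hom x) := by
  apply (Z.const_bijective M' i).1
  dsimp only
  have h1 := congrArg (fun t => t.hom (Z.cst M i x)) ((Z.p.app i).naturality ((Functor.const ℕᵒᵖ).map f))
  have h2 := congrFun h1 0
  refine h2.trans ?_
  change ((T.T i).map f).hom ((show ∀ n : ℕ, (T.T i).obj M from ((Z.p.app i).app (constTw M)).hom (Z.cst M i x)) 0) = _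
  rw [Z.p_cst]
  exact (Z.p_cst M' i _ 0).symm

end TowK

/-! ## finite support -/

theorem mem_range_oneSub_of_finite (G : ModuleCat.{u} A ⥤ ModuleCat.{u} A) (N : Tw A)
    (k : ℕ) : ∀ (x : ∀ n : ℕ, G.obj (N.obj (op n))), (∀ n ≥ k, x n = 0) →
      ∃ y, ((oneSub G).app N).hom y = x := by
  induction k with
  | zero =>
    intro x hx
    refine ⟨0, ?_⟩
    rw [map_zero]
    funext n
    exact (hx n (Nat.zero_le n)).symm
  | succ k ih =>
    intro x hx
    -- move the last entry down
    let e : ∀ n : ℕ, G.obj (N.obj (op n)) := fun n => if n = k then x n else 0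
    obtain ⟨y, hy⟩ := ih (x - (show ∀ n : ℕ, G.obj (N.obj (op n)) from ((oneSub G).app N).hom e)) (by
      intro n hn
      change x n - (e n - (G.map (tr N n)).hom (e (n + 1))) = 0
      have h1 : e (n + 1) = 0 := if_neg (by omega)
      rw [h1, map_zero, sub_zero]
      rcases Nat.eq_or_lt_of_le hn with h | h
      · subst h
        change x k - (if k = k then x k else 0) = 0
        rw [if_pos rfl, sub_self]
      · change x n - (if n = k then x n else 0) = 0
        rw [if_neg (by omega), sub_zero]
        exact hx n h)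
    refine ⟨y + (show (piF G).obj N from e), ?_⟩
    rw [map_add, hy]
    exact sub_add_cancel _ _

theorem TowK.d_eq_zero_of_finite (Z : TowK T) (i : ℕ) (N : Tw A) (k : ℕ)
    (x : ∀ n : ℕ, (T.T i).obj (N.obj (op n))) (hx : ∀ n ≥ k, x n = 0) :
    ((Z.d i).app N).hom x = 0 := by
  obtain ⟨y, rfl⟩ := mem_range_oneSub_of_finite (T.T i) N k x hx
  exact Z.d_oneSub i N y

/-! ## towers of submodules -/

section Sub

variable {M : ModuleCat.{u} A} (S : ℕ → Submodule A M) (hS : Antitone S)

/-- the tower of a decreasing sequence of submodules -/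
def subTw : Tw A where
  obj n := ModuleCat.of A (S n.unop)
  map {n n'} f := ModuleCat.ofHom (Submodule.inclusion (hS (leOfHom f.unop)))
  map_id n := rfl
  map_comp f g := rfl

/-- the quotient tower -/
def quotTw : Tw A where
  obj n := ModuleCat.of A (M ⧸ S n.unop)
  map {n n'} f := ModuleCat.ofHom (Submodule.factor (hS (leOfHom f.unop)))
  map_id n := by
    ext x
    rfl
  map_comp f g := by
    ext x
    rfl

/-- the inclusion in the constant tower -/
def subι : subTw S hS ⟶ constTw M where
  app n := ModuleCat.ofHom (S n.unop).subtype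
  naturality n n' f := rfl

/-- the projection to the quotient tower -/
def quotπ : constTw M ⟶ quotTw S hS where
  app n := ModuleCat.ofHom (S n.unop).mkQ
  naturality n n' f := rfl

/-- the short complex `0 → S_n → M → M/S_n → 0` -/
def subSC : ShortComplex (Tw A) :=
  ShortComplex.mk (subι S hS) (quotπ S hS) (by
    ext n x
    exact (Submodule.Quotient.mk_eq_zero _).mpr x.2)

theorem subSC_shortExact : (subSC S hS).ShortExact := by
  apply shortExact_of_ev
  · intro n
    exact Subtype.val_injective
  · intro n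
    exact Submodule.mkQ_surjective _
  · intro n x hx
    exact ⟨⟨x, (Submodule.Quotient.mk_eq_zero _).mp hx⟩, rfl⟩

variable {M' : ModuleCat.{u} A} (S' : ℕ → Submodule A M') (hS' : Antitone S')

/-- functoriality of the towers of submodules -/
def subTwMap (f : M ⟶ M') (h : ∀ n, ∀ x ∈ S n, f.hom x ∈ S' n) : subTw S hS ⟶ subTw S' hS' where
  app n := ModuleCat.ofHom (f.hom.restrict (h n.unop))
  naturality n n' g := rfl

/-- functoriality of the quotient towers -/
def quotTwMap (f : M ⟶ M') (h : ∀ n, ∀ x ∈ S n, f.hom x ∈ S' n) : quotTw S hS ⟶ quotTw S' hS' where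
  app n := ModuleCat.ofHom (Submodule.mapQ _ _ f.hom (h n.unop))
  naturality n n' g := by
    ext x
    obtain ⟨x, rfl⟩ := Submodule.mkQ_surjective _ x
    rfl

/-- functoriality of the short complex -/
def subSCMap (f : M ⟶ M') (h : ∀ n, ∀ x ∈ S n, f.hom x ∈ S' n) : subSC S hS ⟶ subSC S' hS' where
  τ₁ := subTwMap S hS S' hS' f h
  τ₂ := (Functor.const ℕᵒᵖ).map f
  τ₃ := quotTwMap S hS S' hS' f h
  comm₁₂ := rfl
  comm₂₃ := rfl

end Sub

end Groth.Agent.FormalA.TowBasic
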