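import Groth.Agent.FormalA.UnitLift

set_option autoImplicit false

/-!
# The twisted complete Čech complex

Let `f` be regular on the Noetherian `f`-adically complete ring `A`, `N` an `A`-module killed by `f`
with elements `n i` which generate freely `N_{S i}` over `(A/f)_{S i}`.  If the Čech `H^2` of `A/f`
vanishes and the Čech `H^0`, `H^1` of `N` are finitely generated, then there is a finite `A`-module `M`
on which `f` is regular and an injection `M/fM → H^0(N)` with torsion cokernel.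
-/

namespace Groth.Agent.FormalA.TwistCx

open CompleteCx CompRing LocSub CompLoc CechSub UnitLift

variable {A : Type*} [CommRing A] {f : A} {ι : Type*} {S : ι → Submonoid A}
variable {N : Type*} [AddCommGroup N] [Module A N] (hN : ∀ n : N, f • n = 0)

theorem Gen.of_elem {S T : Submonoid A} (hST : S ≤ T) (n₀ : N)
    (h1 : ∀ n : N, ∃ s ∈ S, ∃ a : A, s • n = a • n₀)
    (h2 : ∀ a : A, a • n₀ = 0 → ∃ s ∈ S, ∃ b, s * a = f * b) :
    Gen f T (LocalizedModule.mkLinearMap T N n₀) where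
  surj y := by
    obtain ⟨n, t, rfl⟩ := exists_eq_mk y
    obtain ⟨s, hs, a, ha⟩ := h1 n
    refine ⟨Localization.mk a (⟨s, hST hs⟩ * t), ?_⟩
    rw [LocalizedModule.mkLinearMap_apply, LocalizedModule.mk_smul_mk, mul_one, ← ha]
    exact (LocalizedModule.mk_cancel_common_left ⟨s, hST hs⟩ t n).symm
  ker r := by
    induction r using Localization.induction_on with
    | _ p =>
      obtain ⟨a, t⟩ := p
      intro h
      rw [LocalizedModule.mkLinearMap_apply, LocalizedModule.mk_smul_mk, mk_eq_zero_iff] at h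
      obtain ⟨u, hu, h⟩ := h
      rw [← mul_smul] at h
      obtain ⟨s, hs, b, hb⟩ := h2 _ h
      refine ⟨Localization.mk b (⟨s, hST hs⟩ * ⟨u, hu⟩ * t), ?_⟩
      rw [Localization.smul_mk, Localization.mk_eq_mk_iff, Localization.r_iff_exists]
      refine ⟨1, ?_⟩
      simp only [Submonoid.coe_one, one_mul, Submonoid.coe_mul, smul_eq_mul]
      rw [← hb]
      ring

section

variable (e : ∀ i, LocalizedModule (S i) N)
  (g : ∀ i j, B f (S i ⊔ S j))

/-- the twisted differential in degree `0` -/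
noncomputable def t0 : (∀ i, B f (S i)) →ₗ[A] (∀ i j, B f (S i ⊔ S j)) :=
  LinearMap.pi fun i => LinearMap.pi fun j =>
    LinearMap.mulLeft A (g i j) ∘ₗ ρl f (le22 S i j) ∘ₗ LinearMap.proj j -
      ρl f (le12 S i j) ∘ₗ LinearMap.proj i

/-- the twisted differential in degree `1` -/
noncomputable def t1 : (∀ i j, B f (S i ⊔ S j)) →ₗ[A] (∀ i j k, B f (S i ⊔ S j ⊔ S k)) :=
  LinearMap.pi fun i => LinearMap.pi fun j => LinearMap.pi fun k =>
    LinearMap.mulLeft A (ρ f (le123 S i j k) (g i j)) ∘ₗ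
      ρl f (le233 S i j k) ∘ₗ LinearMap.proj k ∘ₗ LinearMap.proj j -
      ρl f (le133 S i j k) ∘ₗ LinearMap.proj k ∘ₗ LinearMap.proj i +
      ρl f (le123 S i j k) ∘ₗ LinearMap.proj j ∘ₗ LinearMap.proj i

theorem t0_apply (b : ∀ i, B f (S i)) (i j : ι) :
    t0 g b i j = g i j * ρ f (le22 S i j) (b j) - ρ f (le12 S i j) (b i) := rfl

theorem t1_apply (b : ∀ i j, B f (S i ⊔ S j)) (i j k : ι) :
    t1 g b i j k = ρ f (le123 S i j k) (g i j) * ρ f (le233 S i j k) (b j k) -
      ρ f (le133 S i j k) (b i k) + ρ f (le123 S i j k) (b i j) := rfl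

theorem t1_t0 (hg : ∀ i j k, ρ f (le123 S i j k) (g i j) * ρ f (le233 S i j k) (g j k) =
    ρ f (le133 S i j k) (g i k)) (b : ∀ i, B f (S i)) : t1 g (t0 g b) = 0 := by
  funext i j k
  simp only [t1_apply, t0_apply, map_sub, map_mul, ρ_ρ]
  change _ = (0 : B f _)
  linear_combination ρ f ((le22 S j k).trans (le233 S i j k)) (b k) * hg i j k

/-- reduction in degree `0` -/
noncomputable def p0 : (∀ i, B f (S i)) →ₗ[A] C0 S N :=
  LinearMap.pi fun i => π f hN (e i) ∘ₗ LinearMap.proj i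

/-- reduction in degree `1` -/
noncomputable def p1 : (∀ i j, B f (S i ⊔ S j)) →ₗ[A] C1 S N :=
  LinearMap.pi fun i => LinearMap.pi fun j => π f hN (res (le12 S i j) (e i)) ∘ₗ
    LinearMap.proj j ∘ₗ LinearMap.proj i

theorem p0_apply (b : ∀ i, B f (S i)) (i : ι) : p0 hN e b i = π f hN (e i) (b i) := rfl

theorem p1_apply (b : ∀ i j, B f (S i ⊔ S j)) (i j : ι) :
    p1 hN e b i j = π f hN (res (le12 S i j) (e i)) (b i j) := rfl

theorem p1_t0 (hg1 : ∀ i j, π f hN (res (le12 S i j) (e i)) (g i j) = res (le22 S i j) (e j))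
    (b : ∀ i, B f (S i)) : p1 hN e (t0 g b) = d0 S (p0 hN e b) := by
  funext i j
  rw [p1_apply, t0_apply, d0_apply, p0_apply, p0_apply, map_sub, π_mul, hg1, res_π, res_π]

theorem d1_p1 (hg1 : ∀ i j, π f hN (res (le12 S i j) (e i)) (g i j) = res (le22 S i j) (e j))
    (b : ∀ i j, B f (S i ⊔ S j)) (hb : t1 g b = 0) : d1 S (p1 hN e b) = 0 := by
  funext i j k
  have h := congrArg (π f hN (res ((le12 S i j).trans (le123 S i j k)) (e i)))
    (congr_fun (congr_fun (congr_fun hb i) j) k)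
  rw [t1_apply, map_add, map_sub, π_mul, π_res hN e g hg1 i j] at h
  rw [d1_apply, p1_apply, p1_apply, p1_apply, res_π, res_π, res_π, res_res, res_res, res_res]
  refine h.trans ?_
  exact map_zero (π f hN _)

variable [IsNoetherianRing A]

theorem exists_module_aux (hA : FC f A) (hreg : IsSMulRegular A f)
    (hgen : ∀ (i : ι) (T : Submonoid A) (h : S i ≤ T), Gen f T (res h (e i)))
    (hg1 : ∀ i j, π f hN (res (le12 S i j) (e i)) (g i j) = res (le22 S i j) (e j))
    (hg : ∀ i j k, ρ f (le123 S i j k) (g i j) * ρ f (le233 S i j k) (g j k) =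
      ρ f (le133 S i j k) (g i k))
    (hfg0 : (LinearMap.ker (d0 S (N := N))).FG)
    (hfg1 : ((LinearMap.ker (d1 S (N := N))).map (LinearMap.range (d0 S (N := N))).mkQ).FG) :
    (LinearMap.ker (t0 g)).FG ∧ (∀ x : ∀ i, B f (S i), p0 hN e x = 0 → ∃ y, x = f • y) ∧
    ∀ (a : A) (k : ℕ), (∀ z : C1 S N, d1 S z = 0 → a ^ k • z ∈ LinearMap.range (d0 S (N := N))) →
      ∃ l : ℕ, ∀ x : C0 S N, d0 S x = 0 → ∃ m, t0 g m = 0 ∧ p0 hN e m = a ^ l • x := by
  have hB1 : IsSMulRegular (∀ i j, B f (S i ⊔ S j)) f := by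
    intro x y hxy
    funext i j
    exact regular_loc f hreg (congr_fun (congr_fun hxy i) j)
  have hB2 : IsSMulRegular (∀ i j k, B f (S i ⊔ S j ⊔ S k)) f := by
    intro x y hxy
    funext i j k
    exact regular_loc f hreg (congr_fun (congr_fun (congr_fun hxy i) j) k)
  have hk0 : ∀ x : ∀ i, B f (S i), p0 hN e x = 0 → ∃ y, x = f • y := by
    intro x hx
    have h : ∀ i, ∃ y, x i = f • y := fun i => by
      have := hgen i (S i) le_rfl
      rw [res_rfl] at this
      exact this.exists_of_π_eq_zero hN _ (congr_fun hx i)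
    choose y hy using h
    exact ⟨y, funext hy⟩
  have hk1 : ∀ x : ∀ i j, B f (S i ⊔ S j), p1 hN e x = 0 → ∃ y, x = f • y := by
    intro x hx
    have h : ∀ i j, ∃ y, x i j = f • y := fun i j =>
      (hgen i _ (le12 S i j)).exists_of_π_eq_zero hN _ (congr_fun (congr_fun hx i) j)
    choose y hy using h
    exact ⟨y, funext fun i => funext fun j => hy i j⟩
  have hs0 : Function.Surjective (p0 hN e) := by
    intro y
    have h : ∀ i, ∃ b, π f hN (e i) b = y i := fun i => by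
      have := hgen i (S i) le_rfl
      rw [res_rfl] at this
      exact this.π_surjective hN _
    choose b hb using h
    exact ⟨b, funext hb⟩
  have hf0 : ∀ x : ∀ i, B f (S i), p0 hN e (f • x) = 0 := by
    intro x
    funext i
    exact π_f_smul f hN _ _
  refine ⟨fg_ker hA (FC.pi fun i => fcA f) (t0 g) hB1 (d0 S) (p0 hN e) (p1 hN e)
    (p1_t0 hN e g hg1) hk0 hfg0, hk0, fun a k hak => ?_⟩
  exact exists_pow_lift (t0 g) (t1 g) (d0 S) (p0 hN e) (p1 hN e) hA (FC.pi fun i => fcA f)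
    (FC.pi fun i => FC.pi fun j => fcA f) (t1_t0 g hg) hB2 (p1_t0 hN e g hg1) hs0 hf0 hk1
    (LinearMap.ker (d1 S)) (fun z hz => d1_p1 hN e g hg1 z hz) hfg1 a k hak

end

include hN in
/-- The main algebraic statement. -/
theorem exists_module [IsNoetherianRing A] (hA : FC f A) (hreg : IsSMulRegular A f) (s : ι → A)
    (hS : ∀ i, S i = Submonoid.powers (s i)) (n : ι → N)
    (h1 : ∀ i (x : N), ∃ k : ℕ, ∃ a : A, s i ^ k • x = a • n i)
    (h2 : ∀ i (a : A), a • n i = 0 → ∃ k : ℕ, ∃ b, s i ^ k * a = f * b)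
    (hH2 : ∀ x : C2 S (A ⧸ Ideal.span {f}), d2 S x = 0 → ∃ y, d1 S y = x)
    (hfg0 : (LinearMap.ker (d0 S (N := N))).FG)
    (hfg1 : ((LinearMap.ker (d1 S (N := N))).map (LinearMap.range (d0 S (N := N))).mkQ).FG)
    (hpow : ∀ i, ∃ k : ℕ, ∀ z : C1 S N, d1 S z = 0 → s i ^ k • z ∈ LinearMap.range (d0 S (N := N))) :
    ∃ (M : Submodule A (∀ i, B f (S i))) (φ : M →ₗ[A] LinearMap.ker (d0 S (N := N))),
      M.FG ∧ IsSMulRegular M f ∧ (∀ x, φ x = 0 → ∃ y, x = f • y) ∧
      ∀ i, ∃ l : ℕ, ∀ y, ∃ x, φ x = s i ^ l • y := by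
  let e : ∀ i, LocalizedModule (S i) N := fun i => LocalizedModule.mkLinearMap (S i) N (n i)
  have hgen : ∀ (i : ι) (T : Submonoid A) (h : S i ≤ T), Gen f T (res h (e i)) := by
    intro i T h
    rw [res_mkLinearMap]
    refine Gen.of_elem h (n i) (fun x => ?_) fun a ha => ?_
    · obtain ⟨k, a, hk⟩ := h1 i x
      exact ⟨s i ^ k, hS i ▸ ⟨k, rfl⟩, a, hk⟩
    · obtain ⟨k, b, hk⟩ := h2 i a ha
      exact ⟨s i ^ k, hS i ▸ ⟨k, rfl⟩, b, hk⟩
  obtain ⟨g, hg1, hg⟩ := exists_cocycle hN e hgen hreg hH2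
  obtain ⟨hfg, hk0, hlift⟩ := exists_module_aux hN e g hA hreg hgen hg1 hg hfg0 hfg1
  have hB0 : IsSMulRegular (∀ i, B f (S i)) f := by
    intro x y hxy
    funext i
    exact regular_loc f hreg (congr_fun hxy i)
  have hB1 : IsSMulRegular (∀ i j, B f (S i ⊔ S j)) f := by
    intro x y hxy
    funext i j
    exact regular_loc f hreg (congr_fun (congr_fun hxy i) j)
  refine ⟨LinearMap.ker (t0 g), ((p0 hN e).comp (LinearMap.ker (t0 g)).subtype).codRestrict _
    (fun x => ?_), hfg, ?_, ?_, ?_⟩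
  · rw [LinearMap.mem_ker, LinearMap.comp_apply, ← p1_t0 hN e g hg1]
    have : t0 g x.1 = 0 := x.2
    simp [this]
  · intro x y hxy
    apply Subtype.ext
    exact hB0 (congrArg Subtype.val hxy)
  · intro x hx
    obtain ⟨y, hy⟩ := hk0 x.1 (congrArg Subtype.val hx)
    refine ⟨⟨y, ?_⟩, Subtype.ext hy⟩
    rw [LinearMap.mem_ker]
    have h3 : f • t0 g y = 0 := by
      rw [← map_smul, ← hy]
      exact x.2
    exact hB1.right_eq_zero_of_smul h3
  · intro i
    obtain ⟨k, hk⟩ := hpow i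
    obtain ⟨l, hl⟩ := hlift (s i) k hk
    refine ⟨l, fun y => ?_⟩
    obtain ⟨m, hm, hm'⟩ := hl y.1 y.2
    exact ⟨⟨m, hm⟩, Subtype.ext hm'⟩

end Groth.Agent.FormalA.TwistCx
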