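import Groth.Agent.FormalA.CompLoc

set_option autoImplicit false

/-!
# Lifting a rank one cocycle to the completion

`N` is an `A`-module killed by `f` with free generators `e i ∈ N_{S i}` over `(A/f)_{S i}`.  If the
Čech `H^2` of `A/f` vanishes then there are `g i j ∈ B f (S i ⊔ S j)` with `g_ij e_i = e_j` and
`g_ij g_jk = g_ik` exactly.
-/

namespace Groth.Agent.FormalA.UnitLift

open CompleteCx CompRing LocSub CompLoc CechSub

variable {A : Type*} [CommRing A] {f : A} {ι : Type*} {S : ι → Submonoid A}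
variable {N : Type*} [AddCommGroup N] [Module A N] (hN : ∀ n : N, f • n = 0)

/-- the generator `1` of `(A/f)_T` -/
noncomputable def one (f : A) (T : Submonoid A) : LocalizedModule T (A ⧸ Ideal.span {f}) :=
  LocalizedModule.mkLinearMap T _ 1

theorem quot_f (f : A) (n : A ⧸ Ideal.span {f}) : f • n = 0 := by
  obtain ⟨a, rfl⟩ := Ideal.Quotient.mk_surjective n
  rw [Algebra.smul_def, Ideal.Quotient.algebraMap_eq, ← map_mul, Ideal.Quotient.eq_zero_iff_mem]
  exact Ideal.mul_mem_right _ _ (Ideal.mem_span_singleton_self f)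

theorem res_one {T U : Submonoid A} (h : T ≤ U) : res h (one f T) = one f U :=
  res_mkLinearMap h _

theorem gen_one (T : Submonoid A) : Gen f T (one f T) where
  surj y := by
    obtain ⟨n, t, rfl⟩ := exists_eq_mk y
    obtain ⟨a, rfl⟩ := Ideal.Quotient.mk_surjective n
    refine ⟨Localization.mk a t, ?_⟩
    rw [one, LocalizedModule.mkLinearMap_apply, LocalizedModule.mk_smul_mk, mul_one]
    congr 1
    rw [Algebra.smul_def, mul_one]
    rfl
  ker r := by
    induction r using Localization.induction_on with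
    | _ p =>
      obtain ⟨a, t⟩ := p
      intro h
      rw [one, LocalizedModule.mkLinearMap_apply, LocalizedModule.mk_smul_mk, mk_eq_zero_iff] at h
      obtain ⟨u, hu, h⟩ := h
      rw [← mul_smul, Algebra.smul_def, mul_one, Ideal.Quotient.algebraMap_eq,
        Ideal.Quotient.eq_zero_iff_mem, Ideal.mem_span_singleton] at h
      obtain ⟨b, hb⟩ := h
      refine ⟨Localization.mk b (⟨u, hu⟩ * t), ?_⟩
      rw [Localization.smul_mk, Localization.mk_eq_mk_iff, Localization.r_iff_exists]
      refine ⟨1, ?_⟩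
      simp only [Submonoid.coe_one, one_mul, Submonoid.coe_mul, smul_eq_mul]
      rw [← hb]
      ring

/-- the approximate cocycle condition -/
def Coc (e : ∀ i, LocalizedModule (S i) N) (n : ℕ) (g : ∀ i j, B f (S i ⊔ S j)) : Prop :=
  (∀ i j, π f hN (res (le12 S i j) (e i)) (g i j) = res (le22 S i j) (e j)) ∧
  ∃ c : ∀ i j k, B f (S i ⊔ S j ⊔ S k), ∀ i j k,
    ρ f (le123 S i j k) (g i j) * ρ f (le233 S i j k) (g j k) - ρ f (le133 S i j k) (g i k) =
      algebraMap A _ f ^ n * c i j k

section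

variable (e : ∀ i, LocalizedModule (S i) N)
  (hgen : ∀ (i : ι) (T : Submonoid A) (h : S i ≤ T), Gen f T (res h (e i)))

include hgen in
/-- Equality modulo `f` can be tested on generators. -/
theorem modf (i : ι) {T : Submonoid A} (h : S i ≤ T) (b c : B f T)
    (hbc : π f hN (res h (e i)) b = π f hN (res h (e i)) c) :
    ∃ w, b - c = algebraMap A _ f * w := by
  obtain ⟨w, hw⟩ := (hgen i T h).exists_of_π_eq_zero hN (b - c) (by rw [map_sub, hbc, sub_self])
  exact ⟨w, by rw [hw, CompLoc.smul_eq]⟩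

theorem π_res (g : ∀ i j, B f (S i ⊔ S j))
    (hg : ∀ i j, π f hN (res (le12 S i j) (e i)) (g i j) = res (le22 S i j) (e j))
    (i j : ι) {T : Submonoid A} (h : S i ⊔ S j ≤ T) :
    π f hN (res ((le12 S i j).trans h) (e i)) (ρ f h (g i j)) = res ((le22 S i j).trans h) (e j) := by
  rw [← res_res (le12 S i j) h, ← res_π, hg, res_res]

include hgen in
theorem exists_coc_one : ∃ g, Coc hN e 1 g := by
  choose g hg using fun i j => (hgen i (S i ⊔ S j) (le12 S i j)).π_surjective hN
    (res (le22 S i j) (e j))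
  refine ⟨g, hg, ?_⟩
  have key : ∀ i j k, ∃ c, ρ f (le123 S i j k) (g i j) * ρ f (le233 S i j k) (g j k) -
      ρ f (le133 S i j k) (g i k) = algebraMap A _ f ^ 1 * c := by
    intro i j k
    obtain ⟨w, hw⟩ := modf hN e hgen i ((le12 S i j).trans (le123 S i j k))
      (ρ f (le123 S i j k) (g i j) * ρ f (le233 S i j k) (g j k)) (ρ f (le133 S i j k) (g i k)) (by
        rw [π_mul, π_res hN e g hg i j, π_res hN e g hg i k]
        exact π_res hN e g hg j k (le233 S i j k))
    exact ⟨w, by rw [hw, pow_one]⟩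
  choose c hc using key
  exact ⟨c, hc⟩

theorem isSMulRegular_pow_mul {R : Type*} [CommRing R] [Algebra A R] (h : IsSMulRegular R f) (n : ℕ)
    {x y : R} (hxy : algebraMap A R f ^ n * x = algebraMap A R f ^ n * y) : x = y := by
  apply h.pow n
  change f ^ n • x = f ^ n • y
  rw [Algebra.smul_def, Algebra.smul_def, map_pow]
  exact hxy

include hgen in
theorem coc_step (hreg : IsSMulRegular A f)
    (hH2 : ∀ x : C2 S (A ⧸ Ideal.span {f}), d2 S x = 0 → ∃ y, d1 S y = x)
    (m : ℕ) (g : ∀ i j, B f (S i ⊔ S j)) (hg : Coc hN e (m + 1) g) :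
    ∃ δ : ∀ i j, B f (S i ⊔ S j), Coc hN e (m + 2) (fun i j => g i j + f ^ (m + 1) • δ i j) := by
  obtain ⟨hg1, c, hc⟩ := hg
  let F : ∀ T : Submonoid A, B f T := fun T => algebraMap A (B f T) f
  have hregT : ∀ T : Submonoid A, IsSMulRegular (B f T) f := fun T => regular_loc f hreg
  -- mod `f` cocycle
  let κ : ∀ T : Submonoid A, B f T →ₗ[A] LocalizedModule T (A ⧸ Ideal.span {f}) :=
    fun T => π f (quot_f f) (one f T)
  have hκres : ∀ {T U : Submonoid A} (h : T ≤ U) (b : B f T), res h (κ T b) = κ U (ρ f h b) := by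
    intro T U h b
    rw [res_π, res_one]
  have le31 : ∀ i j k, S k ⊔ S i ≤ S i ⊔ S j ⊔ S k := fun i j k =>
    sup_le le_sup_right (le_sup_left.trans le_sup_left)
  let c' : ∀ i j k, B f (S i ⊔ S j ⊔ S k) := fun i j k => ρ f (le31 i j k) (g k i) * c i j k
  let x : C2 S (A ⧸ Ideal.span {f}) := fun i j k => κ _ (c' i j k)
  have hx : d2 S x = 0 := by
    funext i j k l
    rw [d2_apply]
    change res _ (κ _ _) - res _ (κ _ _) + res _ (κ _ _) - res _ (κ _ _) =
      (0 : LocalizedModule _ (A ⧸ Ideal.span {f}))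
    rw [hκres, hκres, hκres, hκres, ← map_sub, ← map_add, ← map_sub]
    let T := S i ⊔ S j ⊔ S k ⊔ S l
    -- notation in `B f T`
    have hij : S i ⊔ S j ≤ T := (le123 S i j k).trans (le1234 S i j k l)
    have hjk : S j ⊔ S k ≤ T := (le233 S i j k).trans (le1234 S i j k l)
    have hik : S i ⊔ S k ≤ T := (le133 S i j k).trans (le1234 S i j k l)
    have hkl : S k ⊔ S l ≤ T := (le233 S i k l).trans (le1344 S i j k l)
    have hil : S i ⊔ S l ≤ T := (le133 S i k l).trans (le1344 S i j k l)
    have hjl : S j ⊔ S l ≤ T := (le133 S j k l).trans (le2344 S i j k l)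
    have hli : S l ⊔ S i ≤ T := sup_comm (S i) (S l) ▸ hil
    have hlj : S l ⊔ S j ≤ T := sup_comm (S j) (S l) ▸ hjl
    have hki : S k ⊔ S i ≤ T := sup_comm (S i) (S k) ▸ hik
    -- exact relation
    have e1 := congrArg (ρ f (le1234 S i j k l)) (hc i j k)
    have e2 := congrArg (ρ f (le1244 S i j k l)) (hc i j l)
    have e3 := congrArg (ρ f (le1344 S i j k l)) (hc i k l)
    have e4 := congrArg (ρ f (le2344 S i j k l)) (hc j k l)
    simp only [map_sub, map_mul, map_pow, ρ_ρ, ρ_algebraMapA] at e1 e2 e3 e4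
    have e5 : ρ f (le1344 S i j k l) (c i k l) +
        ρ f (le1234 S i j k l) (c i j k) * ρ f hkl (g k l) =
        ρ f (le1244 S i j k l) (c i j l) + ρ f hij (g i j) * ρ f (le2344 S i j k l) (c j k l) := by
      apply isSMulRegular_pow_mul (hregT T) (m + 1)
      change algebraMap A (B f T) f ^ (m + 1) * _ = algebraMap A (B f T) f ^ (m + 1) * _
      linear_combination -e3 - ρ f hkl (g k l) * e1 + e2 + ρ f hij (g i j) * e4
    -- relations modulo `f`
    obtain ⟨w1, hw1⟩ := modf hN e hgen l ((le12 S l j).trans hlj) (ρ f hli (g l i) * ρ f hij (g i j))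
      (ρ f hlj (g l j)) (by
        rw [π_mul, π_res hN e g hg1 l i hli, π_res hN e g hg1 l j hlj]
        exact π_res hN e g hg1 i j hij)
    obtain ⟨w2, hw2⟩ := modf hN e hgen k ((le12 S k i).trans hki) (ρ f hkl (g k l) * ρ f hli (g l i))
      (ρ f hki (g k i)) (by
        rw [π_mul, π_res hN e g hg1 k l hkl, π_res hN e g hg1 k i hki]
        exact π_res hN e g hg1 l i hli)
    have key : ρ f (le2344 S i j k l) (c' j k l) - ρ f (le1344 S i j k l) (c' i k l) +
        ρ f (le1244 S i j k l) (c' i j l) - ρ f (le1234 S i j k l) (c' i j k) =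
        f • (-(w1 * ρ f (le2344 S i j k l) (c j k l)) + w2 * ρ f (le1234 S i j k l) (c i j k)) := by
      simp only [c', map_mul, ρ_ρ]
      rw [CompLoc.smul_eq]
      linear_combination (-(ρ f (le2344 S i j k l) (c j k l))) * hw1 +
        ρ f (le1234 S i j k l) (c i j k) * hw2 - ρ f hli (g l i) * e5
    rw [key]
    exact π_f_smul f (quot_f f) _ _
  obtain ⟨y, hy⟩ := hH2 x hx
  choose b hb using fun i j => (gen_one (f := f) (S i ⊔ S j)).π_surjective (quot_f f) (y i j)
  have hz : ∀ i j k, ∃ z, ρ f (le233 S i j k) (b j k) - ρ f (le133 S i j k) (b i k) +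
      ρ f (le123 S i j k) (b i j) - c' i j k = algebraMap A _ f * z := by
    intro i j k
    obtain ⟨z, hz⟩ := (gen_one (f := f) (S i ⊔ S j ⊔ S k)).exists_of_π_eq_zero (quot_f f)
      (ρ f (le233 S i j k) (b j k) - ρ f (le133 S i j k) (b i k) +
      ρ f (le123 S i j k) (b i j) - c' i j k) (by
        have h := congr_fun (congr_fun (congr_fun hy i) j) k
        rw [d1_apply, ← hb j k, ← hb i k, ← hb i j] at h
        change κ _ _ = 0
        rw [map_sub, map_add, map_sub, ← hκres, ← hκres, ← hκres, sub_eq_zero]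
        exact h)
    exact ⟨z, by rw [hz, CompLoc.smul_eq]⟩
  choose z hz using hz
  refine ⟨fun i j => -(g i j * b i j), fun i j => ?_, ?_⟩
  · rw [map_add, pow_succ', mul_smul, π_f_smul, add_zero, hg1]
  · have key : ∀ i j k, ∃ C, ρ f (le123 S i j k) (g i j + f ^ (m + 1) • -(g i j * b i j)) *
        ρ f (le233 S i j k) (g j k + f ^ (m + 1) • -(g j k * b j k)) -
        ρ f (le133 S i j k) (g i k + f ^ (m + 1) • -(g i k * b i k)) =
        algebraMap A _ f ^ (m + 2) * C := by
      intro i j k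
      let T := S i ⊔ S j ⊔ S k
      have hkk : S k ⊔ S i ≤ T := le31 i j k
      obtain ⟨w, hw⟩ := modf hN e hgen i ((le12 S i j).trans (le123 S i j k))
        (ρ f (le133 S i j k) (g i k) * ρ f (le31 i j k) (g k i)) 1 (by
          rw [π_mul, π_res hN e g hg1 i k (le133 S i j k), π_one]
          exact π_res hN e g hg1 k i (le31 i j k))
      have hcc := hc i j k
      have hzz := hz i j k
      simp only [c'] at hzz
      refine ⟨-(w * c i j k) - ρ f (le133 S i j k) (g i k) * z i j k -
        algebraMap A _ f ^ m * c i j k * (ρ f (le123 S i j k) (b i j) + ρ f (le233 S i j k) (b j k)) +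
        algebraMap A _ f ^ m * ρ f (le123 S i j k) (g i j) * ρ f (le233 S i j k) (g j k) *
          ρ f (le123 S i j k) (b i j) * ρ f (le233 S i j k) (b j k), ?_⟩
      simp only [map_add, map_neg, map_mul, CompLoc.smul_eq, map_pow, ρ_algebraMapA]
      have e2 : algebraMap A (B f T) f ^ (m + 2) = algebraMap A (B f T) f ^ (m + 1) *
          algebraMap A (B f T) f := by ring
      have e3 : algebraMap A (B f T) f ^ (m + 1) = algebraMap A (B f T) f ^ m *
          algebraMap A (B f T) f := by ring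
      linear_combination (1 - algebraMap A (B f T) f ^ (m + 1) *
          (ρ f (le123 S i j k) (b i j) + ρ f (le233 S i j k) (b j k))) * hcc -
        algebraMap A (B f T) f ^ (m + 1) * ρ f (le133 S i j k) (g i k) * hzz -
        algebraMap A (B f T) f ^ (m + 1) * c i j k * hw
    choose C hC using key
    exact ⟨C, hC⟩

include hgen in
/-- Existence of an exact lift of the cocycle. -/
theorem exists_cocycle (hreg : IsSMulRegular A f)
    (hH2 : ∀ x : C2 S (A ⧸ Ideal.span {f}), d2 S x = 0 → ∃ y, d1 S y = x) :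
    ∃ g : ∀ i j, B f (S i ⊔ S j),
      (∀ i j, π f hN (res (le12 S i j) (e i)) (g i j) = res (le22 S i j) (e j)) ∧
      ∀ i j k, ρ f (le123 S i j k) (g i j) * ρ f (le233 S i j k) (g j k) =
        ρ f (le133 S i j k) (g i k) := by
  obtain ⟨g₀, hg₀⟩ := exists_coc_one hN e hgen
  choose δ hδ using coc_step hN e hgen hreg hH2
  -- the sequence
  let s : ∀ n : ℕ, {g : ∀ i j, B f (S i ⊔ S j) // Coc hN e (n + 1) g} := fun n =>
    Nat.rec ⟨g₀, hg₀⟩ (fun n p => ⟨fun i j => p.1 i j + f ^ (n + 1) • δ n p.1 p.2 i j, hδ n p.1 p.2⟩) n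
  have hs : ∀ n i j, (s (n + 1)).1 i j = (s n).1 i j + f ^ (n + 1) • δ n (s n).1 (s n).2 i j :=
    fun n i j => rfl
  choose σ hσ using fun i j => (fcA (T := S i ⊔ S j) f).sum fun n => δ n (s n).1 (s n).2 i j
  have happ : ∀ n i j, ∃ y, (s 0).1 i j + f • σ i j = (s n).1 i j + f ^ (n + 1) • y := by
    intro n i j
    obtain ⟨y, hy⟩ := hσ i j n
    refine ⟨y, ?_⟩
    have h1 : ∀ n, (s n).1 i j = (s 0).1 i j +
        f • ∑ k ∈ Finset.range n, f ^ k • δ k (s k).1 (s k).2 i j := by
      intro n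
      induction n with
      | zero => simp
      | succ n ih =>
        rw [hs, ih, Finset.sum_range_succ, smul_add, smul_smul, ← pow_succ', add_assoc]
    rw [h1 n, hy, smul_add, smul_smul, ← pow_succ', add_assoc]
  refine ⟨fun i j => (s 0).1 i j + f • σ i j, fun i j => ?_, fun i j k => ?_⟩
  · rw [map_add, π_f_smul, add_zero]
    exact (s 0).2.1 i j
  · rw [← sub_eq_zero]
    refine (fcA (T := S i ⊔ S j ⊔ S k) f).sep _ fun n => ?_
    obtain ⟨y1, hy1⟩ := happ n i j
    obtain ⟨y2, hy2⟩ := happ n j k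
    obtain ⟨y3, hy3⟩ := happ n i k
    obtain ⟨c, hc⟩ := (s n).2.2
    have hcc := hc i j k
    simp only [hy1, hy2, hy3, map_add, ρ_smul]
    refine ⟨algebraMap A _ f * (c i j k + ρ f (le123 S i j k) y1 * ρ f (le233 S i j k) ((s n).1 j k) +
      ρ f (le123 S i j k) ((s n).1 i j) * ρ f (le233 S i j k) y2 +
      algebraMap A _ f ^ (n + 1) * ρ f (le123 S i j k) y1 * ρ f (le233 S i j k) y2 -
      ρ f (le133 S i j k) y3), ?_⟩
    simp only [CompLoc.smul_eq, map_pow]
    linear_combination hcc

end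

end Groth.Agent.FormalA.UnitLift
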